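import Mathlib
import Cfsg.Prelude.Def_Spor_J3
import Cfsg.Agent.H94.J3.Chk.All

/-! The order of `3·J₃` and its actions on the certified point sets. -/

namespace H94.J3

open Cfsg.Spor

theorem charP_two {F : Type*} [Field F] [Fintype F] (hF : Fintype.card F = 4) : CharP F 2 := by
  have : Fact (Nat.Prime 2) := ⟨Nat.prime_two⟩
  refine CharTwo.of_one_ne_zero_of_two_eq_zero one_ne_zero ?_
  have h := FiniteField.cast_card_eq_zero F
  rw [hF] at h
  have h4 : (2 : F) * 2 = 0 := by rw [← h]; norm_num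
  exact mul_self_eq_zero.1 h4

section Root
variable {F : Type*} [Field F] [CharP F 2] {ω : F} (hω : ω ^ 2 + ω + 1 = 0)
include hω

omit [CharP F 2] in
theorem om_ne_zero : ω ≠ 0 := fun h => by simp [h] at hω

omit [CharP F 2] in
theorem om_cube : ω ^ 3 = 1 := by linear_combination (ω - 1) * hω

theorem om_sq : ω ^ 2 = 1 + ω := by
  linear_combination hω - (1 + ω) * (CharTwo.two_eq_zero : (2 : F) = 0)

theorem om_ne_one : ω ≠ 1 := fun h => by
  rw [h] at hω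
  exact one_ne_zero (show (1 : F) = 0 by linear_combination hω - (CharTwo.two_eq_zero : (2 : F) = 0))

end Root

/-- Everything that is true by evaluation of the small checks. -/
theorem small_spec :
    (∀ k : Fin 2, mul (D.sgen k) (D.sinv k) = eye ∧ mul (D.sinv k) (D.sgen k) = eye) ∧
      (∀ k : Fin 2, hChk k = true) ∧ (∀ k : Fin 3, kChk k = true) ∧
      (∀ t < 45, genChk t = true) ∧
      memChk D.wScal (D.wScalW / 65536) (D.wScalW % 65536 / 256) (D.wScalW % 256) = true := by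
  have h := small_ok
  unfold smallChk at h
  simp only [Bool.and_eq_true] at h
  obtain ⟨⟨⟨⟨⟨⟨⟨⟨⟨⟨a, b⟩, c⟩, d⟩, h0⟩, h1⟩, k0⟩, k1⟩, k2⟩, hg⟩, hw⟩ := h
  refine ⟨fun k => ?_, fun k => ?_, fun k => ?_,
    fun t ht => allIn_spec hg (Nat.zero_le _) (by omega), hw⟩
  · fin_cases k
    · exact ⟨eq_of_beq a, eq_of_beq b⟩
    · exact ⟨eq_of_beq c, eq_of_beq d⟩
  · fin_cases k <;> assumption
  · fin_cases k <;> assumption

/-- Witnesses for the certified stabiliser chain. -/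
structure Chain {F : Type*} [Field F] (ω : F) where
  s : Fin 2 → GL F9 F
  h : Fin 2 → GL F9 F
  kg : Fin 3 → GL F9 F
  u : Fin 6156 → GL F9 F
  v : Fin 136 → GL F9 F
  kk : Fin 180 → GL F9 F
  rep_s : ∀ k, Rep ω (s k) (D.sgen k)
  rep_h : ∀ k, Rep ω (h k) (D.hgen k)
  rep_kg : ∀ k, Rep ω (kg k) (D.kgen k)
  rep_u : ∀ i : Fin 6156, Rep ω (u i) (U i)
  rep_v : ∀ a : Fin 136, Rep ω (v a) (V a)
  rep_kk : ∀ m : Fin 180, Rep ω (kk m) (K m)
  h_mem : ∀ k, h k ∈ Subgroup.closure (Set.range s)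
  kg_mem : ∀ k, kg k ∈ Subgroup.closure (Set.range h)
  u_mem : ∀ i, u i ∈ Subgroup.closure (Set.range s)
  v_mem : ∀ a, v a ∈ Subgroup.closure (Set.range h)
  kk_mem : ∀ m, kk m ∈ Subgroup.closure (Set.range kg)
  u_zero : u ⟨0, by norm_num⟩ = 1
  v_zero : v ⟨0, by norm_num⟩ = 1
  kk_zero : kk ⟨0, by norm_num⟩ = 1
  u_maps : ∀ i, Maps (projFam ω P 6156) (u i) ⟨0, by norm_num⟩ i
  v_maps : ∀ a, Maps (projFam ω Q 136) (v a) ⟨0, by norm_num⟩ a

theorem top_parts (i : ℕ) (hi : i < 6156) :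
    topTree i = true ∧ topFam i = true ∧ topMaps i = true ∧ topSch i = true := by
  have h := top_spec i hi
  unfold topChk at h
  simp only [Bool.and_eq_true] at h
  exact ⟨h.1.1.1, h.1.1.2, h.1.2, h.2⟩

theorem mid_parts (a : ℕ) (ha : a < 136) :
    treeChk 2 D.hgen V D.par2T.get tabH a = true ∧
      famChk 1 136 Q D.rk2T.get D.srt2T.get a = true ∧
      (∀ k : Fin 2, mapsChk 136 (D.hgen k) Q (tabH k) a = true ∧ schH k a = true) := by
  have h := mid_spec a ha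
  unfold midChk at h
  simp only [Bool.and_eq_true] at h
  obtain ⟨⟨⟨⟨⟨h1, h2⟩, h3⟩, h4⟩, h5⟩, h6⟩ := h
  refine ⟨h1, h2, fun k => ?_⟩
  fin_cases k
  · exact ⟨h3, h5⟩
  · exact ⟨h4, h6⟩

theorem low_parts (m : ℕ) (hm : m < 180) :
    treeChk 3 D.kgen K D.par3T.get tabK m = true ∧ K m < 2 ^ 162 ∧
      (D.rk3T.get m < 180 ∧ D.srt3T.get (D.rk3T.get m) = m ∧
        (m + 1 = 180 ∨ K (D.srt3T.get m) < K (D.srt3T.get (m + 1)))) ∧
      ∀ k : Fin 3, schK k m = true := by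
  have h := low_spec m hm
  unfold lowChk at h
  simp only [Bool.and_eq_true, Bool.or_eq_true] at h
  obtain ⟨⟨⟨⟨⟨⟨⟨h1, h2⟩, h3⟩, h4⟩, h5⟩, h6⟩, h7⟩, h8⟩ := h
  refine ⟨h1, of_decide_eq_true h2, ⟨of_decide_eq_true h3, eq_of_beq h4,
    h5.imp eq_of_beq of_decide_eq_true⟩, fun k => ?_⟩
  fin_cases k <;> assumption

section Chain

attribute [local irreducible] Tr.get H94.J3.mul

variable {F : Type*} [Field F] [CharP F 2] {ω : F}

theorem top_maps_gen (hω : ω ^ 2 + ω + 1 = 0) {g : GL F9 F} (k : Fin 2) (hg : Rep ω g (D.sgen k))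
    (i : Fin 6156) : ∃ hj : tabS k i < 6156,
      Maps (projFam ω P 6156) g i ⟨tabS k i, hj⟩ := by
  have h := (top_parts i i.isLt).2.2.1
  unfold topMaps at h
  simp only [Bool.and_eq_true] at h
  refine maps_of_chk hω hg i.isLt ?_
  fin_cases k
  · exact h.1
  · exact h.2

theorem top_fam (hω : ω ^ 2 + ω + 1 = 0) :
    Rigid (projFam ω P 6156) ∧
      ∀ i, projFam ω P 6156 i * projFam ω P 6156 i = projFam ω P 6156 i :=
  fam_rigid hω fun i hi => (top_parts i hi).2.1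

theorem mid_fam (hω : ω ^ 2 + ω + 1 = 0) :
    Rigid (projFam ω Q 136) ∧
      ∀ i, projFam ω Q 136 i * projFam ω Q 136 i = projFam ω Q 136 i :=
  fam_rigid hω fun i hi => (mid_parts i hi).2.1

theorem nonempty_chain (hω : ω ^ 2 + ω + 1 = 0) : Nonempty (Chain ω) := by
  obtain ⟨hS, hH, hK, -, -⟩ := small_spec
  choose s hs using fun k : Fin 2 => exists_rep hω (hS k).1 (hS k).2
  choose u hu hum humap using tree_rec hω s hs (fun i hi => (top_parts i hi).1)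
    (fun i v => ∀ hi : i < 6156, Maps (projFam ω P 6156) v ⟨0, by norm_num⟩ ⟨i, hi⟩)
    (fun _ => maps_one (top_fam hω).2 _)
    (fun k q v hq _ hQ _ _ => (hQ hq).mul (top_maps_gen hω k (hs k) ⟨q, hq⟩).2)
  have hh : ∀ k : Fin 2, ∃ g : GL F9 F, Rep ω g (D.hgen k) ∧
      g ∈ Subgroup.closure (Set.range s) := by
    intro k
    have hc := hH k
    unfold hChk at hc
    simp only [Bool.and_eq_true, decide_eq_true_eq] at hc
    obtain ⟨⟨⟨hk, hi⟩, he⟩, -⟩ := hc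
    obtain ⟨hj, -⟩ := top_maps_gen hω ⟨_, hk⟩ (hs ⟨_, hk⟩) ⟨_, hi⟩
    exact ⟨(u _ hj)⁻¹ * (s ⟨_, hk⟩ * u _ hi),
      rep_cancel hω (hu _ hj) ((hs ⟨_, hk⟩).mul hω (hu _ hi)) (eq_of_beq he),
      Subgroup.mul_mem _ (Subgroup.inv_mem _ (hum _ hj))
        (Subgroup.mul_mem _ (Subgroup.subset_closure ⟨_, rfl⟩) (hum _ hi))⟩
  choose h hh1 hh2 using hh
  have hmapH : ∀ (k : Fin 2) (a : Fin 136), ∃ hj : tabH k a < 136,
      Maps (projFam ω Q 136) (h k) a ⟨tabH k a, hj⟩ := fun k a =>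
    maps_of_chk hω (hh1 k) a.isLt ((mid_parts a a.isLt).2.2 k).1
  choose v hv hvm hvmap using tree_rec hω h hh1 (fun i hi => (mid_parts i hi).1)
    (fun i v => ∀ hi : i < 136, Maps (projFam ω Q 136) v ⟨0, by norm_num⟩ ⟨i, hi⟩)
    (fun _ => maps_one (mid_fam hω).2 _)
    (fun k q v hq _ hQ _ _ => (hQ hq).mul (hmapH k ⟨q, hq⟩).2)
  have hk : ∀ k : Fin 3, ∃ g : GL F9 F, Rep ω g (D.kgen k) ∧
      g ∈ Subgroup.closure (Set.range h) := by
    intro k
    have hc := hK k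
    unfold kChk at hc
    simp only [Bool.and_eq_true, decide_eq_true_eq] at hc
    obtain ⟨⟨⟨hk, hi⟩, he⟩, -⟩ := hc
    obtain ⟨hj, -⟩ := hmapH ⟨_, hk⟩ ⟨_, hi⟩
    exact ⟨(v _ hj)⁻¹ * (h ⟨_, hk⟩ * v _ hi),
      rep_cancel hω (hv _ hj) ((hh1 ⟨_, hk⟩).mul hω (hv _ hi)) (eq_of_beq he),
      Subgroup.mul_mem _ (Subgroup.inv_mem _ (hvm _ hj))
        (Subgroup.mul_mem _ (Subgroup.subset_closure ⟨_, rfl⟩) (hvm _ hi))⟩
  choose kg hk1 hk2 using hk
  choose kk hkk hkkm hkkq using tree_rec hω kg hk1 (fun i hi => (low_parts i hi).1)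
    (fun _ _ => True) trivial (fun _ _ _ _ _ _ _ => trivial)
  have hz : U 0 = eye ∧ V 0 = eye ∧ K 0 = eye := by
    refine ⟨?_, ?_, ?_⟩
    · exact eq_of_beq (top_parts 0 (by norm_num)).1
    · exact eq_of_beq (mid_parts 0 (by norm_num)).1
    · exact eq_of_beq (low_parts 0 (by norm_num)).1
  exact ⟨{
    s := s, h := h, kg := kg
    u := fun i => u i i.isLt
    v := fun a => v a a.isLt
    kk := fun m => kk m m.isLt
    rep_s := hs, rep_h := hh1, rep_kg := hk1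
    rep_u := fun i => hu i i.isLt
    rep_v := fun a => hv a a.isLt
    rep_kk := fun m => hkk m m.isLt
    h_mem := hh2, kg_mem := hk2
    u_mem := fun i => hum i i.isLt
    v_mem := fun a => hvm a a.isLt
    kk_mem := fun m => hkkm m m.isLt
    u_zero := Rep.eq ω (hu 0 _) (by rw [hz.1]; exact rep_one ω)
    v_zero := Rep.eq ω (hv 0 _) (by rw [hz.2.1]; exact rep_one ω)
    kk_zero := Rep.eq ω (hkk 0 _) (by rw [hz.2.2]; exact rep_one ω)
    u_maps := fun i => humap i i.isLt i.isLt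
    v_maps := fun a => hvmap a a.isLt a.isLt }⟩

namespace Chain

variable (hω : ω ^ 2 + ω + 1 = 0) (C : Chain ω)

/-- The certified group `3·J₃`. -/
def G : Subgroup (GL F9 F) := Subgroup.closure (Set.range C.s)

/-- The certified point stabiliser. -/
def H : Subgroup (GL F9 F) := Subgroup.closure (Set.range C.h)

/-- The certified two-point stabiliser. -/
def K' : Subgroup (GL F9 F) := Subgroup.closure (Set.range C.kg)

omit [CharP F 2] in
theorem H_le : C.H ≤ C.G := (Subgroup.closure_le _).2 (by rintro _ ⟨k, rfl⟩; exact C.h_mem k)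

omit [CharP F 2] in
theorem K_le : C.K' ≤ C.H := (Subgroup.closure_le _).2 (by rintro _ ⟨k, rfl⟩; exact C.kg_mem k)

include hω
variable [Finite F]

theorem cover_K {g : GL F9 F} (hg : g ∈ C.K') : ∃ m, g = C.kk m := by
  refine level_bot _ C.kk ⟨0, by norm_num⟩ C.kk_zero ?_ hg
  rintro _ ⟨k, rfl⟩ m
  have h := (low_parts m m.isLt).2.2.2 k
  unfold schK at h
  simp only [Bool.and_eq_true, decide_eq_true_eq] at h
  obtain ⟨hl, he⟩ := h
  have h1 : Rep ω (C.kg k * C.kk m) (H94.J3.mul (D.kgen k) (K m)) :=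
    (C.rep_kg k).mul hω (C.rep_kk m)
  have h2 : Rep ω (C.kk ⟨tabK k m, hl⟩) (K (tabK k m)) := C.rep_kk ⟨tabK k m, hl⟩
  rw [eq_of_beq he] at h1
  exact ⟨⟨tabK k m, hl⟩, Rep.eq ω h1 h2⟩

theorem cover_H {g : GL F9 F} (hg : g ∈ C.H) : ∃ a, ∃ l ∈ C.K', g = C.v a * l := by
  refine level _ C.K' C.v ⟨0, by norm_num⟩ C.v_zero ?_ hg
  rintro _ ⟨k, rfl⟩ a
  obtain ⟨hm, h⟩ := (mid_parts a a.isLt).2.2 k
  unfold mapsChk at hm
  unfold schH at h
  simp only [Bool.and_eq_true, decide_eq_true_eq] at h hm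
  obtain ⟨hj, -⟩ := hm
  obtain ⟨hl, he⟩ := h
  have h1 : Rep ω (C.h k * C.v a) (H94.J3.mul (D.hgen k) (V a)) :=
    (C.rep_h k).mul hω (C.rep_v a)
  have h2 : Rep ω (C.v ⟨tabH k a, hj⟩ * C.kk ⟨witH k a, hl⟩)
      (H94.J3.mul (V (tabH k a)) (K (witH k a))) :=
    (C.rep_v ⟨tabH k a, hj⟩).mul hω (C.rep_kk ⟨witH k a, hl⟩)
  rw [eq_of_beq he] at h1
  exact ⟨⟨tabH k a, hj⟩, C.kk ⟨witH k a, hl⟩, C.kk_mem _, Rep.eq ω h1 h2⟩

theorem cover_G {g : GL F9 F} (hg : g ∈ C.G) : ∃ i, ∃ l ∈ C.H, g = C.u i * l := by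
  refine level _ C.H C.u ⟨0, by norm_num⟩ C.u_zero ?_ hg
  rintro _ ⟨k, rfl⟩ i
  obtain ⟨hj, -⟩ := top_maps_gen hω k (C.rep_s k) i
  have h := (top_parts i i.isLt).2.2.2
  unfold topSch at h
  simp only [Bool.and_eq_true] at h
  have h' : schS k i = true := by fin_cases k; exacts [h.1, h.2]
  unfold schS at h'
  simp only [Bool.and_eq_true, decide_eq_true_eq] at h'
  obtain ⟨⟨ha, hm⟩, he⟩ := h'
  refine ⟨⟨_, hj⟩, C.v ⟨_, ha⟩ * C.kk ⟨_, hm⟩,
    C.H.mul_mem (C.v_mem _) (C.K_le (C.kk_mem _)),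
    Rep.eq ω ((C.rep_s k).mul hω (C.rep_u i)) ?_⟩
  rw [eq_of_beq he]
  exact (C.rep_u ⟨_, hj⟩).mul hω ((C.rep_v ⟨_, ha⟩).mul hω (C.rep_kk ⟨_, hm⟩))

theorem actG : Act (projFam ω P 6156) C.G where
  rigid := (top_fam hω).1
  idem := (top_fam hω).2
  total g hg := maps_exists (top_fam hω).2 (by
    rintro _ ⟨k, rfl⟩ i
    obtain ⟨hj, h⟩ := top_maps_gen hω k (C.rep_s k) i
    exact ⟨_, h⟩) hg

theorem actH : Act (projFam ω Q 136) C.H where
  rigid := (mid_fam hω).1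
  idem := (mid_fam hω).2
  total g hg := maps_exists (mid_fam hω).2 (by
    rintro _ ⟨k, rfl⟩ a
    obtain ⟨hj, h⟩ := maps_of_chk hω (C.rep_h k) a.isLt ((mid_parts a a.isLt).2.2 k).1
    exact ⟨_, h⟩) hg

theorem H_fix {g : GL F9 F} (hg : g ∈ C.H) :
    Maps (projFam ω P 6156) g ⟨0, by norm_num⟩ ⟨0, by norm_num⟩ := by
  unfold H at hg
  rw [← Subgroup.mem_toSubmonoid, Subgroup.closure_toSubmonoid_of_finite] at hg
  induction hg using Submonoid.closure_induction_left with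
  | one => exact maps_one (top_fam hω).2 _
  | mul_left s hs y _ ih =>
    obtain ⟨k, rfl⟩ := hs
    refine ih.mul ?_
    have hc := small_spec.2.1 k
    unfold hChk at hc
    simp only [Bool.and_eq_true] at hc
    show tm ω (P 0) * ((C.h k : Matrix F9 F9 F) * tm ω (P 0)) = _
    rw [show (C.h k : Matrix F9 F9 F) = tm ω (D.hgen k) from C.rep_h k, ← tm_mul hω,
      ← tm_mul hω, eq_of_beq hc.2]
    exact tm_mul hω _ _

theorem K_fix {g : GL F9 F} (hg : g ∈ C.K') :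
    Maps (projFam ω Q 136) g ⟨0, by norm_num⟩ ⟨0, by norm_num⟩ := by
  unfold K' at hg
  rw [← Subgroup.mem_toSubmonoid, Subgroup.closure_toSubmonoid_of_finite] at hg
  induction hg using Submonoid.closure_induction_left with
  | one => exact maps_one (mid_fam hω).2 _
  | mul_left s hs y _ ih =>
    obtain ⟨k, rfl⟩ := hs
    refine ih.mul ?_
    have hc := small_spec.2.2.1 k
    unfold kChk at hc
    simp only [Bool.and_eq_true] at hc
    show tm ω (Q 0) * ((C.kg k : Matrix F9 F9 F) * tm ω (Q 0)) = _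
    rw [show (C.kg k : Matrix F9 F9 F) = tm ω (D.kgen k) from C.rep_kg k, ← tm_mul hω,
      ← tm_mul hω, eq_of_beq hc.2]
    exact tm_mul hω _ _

theorem kk_injective : Function.Injective C.kk := by
  intro i j h
  have he : K i = K j := tm_inj hω (low_parts i i.isLt).2.1 (low_parts j j.isLt).2.1
    (by rw [← C.rep_kk i, ← C.rep_kk j, h])
  exact Fin.ext (sorted_inj (fun a ha => (low_parts a ha).2.2.1) i.isLt j.isLt he)

theorem card_K : Nat.card C.K' = 180 := by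
  rw [card_eq_mul C.K' ⊥ C.kk C.kk_mem bot_le
    (fun g hg => by
      obtain ⟨m, rfl⟩ := C.cover_K hω hg
      exact ⟨m, 1, Subgroup.one_mem _, (mul_one _).symm⟩)
    (fun i j h => by
      rw [Subgroup.mem_bot, inv_mul_eq_one] at h
      exact C.kk_injective hω h)]
  simp

theorem card_H : Nat.card C.H = 24480 := by
  have A := C.actH hω
  rw [card_eq_mul C.H C.K' C.v C.v_mem C.K_le (fun g hg => C.cover_H hω hg)
    (fun a b h => ?_), C.card_K hω]
  · simp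
  · have h1 := (C.K_fix hω h).mul (C.v_maps a)
    rw [mul_inv_cancel_left] at h1
    exact h1.unique A.rigid (C.v_maps b) fun x => A.total _ (C.H.inv_mem (C.v_mem b)) x

theorem u_inj {i j : Fin 6156} (h : (C.u i)⁻¹ * C.u j ∈ C.H) : i = j := by
  have A := C.actG hω
  have h1 := (C.H_fix hω h).mul (C.u_maps i)
  rw [mul_inv_cancel_left] at h1
  exact h1.unique A.rigid (C.u_maps j) fun x => A.total _ (C.G.inv_mem (C.u_mem j)) x

theorem card_G : Nat.card C.G = 150698880 := by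
  rw [card_eq_mul C.G C.H C.u C.u_mem C.H_le (fun g hg => C.cover_G hω hg)
    (fun i j h => C.u_inj hω h), C.card_H hω]
  simp

theorem mem_of_memChk {x i a m : ℕ} (h : memChk x i a m = true) :
    ∃ g ∈ C.G, Rep ω g x := by
  unfold memChk at h
  simp only [Bool.and_eq_true, decide_eq_true_eq] at h
  obtain ⟨⟨⟨hi, ha⟩, hm⟩, he⟩ := h
  refine ⟨C.u ⟨_, hi⟩ * (C.v ⟨_, ha⟩ * C.kk ⟨_, hm⟩),
    C.G.mul_mem (C.u_mem _) (C.H_le (C.H.mul_mem (C.v_mem _) (C.K_le (C.kk_mem _)))), ?_⟩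
  rw [eq_of_beq he]
  exact (C.rep_u _).mul hω ((C.rep_v _).mul hω (C.rep_kk _))

end Chain

end Chain

end H94.J3
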