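import Mathlib
import Cfsg.Prelude.Def_Spor_J3
import Cfsg.Agent.H94.J3.Group

/-! Identification of the generating matrices of `threeJ3`. -/

namespace H94.J3

open Cfsg.Spor

def expo (n : ZMod 3) : ℕ := n.val + 1

def lamCode (Z z : F9) : ℕ :=
  if z = 0 then 1
  else if F9.div Z z = F9.I - F9.one then 2
  else if F9.div Z z = -F9.I - F9.one then 3
  else 1

/-- Entry codes (0, 1, ω, ω²) of the five kinds of generators. -/
def genEnt : ℕ → F9 → F9 → F9 → ℕ
  | 0, Z, w, z => if w = z then expo (Z.1 * w.1 + Z.2 * w.2) else 0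
  | 1, Z, w, z => if w = z then expo ((Z.1 - w.1) ^ 2 + (Z.2 - w.2) ^ 2) else 0
  | 2, Z, w, z => if w = z + Z then lamCode Z z else 0
  | 3, Z, w, z => if w = F9.mul Z z then 1 else 0
  | _, Z, w, z =>
    if z = 0 then (if w = 0 then 1 else 0)
    else if w = -F9.div Z z ∨ w = F9.mul F9.I (F9.div Z z) ∨ w = -F9.mul F9.I (F9.div Z z) then 1
    else 0

def genCodeOf (kind : ℕ) (Z : F9) : ℕ := D.genT.get (9 * kind + (e9 Z : ℕ))

def entOK (kind : ℕ) (Z : F9) : Bool :=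
  decide (∀ w z : F9,
    (lo (genCodeOf kind Z)).testBit (9 * (e9 w : ℕ) + (e9 z : ℕ)) =
        (genEnt kind Z w z == 1 || genEnt kind Z w z == 3) ∧
      (hi (genCodeOf kind Z)).testBit (9 * (e9 w : ℕ) + (e9 z : ℕ)) =
        (genEnt kind Z w z == 2 || genEnt kind Z w z == 3) ∧ genEnt kind Z w z ≤ 3)

set_option maxRecDepth 100000

theorem entA : ∀ Z : F9, entOK 0 Z = true := by decide +kernel
theorem entE : ∀ Z : F9, entOK 1 Z = true := by decide +kernel
theorem entD : ∀ Z : F9, entOK 2 Z = true := by decide +kernel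
theorem entB : ∀ Z : F9, Z = 0 ∨ entOK 3 Z = true := by decide +kernel
theorem entC : ∀ Z : F9, Z = 0 ∨ entOK 4 Z = true := by decide +kernel

theorem wScal_bits : ∀ w z : F9,
    (lo D.wScal).testBit (9 * (e9 w : ℕ) + (e9 z : ℕ)) = false ∧
      (hi D.wScal).testBit (9 * (e9 w : ℕ) + (e9 z : ℕ)) = decide (w = z) := by decide +kernel

theorem sgen_eq :
    D.sgen 0 = mul (genCodeOf 2 F9.one) (genCodeOf 3 ((1 : ZMod 3), (1 : ZMod 3))) ∧
      D.sgen 1 = genCodeOf 4 F9.one := by decide +kernel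

variable {F : Type*} [Field F]

/-- `0, 1, ω, ω²`. -/
def f4 (ω : F) : ℕ → F
  | 0 => 0
  | 1 => 1
  | 2 => ω
  | _ => ω ^ 2

variable [CharP F 2] {ω : F} (hω : ω ^ 2 + ω + 1 = 0)
include hω

theorem f4_bits : ∀ n ≤ 3,
    f4 ω n = bcast (n == 1 || n == 3) + bcast (n == 2 || n == 3) * ω := by
  intro n hn
  interval_cases n <;> simp [f4, bcast, om_sq hω]

theorem tm_eq_gen {kind : ℕ} {Z : F9} (h : entOK kind Z = true) :
    tm ω (genCodeOf kind Z) = Matrix.of fun w z => f4 ω (genEnt kind Z w z) := by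
  have h' := of_decide_eq_true h
  ext w z
  obtain ⟨h1, h2, h3⟩ := h' w z
  rw [Matrix.of_apply, f4_bits hω _ h3, tm_apply, ent, h1, h2]

omit hω

omit [CharP F 2] in
theorem f4_expo (n : ZMod 3) : f4 ω (expo n) = omegaPow F ω n := by
  have key : n = 0 ∨ n = 1 ∨ n = 2 := by
    revert n
    decide
  rcases key with rfl | rfl | rfl
  · show (1 : F) = ω ^ 0
    rw [pow_zero]
  · show ω = ω ^ 1
    rw [pow_one]
  · show ω ^ 2 = ω ^ 2
    rfl

include hω

theorem tm_A (Z : F9) : tm ω (genCodeOf 0 Z) = j3A F ω Z := by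
  rw [tm_eq_gen hω (entA Z)]
  ext w z
  simp only [j3A, Matrix.of_apply, Matrix.diagonal_apply, genEnt]
  split_ifs with h
  · rw [f4_expo]
  · rfl

theorem tm_E (Z : F9) : tm ω (genCodeOf 1 Z) = j3E F ω Z := by
  rw [tm_eq_gen hω (entE Z)]
  ext w z
  simp only [j3E, Matrix.of_apply, Matrix.diagonal_apply, genEnt]
  split_ifs with h
  · rw [f4_expo]
  · rfl

theorem tm_D (Z : F9) : tm ω (genCodeOf 2 Z) = j3D F ω Z := by
  rw [tm_eq_gen hω (entD Z)]
  ext w z
  simp only [j3D, Matrix.of_apply, genEnt]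
  split_ifs with h
  · simp only [j3Lam, lamCode]
    split_ifs <;> rfl
  · rfl

theorem tm_B {Z : F9} (hZ : Z ≠ 0) : tm ω (genCodeOf 3 Z) = j3B F Z := by
  rw [tm_eq_gen hω ((entB Z).resolve_left hZ)]
  ext w z
  simp only [j3B, Matrix.of_apply, genEnt]
  split_ifs with h <;> rfl

theorem tm_C {Z : F9} (hZ : Z ≠ 0) : tm ω (genCodeOf 4 Z) = j3C F Z := by
  rw [tm_eq_gen hω ((entC Z).resolve_left hZ)]
  ext w z
  simp only [j3C, Matrix.of_apply, genEnt]
  split_ifs <;> rfl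

theorem tm_wScal : tm ω D.wScal = ω • (1 : Matrix F9 F9 F) := by
  ext w z
  obtain ⟨h1, h2⟩ := wScal_bits w z
  rw [tm_apply, ent, h1, h2, Matrix.smul_apply, Matrix.one_apply]
  by_cases h : w = z <;> simp [h, bcast]

variable [Finite F] (C : Chain ω)

theorem gen_mem (kind : ℕ) (hk : kind < 5) (Z : F9) :
    ∃ g ∈ C.G, Rep ω g (genCodeOf kind Z) := by
  have ht : 9 * kind + (e9 Z : ℕ) < 45 := by
    have := (e9 Z).isLt
    omega
  exact C.mem_of_memChk hω (small_spec.2.2.2.1 _ ht)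

theorem G_eq_threeJ3 : C.G = threeJ3 F ω := by
  refine le_antisymm ?_ ((Subgroup.closure_le _).2 ?_)
  · refine (Subgroup.closure_le _).2 ?_
    rintro _ ⟨k, rfl⟩
    obtain ⟨d, -, hd⟩ := gen_mem hω C 2 (by norm_num) F9.one
    obtain ⟨b, -, hb⟩ := gen_mem hω C 3 (by norm_num) ((1 : ZMod 3), (1 : ZMod 3))
    obtain ⟨c, -, hc⟩ := gen_mem hω C 4 (by norm_num) F9.one
    have hd' : d ∈ threeJ3 F ω := Subgroup.subset_closure
      (Or.inl (Or.inl (Or.inr ⟨F9.one, by rw [show (d : Matrix F9 F9 F) = _ from hd, tm_D hω]⟩)))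
    have hb' : b ∈ threeJ3 F ω := Subgroup.subset_closure
      (Or.inl (Or.inr ⟨((1 : ZMod 3), (1 : ZMod 3)), by decide,
        by rw [show (b : Matrix F9 F9 F) = _ from hb, tm_B hω (by decide)]⟩))
    have hc' : c ∈ threeJ3 F ω := Subgroup.subset_closure
      (Or.inr ⟨F9.one, by decide,
        by rw [show (c : Matrix F9 F9 F) = _ from hc, tm_C hω (by decide)]⟩)
    have h0 : Rep ω (d * b) (D.sgen 0) := by rw [sgen_eq.1]; exact hd.mul hω hb
    have h1 : Rep ω c (D.sgen 1) := by rw [sgen_eq.2]; exact hc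
    fin_cases k
    · show C.s 0 ∈ threeJ3 F ω
      rw [Rep.eq ω (C.rep_s 0) h0]
      exact Subgroup.mul_mem _ hd' hb'
    · show C.s 1 ∈ threeJ3 F ω
      rw [Rep.eq ω (C.rep_s 1) h1]
      exact hc'
  · intro g hg
    have key : ∀ kind < 5, ∀ Z : F9, (g : Matrix F9 F9 F) = tm ω (genCodeOf kind Z) → g ∈ C.G := by
      intro kind hk Z he
      obtain ⟨g', hg', hr⟩ := gen_mem hω C kind hk Z
      rw [show g = g' from Rep.eq ω (show Rep ω g _ from he) hr]
      exact hg'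
    rcases hg with ((((⟨Z, hZ⟩ | ⟨Z, hZ⟩) | ⟨Z, hZ⟩) | ⟨Z, hne, hZ⟩) | ⟨Z, hne, hZ⟩)
    · exact key 0 (by norm_num) Z (by rw [tm_A hω]; exact hZ.symm)
    · exact key 1 (by norm_num) Z (by rw [tm_E hω]; exact hZ.symm)
    · exact key 2 (by norm_num) Z (by rw [tm_D hω]; exact hZ.symm)
    · exact key 3 (by norm_num) Z (by rw [tm_B hω hne]; exact hZ)
    · exact key 4 (by norm_num) Z (by rw [tm_C hω hne]; exact hZ)

end H94.J3
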