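import Cfsg.Agent.H94.J3.Gen

/-! Generated certificate data. -/

namespace H94.J3.D

def labT_naaaaaa : Tr := (.nd (.nd (.nd (.nd (.nd (.nd (.nd (.lf 0x0) (.lf 0x6)) (.nd (.lf 0x6) (.lf 0x5))) (.nd (.nd (.lf 0x2) (.lf 0x5)) (.nd (.lf 0x3) (.lf 0)))) (.nd (.nd (.nd (.lf 0x5) (.lf 0x5)) (.nd (.lf 0x3) (.lf 0))) (.nd (.nd (.lf 0x5) (.lf 0x3)) (.nd (.lf 0x1) (.lf 0))))) (.nd (.nd (.nd (.nd (.lf 0x5) (.lf 0x5)) (.nd (.lf 0x3) (.lf 0))) (.nd (.nd (.lf 0x3) (.lf 0x3)) (.nd (.lf 0x5) (.lf 0)))) (.nd (.nd (.nd (.lf 0x5) (.lf 0x5)) (.nd (.lf 0x4) (.lf 0))) (.nd (.nd (.lf 0x4) (.lf 0x6)) (.nd (.lf 0x1) (.lf 0)))))) (.nd (.nd (.nd (.nd (.nd (.lf 0x1) (.lf 0x1)) (.nd (.lf 0x5) (.lf 0))) (.nd (.nd (.lf 0x5) (.lf 0x5)) (.nd (.lf 0x3)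 (.lf 0)))) (.nd (.nd (.nd (.lf 0x1) (.lf 0x4)) (.nd (.lf 0x3) (.lf 0))) (.nd (.nd (.lf 0x5) (.lf 0x5)) (.nd (.lf 0x4) (.lf 0))))) (.nd (.nd (.nd (.nd (.lf 0x5) (.lf 0x3)) (.nd (.lf 0x3) (.lf 0))) (.nd (.nd (.lf 0x6) (.lf 0x3)) (.nd (.lf 0x5) (.lf 0)))) (.nd (.nd (.nd (.lf 0x3) (.lf 0x3)) (.nd (.lf 0x4) (.lf 0))) (.nd (.nd (.lf 0x3) (.lf 0x4)) (.nd (.lf 0x6) (.lf 0))))))) (.nd (.nd (.nd (.nd (.nd (.nd (.lf 0x3) (.lf 0x3)) (.nd (.lf 0x5) (.lf 0))) (.nd (.nd (.lf 0x5) (.lf 0x5)) (.nd (.lf 0x6) (.lf 0)))) (.nd (.nd (.nd (.lf 0x6) (.lf 0x3)) (.nd (.lf 0x5) (.lf 0))) (.nd (.nd (.lf 0x5) (.lf 0x6)) (.nd (.lf 0x3) (.lf 0))))) (.nd (.nd (.nd (.nd (.lf 0x3) (.lf 0x5)) (.nd (.lf 0x4) (.lf 0))) (.nd (.nd (.lf 0x3) (.lf 0x5)) (.nd (.lf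 0x1) (.lf 0)))) (.nd (.nd (.nd (.lf 0x5) (.lf 0x1)) (.nd (.lf 0x4) (.lf 0))) (.nd (.nd (.lf 0x3) (.lf 0x3)) (.nd (.lf 0x1) (.lf 0)))))) (.nd (.nd (.nd (.nd (.nd (.lf 0x5) (.lf 0x2)) (.nd (.lf 0x1) (.lf 0))) (.nd (.nd (.lf 0x3) (.lf 0x5)) (.nd (.lf 0x3) (.lf 0)))) (.nd (.nd (.nd (.lf 0x5) (.lf 0x5)) (.nd (.lf 0x5) (.lf 0))) (.nd (.nd (.lf 0x5) (.lf 0x3)) (.nd (.lf 0x1) (.lf 0))))) (.nd (.nd (.nd (.nd (.lf 0x5) (.lf 0x4)) (.nd (.lf 0x5) (.lf 0))) (.nd (.nd (.lf 0x4) (.lf 0x5)) (.nd (.lf 0x2) (.lf 0)))) (.nd (.nd (.nd (.lf 0x4) (.lf 0x4)) (.nd (.lf 0x5) (.lf 0))) (.nd (.nd (.lf 0x6) (.lf 0x5)) (.nd (.lf 0x6) (.lf 0))))))))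
def labT_naaaaab : Tr := (.nd (.nd (.nd (.nd (.nd (.nd (.nd (.lf 0x3) (.lf 0x3)) (.nd (.lf 0x3) (.lf 0))) (.nd (.nd (.lf 0x3) (.lf 0x5)) (.nd (.lf 0x5) (.lf 0)))) (.nd (.nd (.nd (.lf 0x3) (.lf 0x5)) (.nd (.lf 0x5) (.lf 0))) (.nd (.nd (.lf 0x4) (.lf 0x1)) (.nd (.lf 0x1) (.lf 0))))) (.nd (.nd (.nd (.nd (.lf 0x5) (.lf 0x6)) (.nd (.lf 0x3) (.lf 0))) (.nd (.nd (.lf 0x4) (.lf 0x5)) (.nd (.lf 0x3) (.lf 0)))) (.nd (.nd (.nd (.lf 0x3) (.lf 0x4)) (.nd (.lf 0x5) (.lf 0))) (.nd (.nd (.lf 0x4) (.lf 0x1)) (.nd (.lf 0x5) (.lf 0)))))) (.nd (.nd (.nd (.nd (.nd (.lf 0x4) (.lf 0x4)) (.nd (.lf 0x5) (.lf 0))) (.nd (.nd (.lf 0x5) (.lf 0x5)) (.nd (.lf 0x4) (.lf 0)))) (.nd (.nd (.nd (.lf 0x5) (.lf 0x5)) (.nd (.lf 0x3) (.lf 0))) (.nd (.nd (.lf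 0x4) (.lf 0x5)) (.nd (.lf 0x5) (.lf 0))))) (.nd (.nd (.nd (.nd (.lf 0x5) (.lf 0x3)) (.nd (.lf 0x3) (.lf 0))) (.nd (.nd (.lf 0x4) (.lf 0x6)) (.nd (.lf 0x1) (.lf 0)))) (.nd (.nd (.nd (.lf 0x3) (.lf 0x7)) (.nd (.lf 0x4) (.lf 0))) (.nd (.nd (.lf 0x5) (.lf 0x4)) (.nd (.lf 0x1) (.lf 0))))))) (.nd (.nd (.nd (.nd (.nd (.nd (.lf 0x4) (.lf 0x4)) (.nd (.lf 0x4) (.lf 0))) (.nd (.nd (.lf 0x5) (.lf 0x5)) (.nd (.lf 0x3) (.lf 0)))) (.nd (.nd (.nd (.lf 0x5) (.lf 0x4)) (.nd (.lf 0x4) (.lf 0))) (.nd (.nd (.lf 0x3) (.lf 0x4)) (.nd (.lf 0x1) (.lf 0))))) (.nd (.nd (.nd (.nd (.lf 0x5) (.lf 0x4)) (.nd (.lf 0x3) (.lf 0))) (.nd (.nd (.lf 0x3) (.lf 0x4)) (.nd (.lf 0x4) (.lf 0)))) (.nd (.nd (.nd (.lf 0x4) (.lf 0x1)) (.nd (.lf 0x1) (.lf 0))) (.nd (.nd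 (.lf 0x2) (.lf 0x5)) (.nd (.lf 0x3) (.lf 0)))))) (.nd (.nd (.nd (.nd (.nd (.lf 0x5) (.lf 0x5)) (.nd (.lf 0x1) (.lf 0))) (.nd (.nd (.lf 0x4) (.lf 0x1)) (.nd (.lf 0x5) (.lf 0)))) (.nd (.nd (.nd (.lf 0x4) (.lf 0x3)) (.nd (.lf 0x3) (.lf 0))) (.nd (.nd (.lf 0x4) (.lf 0x3)) (.nd (.lf 0x5) (.lf 0))))) (.nd (.nd (.nd (.nd (.lf 0x5) (.lf 0x5)) (.nd (.lf 0x5) (.lf 0))) (.nd (.nd (.lf 0x4) (.lf 0x4)) (.nd (.lf 0x4) (.lf 0)))) (.nd (.nd (.nd (.lf 0x5) (.lf 0x4)) (.nd (.lf 0x1) (.lf 0))) (.nd (.nd (.lf 0x4) (.lf 0x3)) (.nd (.lf 0x4) (.lf 0))))))))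
def labT_naaaaba : Tr := (.nd (.nd (.nd (.nd (.nd (.nd (.nd (.lf 0x1) (.lf 0x5)) (.nd (.lf 0x6) (.lf 0))) (.nd (.nd (.lf 0x6) (.lf 0x5)) (.nd (.lf 0x3) (.lf 0)))) (.nd (.nd (.nd (.lf 0x1) (.lf 0x5)) (.nd (.lf 0x5) (.lf 0))) (.nd (.nd (.lf 0x4) (.lf 0x5)) (.nd (.lf 0x5) (.lf 0))))) (.nd (.nd (.nd (.nd (.lf 0x5) (.lf 0x4)) (.nd (.lf 0x4) (.lf 0))) (.nd (.nd (.lf 0x3) (.lf 0x4)) (.nd (.lf 0x6) (.lf 0)))) (.nd (.nd (.nd (.lf 0x1) (.lf 0x4)) (.nd (.lf 0x4) (.lf 0))) (.nd (.nd (.lf 0x3) (.lf 0x5)) (.nd (.lf 0x5) (.lf 0)))))) (.nd (.nd (.nd (.nd (.nd (.lf 0x4) (.lf 0x4)) (.nd (.lf 0x6) (.lf 0))) (.nd (.nd (.lf 0x4) (.lf 0x6)) (.nd (.lf 0x1) (.lf 0)))) (.nd (.nd (.nd (.lf 0x3) (.lf 0x4)) (.nd (.lf 0x5) (.lf 0))) (.nd (.nd (.lf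 0x4) (.lf 0x4)) (.nd (.lf 0x4) (.lf 0))))) (.nd (.nd (.nd (.nd (.lf 0x5) (.lf 0x3)) (.nd (.lf 0x3) (.lf 0))) (.nd (.nd (.lf 0x3) (.lf 0x4)) (.nd (.lf 0x3) (.lf 0)))) (.nd (.nd (.nd (.lf 0x3) (.lf 0x6)) (.nd (.lf 0x4) (.lf 0))) (.nd (.nd (.lf 0x5) (.lf 0x1)) (.nd (.lf 0x6) (.lf 0))))))) (.nd (.nd (.nd (.nd (.nd (.nd (.lf 0x5) (.lf 0x5)) (.nd (.lf 0x4) (.lf 0))) (.nd (.nd (.lf 0x3) (.lf 0x4)) (.nd (.lf 0x5) (.lf 0)))) (.nd (.nd (.nd (.lf 0x4) (.lf 0x4)) (.nd (.lf 0x3) (.lf 0))) (.nd (.nd (.lf 0x3) (.lf 0x4)) (.nd (.lf 0x1) (.lf 0))))) (.nd (.nd (.nd (.nd (.lf 0x5) (.lf 0x5)) (.nd (.lf 0x1) (.lf 0))) (.nd (.nd (.lf 0x5) (.lf 0x5)) (.nd (.lf 0x5) (.lf 0)))) (.nd (.nd (.nd (.lf 0x5) (.lf 0x5)) (.nd (.lf 0x5) (.lf 0))) (.nd (.nd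 (.lf 0x4) (.lf 0x1)) (.nd (.lf 0x4) (.lf 0)))))) (.nd (.nd (.nd (.nd (.nd (.lf 0x4) (.lf 0x1)) (.nd (.lf 0x5) (.lf 0))) (.nd (.nd (.lf 0x5) (.lf 0x6)) (.nd (.lf 0x4) (.lf 0)))) (.nd (.nd (.nd (.lf 0x4) (.lf 0x1)) (.nd (.lf 0x5) (.lf 0))) (.nd (.nd (.lf 0x4) (.lf 0x2)) (.nd (.lf 0x4) (.lf 0))))) (.nd (.nd (.nd (.nd (.lf 0x4) (.lf 0x3)) (.nd (.lf 0x6) (.lf 0))) (.nd (.nd (.lf 0x3) (.lf 0x5)) (.nd (.lf 0x1) (.lf 0)))) (.nd (.nd (.nd (.lf 0x3) (.lf 0x6)) (.nd (.lf 0x5) (.lf 0))) (.nd (.nd (.lf 0x5) (.lf 0x1)) (.nd (.lf 0x1) (.lf 0))))))))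
def labT_naaaabb : Tr := (.nd (.nd (.nd (.nd (.nd (.nd (.nd (.lf 0x6) (.lf 0x5)) (.nd (.lf 0x3) (.lf 0))) (.nd (.nd (.lf 0x1) (.lf 0x4)) (.nd (.lf 0x5) (.lf 0)))) (.nd (.nd (.nd (.lf 0x5) (.lf 0x5)) (.nd (.lf 0x3) (.lf 0))) (.nd (.nd (.lf 0x5) (.lf 0x5)) (.nd (.lf 0x6) (.lf 0))))) (.nd (.nd (.nd (.nd (.lf 0x3) (.lf 0x5)) (.nd (.lf 0x5) (.lf 0))) (.nd (.nd (.lf 0x1) (.lf 0x3)) (.nd (.lf 0x5) (.lf 0)))) (.nd (.nd (.nd (.lf 0x4) (.lf 0x5)) (.nd (.lf 0x3) (.lf 0))) (.nd (.nd (.lf 0x4) (.lf 0x3)) (.nd (.lf 0x1) (.lf 0)))))) (.nd (.nd (.nd (.nd (.nd (.lf 0x4) (.lf 0x5)) (.nd (.lf 0x6) (.lf 0))) (.nd (.nd (.lf 0x5) (.lf 0x3)) (.nd (.lf 0x4) (.lf 0)))) (.nd (.nd (.nd (.lf 0x5) (.lf 0x5)) (.nd (.lf 0x6) (.lf 0))) (.nd (.nd (.lf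 0x3) (.lf 0x4)) (.nd (.lf 0x5) (.lf 0))))) (.nd (.nd (.nd (.nd (.lf 0x5) (.lf 0x4)) (.nd (.lf 0x4) (.lf 0))) (.nd (.nd (.lf 0x3) (.lf 0x5)) (.nd (.lf 0x5) (.lf 0)))) (.nd (.nd (.nd (.lf 0x3) (.lf 0x4)) (.nd (.lf 0x3) (.lf 0))) (.nd (.nd (.lf 0x5) (.lf 0x6)) (.nd (.lf 0x4) (.lf 0))))))) (.nd (.nd (.nd (.nd (.nd (.nd (.lf 0x5) (.lf 0x3)) (.nd (.lf 0x5) (.lf 0))) (.nd (.nd (.lf 0x3) (.lf 0x5)) (.nd (.lf 0x1) (.lf 0)))) (.nd (.nd (.nd (.lf 0x7) (.lf 0x5)) (.nd (.lf 0x5) (.lf 0))) (.nd (.nd (.lf 0x4) (.lf 0x5)) (.nd (.lf 0x6) (.lf 0))))) (.nd (.nd (.nd (.nd (.lf 0x1) (.lf 0x3)) (.nd (.lf 0x4) (.lf 0))) (.nd (.nd (.lf 0x6) (.lf 0x4)) (.nd (.lf 0x4) (.lf 0)))) (.nd (.nd (.nd (.lf 0x1) (.lf 0x5)) (.nd (.lf 0x5) (.lf 0))) (.nd (.nd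 (.lf 0x6) (.lf 0x4)) (.nd (.lf 0x5) (.lf 0)))))) (.nd (.nd (.nd (.nd (.nd (.lf 0x1) (.lf 0x5)) (.nd (.lf 0x5) (.lf 0))) (.nd (.nd (.lf 0x3) (.lf 0x2)) (.nd (.lf 0x4) (.lf 0)))) (.nd (.nd (.nd (.lf 0x6) (.lf 0x4)) (.nd (.lf 0x2) (.lf 0))) (.nd (.nd (.lf 0x5) (.lf 0x4)) (.nd (.lf 0x5) (.lf 0))))) (.nd (.nd (.nd (.nd (.lf 0x5) (.lf 0x6)) (.nd (.lf 0x1) (.lf 0))) (.nd (.nd (.lf 0x3) (.lf 0x3)) (.nd (.lf 0x5) (.lf 0)))) (.nd (.nd (.nd (.lf 0x4) (.lf 0x4)) (.nd (.lf 0x1) (.lf 0))) (.nd (.nd (.lf 0x5) (.lf 0x5)) (.nd (.lf 0x6) (.lf 0))))))))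
def labT_naaabaa : Tr := (.nd (.nd (.nd (.nd (.nd (.nd (.nd (.lf 0x4) (.lf 0x4)) (.nd (.lf 0x5) (.lf 0x3))) (.nd (.nd (.lf 0x5) (.lf 0x5)) (.nd (.lf 0x5) (.lf 0)))) (.nd (.nd (.nd (.lf 0x5) (.lf 0x5)) (.nd (.lf 0x7) (.lf 0))) (.nd (.nd (.lf 0x4) (.lf 0x1)) (.nd (.lf 0x4) (.lf 0))))) (.nd (.nd (.nd (.nd (.lf 0x5) (.lf 0x7)) (.nd (.lf 0x5) (.lf 0))) (.nd (.nd (.lf 0x5) (.lf 0x3)) (.nd (.lf 0x5) (.lf 0)))) (.nd (.nd (.nd (.lf 0x4) (.lf 0x4)) (.nd (.lf 0x3) (.lf 0))) (.nd (.nd (.lf 0x5) (.lf 0x5)) (.nd (.lf 0x5) (.lf 0)))))) (.nd (.nd (.nd (.nd (.nd (.lf 0x5) (.lf 0x5)) (.nd (.lf 0x7) (.lf 0))) (.nd (.nd (.lf 0x5) (.lf 0x5)) (.nd (.lf 0x2) (.lf 0)))) (.nd (.nd (.nd (.lf 0x5) (.lf 0x5)) (.nd (.lf 0x5) (.lf 0))) (.nd (.nd (.lf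 0x5) (.lf 0x5)) (.nd (.lf 0x3) (.lf 0))))) (.nd (.nd (.nd (.nd (.lf 0x5) (.lf 0x5)) (.nd (.lf 0x1) (.lf 0))) (.nd (.nd (.lf 0x5) (.lf 0x5)) (.nd (.lf 0x3) (.lf 0)))) (.nd (.nd (.nd (.lf 0x3) (.lf 0x4)) (.nd (.lf 0x4) (.lf 0))) (.nd (.nd (.lf 0x3) (.lf 0x5)) (.nd (.lf 0x4) (.lf 0))))))) (.nd (.nd (.nd (.nd (.nd (.nd (.lf 0x3) (.lf 0x5)) (.nd (.lf 0x5) (.lf 0))) (.nd (.nd (.lf 0x4) (.lf 0x5)) (.nd (.lf 0x5) (.lf 0)))) (.nd (.nd (.nd (.lf 0x1) (.lf 0x4)) (.nd (.lf 0x1) (.lf 0))) (.nd (.nd (.lf 0x5) (.lf 0x5)) (.nd (.lf 0x5) (.lf 0))))) (.nd (.nd (.nd (.nd (.lf 0x7) (.lf 0x5)) (.nd (.lf 0x5) (.lf 0))) (.nd (.nd (.lf 0x5) (.lf 0x3)) (.nd (.lf 0x4) (.lf 0)))) (.nd (.nd (.nd (.lf 0x4) (.lf 0x1)) (.nd (.lf 0x5) (.lf 0))) (.nd (.nd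 (.lf 0x1) (.lf 0x5)) (.nd (.lf 0x4) (.lf 0)))))) (.nd (.nd (.nd (.nd (.nd (.lf 0x5) (.lf 0x5)) (.nd (.lf 0x3) (.lf 0))) (.nd (.nd (.lf 0x3) (.lf 0x6)) (.nd (.lf 0x5) (.lf 0)))) (.nd (.nd (.nd (.lf 0x3) (.lf 0x3)) (.nd (.lf 0x6) (.lf 0))) (.nd (.nd (.lf 0x5) (.lf 0x5)) (.nd (.lf 0x6) (.lf 0))))) (.nd (.nd (.nd (.nd (.lf 0x3) (.lf 0x4)) (.nd (.lf 0x5) (.lf 0))) (.nd (.nd (.lf 0x4) (.lf 0x3)) (.nd (.lf 0x5) (.lf 0)))) (.nd (.nd (.nd (.lf 0x1) (.lf 0x1)) (.nd (.lf 0x3) (.lf 0))) (.nd (.nd (.lf 0x4) (.lf 0x5)) (.nd (.lf 0x3) (.lf 0))))))))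
def labT_naaabab : Tr := (.nd (.nd (.nd (.nd (.nd (.nd (.nd (.lf 0x5) (.lf 0x6)) (.nd (.lf 0x5) (.lf 0))) (.nd (.nd (.lf 0x4) (.lf 0x3)) (.nd (.lf 0x4) (.lf 0)))) (.nd (.nd (.nd (.lf 0x3) (.lf 0x4)) (.nd (.lf 0x5) (.lf 0))) (.nd (.nd (.lf 0x1) (.lf 0x4)) (.nd (.lf 0x5) (.lf 0))))) (.nd (.nd (.nd (.nd (.lf 0x3) (.lf 0x5)) (.nd (.lf 0x4) (.lf 0))) (.nd (.nd (.lf 0x5) (.lf 0x5)) (.nd (.lf 0x6) (.lf 0)))) (.nd (.nd (.nd (.lf 0x3) (.lf 0x3)) (.nd (.lf 0x6) (.lf 0))) (.nd (.nd (.lf 0x5) (.lf 0x1)) (.nd (.lf 0x3) (.lf 0)))))) (.nd (.nd (.nd (.nd (.nd (.lf 0x1) (.lf 0x4)) (.nd (.lf 0x7) (.lf 0))) (.nd (.nd (.lf 0x3) (.lf 0x6)) (.nd (.lf 0x1) (.lf 0)))) (.nd (.nd (.nd (.lf 0x3) (.lf 0x4)) (.nd (.lf 0x5) (.lf 0))) (.nd (.nd (.lf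 0x6) (.lf 0x1)) (.nd (.lf 0x3) (.lf 0))))) (.nd (.nd (.nd (.nd (.lf 0x3) (.lf 0x4)) (.nd (.lf 0x5) (.lf 0))) (.nd (.nd (.lf 0x4) (.lf 0x1)) (.nd (.lf 0x3) (.lf 0)))) (.nd (.nd (.nd (.lf 0x1) (.lf 0x5)) (.nd (.lf 0x5) (.lf 0))) (.nd (.nd (.lf 0x3) (.lf 0x4)) (.nd (.lf 0x5) (.lf 0))))))) (.nd (.nd (.nd (.nd (.nd (.nd (.lf 0x3) (.lf 0x1)) (.nd (.lf 0x3) (.lf 0))) (.nd (.nd (.lf 0x7) (.lf 0x5)) (.nd (.lf 0x4) (.lf 0)))) (.nd (.nd (.nd (.lf 0x3) (.lf 0x5)) (.nd (.lf 0x2) (.lf 0))) (.nd (.nd (.lf 0x4) (.lf 0x4)) (.nd (.lf 0x4) (.lf 0))))) (.nd (.nd (.nd (.nd (.lf 0x4) (.lf 0x3)) (.nd (.lf 0x5) (.lf 0))) (.nd (.nd (.lf 0x7) (.lf 0x5)) (.nd (.lf 0x4) (.lf 0)))) (.nd (.nd (.nd (.lf 0x1) (.lf 0x5)) (.nd (.lf 0x3) (.lf 0))) (.nd (.nd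 (.lf 0x5) (.lf 0x5)) (.nd (.lf 0x4) (.lf 0)))))) (.nd (.nd (.nd (.nd (.nd (.lf 0x5) (.lf 0x1)) (.nd (.lf 0x5) (.lf 0))) (.nd (.nd (.lf 0x5) (.lf 0x3)) (.nd (.lf 0x3) (.lf 0)))) (.nd (.nd (.nd (.lf 0x3) (.lf 0x5)) (.nd (.lf 0x3) (.lf 0))) (.nd (.nd (.lf 0x4) (.lf 0x5)) (.nd (.lf 0x3) (.lf 0))))) (.nd (.nd (.nd (.nd (.lf 0x4) (.lf 0x3)) (.nd (.lf 0x3) (.lf 0))) (.nd (.nd (.lf 0x3) (.lf 0x5)) (.nd (.lf 0x4) (.lf 0)))) (.nd (.nd (.nd (.lf 0x5) (.lf 0x4)) (.nd (.lf 0x3) (.lf 0))) (.nd (.nd (.lf 0x5) (.lf 0x3)) (.nd (.lf 0x4) (.lf 0))))))))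
def labT_naaabba : Tr := (.nd (.nd (.nd (.nd (.nd (.nd (.nd (.lf 0x5) (.lf 0x6)) (.nd (.lf 0x5) (.lf 0))) (.nd (.nd (.lf 0x3) (.lf 0x5)) (.nd (.lf 0x5) (.lf 0)))) (.nd (.nd (.nd (.lf 0x3) (.lf 0x3)) (.nd (.lf 0x5) (.lf 0))) (.nd (.nd (.lf 0x3) (.lf 0x2)) (.nd (.lf 0x4) (.lf 0))))) (.nd (.nd (.nd (.nd (.lf 0x4) (.lf 0x3)) (.nd (.lf 0x5) (.lf 0))) (.nd (.nd (.lf 0x6) (.lf 0x5)) (.nd (.lf 0x1) (.lf 0)))) (.nd (.nd (.nd (.lf 0x5) (.lf 0x6)) (.nd (.lf 0x5) (.lf 0))) (.nd (.nd (.lf 0x5) (.lf 0x4)) (.nd (.lf 0x5) (.lf 0)))))) (.nd (.nd (.nd (.nd (.nd (.lf 0x2) (.lf 0x6)) (.nd (.lf 0x4) (.lf 0))) (.nd (.nd (.lf 0x7) (.lf 0x3)) (.nd (.lf 0x5) (.lf 0)))) (.nd (.nd (.nd (.lf 0x1) (.lf 0x5)) (.nd (.lf 0x4) (.lf 0))) (.nd (.nd (.lf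 0x1) (.lf 0x5)) (.nd (.lf 0x5) (.lf 0))))) (.nd (.nd (.nd (.nd (.lf 0x2) (.lf 0x2)) (.nd (.lf 0x3) (.lf 0))) (.nd (.nd (.lf 0x5) (.lf 0x3)) (.nd (.lf 0x6) (.lf 0)))) (.nd (.nd (.nd (.lf 0x1) (.lf 0x5)) (.nd (.lf 0x5) (.lf 0))) (.nd (.nd (.lf 0x1) (.lf 0x5)) (.nd (.lf 0x5) (.lf 0))))))) (.nd (.nd (.nd (.nd (.nd (.nd (.lf 0x1) (.lf 0x3)) (.nd (.lf 0x1) (.lf 0))) (.nd (.nd (.lf 0x6) (.lf 0x5)) (.nd (.lf 0x4) (.lf 0)))) (.nd (.nd (.nd (.lf 0x6) (.lf 0x5)) (.nd (.lf 0x6) (.lf 0))) (.nd (.nd (.lf 0x3) (.lf 0x3)) (.nd (.lf 0x5) (.lf 0))))) (.nd (.nd (.nd (.nd (.lf 0x5) (.lf 0x4)) (.nd (.lf 0x3) (.lf 0))) (.nd (.nd (.lf 0x4) (.lf 0x5)) (.nd (.lf 0x5) (.lf 0)))) (.nd (.nd (.nd (.lf 0x3) (.lf 0x5)) (.nd (.lf 0x5) (.lf 0))) (.nd (.nd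 (.lf 0x2) (.lf 0x5)) (.nd (.lf 0x4) (.lf 0)))))) (.nd (.nd (.nd (.nd (.nd (.lf 0x4) (.lf 0x5)) (.nd (.lf 0x5) (.lf 0))) (.nd (.nd (.lf 0x3) (.lf 0x4)) (.nd (.lf 0x4) (.lf 0)))) (.nd (.nd (.nd (.lf 0x5) (.lf 0x5)) (.nd (.lf 0x4) (.lf 0))) (.nd (.nd (.lf 0x5) (.lf 0x3)) (.nd (.lf 0x3) (.lf 0))))) (.nd (.nd (.nd (.nd (.lf 0x5) (.lf 0x3)) (.nd (.lf 0x3) (.lf 0))) (.nd (.nd (.lf 0x1) (.lf 0x5)) (.nd (.lf 0x1) (.lf 0)))) (.nd (.nd (.nd (.lf 0x5) (.lf 0x5)) (.nd (.lf 0x3) (.lf 0))) (.nd (.nd (.lf 0x4) (.lf 0x1)) (.nd (.lf 0x4) (.lf 0))))))))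
def labT_naaabbb : Tr := (.nd (.nd (.nd (.nd (.nd (.nd (.nd (.lf 0x5) (.lf 0x3)) (.nd (.lf 0x4) (.lf 0))) (.nd (.nd (.lf 0x5) (.lf 0x3)) (.nd (.lf 0x3) (.lf 0)))) (.nd (.nd (.nd (.lf 0x4) (.lf 0x1)) (.nd (.lf 0x5) (.lf 0))) (.nd (.nd (.lf 0x3) (.lf 0x6)) (.nd (.lf 0x4) (.lf 0))))) (.nd (.nd (.nd (.nd (.lf 0x1) (.lf 0x6)) (.nd (.lf 0x4) (.lf 0))) (.nd (.nd (.lf 0x4) (.lf 0x1)) (.nd (.lf 0x4) (.lf 0)))) (.nd (.nd (.nd (.lf 0x4) (.lf 0x5)) (.nd (.lf 0x3) (.lf 0))) (.nd (.nd (.lf 0x1) (.lf 0x4)) (.nd (.lf 0x3) (.lf 0)))))) (.nd (.nd (.nd (.nd (.nd (.lf 0x4) (.lf 0x3)) (.nd (.lf 0x4) (.lf 0))) (.nd (.nd (.lf 0x1) (.lf 0x4)) (.nd (.lf 0x1) (.lf 0)))) (.nd (.nd (.nd (.lf 0x2) (.lf 0x4)) (.nd (.lf 0x5) (.lf 0))) (.nd (.nd (.lf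 0x3) (.lf 0x1)) (.nd (.lf 0x1) (.lf 0))))) (.nd (.nd (.nd (.nd (.lf 0x5) (.lf 0x1)) (.nd (.lf 0x6) (.lf 0))) (.nd (.nd (.lf 0x6) (.lf 0x3)) (.nd (.lf 0x5) (.lf 0)))) (.nd (.nd (.nd (.lf 0x1) (.lf 0x4)) (.nd (.lf 0x4) (.lf 0))) (.nd (.nd (.lf 0x4) (.lf 0x3)) (.nd (.lf 0x5) (.lf 0))))))) (.nd (.nd (.nd (.nd (.nd (.nd (.lf 0x1) (.lf 0x3)) (.nd (.lf 0x1) (.lf 0))) (.nd (.nd (.lf 0x5) (.lf 0x1)) (.nd (.lf 0x4) (.lf 0)))) (.nd (.nd (.nd (.lf 0x3) (.lf 0x4)) (.nd (.lf 0x5) (.lf 0))) (.nd (.nd (.lf 0x6) (.lf 0x3)) (.nd (.lf 0x4) (.lf 0))))) (.nd (.nd (.nd (.nd (.lf 0x3) (.lf 0x5)) (.nd (.lf 0x3) (.lf 0))) (.nd (.nd (.lf 0x3) (.lf 0x5)) (.nd (.lf 0x4) (.lf 0)))) (.nd (.nd (.nd (.lf 0x1) (.lf 0x5)) (.nd (.lf 0x5) (.lf 0))) (.nd (.nd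 (.lf 0x3) (.lf 0x1)) (.nd (.lf 0x5) (.lf 0)))))) (.nd (.nd (.nd (.nd (.nd (.lf 0x4) (.lf 0x3)) (.nd (.lf 0x1) (.lf 0))) (.nd (.nd (.lf 0x5) (.lf 0x5)) (.nd (.lf 0x4) (.lf 0)))) (.nd (.nd (.nd (.lf 0x5) (.lf 0x3)) (.nd (.lf 0x4) (.lf 0))) (.nd (.nd (.lf 0x3) (.lf 0x5)) (.nd (.lf 0x5) (.lf 0))))) (.nd (.nd (.nd (.nd (.lf 0x4) (.lf 0x3)) (.nd (.lf 0x3) (.lf 0))) (.nd (.nd (.lf 0x3) (.lf 0x7)) (.nd (.lf 0x1) (.lf 0)))) (.nd (.nd (.nd (.lf 0x4) (.lf 0x4)) (.nd (.lf 0x5) (.lf 0))) (.nd (.nd (.lf 0x5) (.lf 0x3)) (.nd (.lf 0x5) (.lf 0))))))))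
def labT_naabaaa : Tr := (.nd (.nd (.nd (.nd (.nd (.nd (.nd (.lf 0x4) (.lf 0x1)) (.nd (.lf 0x4) (.lf 0x3))) (.nd (.nd (.lf 0x3) (.lf 0x7)) (.nd (.lf 0x6) (.lf 0)))) (.nd (.nd (.nd (.lf 0x3) (.lf 0x4)) (.nd (.lf 0x1) (.lf 0))) (.nd (.nd (.lf 0x3) (.lf 0x1)) (.nd (.lf 0x5) (.lf 0))))) (.nd (.nd (.nd (.nd (.lf 0x4) (.lf 0x3)) (.nd (.lf 0x1) (.lf 0))) (.nd (.nd (.lf 0x6) (.lf 0x5)) (.nd (.lf 0x4) (.lf 0)))) (.nd (.nd (.nd (.lf 0x3) (.lf 0x3)) (.nd (.lf 0x4) (.lf 0))) (.nd (.nd (.lf 0x1) (.lf 0x4)) (.nd (.lf 0x5) (.lf 0)))))) (.nd (.nd (.nd (.nd (.nd (.lf 0x5) (.lf 0x5)) (.nd (.lf 0x5) (.lf 0))) (.nd (.nd (.lf 0x4) (.lf 0x1)) (.nd (.lf 0x5) (.lf 0)))) (.nd (.nd (.nd (.lf 0x1) (.lf 0x1)) (.nd (.lf 0x3) (.lf 0))) (.nd (.nd (.lf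 0x5) (.lf 0x1)) (.nd (.lf 0x1) (.lf 0))))) (.nd (.nd (.nd (.nd (.lf 0x7) (.lf 0x5)) (.nd (.lf 0x1) (.lf 0))) (.nd (.nd (.lf 0x4) (.lf 0x4)) (.nd (.lf 0x4) (.lf 0)))) (.nd (.nd (.nd (.lf 0x5) (.lf 0x1)) (.nd (.lf 0x6) (.lf 0))) (.nd (.nd (.lf 0x5) (.lf 0x5)) (.nd (.lf 0x4) (.lf 0))))))) (.nd (.nd (.nd (.nd (.nd (.nd (.lf 0x1) (.lf 0x5)) (.nd (.lf 0x5) (.lf 0))) (.nd (.nd (.lf 0x2) (.lf 0x1)) (.nd (.lf 0x1) (.lf 0)))) (.nd (.nd (.nd (.lf 0x5) (.lf 0x3)) (.nd (.lf 0x5) (.lf 0))) (.nd (.nd (.lf 0x1) (.lf 0x2)) (.nd (.lf 0x3) (.lf 0))))) (.nd (.nd (.nd (.nd (.lf 0x3) (.lf 0x4)) (.nd (.lf 0x3) (.lf 0))) (.nd (.nd (.lf 0x5) (.lf 0x5)) (.nd (.lf 0x5) (.lf 0)))) (.nd (.nd (.nd (.lf 0x3) (.lf 0x5)) (.nd (.lf 0x5) (.lf 0))) (.nd (.nd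 (.lf 0x5) (.lf 0x1)) (.nd (.lf 0x3) (.lf 0)))))) (.nd (.nd (.nd (.nd (.nd (.lf 0x5) (.lf 0x7)) (.nd (.lf 0x3) (.lf 0))) (.nd (.nd (.lf 0x5) (.lf 0x3)) (.nd (.lf 0x5) (.lf 0)))) (.nd (.nd (.nd (.lf 0x5) (.lf 0x3)) (.nd (.lf 0x4) (.lf 0))) (.nd (.nd (.lf 0x5) (.lf 0x5)) (.nd (.lf 0x1) (.lf 0))))) (.nd (.nd (.nd (.nd (.lf 0x3) (.lf 0x4)) (.nd (.lf 0x4) (.lf 0))) (.nd (.nd (.lf 0x3) (.lf 0x5)) (.nd (.lf 0x3) (.lf 0)))) (.nd (.nd (.nd (.lf 0x6) (.lf 0x5)) (.nd (.lf 0x5) (.lf 0))) (.nd (.nd (.lf 0x6) (.lf 0x5)) (.nd (.lf 0x5) (.lf 0))))))))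
def labT_naabaab : Tr := (.nd (.nd (.nd (.nd (.nd (.nd (.nd (.lf 0x4) (.lf 0x3)) (.nd (.lf 0x4) (.lf 0))) (.nd (.nd (.lf 0x4) (.lf 0x5)) (.nd (.lf 0x3) (.lf 0)))) (.nd (.nd (.nd (.lf 0x1) (.lf 0x4)) (.nd (.lf 0x6) (.lf 0))) (.nd (.nd (.lf 0x5) (.lf 0x5)) (.nd (.lf 0x5) (.lf 0))))) (.nd (.nd (.nd (.nd (.lf 0x7) (.lf 0x4)) (.nd (.lf 0x5) (.lf 0))) (.nd (.nd (.lf 0x6) (.lf 0x1)) (.nd (.lf 0x4) (.lf 0)))) (.nd (.nd (.nd (.lf 0x6) (.lf 0x1)) (.nd (.lf 0x4) (.lf 0))) (.nd (.nd (.lf 0x4) (.lf 0x5)) (.nd (.lf 0x4) (.lf 0)))))) (.nd (.nd (.nd (.nd (.nd (.lf 0x3) (.lf 0x3)) (.nd (.lf 0x4) (.lf 0))) (.nd (.nd (.lf 0x5) (.lf 0x3)) (.nd (.lf 0x5) (.lf 0)))) (.nd (.nd (.nd (.lf 0x4) (.lf 0x1)) (.nd (.lf 0x5) (.lf 0))) (.nd (.nd (.lf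 0x1) (.lf 0x2)) (.nd (.lf 0x1) (.lf 0))))) (.nd (.nd (.nd (.nd (.lf 0x5) (.lf 0x5)) (.nd (.lf 0x5) (.lf 0))) (.nd (.nd (.lf 0x3) (.lf 0x1)) (.nd (.lf 0x4) (.lf 0)))) (.nd (.nd (.nd (.lf 0x5) (.lf 0x5)) (.nd (.lf 0x3) (.lf 0))) (.nd (.nd (.lf 0x5) (.lf 0x3)) (.nd (.lf 0x5) (.lf 0))))))) (.nd (.nd (.nd (.nd (.nd (.nd (.lf 0x4) (.lf 0x1)) (.nd (.lf 0x5) (.lf 0))) (.nd (.nd (.lf 0x3) (.lf 0x6)) (.nd (.lf 0x4) (.lf 0)))) (.nd (.nd (.nd (.lf 0x5) (.lf 0x5)) (.nd (.lf 0x5) (.lf 0))) (.nd (.nd (.lf 0x5) (.lf 0x5)) (.nd (.lf 0x4) (.lf 0))))) (.nd (.nd (.nd (.nd (.lf 0x2) (.lf 0x5)) (.nd (.lf 0x6) (.lf 0))) (.nd (.nd (.lf 0x5) (.lf 0x5)) (.nd (.lf 0x6) (.lf 0)))) (.nd (.nd (.nd (.lf 0x5) (.lf 0x5)) (.nd (.lf 0x5) (.lf 0))) (.nd (.nd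 (.lf 0x1) (.lf 0x4)) (.nd (.lf 0x5) (.lf 0)))))) (.nd (.nd (.nd (.nd (.nd (.lf 0x5) (.lf 0x1)) (.nd (.lf 0x3) (.lf 0))) (.nd (.nd (.lf 0x3) (.lf 0x1)) (.nd (.lf 0x1) (.lf 0)))) (.nd (.nd (.nd (.lf 0x3) (.lf 0x5)) (.nd (.lf 0x1) (.lf 0))) (.nd (.nd (.lf 0x4) (.lf 0x3)) (.nd (.lf 0x5) (.lf 0))))) (.nd (.nd (.nd (.nd (.lf 0x3) (.lf 0x5)) (.nd (.lf 0x5) (.lf 0))) (.nd (.nd (.lf 0x5) (.lf 0x5)) (.nd (.lf 0x6) (.lf 0)))) (.nd (.nd (.nd (.lf 0x5) (.lf 0x5)) (.nd (.lf 0x4) (.lf 0))) (.nd (.nd (.lf 0x2) (.lf 0x3)) (.nd (.lf 0x4) (.lf 0))))))))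
def labT_naababa : Tr := (.nd (.nd (.nd (.nd (.nd (.nd (.nd (.lf 0x3) (.lf 0x5)) (.nd (.lf 0x3) (.lf 0))) (.nd (.nd (.lf 0x7) (.lf 0x4)) (.nd (.lf 0x3) (.lf 0)))) (.nd (.nd (.nd (.lf 0x4) (.lf 0x4)) (.nd (.lf 0x3) (.lf 0))) (.nd (.nd (.lf 0x5) (.lf 0x6)) (.nd (.lf 0x5) (.lf 0))))) (.nd (.nd (.nd (.nd (.lf 0x4) (.lf 0x5)) (.nd (.lf 0x1) (.lf 0))) (.nd (.nd (.lf 0x5) (.lf 0x4)) (.nd (.lf 0x4) (.lf 0)))) (.nd (.nd (.nd (.lf 0x4) (.lf 0x1)) (.nd (.lf 0x3) (.lf 0))) (.nd (.nd (.lf 0x4) (.lf 0x4)) (.nd (.lf 0x4) (.lf 0)))))) (.nd (.nd (.nd (.nd (.nd (.lf 0x4) (.lf 0x5)) (.nd (.lf 0x5) (.lf 0))) (.nd (.nd (.lf 0x5) (.lf 0x5)) (.nd (.lf 0x3) (.lf 0)))) (.nd (.nd (.nd (.lf 0x4) (.lf 0x3)) (.nd (.lf 0x5) (.lf 0))) (.nd (.nd (.lf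 0x4) (.lf 0x6)) (.nd (.lf 0x4) (.lf 0))))) (.nd (.nd (.nd (.nd (.lf 0x3) (.lf 0x3)) (.nd (.lf 0x4) (.lf 0))) (.nd (.nd (.lf 0x3) (.lf 0x3)) (.nd (.lf 0x1) (.lf 0)))) (.nd (.nd (.nd (.lf 0x3) (.lf 0x4)) (.nd (.lf 0x5) (.lf 0))) (.nd (.nd (.lf 0x4) (.lf 0x5)) (.nd (.lf 0x6) (.lf 0))))))) (.nd (.nd (.nd (.nd (.nd (.nd (.lf 0x4) (.lf 0x4)) (.nd (.lf 0x5) (.lf 0))) (.nd (.nd (.lf 0x4) (.lf 0x6)) (.nd (.lf 0x3) (.lf 0)))) (.nd (.nd (.nd (.lf 0x1) (.lf 0x3)) (.nd (.lf 0x4) (.lf 0))) (.nd (.nd (.lf 0x5) (.lf 0x1)) (.nd (.lf 0x3) (.lf 0))))) (.nd (.nd (.nd (.nd (.lf 0x4) (.lf 0x3)) (.nd (.lf 0x3) (.lf 0))) (.nd (.nd (.lf 0x5) (.lf 0x4)) (.nd (.lf 0x1) (.lf 0)))) (.nd (.nd (.nd (.lf 0x5) (.lf 0x5)) (.nd (.lf 0x5) (.lf 0))) (.nd (.nd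 (.lf 0x5) (.lf 0x4)) (.nd (.lf 0x4) (.lf 0)))))) (.nd (.nd (.nd (.nd (.nd (.lf 0x5) (.lf 0x5)) (.nd (.lf 0x5) (.lf 0))) (.nd (.nd (.lf 0x3) (.lf 0x6)) (.nd (.lf 0x3) (.lf 0)))) (.nd (.nd (.nd (.lf 0x4) (.lf 0x4)) (.nd (.lf 0x3) (.lf 0))) (.nd (.nd (.lf 0x7) (.lf 0x1)) (.nd (.lf 0x4) (.lf 0))))) (.nd (.nd (.nd (.nd (.lf 0x1) (.lf 0x1)) (.nd (.lf 0x5) (.lf 0))) (.nd (.nd (.lf 0x5) (.lf 0x3)) (.nd (.lf 0x5) (.lf 0)))) (.nd (.nd (.nd (.lf 0x2) (.lf 0x4)) (.nd (.lf 0x6) (.lf 0))) (.nd (.nd (.lf 0x4) (.lf 0x4)) (.nd (.lf 0x4) (.lf 0))))))))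
def labT_naababb : Tr := (.nd (.nd (.nd (.nd (.nd (.nd (.nd (.lf 0x5) (.lf 0x4)) (.nd (.lf 0x4) (.lf 0))) (.nd (.nd (.lf 0x5) (.lf 0x2)) (.nd (.lf 0x1) (.lf 0)))) (.nd (.nd (.nd (.lf 0x3) (.lf 0x5)) (.nd (.lf 0x2) (.lf 0))) (.nd (.nd (.lf 0x6) (.lf 0x5)) (.nd (.lf 0x6) (.lf 0))))) (.nd (.nd (.nd (.nd (.lf 0x4) (.lf 0x5)) (.nd (.lf 0x3) (.lf 0))) (.nd (.nd (.lf 0x5) (.lf 0x5)) (.nd (.lf 0x3) (.lf 0)))) (.nd (.nd (.nd (.lf 0x5) (.lf 0x3)) (.nd (.lf 0x1) (.lf 0))) (.nd (.nd (.lf 0x3) (.lf 0x4)) (.nd (.lf 0x6) (.lf 0)))))) (.nd (.nd (.nd (.nd (.nd (.lf 0x4) (.lf 0x5)) (.nd (.lf 0x1) (.lf 0))) (.nd (.nd (.lf 0x1) (.lf 0x1)) (.nd (.lf 0x7) (.lf 0)))) (.nd (.nd (.nd (.lf 0x3) (.lf 0x4)) (.nd (.lf 0x5) (.lf 0))) (.nd (.nd (.lf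 0x3) (.lf 0x5)) (.nd (.lf 0x5) (.lf 0))))) (.nd (.nd (.nd (.nd (.lf 0x6) (.lf 0x4)) (.nd (.lf 0x5) (.lf 0))) (.nd (.nd (.lf 0x4) (.lf 0x7)) (.nd (.lf 0x2) (.lf 0)))) (.nd (.nd (.nd (.lf 0x3) (.lf 0x3)) (.nd (.lf 0x6) (.lf 0))) (.nd (.nd (.lf 0x5) (.lf 0x4)) (.nd (.lf 0x5) (.lf 0))))))) (.nd (.nd (.nd (.nd (.nd (.nd (.lf 0x5) (.lf 0x4)) (.nd (.lf 0x6) (.lf 0))) (.nd (.nd (.lf 0x5) (.lf 0x4)) (.nd (.lf 0x4) (.lf 0)))) (.nd (.nd (.nd (.lf 0x1) (.lf 0x3)) (.nd (.lf 0x3) (.lf 0))) (.nd (.nd (.lf 0x3) (.lf 0x1)) (.nd (.lf 0x5) (.lf 0))))) (.nd (.nd (.nd (.nd (.lf 0x6) (.lf 0x4)) (.nd (.lf 0x6) (.lf 0))) (.nd (.nd (.lf 0x5) (.lf 0x3)) (.nd (.lf 0x2) (.lf 0)))) (.nd (.nd (.nd (.lf 0x5) (.lf 0x4)) (.nd (.lf 0x5) (.lf 0))) (.nd (.nd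 (.lf 0x4) (.lf 0x3)) (.nd (.lf 0x4) (.lf 0)))))) (.nd (.nd (.nd (.nd (.nd (.lf 0x4) (.lf 0x5)) (.nd (.lf 0x6) (.lf 0))) (.nd (.nd (.lf 0x3) (.lf 0x5)) (.nd (.lf 0x3) (.lf 0)))) (.nd (.nd (.nd (.lf 0x5) (.lf 0x5)) (.nd (.lf 0x5) (.lf 0))) (.nd (.nd (.lf 0x5) (.lf 0x5)) (.nd (.lf 0x3) (.lf 0))))) (.nd (.nd (.nd (.nd (.lf 0x6) (.lf 0x3)) (.nd (.lf 0x3) (.lf 0))) (.nd (.nd (.lf 0x7) (.lf 0x3)) (.nd (.lf 0x5) (.lf 0)))) (.nd (.nd (.nd (.lf 0x3) (.lf 0x1)) (.nd (.lf 0x5) (.lf 0))) (.nd (.nd (.lf 0x5) (.lf 0x5)) (.nd (.lf 0x1) (.lf 0))))))))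
def labT_naabbaa : Tr := (.nd (.nd (.nd (.nd (.nd (.nd (.nd (.lf 0x3) (.lf 0x5)) (.nd (.lf 0x4) (.lf 0))) (.nd (.nd (.lf 0x1) (.lf 0x5)) (.nd (.lf 0x3) (.lf 0)))) (.nd (.nd (.nd (.lf 0x1) (.lf 0x6)) (.nd (.lf 0x4) (.lf 0))) (.nd (.nd (.lf 0x5) (.lf 0x5)) (.nd (.lf 0x4) (.lf 0))))) (.nd (.nd (.nd (.nd (.lf 0x7) (.lf 0x3)) (.nd (.lf 0x5) (.lf 0))) (.nd (.nd (.lf 0x5) (.lf 0x5)) (.nd (.lf 0x5) (.lf 0)))) (.nd (.nd (.nd (.lf 0x2) (.lf 0x4)) (.nd (.lf 0x5) (.lf 0))) (.nd (.nd (.lf 0x5) (.lf 0x4)) (.nd (.lf 0x4) (.lf 0)))))) (.nd (.nd (.nd (.nd (.nd (.lf 0x4) (.lf 0x5)) (.nd (.lf 0x5) (.lf 0))) (.nd (.nd (.lf 0x5) (.lf 0x6)) (.nd (.lf 0x5) (.lf 0)))) (.nd (.nd (.nd (.lf 0x4) (.lf 0x4)) (.nd (.lf 0x3) (.lf 0))) (.nd (.nd (.lf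 0x2) (.lf 0x4)) (.nd (.lf 0x5) (.lf 0))))) (.nd (.nd (.nd (.nd (.lf 0x5) (.lf 0x4)) (.nd (.lf 0x6) (.lf 0))) (.nd (.nd (.lf 0x5) (.lf 0x3)) (.nd (.lf 0x4) (.lf 0)))) (.nd (.nd (.nd (.lf 0x5) (.lf 0x5)) (.nd (.lf 0x5) (.lf 0))) (.nd (.nd (.lf 0x1) (.lf 0x7)) (.nd (.lf 0x6) (.lf 0))))))) (.nd (.nd (.nd (.nd (.nd (.nd (.lf 0x5) (.lf 0x4)) (.nd (.lf 0x4) (.lf 0))) (.nd (.nd (.lf 0x5) (.lf 0x4)) (.nd (.lf 0x5) (.lf 0)))) (.nd (.nd (.nd (.lf 0x5) (.lf 0x3)) (.nd (.lf 0x4) (.lf 0))) (.nd (.nd (.lf 0x6) (.lf 0x4)) (.nd (.lf 0x6) (.lf 0))))) (.nd (.nd (.nd (.nd (.lf 0x5) (.lf 0x3)) (.nd (.lf 0x1) (.lf 0))) (.nd (.nd (.lf 0x1) (.lf 0x1)) (.nd (.lf 0x5) (.lf 0)))) (.nd (.nd (.nd (.lf 0x1) (.lf 0x3)) (.nd (.lf 0x6) (.lf 0))) (.nd (.nd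 (.lf 0x3) (.lf 0x5)) (.nd (.lf 0x5) (.lf 0)))))) (.nd (.nd (.nd (.nd (.nd (.lf 0x5) (.lf 0x5)) (.nd (.lf 0x5) (.lf 0))) (.nd (.nd (.lf 0x6) (.lf 0x3)) (.nd (.lf 0x1) (.lf 0)))) (.nd (.nd (.nd (.lf 0x3) (.lf 0x1)) (.nd (.lf 0x5) (.lf 0))) (.nd (.nd (.lf 0x5) (.lf 0x5)) (.nd (.lf 0x5) (.lf 0))))) (.nd (.nd (.nd (.nd (.lf 0x5) (.lf 0x5)) (.nd (.lf 0x5) (.lf 0))) (.nd (.nd (.lf 0x4) (.lf 0x5)) (.nd (.lf 0x3) (.lf 0)))) (.nd (.nd (.nd (.lf 0x1) (.lf 0x6)) (.nd (.lf 0x4) (.lf 0))) (.nd (.nd (.lf 0x4) (.lf 0x5)) (.nd (.lf 0x6) (.lf 0))))))))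
def labT_naabbab : Tr := (.nd (.nd (.nd (.nd (.nd (.nd (.nd (.lf 0x3) (.lf 0x5)) (.nd (.lf 0x5) (.lf 0))) (.nd (.nd (.lf 0x5) (.lf 0x1)) (.nd (.lf 0x1) (.lf 0)))) (.nd (.nd (.nd (.lf 0x4) (.lf 0x1)) (.nd (.lf 0x3) (.lf 0))) (.nd (.nd (.lf 0x6) (.lf 0x1)) (.nd (.lf 0x5) (.lf 0))))) (.nd (.nd (.nd (.nd (.lf 0x5) (.lf 0x3)) (.nd (.lf 0x4) (.lf 0))) (.nd (.nd (.lf 0x4) (.lf 0x4)) (.nd (.lf 0x5) (.lf 0)))) (.nd (.nd (.nd (.lf 0x4) (.lf 0x4)) (.nd (.lf 0x5) (.lf 0))) (.nd (.nd (.lf 0x5) (.lf 0x1)) (.nd (.lf 0x7) (.lf 0)))))) (.nd (.nd (.nd (.nd (.nd (.lf 0x5) (.lf 0x5)) (.nd (.lf 0x4) (.lf 0))) (.nd (.nd (.lf 0x3) (.lf 0x3)) (.nd (.lf 0x3) (.lf 0)))) (.nd (.nd (.nd (.lf 0x4) (.lf 0x5)) (.nd (.lf 0x3) (.lf 0))) (.nd (.nd (.lf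 0x5) (.lf 0x5)) (.nd (.lf 0x3) (.lf 0))))) (.nd (.nd (.nd (.nd (.lf 0x5) (.lf 0x5)) (.nd (.lf 0x4) (.lf 0))) (.nd (.nd (.lf 0x6) (.lf 0x4)) (.nd (.lf 0x4) (.lf 0)))) (.nd (.nd (.nd (.lf 0x5) (.lf 0x5)) (.nd (.lf 0x6) (.lf 0))) (.nd (.nd (.lf 0x5) (.lf 0x3)) (.nd (.lf 0x1) (.lf 0))))))) (.nd (.nd (.nd (.nd (.nd (.nd (.lf 0x5) (.lf 0x6)) (.nd (.lf 0x1) (.lf 0))) (.nd (.nd (.lf 0x3) (.lf 0x3)) (.nd (.lf 0x7) (.lf 0)))) (.nd (.nd (.nd (.lf 0x5) (.lf 0x4)) (.nd (.lf 0x4) (.lf 0))) (.nd (.nd (.lf 0x4) (.lf 0x3)) (.nd (.lf 0x4) (.lf 0))))) (.nd (.nd (.nd (.nd (.lf 0x5) (.lf 0x5)) (.nd (.lf 0x4) (.lf 0))) (.nd (.nd (.lf 0x4) (.lf 0x4)) (.nd (.lf 0x3) (.lf 0)))) (.nd (.nd (.nd (.lf 0x5) (.lf 0x1)) (.nd (.lf 0x3) (.lf 0))) (.nd (.nd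 (.lf 0x4) (.lf 0x4)) (.nd (.lf 0x1) (.lf 0)))))) (.nd (.nd (.nd (.nd (.nd (.lf 0x7) (.lf 0x3)) (.nd (.lf 0x4) (.lf 0))) (.nd (.nd (.lf 0x1) (.lf 0x3)) (.nd (.lf 0x4) (.lf 0)))) (.nd (.nd (.nd (.lf 0x5) (.lf 0x4)) (.nd (.lf 0x3) (.lf 0))) (.nd (.nd (.lf 0x3) (.lf 0x5)) (.nd (.lf 0x3) (.lf 0))))) (.nd (.nd (.nd (.nd (.lf 0x5) (.lf 0x5)) (.nd (.lf 0x1) (.lf 0))) (.nd (.nd (.lf 0x6) (.lf 0x4)) (.nd (.lf 0x1) (.lf 0)))) (.nd (.nd (.nd (.lf 0x1) (.lf 0x4)) (.nd (.lf 0x6) (.lf 0))) (.nd (.nd (.lf 0x4) (.lf 0x4)) (.nd (.lf 0x5) (.lf 0))))))))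
def labT_naabbba : Tr := (.nd (.nd (.nd (.nd (.nd (.nd (.nd (.lf 0x5) (.lf 0x4)) (.nd (.lf 0x5) (.lf 0))) (.nd (.nd (.lf 0x4) (.lf 0x3)) (.nd (.lf 0x4) (.lf 0)))) (.nd (.nd (.nd (.lf 0x3) (.lf 0x4)) (.nd (.lf 0x4) (.lf 0))) (.nd (.nd (.lf 0x4) (.lf 0x1)) (.nd (.lf 0x3) (.lf 0))))) (.nd (.nd (.nd (.nd (.lf 0x3) (.lf 0x3)) (.nd (.lf 0x6) (.lf 0))) (.nd (.nd (.lf 0x3) (.lf 0x3)) (.nd (.lf 0x3) (.lf 0)))) (.nd (.nd (.nd (.lf 0x3) (.lf 0x5)) (.nd (.lf 0x5) (.lf 0))) (.nd (.nd (.lf 0x4) (.lf 0x1)) (.nd (.lf 0x3) (.lf 0)))))) (.nd (.nd (.nd (.nd (.nd (.lf 0x5) (.lf 0x4)) (.nd (.lf 0x5) (.lf 0))) (.nd (.nd (.lf 0x5) (.lf 0x3)) (.nd (.lf 0x4) (.lf 0)))) (.nd (.nd (.nd (.lf 0x1) (.lf 0x6)) (.nd (.lf 0x4) (.lf 0))) (.nd (.nd (.lf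 0x4) (.lf 0x5)) (.nd (.lf 0x2) (.lf 0))))) (.nd (.nd (.nd (.nd (.lf 0x4) (.lf 0x3)) (.nd (.lf 0x1) (.lf 0))) (.nd (.nd (.lf 0x3) (.lf 0x5)) (.nd (.lf 0x3) (.lf 0)))) (.nd (.nd (.nd (.lf 0x3) (.lf 0x5)) (.nd (.lf 0x6) (.lf 0))) (.nd (.nd (.lf 0x5) (.lf 0x4)) (.nd (.lf 0x3) (.lf 0))))))) (.nd (.nd (.nd (.nd (.nd (.nd (.lf 0x4) (.lf 0x3)) (.nd (.lf 0x6) (.lf 0))) (.nd (.nd (.lf 0x4) (.lf 0x3)) (.nd (.lf 0x4) (.lf 0)))) (.nd (.nd (.nd (.lf 0x3) (.lf 0x4)) (.nd (.lf 0x5) (.lf 0))) (.nd (.nd (.lf 0x5) (.lf 0x3)) (.nd (.lf 0x4) (.lf 0))))) (.nd (.nd (.nd (.nd (.lf 0x6) (.lf 0x5)) (.nd (.lf 0x1) (.lf 0))) (.nd (.nd (.lf 0x5) (.lf 0x6)) (.nd (.lf 0x5) (.lf 0)))) (.nd (.nd (.nd (.lf 0x5) (.lf 0x3)) (.nd (.lf 0x5) (.lf 0))) (.nd (.nd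 (.lf 0x4) (.lf 0x5)) (.nd (.lf 0x5) (.lf 0)))))) (.nd (.nd (.nd (.nd (.nd (.lf 0x5) (.lf 0x5)) (.nd (.lf 0x5) (.lf 0))) (.nd (.nd (.lf 0x5) (.lf 0x4)) (.nd (.lf 0x1) (.lf 0)))) (.nd (.nd (.nd (.lf 0x3) (.lf 0x3)) (.nd (.lf 0x5) (.lf 0))) (.nd (.nd (.lf 0x3) (.lf 0x1)) (.nd (.lf 0x1) (.lf 0))))) (.nd (.nd (.nd (.nd (.lf 0x3) (.lf 0x4)) (.nd (.lf 0x4) (.lf 0))) (.nd (.nd (.lf 0x3) (.lf 0x4)) (.nd (.lf 0x2) (.lf 0)))) (.nd (.nd (.nd (.lf 0x5) (.lf 0x3)) (.nd (.lf 0x6) (.lf 0))) (.nd (.nd (.lf 0x5) (.lf 0x1)) (.nd (.lf 0x5) (.lf 0))))))))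
def labT_naabbbb : Tr := (.nd (.nd (.nd (.nd (.nd (.nd (.nd (.lf 0x1) (.lf 0x5)) (.nd (.lf 0x3) (.lf 0))) (.nd (.nd (.lf 0x5) (.lf 0x5)) (.nd (.lf 0x5) (.lf 0)))) (.nd (.nd (.nd (.lf 0x5) (.lf 0x4)) (.nd (.lf 0x5) (.lf 0))) (.nd (.nd (.lf 0x5) (.lf 0x1)) (.nd (.lf 0x1) (.lf 0))))) (.nd (.nd (.nd (.nd (.lf 0x5) (.lf 0x6)) (.nd (.lf 0x4) (.lf 0))) (.nd (.nd (.lf 0x3) (.lf 0x5)) (.nd (.lf 0x4) (.lf 0)))) (.nd (.nd (.nd (.lf 0x3) (.lf 0x3)) (.nd (.lf 0x5) (.lf 0))) (.nd (.nd (.lf 0x1) (.lf 0x5)) (.nd (.lf 0x4) (.lf 0)))))) (.nd (.nd (.nd (.nd (.nd (.lf 0x6) (.lf 0x3)) (.nd (.lf 0x1) (.lf 0))) (.nd (.nd (.lf 0x5) (.lf 0x3)) (.nd (.lf 0x1) (.lf 0)))) (.nd (.nd (.nd (.lf 0x5) (.lf 0x5)) (.nd (.lf 0x5) (.lf 0))) (.nd (.nd (.lf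 0x4) (.lf 0x5)) (.nd (.lf 0x1) (.lf 0))))) (.nd (.nd (.nd (.nd (.lf 0x4) (.lf 0x3)) (.nd (.lf 0x5) (.lf 0))) (.nd (.nd (.lf 0x5) (.lf 0x3)) (.nd (.lf 0x3) (.lf 0)))) (.nd (.nd (.nd (.lf 0x3) (.lf 0x1)) (.nd (.lf 0x6) (.lf 0))) (.nd (.nd (.lf 0x3) (.lf 0x1)) (.nd (.lf 0x5) (.lf 0))))))) (.nd (.nd (.nd (.nd (.nd (.nd (.lf 0x3) (.lf 0x4)) (.nd (.lf 0x5) (.lf 0))) (.nd (.nd (.lf 0x4) (.lf 0x2)) (.nd (.lf 0x4) (.lf 0)))) (.nd (.nd (.nd (.lf 0x4) (.lf 0x4)) (.nd (.lf 0x5) (.lf 0))) (.nd (.nd (.lf 0x3) (.lf 0x4)) (.nd (.lf 0x1) (.lf 0))))) (.nd (.nd (.nd (.nd (.lf 0x5) (.lf 0x5)) (.nd (.lf 0x5) (.lf 0))) (.nd (.nd (.lf 0x3) (.lf 0x5)) (.nd (.lf 0x5) (.lf 0)))) (.nd (.nd (.nd (.lf 0x5) (.lf 0x4)) (.nd (.lf 0x4) (.lf 0))) (.nd (.nd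 (.lf 0x4) (.lf 0x4)) (.nd (.lf 0x5) (.lf 0)))))) (.nd (.nd (.nd (.nd (.nd (.lf 0x6) (.lf 0x4)) (.nd (.lf 0x5) (.lf 0))) (.nd (.nd (.lf 0x6) (.lf 0x4)) (.nd (.lf 0x3) (.lf 0)))) (.nd (.nd (.nd (.lf 0x4) (.lf 0x5)) (.nd (.lf 0x3) (.lf 0))) (.nd (.nd (.lf 0x3) (.lf 0x5)) (.nd (.lf 0x4) (.lf 0))))) (.nd (.nd (.nd (.nd (.lf 0x5) (.lf 0x5)) (.nd (.lf 0x5) (.lf 0))) (.nd (.nd (.lf 0x5) (.lf 0x6)) (.nd (.lf 0x5) (.lf 0)))) (.nd (.nd (.nd (.lf 0x7) (.lf 0x4)) (.nd (.lf 0x1) (.lf 0))) (.nd (.nd (.lf 0x4) (.lf 0x5)) (.nd (.lf 0x1) (.lf 0))))))))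
def labT_nabaaaa : Tr := (.nd (.nd (.nd (.nd (.nd (.nd (.nd (.lf 0x2) (.lf 0x3)) (.nd (.lf 0x7) (.lf 0x3))) (.nd (.nd (.lf 0x3) (.lf 0x4)) (.nd (.lf 0x3) (.lf 0)))) (.nd (.nd (.nd (.lf 0x7) (.lf 0x5)) (.nd (.lf 0x6) (.lf 0))) (.nd (.nd (.lf 0x4) (.lf 0x5)) (.nd (.lf 0x4) (.lf 0))))) (.nd (.nd (.nd (.nd (.lf 0x5) (.lf 0x7)) (.nd (.lf 0x2) (.lf 0))) (.nd (.nd (.lf 0x3) (.lf 0x1)) (.nd (.lf 0x5) (.lf 0)))) (.nd (.nd (.nd (.lf 0x4) (.lf 0x4)) (.nd (.lf 0x5) (.lf 0))) (.nd (.nd (.lf 0x5) (.lf 0x4)) (.nd (.lf 0x5) (.lf 0)))))) (.nd (.nd (.nd (.nd (.nd (.lf 0x4) (.lf 0x7)) (.nd (.lf 0x1) (.lf 0))) (.nd (.nd (.lf 0x4) (.lf 0x5)) (.nd (.lf 0x6) (.lf 0)))) (.nd (.nd (.nd (.lf 0x4) (.lf 0x3)) (.nd (.lf 0x3) (.lf 0))) (.nd (.nd (.lf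 0x2) (.lf 0x1)) (.nd (.lf 0x1) (.lf 0))))) (.nd (.nd (.nd (.nd (.lf 0x3) (.lf 0x4)) (.nd (.lf 0x5) (.lf 0))) (.nd (.nd (.lf 0x4) (.lf 0x5)) (.nd (.lf 0x6) (.lf 0)))) (.nd (.nd (.nd (.lf 0x4) (.lf 0x5)) (.nd (.lf 0x3) (.lf 0))) (.nd (.nd (.lf 0x5) (.lf 0x5)) (.nd (.lf 0x6) (.lf 0))))))) (.nd (.nd (.nd (.nd (.nd (.nd (.lf 0x5) (.lf 0x1)) (.nd (.lf 0x4) (.lf 0))) (.nd (.nd (.lf 0x6) (.lf 0x5)) (.nd (.lf 0x5) (.lf 0)))) (.nd (.nd (.nd (.lf 0x5) (.lf 0x3)) (.nd (.lf 0x3) (.lf 0))) (.nd (.nd (.lf 0x6) (.lf 0x3)) (.nd (.lf 0x1) (.lf 0))))) (.nd (.nd (.nd (.nd (.lf 0x3) (.lf 0x4)) (.nd (.lf 0x4) (.lf 0))) (.nd (.nd (.lf 0x5) (.lf 0x5)) (.nd (.lf 0x6) (.lf 0)))) (.nd (.nd (.nd (.lf 0x5) (.lf 0x5)) (.nd (.lf 0x3) (.lf 0))) (.nd (.nd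 (.lf 0x5) (.lf 0x5)) (.nd (.lf 0x5) (.lf 0)))))) (.nd (.nd (.nd (.nd (.nd (.lf 0x4) (.lf 0x3)) (.nd (.lf 0x4) (.lf 0))) (.nd (.nd (.lf 0x5) (.lf 0x4)) (.nd (.lf 0x6) (.lf 0)))) (.nd (.nd (.nd (.lf 0x4) (.lf 0x5)) (.nd (.lf 0x5) (.lf 0))) (.nd (.nd (.lf 0x6) (.lf 0x5)) (.nd (.lf 0x5) (.lf 0))))) (.nd (.nd (.nd (.nd (.lf 0x6) (.lf 0x3)) (.nd (.lf 0x6) (.lf 0))) (.nd (.nd (.lf 0x1) (.lf 0x3)) (.nd (.lf 0x4) (.lf 0)))) (.nd (.nd (.nd (.lf 0x3) (.lf 0x6)) (.nd (.lf 0x4) (.lf 0))) (.nd (.nd (.lf 0x5) (.lf 0x5)) (.nd (.lf 0x3) (.lf 0))))))))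
def labT_nabaaab : Tr := (.nd (.nd (.nd (.nd (.nd (.nd (.nd (.lf 0x4) (.lf 0x4)) (.nd (.lf 0x5) (.lf 0))) (.nd (.nd (.lf 0x1) (.lf 0x3)) (.nd (.lf 0x5) (.lf 0)))) (.nd (.nd (.nd (.lf 0x5) (.lf 0x3)) (.nd (.lf 0x3) (.lf 0))) (.nd (.nd (.lf 0x3) (.lf 0x4)) (.nd (.lf 0x5) (.lf 0))))) (.nd (.nd (.nd (.nd (.lf 0x5) (.lf 0x5)) (.nd (.lf 0x4) (.lf 0))) (.nd (.nd (.lf 0x6) (.lf 0x3)) (.nd (.lf 0x4) (.lf 0)))) (.nd (.nd (.nd (.lf 0x6) (.lf 0x5)) (.nd (.lf 0x1) (.lf 0))) (.nd (.nd (.lf 0x5) (.lf 0x4)) (.nd (.lf 0x7) (.lf 0)))))) (.nd (.nd (.nd (.nd (.nd (.lf 0x1) (.lf 0x4)) (.nd (.lf 0x3) (.lf 0))) (.nd (.nd (.lf 0x3) (.lf 0x5)) (.nd (.lf 0x3) (.lf 0)))) (.nd (.nd (.nd (.lf 0x4) (.lf 0x5)) (.nd (.lf 0x5) (.lf 0))) (.nd (.nd (.lf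 0x1) (.lf 0x4)) (.nd (.lf 0x4) (.lf 0))))) (.nd (.nd (.nd (.nd (.lf 0x5) (.lf 0x5)) (.nd (.lf 0x5) (.lf 0))) (.nd (.nd (.lf 0x4) (.lf 0x5)) (.nd (.lf 0x3) (.lf 0)))) (.nd (.nd (.nd (.lf 0x5) (.lf 0x3)) (.nd (.lf 0x5) (.lf 0))) (.nd (.nd (.lf 0x5) (.lf 0x5)) (.nd (.lf 0x1) (.lf 0))))))) (.nd (.nd (.nd (.nd (.nd (.nd (.lf 0x5) (.lf 0x5)) (.nd (.lf 0x4) (.lf 0))) (.nd (.nd (.lf 0x5) (.lf 0x4)) (.nd (.lf 0x6) (.lf 0)))) (.nd (.nd (.nd (.lf 0x4) (.lf 0x6)) (.nd (.lf 0x1) (.lf 0))) (.nd (.nd (.lf 0x6) (.lf 0x6)) (.nd (.lf 0x1) (.lf 0))))) (.nd (.nd (.nd (.nd (.lf 0x5) (.lf 0x4)) (.nd (.lf 0x3) (.lf 0))) (.nd (.nd (.lf 0x3) (.lf 0x1)) (.nd (.lf 0x4) (.lf 0)))) (.nd (.nd (.nd (.lf 0x5) (.lf 0x6)) (.nd (.lf 0x3) (.lf 0))) (.nd (.nd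 (.lf 0x6) (.lf 0x3)) (.nd (.lf 0x5) (.lf 0)))))) (.nd (.nd (.nd (.nd (.nd (.lf 0x3) (.lf 0x4)) (.nd (.lf 0x5) (.lf 0))) (.nd (.nd (.lf 0x6) (.lf 0x5)) (.nd (.lf 0x5) (.lf 0)))) (.nd (.nd (.nd (.lf 0x5) (.lf 0x4)) (.nd (.lf 0x1) (.lf 0))) (.nd (.nd (.lf 0x3) (.lf 0x5)) (.nd (.lf 0x3) (.lf 0))))) (.nd (.nd (.nd (.nd (.lf 0x6) (.lf 0x2)) (.nd (.lf 0x5) (.lf 0))) (.nd (.nd (.lf 0x1) (.lf 0x1)) (.nd (.lf 0x1) (.lf 0)))) (.nd (.nd (.nd (.lf 0x3) (.lf 0x5)) (.nd (.lf 0x5) (.lf 0))) (.nd (.nd (.lf 0x5) (.lf 0x5)) (.nd (.lf 0x5) (.lf 0))))))))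
def labT_nabaaba : Tr := (.nd (.nd (.nd (.nd (.nd (.nd (.nd (.lf 0x5) (.lf 0x1)) (.nd (.lf 0x4) (.lf 0))) (.nd (.nd (.lf 0x5) (.lf 0x4)) (.nd (.lf 0x6) (.lf 0)))) (.nd (.nd (.nd (.lf 0x1) (.lf 0x1)) (.nd (.lf 0x5) (.lf 0))) (.nd (.nd (.lf 0x5) (.lf 0x5)) (.nd (.lf 0x5) (.lf 0))))) (.nd (.nd (.nd (.nd (.lf 0x6) (.lf 0x5)) (.nd (.lf 0x5) (.lf 0))) (.nd (.nd (.lf 0x3) (.lf 0x1)) (.nd (.lf 0x5) (.lf 0)))) (.nd (.nd (.nd (.lf 0x3) (.lf 0x5)) (.nd (.lf 0x3) (.lf 0))) (.nd (.nd (.lf 0x3) (.lf 0x1)) (.nd (.lf 0x5) (.lf 0)))))) (.nd (.nd (.nd (.nd (.nd (.lf 0x5) (.lf 0x5)) (.nd (.lf 0x3) (.lf 0))) (.nd (.nd (.lf 0x5) (.lf 0x4)) (.nd (.lf 0x5) (.lf 0)))) (.nd (.nd (.nd (.lf 0x5) (.lf 0x5)) (.nd (.lf 0x4) (.lf 0))) (.nd (.nd (.lf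 0x3) (.lf 0x5)) (.nd (.lf 0x5) (.lf 0))))) (.nd (.nd (.nd (.nd (.lf 0x3) (.lf 0x3)) (.nd (.lf 0x3) (.lf 0))) (.nd (.nd (.lf 0x1) (.lf 0x3)) (.nd (.lf 0x4) (.lf 0)))) (.nd (.nd (.nd (.lf 0x4) (.lf 0x4)) (.nd (.lf 0x6) (.lf 0))) (.nd (.nd (.lf 0x4) (.lf 0x5)) (.nd (.lf 0x5) (.lf 0))))))) (.nd (.nd (.nd (.nd (.nd (.nd (.lf 0x4) (.lf 0x4)) (.nd (.lf 0x3) (.lf 0))) (.nd (.nd (.lf 0x3) (.lf 0x4)) (.nd (.lf 0x4) (.lf 0)))) (.nd (.nd (.nd (.lf 0x4) (.lf 0x5)) (.nd (.lf 0x6) (.lf 0))) (.nd (.nd (.lf 0x3) (.lf 0x5)) (.nd (.lf 0x5) (.lf 0))))) (.nd (.nd (.nd (.nd (.lf 0x6) (.lf 0x4)) (.nd (.lf 0x4) (.lf 0))) (.nd (.nd (.lf 0x4) (.lf 0x4)) (.nd (.lf 0x6) (.lf 0)))) (.nd (.nd (.nd (.lf 0x5) (.lf 0x4)) (.nd (.lf 0x4) (.lf 0))) (.nd (.nd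 (.lf 0x5) (.lf 0x5)) (.nd (.lf 0x5) (.lf 0)))))) (.nd (.nd (.nd (.nd (.nd (.lf 0x4) (.lf 0x1)) (.nd (.lf 0x4) (.lf 0))) (.nd (.nd (.lf 0x4) (.lf 0x4)) (.nd (.lf 0x4) (.lf 0)))) (.nd (.nd (.nd (.lf 0x5) (.lf 0x5)) (.nd (.lf 0x5) (.lf 0))) (.nd (.nd (.lf 0x1) (.lf 0x4)) (.nd (.lf 0x5) (.lf 0))))) (.nd (.nd (.nd (.nd (.lf 0x6) (.lf 0x4)) (.nd (.lf 0x4) (.lf 0))) (.nd (.nd (.lf 0x5) (.lf 0x3)) (.nd (.lf 0x5) (.lf 0)))) (.nd (.nd (.nd (.lf 0x1) (.lf 0x3)) (.nd (.lf 0x3) (.lf 0))) (.nd (.nd (.lf 0x5) (.lf 0x6)) (.nd (.lf 0x4) (.lf 0))))))))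
def labT_nabaabb : Tr := (.nd (.nd (.nd (.nd (.nd (.nd (.nd (.lf 0x4) (.lf 0x5)) (.nd (.lf 0x3) (.lf 0))) (.nd (.nd (.lf 0x4) (.lf 0x5)) (.nd (.lf 0x5) (.lf 0)))) (.nd (.nd (.nd (.lf 0x6) (.lf 0x3)) (.nd (.lf 0x5) (.lf 0))) (.nd (.nd (.lf 0x1) (.lf 0x5)) (.nd (.lf 0x5) (.lf 0))))) (.nd (.nd (.nd (.nd (.lf 0x5) (.lf 0x6)) (.nd (.lf 0x5) (.lf 0))) (.nd (.nd (.lf 0x5) (.lf 0x3)) (.nd (.lf 0x7) (.lf 0)))) (.nd (.nd (.nd (.lf 0x4) (.lf 0x3)) (.nd (.lf 0x1) (.lf 0))) (.nd (.nd (.lf 0x4) (.lf 0x4)) (.nd (.lf 0x1) (.lf 0)))))) (.nd (.nd (.nd (.nd (.nd (.lf 0x1) (.lf 0x5)) (.nd (.lf 0x6) (.lf 0))) (.nd (.nd (.lf 0x3) (.lf 0x5)) (.nd (.lf 0x5) (.lf 0)))) (.nd (.nd (.nd (.lf 0x4) (.lf 0x5)) (.nd (.lf 0x6) (.lf 0))) (.nd (.nd (.lf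 0x5) (.lf 0x5)) (.nd (.lf 0x4) (.lf 0))))) (.nd (.nd (.nd (.nd (.lf 0x5) (.lf 0x6)) (.nd (.lf 0x1) (.lf 0))) (.nd (.nd (.lf 0x3) (.lf 0x4)) (.nd (.lf 0x5) (.lf 0)))) (.nd (.nd (.nd (.lf 0x4) (.lf 0x1)) (.nd (.lf 0x4) (.lf 0))) (.nd (.nd (.lf 0x4) (.lf 0x7)) (.nd (.lf 0x4) (.lf 0))))))) (.nd (.nd (.nd (.nd (.nd (.nd (.lf 0x5) (.lf 0x4)) (.nd (.lf 0x5) (.lf 0))) (.nd (.nd (.lf 0x5) (.lf 0x4)) (.nd (.lf 0x5) (.lf 0)))) (.nd (.nd (.nd (.lf 0x1) (.lf 0x1)) (.nd (.lf 0x4) (.lf 0))) (.nd (.nd (.lf 0x5) (.lf 0x4)) (.nd (.lf 0x5) (.lf 0))))) (.nd (.nd (.nd (.nd (.lf 0x5) (.lf 0x1)) (.nd (.lf 0x3) (.lf 0))) (.nd (.nd (.lf 0x4) (.lf 0x5)) (.nd (.lf 0x5) (.lf 0)))) (.nd (.nd (.nd (.lf 0x4) (.lf 0x5)) (.nd (.lf 0x3) (.lf 0))) (.nd (.nd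 (.lf 0x5) (.lf 0x4)) (.nd (.lf 0x5) (.lf 0)))))) (.nd (.nd (.nd (.nd (.nd (.lf 0x1) (.lf 0x3)) (.nd (.lf 0x5) (.lf 0))) (.nd (.nd (.lf 0x1) (.lf 0x4)) (.nd (.lf 0x5) (.lf 0)))) (.nd (.nd (.nd (.lf 0x1) (.lf 0x1)) (.nd (.lf 0x4) (.lf 0))) (.nd (.nd (.lf 0x6) (.lf 0x1)) (.nd (.lf 0x3) (.lf 0))))) (.nd (.nd (.nd (.nd (.lf 0x7) (.lf 0x5)) (.nd (.lf 0x3) (.lf 0))) (.nd (.nd (.lf 0x1) (.lf 0x1)) (.nd (.lf 0x5) (.lf 0)))) (.nd (.nd (.nd (.lf 0x4) (.lf 0x5)) (.nd (.lf 0x4) (.lf 0))) (.nd (.nd (.lf 0x6) (.lf 0x2)) (.nd (.lf 0x3) (.lf 0))))))))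
def labT_nababaa : Tr := (.nd (.nd (.nd (.nd (.nd (.nd (.nd (.lf 0x6) (.lf 0x4)) (.nd (.lf 0x5) (.lf 0x3))) (.nd (.nd (.lf 0x5) (.lf 0x4)) (.nd (.lf 0x4) (.lf 0)))) (.nd (.nd (.nd (.lf 0x4) (.lf 0x6)) (.nd (.lf 0x3) (.lf 0))) (.nd (.nd (.lf 0x5) (.lf 0x5)) (.nd (.lf 0x3) (.lf 0))))) (.nd (.nd (.nd (.nd (.lf 0x3) (.lf 0x5)) (.nd (.lf 0x5) (.lf 0))) (.nd (.nd (.lf 0x3) (.lf 0x1)) (.nd (.lf 0x4) (.lf 0)))) (.nd (.nd (.nd (.lf 0x4) (.lf 0x6)) (.nd (.lf 0x4) (.lf 0))) (.nd (.nd (.lf 0x4) (.lf 0x3)) (.nd (.lf 0x5) (.lf 0)))))) (.nd (.nd (.nd (.nd (.nd (.lf 0x4) (.lf 0x3)) (.nd (.lf 0x5) (.lf 0))) (.nd (.nd (.lf 0x3) (.lf 0x5)) (.nd (.lf 0x5) (.lf 0)))) (.nd (.nd (.nd (.lf 0x2) (.lf 0x6)) (.nd (.lf 0x3) (.lf 0))) (.nd (.nd (.lf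 0x6) (.lf 0x4)) (.nd (.lf 0x3) (.lf 0))))) (.nd (.nd (.nd (.nd (.lf 0x4) (.lf 0x1)) (.nd (.lf 0x5) (.lf 0))) (.nd (.nd (.lf 0x2) (.lf 0x5)) (.nd (.lf 0x3) (.lf 0)))) (.nd (.nd (.nd (.lf 0x3) (.lf 0x3)) (.nd (.lf 0x3) (.lf 0))) (.nd (.nd (.lf 0x5) (.lf 0x4)) (.nd (.lf 0x4) (.lf 0))))))) (.nd (.nd (.nd (.nd (.nd (.nd (.lf 0x5) (.lf 0x6)) (.nd (.lf 0x4) (.lf 0))) (.nd (.nd (.lf 0x4) (.lf 0x4)) (.nd (.lf 0x5) (.lf 0)))) (.nd (.nd (.nd (.lf 0x3) (.lf 0x4)) (.nd (.lf 0x5) (.lf 0))) (.nd (.nd (.lf 0x6) (.lf 0x6)) (.nd (.lf 0x1) (.lf 0))))) (.nd (.nd (.nd (.nd (.lf 0x5) (.lf 0x3)) (.nd (.lf 0x4) (.lf 0))) (.nd (.nd (.lf 0x5) (.lf 0x6)) (.nd (.lf 0x3) (.lf 0)))) (.nd (.nd (.nd (.lf 0x3) (.lf 0x5)) (.nd (.lf 0x3) (.lf 0))) (.nd (.nd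 (.lf 0x4) (.lf 0x5)) (.nd (.lf 0x1) (.lf 0)))))) (.nd (.nd (.nd (.nd (.nd (.lf 0x5) (.lf 0x5)) (.nd (.lf 0x3) (.lf 0))) (.nd (.nd (.lf 0x4) (.lf 0x5)) (.nd (.lf 0x5) (.lf 0)))) (.nd (.nd (.nd (.lf 0x4) (.lf 0x4)) (.nd (.lf 0x4) (.lf 0))) (.nd (.nd (.lf 0x7) (.lf 0x4)) (.nd (.lf 0x3) (.lf 0))))) (.nd (.nd (.nd (.nd (.lf 0x4) (.lf 0x2)) (.nd (.lf 0x4) (.lf 0))) (.nd (.nd (.lf 0x5) (.lf 0x7)) (.nd (.lf 0x3) (.lf 0)))) (.nd (.nd (.nd (.lf 0x3) (.lf 0x3)) (.nd (.lf 0x2) (.lf 0))) (.nd (.nd (.lf 0x5) (.lf 0x3)) (.nd (.lf 0x4) (.lf 0))))))))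
def labT_nababab : Tr := (.nd (.nd (.nd (.nd (.nd (.nd (.nd (.lf 0x1) (.lf 0x3)) (.nd (.lf 0x5) (.lf 0))) (.nd (.nd (.lf 0x4) (.lf 0x5)) (.nd (.lf 0x1) (.lf 0)))) (.nd (.nd (.nd (.lf 0x3) (.lf 0x1)) (.nd (.lf 0x4) (.lf 0))) (.nd (.nd (.lf 0x3) (.lf 0x3)) (.nd (.lf 0x5) (.lf 0))))) (.nd (.nd (.nd (.nd (.lf 0x5) (.lf 0x5)) (.nd (.lf 0x5) (.lf 0))) (.nd (.nd (.lf 0x3) (.lf 0x3)) (.nd (.lf 0x3) (.lf 0)))) (.nd (.nd (.nd (.lf 0x3) (.lf 0x3)) (.nd (.lf 0x5) (.lf 0))) (.nd (.nd (.lf 0x3) (.lf 0x6)) (.nd (.lf 0x5) (.lf 0)))))) (.nd (.nd (.nd (.nd (.nd (.lf 0x7) (.lf 0x4)) (.nd (.lf 0x5) (.lf 0))) (.nd (.nd (.lf 0x4) (.lf 0x4)) (.nd (.lf 0x5) (.lf 0)))) (.nd (.nd (.nd (.lf 0x1) (.lf 0x5)) (.nd (.lf 0x1) (.lf 0))) (.nd (.nd (.lf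 0x6) (.lf 0x3)) (.nd (.lf 0x4) (.lf 0))))) (.nd (.nd (.nd (.nd (.lf 0x3) (.lf 0x3)) (.nd (.lf 0x3) (.lf 0))) (.nd (.nd (.lf 0x5) (.lf 0x5)) (.nd (.lf 0x3) (.lf 0)))) (.nd (.nd (.nd (.lf 0x3) (.lf 0x1)) (.nd (.lf 0x1) (.lf 0))) (.nd (.nd (.lf 0x5) (.lf 0x5)) (.nd (.lf 0x4) (.lf 0))))))) (.nd (.nd (.nd (.nd (.nd (.nd (.lf 0x4) (.lf 0x3)) (.nd (.lf 0x4) (.lf 0))) (.nd (.nd (.lf 0x1) (.lf 0x5)) (.nd (.lf 0x3) (.lf 0)))) (.nd (.nd (.nd (.lf 0x3) (.lf 0x5)) (.nd (.lf 0x3) (.lf 0))) (.nd (.nd (.lf 0x3) (.lf 0x6)) (.nd (.lf 0x7) (.lf 0))))) (.nd (.nd (.nd (.nd (.lf 0x4) (.lf 0x3)) (.nd (.lf 0x1) (.lf 0))) (.nd (.nd (.lf 0x3) (.lf 0x6)) (.nd (.lf 0x1) (.lf 0)))) (.nd (.nd (.nd (.lf 0x1) (.lf 0x3)) (.nd (.lf 0x5) (.lf 0))) (.nd (.nd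 (.lf 0x5) (.lf 0x4)) (.nd (.lf 0x1) (.lf 0)))))) (.nd (.nd (.nd (.nd (.nd (.lf 0x5) (.lf 0x1)) (.nd (.lf 0x1) (.lf 0))) (.nd (.nd (.lf 0x6) (.lf 0x6)) (.nd (.lf 0x6) (.lf 0)))) (.nd (.nd (.nd (.lf 0x5) (.lf 0x5)) (.nd (.lf 0x6) (.lf 0))) (.nd (.nd (.lf 0x3) (.lf 0x4)) (.nd (.lf 0x3) (.lf 0))))) (.nd (.nd (.nd (.nd (.lf 0x4) (.lf 0x6)) (.nd (.lf 0x1) (.lf 0))) (.nd (.nd (.lf 0x4) (.lf 0x4)) (.nd (.lf 0x4) (.lf 0)))) (.nd (.nd (.nd (.lf 0x6) (.lf 0x6)) (.nd (.lf 0x3) (.lf 0))) (.nd (.nd (.lf 0x5) (.lf 0x4)) (.nd (.lf 0x1) (.lf 0))))))))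
def labT_nababba : Tr := (.nd (.nd (.nd (.nd (.nd (.nd (.nd (.lf 0x1) (.lf 0x3)) (.nd (.lf 0x5) (.lf 0))) (.nd (.nd (.lf 0x4) (.lf 0x1)) (.nd (.lf 0x3) (.lf 0)))) (.nd (.nd (.nd (.lf 0x7) (.lf 0x6)) (.nd (.lf 0x5) (.lf 0))) (.nd (.nd (.lf 0x5) (.lf 0x3)) (.nd (.lf 0x4) (.lf 0))))) (.nd (.nd (.nd (.nd (.lf 0x5) (.lf 0x5)) (.nd (.lf 0x4) (.lf 0))) (.nd (.nd (.lf 0x4) (.lf 0x5)) (.nd (.lf 0x5) (.lf 0)))) (.nd (.nd (.nd (.lf 0x6) (.lf 0x5)) (.nd (.lf 0x3) (.lf 0))) (.nd (.nd (.lf 0x1) (.lf 0x3)) (.nd (.lf 0x5) (.lf 0)))))) (.nd (.nd (.nd (.nd (.nd (.lf 0x5) (.lf 0x3)) (.nd (.lf 0x6) (.lf 0))) (.nd (.nd (.lf 0x5) (.lf 0x3)) (.nd (.lf 0x3) (.lf 0)))) (.nd (.nd (.nd (.lf 0x4) (.lf 0x1)) (.nd (.lf 0x4) (.lf 0))) (.nd (.nd (.lf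 0x5) (.lf 0x1)) (.nd (.lf 0x3) (.lf 0))))) (.nd (.nd (.nd (.nd (.lf 0x1) (.lf 0x6)) (.nd (.lf 0x5) (.lf 0))) (.nd (.nd (.lf 0x5) (.lf 0x5)) (.nd (.lf 0x3) (.lf 0)))) (.nd (.nd (.nd (.lf 0x5) (.lf 0x6)) (.nd (.lf 0x4) (.lf 0))) (.nd (.nd (.lf 0x3) (.lf 0x7)) (.nd (.lf 0x1) (.lf 0))))))) (.nd (.nd (.nd (.nd (.nd (.nd (.lf 0x3) (.lf 0x6)) (.nd (.lf 0x6) (.lf 0))) (.nd (.nd (.lf 0x4) (.lf 0x1)) (.nd (.lf 0x5) (.lf 0)))) (.nd (.nd (.nd (.lf 0x5) (.lf 0x4)) (.nd (.lf 0x5) (.lf 0))) (.nd (.nd (.lf 0x5) (.lf 0x3)) (.nd (.lf 0x5) (.lf 0))))) (.nd (.nd (.nd (.nd (.lf 0x6) (.lf 0x3)) (.nd (.lf 0x5) (.lf 0))) (.nd (.nd (.lf 0x3) (.lf 0x5)) (.nd (.lf 0x3) (.lf 0)))) (.nd (.nd (.nd (.lf 0x3) (.lf 0x3)) (.nd (.lf 0x5) (.lf 0))) (.nd (.nd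 (.lf 0x1) (.lf 0x3)) (.nd (.lf 0x3) (.lf 0)))))) (.nd (.nd (.nd (.nd (.nd (.lf 0x5) (.lf 0x4)) (.nd (.lf 0x5) (.lf 0))) (.nd (.nd (.lf 0x5) (.lf 0x6)) (.nd (.lf 0x3) (.lf 0)))) (.nd (.nd (.nd (.lf 0x5) (.lf 0x4)) (.nd (.lf 0x5) (.lf 0))) (.nd (.nd (.lf 0x4) (.lf 0x4)) (.nd (.lf 0x5) (.lf 0))))) (.nd (.nd (.nd (.nd (.lf 0x3) (.lf 0x1)) (.nd (.lf 0x5) (.lf 0))) (.nd (.nd (.lf 0x3) (.lf 0x3)) (.nd (.lf 0x3) (.lf 0)))) (.nd (.nd (.nd (.lf 0x2) (.lf 0x5)) (.nd (.lf 0x4) (.lf 0))) (.nd (.nd (.lf 0x1) (.lf 0x6)) (.nd (.lf 0x6) (.lf 0))))))))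
def labT_nababbb : Tr := (.nd (.nd (.nd (.nd (.nd (.nd (.nd (.lf 0x2) (.lf 0x5)) (.nd (.lf 0x5) (.lf 0))) (.nd (.nd (.lf 0x1) (.lf 0x5)) (.nd (.lf 0x4) (.lf 0)))) (.nd (.nd (.nd (.lf 0x5) (.lf 0x3)) (.nd (.lf 0x5) (.lf 0))) (.nd (.nd (.lf 0x5) (.lf 0x5)) (.nd (.lf 0x1) (.lf 0))))) (.nd (.nd (.nd (.nd (.lf 0x3) (.lf 0x3)) (.nd (.lf 0x5) (.lf 0))) (.nd (.nd (.lf 0x3) (.lf 0x4)) (.nd (.lf 0x5) (.lf 0)))) (.nd (.nd (.nd (.lf 0x4) (.lf 0x5)) (.nd (.lf 0x6) (.lf 0))) (.nd (.nd (.lf 0x6) (.lf 0x4)) (.nd (.lf 0x2) (.lf 0)))))) (.nd (.nd (.nd (.nd (.nd (.lf 0x4) (.lf 0x3)) (.nd (.lf 0x1) (.lf 0))) (.nd (.nd (.lf 0x4) (.lf 0x3)) (.nd (.lf 0x5) (.lf 0)))) (.nd (.nd (.nd (.lf 0x5) (.lf 0x4)) (.nd (.lf 0x5) (.lf 0))) (.nd (.nd (.lf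 0x5) (.lf 0x3)) (.nd (.lf 0x3) (.lf 0))))) (.nd (.nd (.nd (.nd (.lf 0x4) (.lf 0x3)) (.nd (.lf 0x6) (.lf 0))) (.nd (.nd (.lf 0x1) (.lf 0x1)) (.nd (.lf 0x6) (.lf 0)))) (.nd (.nd (.nd (.lf 0x5) (.lf 0x1)) (.nd (.lf 0x4) (.lf 0))) (.nd (.nd (.lf 0x5) (.lf 0x4)) (.nd (.lf 0x3) (.lf 0))))))) (.nd (.nd (.nd (.nd (.nd (.nd (.lf 0x5) (.lf 0x4)) (.nd (.lf 0x3) (.lf 0))) (.nd (.nd (.lf 0x3) (.lf 0x3)) (.nd (.lf 0x4) (.lf 0)))) (.nd (.nd (.nd (.lf 0x4) (.lf 0x2)) (.nd (.lf 0x5) (.lf 0))) (.nd (.nd (.lf 0x3) (.lf 0x4)) (.nd (.lf 0x3) (.lf 0))))) (.nd (.nd (.nd (.nd (.lf 0x5) (.lf 0x7)) (.nd (.lf 0x4) (.lf 0))) (.nd (.nd (.lf 0x5) (.lf 0x4)) (.nd (.lf 0x1) (.lf 0)))) (.nd (.nd (.nd (.lf 0x4) (.lf 0x3)) (.nd (.lf 0x3) (.lf 0))) (.nd (.nd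 (.lf 0x5) (.lf 0x5)) (.nd (.lf 0x4) (.lf 0)))))) (.nd (.nd (.nd (.nd (.nd (.lf 0x5) (.lf 0x5)) (.nd (.lf 0x5) (.lf 0))) (.nd (.nd (.lf 0x5) (.lf 0x5)) (.nd (.lf 0x5) (.lf 0)))) (.nd (.nd (.nd (.lf 0x5) (.lf 0x6)) (.nd (.lf 0x3) (.lf 0))) (.nd (.nd (.lf 0x5) (.lf 0x3)) (.nd (.lf 0x5) (.lf 0))))) (.nd (.nd (.nd (.nd (.lf 0x3) (.lf 0x3)) (.nd (.lf 0x6) (.lf 0))) (.nd (.nd (.lf 0x3) (.lf 0x1)) (.nd (.lf 0x1) (.lf 0)))) (.nd (.nd (.nd (.lf 0x5) (.lf 0x3)) (.nd (.lf 0x5) (.lf 0))) (.nd (.nd (.lf 0x3) (.lf 0x4)) (.nd (.lf 0x4) (.lf 0))))))))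
def labT_nabbaaa : Tr := (.nd (.nd (.nd (.nd (.nd (.nd (.nd (.lf 0x1) (.lf 0x5)) (.nd (.lf 0x4) (.lf 0x5))) (.nd (.nd (.lf 0x3) (.lf 0x1)) (.nd (.lf 0x4) (.lf 0)))) (.nd (.nd (.nd (.lf 0x5) (.lf 0x3)) (.nd (.lf 0x5) (.lf 0))) (.nd (.nd (.lf 0x3) (.lf 0x5)) (.nd (.lf 0x4) (.lf 0))))) (.nd (.nd (.nd (.nd (.lf 0x4) (.lf 0x5)) (.nd (.lf 0x6) (.lf 0))) (.nd (.nd (.lf 0x3) (.lf 0x3)) (.nd (.lf 0x3) (.lf 0)))) (.nd (.nd (.nd (.lf 0x6) (.lf 0x3)) (.nd (.lf 0x7) (.lf 0))) (.nd (.nd (.lf 0x4) (.lf 0x4)) (.nd (.lf 0x5) (.lf 0)))))) (.nd (.nd (.nd (.nd (.nd (.lf 0x5) (.lf 0x3)) (.nd (.lf 0x4) (.lf 0))) (.nd (.nd (.lf 0x6) (.lf 0x3)) (.nd (.lf 0x3) (.lf 0)))) (.nd (.nd (.nd (.lf 0x3) (.lf 0x4)) (.nd (.lf 0x3) (.lf 0))) (.nd (.nd (.lf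 0x3) (.lf 0x5)) (.nd (.lf 0x4) (.lf 0))))) (.nd (.nd (.nd (.nd (.lf 0x5) (.lf 0x5)) (.nd (.lf 0x5) (.lf 0))) (.nd (.nd (.lf 0x4) (.lf 0x3)) (.nd (.lf 0x4) (.lf 0)))) (.nd (.nd (.nd (.lf 0x6) (.lf 0x4)) (.nd (.lf 0x3) (.lf 0))) (.nd (.nd (.lf 0x5) (.lf 0x3)) (.nd (.lf 0x5) (.lf 0))))))) (.nd (.nd (.nd (.nd (.nd (.nd (.lf 0x5) (.lf 0x5)) (.nd (.lf 0x5) (.lf 0))) (.nd (.nd (.lf 0x5) (.lf 0x5)) (.nd (.lf 0x5) (.lf 0)))) (.nd (.nd (.nd (.lf 0x4) (.lf 0x3)) (.nd (.lf 0x3) (.lf 0))) (.nd (.nd (.lf 0x2) (.lf 0x3)) (.nd (.lf 0x5) (.lf 0))))) (.nd (.nd (.nd (.nd (.lf 0x4) (.lf 0x3)) (.nd (.lf 0x5) (.lf 0))) (.nd (.nd (.lf 0x3) (.lf 0x1)) (.nd (.lf 0x3) (.lf 0)))) (.nd (.nd (.nd (.lf 0x2) (.lf 0x5)) (.nd (.lf 0x5) (.lf 0))) (.nd (.nd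 (.lf 0x5) (.lf 0x3)) (.nd (.lf 0x3) (.lf 0)))))) (.nd (.nd (.nd (.nd (.nd (.lf 0x6) (.lf 0x4)) (.nd (.lf 0x4) (.lf 0))) (.nd (.nd (.lf 0x3) (.lf 0x7)) (.nd (.lf 0x3) (.lf 0)))) (.nd (.nd (.nd (.lf 0x5) (.lf 0x3)) (.nd (.lf 0x5) (.lf 0))) (.nd (.nd (.lf 0x4) (.lf 0x5)) (.nd (.lf 0x3) (.lf 0))))) (.nd (.nd (.nd (.nd (.lf 0x3) (.lf 0x5)) (.nd (.lf 0x3) (.lf 0))) (.nd (.nd (.lf 0x5) (.lf 0x4)) (.nd (.lf 0x5) (.lf 0)))) (.nd (.nd (.nd (.lf 0x5) (.lf 0x5)) (.nd (.lf 0x6) (.lf 0))) (.nd (.nd (.lf 0x4) (.lf 0x6)) (.nd (.lf 0x5) (.lf 0))))))))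
def labT_nabbaab : Tr := (.nd (.nd (.nd (.nd (.nd (.nd (.nd (.lf 0x6) (.lf 0x5)) (.nd (.lf 0x5) (.lf 0))) (.nd (.nd (.lf 0x3) (.lf 0x3)) (.nd (.lf 0x5) (.lf 0)))) (.nd (.nd (.nd (.lf 0x4) (.lf 0x3)) (.nd (.lf 0x5) (.lf 0))) (.nd (.nd (.lf 0x3) (.lf 0x4)) (.nd (.lf 0x5) (.lf 0))))) (.nd (.nd (.nd (.nd (.lf 0x1) (.lf 0x3)) (.nd (.lf 0x7) (.lf 0))) (.nd (.nd (.lf 0x1) (.lf 0x3)) (.nd (.lf 0x1) (.lf 0)))) (.nd (.nd (.nd (.lf 0x5) (.lf 0x5)) (.nd (.lf 0x3) (.lf 0))) (.nd (.nd (.lf 0x5) (.lf 0x6)) (.nd (.lf 0x3) (.lf 0)))))) (.nd (.nd (.nd (.nd (.nd (.lf 0x4) (.lf 0x4)) (.nd (.lf 0x1) (.lf 0))) (.nd (.nd (.lf 0x1) (.lf 0x3)) (.nd (.lf 0x4) (.lf 0)))) (.nd (.nd (.nd (.lf 0x3) (.lf 0x7)) (.nd (.lf 0x6) (.lf 0))) (.nd (.nd (.lf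 0x1) (.lf 0x3)) (.nd (.lf 0x5) (.lf 0))))) (.nd (.nd (.nd (.nd (.lf 0x6) (.lf 0x4)) (.nd (.lf 0x5) (.lf 0))) (.nd (.nd (.lf 0x1) (.lf 0x1)) (.nd (.lf 0x7) (.lf 0)))) (.nd (.nd (.nd (.lf 0x5) (.lf 0x4)) (.nd (.lf 0x3) (.lf 0))) (.nd (.nd (.lf 0x3) (.lf 0x4)) (.nd (.lf 0x3) (.lf 0))))))) (.nd (.nd (.nd (.nd (.nd (.nd (.lf 0x4) (.lf 0x4)) (.nd (.lf 0x5) (.lf 0))) (.nd (.nd (.lf 0x3) (.lf 0x5)) (.nd (.lf 0x1) (.lf 0)))) (.nd (.nd (.nd (.lf 0x7) (.lf 0x3)) (.nd (.lf 0x3) (.lf 0))) (.nd (.nd (.lf 0x4) (.lf 0x3)) (.nd (.lf 0x5) (.lf 0))))) (.nd (.nd (.nd (.nd (.lf 0x5) (.lf 0x3)) (.nd (.lf 0x4) (.lf 0))) (.nd (.nd (.lf 0x3) (.lf 0x1)) (.nd (.lf 0x5) (.lf 0)))) (.nd (.nd (.nd (.lf 0x3) (.lf 0x5)) (.nd (.lf 0x5) (.lf 0))) (.nd (.nd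 (.lf 0x1) (.lf 0x3)) (.nd (.lf 0x1) (.lf 0)))))) (.nd (.nd (.nd (.nd (.nd (.lf 0x5) (.lf 0x4)) (.nd (.lf 0x4) (.lf 0))) (.nd (.nd (.lf 0x1) (.lf 0x7)) (.nd (.lf 0x4) (.lf 0)))) (.nd (.nd (.nd (.lf 0x5) (.lf 0x4)) (.nd (.lf 0x1) (.lf 0))) (.nd (.nd (.lf 0x7) (.lf 0x4)) (.nd (.lf 0x4) (.lf 0))))) (.nd (.nd (.nd (.nd (.lf 0x5) (.lf 0x4)) (.nd (.lf 0x4) (.lf 0))) (.nd (.nd (.lf 0x5) (.lf 0x4)) (.nd (.lf 0x1) (.lf 0)))) (.nd (.nd (.nd (.lf 0x3) (.lf 0x5)) (.nd (.lf 0x5) (.lf 0))) (.nd (.nd (.lf 0x5) (.lf 0x5)) (.nd (.lf 0x4) (.lf 0))))))))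
def labT_nabbaba : Tr := (.nd (.nd (.nd (.nd (.nd (.nd (.nd (.lf 0x5) (.lf 0x3)) (.nd (.lf 0x3) (.lf 0))) (.nd (.nd (.lf 0x6) (.lf 0x5)) (.nd (.lf 0x3) (.lf 0)))) (.nd (.nd (.nd (.lf 0x4) (.lf 0x3)) (.nd (.lf 0x3) (.lf 0))) (.nd (.nd (.lf 0x6) (.lf 0x4)) (.nd (.lf 0x5) (.lf 0))))) (.nd (.nd (.nd (.nd (.lf 0x3) (.lf 0x6)) (.nd (.lf 0x4) (.lf 0))) (.nd (.nd (.lf 0x3) (.lf 0x4)) (.nd (.lf 0x4) (.lf 0)))) (.nd (.nd (.nd (.lf 0x3) (.lf 0x1)) (.nd (.lf 0x4) (.lf 0))) (.nd (.nd (.lf 0x5) (.lf 0x3)) (.nd (.lf 0x3) (.lf 0)))))) (.nd (.nd (.nd (.nd (.nd (.lf 0x3) (.lf 0x1)) (.nd (.lf 0x5) (.lf 0))) (.nd (.nd (.lf 0x1) (.lf 0x4)) (.nd (.lf 0x1) (.lf 0)))) (.nd (.nd (.nd (.lf 0x3) (.lf 0x5)) (.nd (.lf 0x4) (.lf 0))) (.nd (.nd (.lf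 0x1) (.lf 0x4)) (.nd (.lf 0x3) (.lf 0))))) (.nd (.nd (.nd (.nd (.lf 0x4) (.lf 0x5)) (.nd (.lf 0x4) (.lf 0))) (.nd (.nd (.lf 0x1) (.lf 0x4)) (.nd (.lf 0x4) (.lf 0)))) (.nd (.nd (.nd (.lf 0x3) (.lf 0x3)) (.nd (.lf 0x5) (.lf 0))) (.nd (.nd (.lf 0x4) (.lf 0x4)) (.nd (.lf 0x4) (.lf 0))))))) (.nd (.nd (.nd (.nd (.nd (.nd (.lf 0x6) (.lf 0x2)) (.nd (.lf 0x3) (.lf 0))) (.nd (.nd (.lf 0x6) (.lf 0x4)) (.nd (.lf 0x5) (.lf 0)))) (.nd (.nd (.nd (.lf 0x3) (.lf 0x4)) (.nd (.lf 0x5) (.lf 0))) (.nd (.nd (.lf 0x3) (.lf 0x5)) (.nd (.lf 0x5) (.lf 0))))) (.nd (.nd (.nd (.nd (.lf 0x3) (.lf 0x3)) (.nd (.lf 0x3) (.lf 0))) (.nd (.nd (.lf 0x3) (.lf 0x4)) (.nd (.lf 0x3) (.lf 0)))) (.nd (.nd (.nd (.lf 0x5) (.lf 0x1)) (.nd (.lf 0x5) (.lf 0))) (.nd (.nd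 (.lf 0x2) (.lf 0x3)) (.nd (.lf 0x5) (.lf 0)))))) (.nd (.nd (.nd (.nd (.nd (.lf 0x5) (.lf 0x7)) (.nd (.lf 0x4) (.lf 0))) (.nd (.nd (.lf 0x4) (.lf 0x6)) (.nd (.lf 0x1) (.lf 0)))) (.nd (.nd (.nd (.lf 0x3) (.lf 0x4)) (.nd (.lf 0x7) (.lf 0))) (.nd (.nd (.lf 0x3) (.lf 0x4)) (.nd (.lf 0x3) (.lf 0))))) (.nd (.nd (.nd (.nd (.lf 0x1) (.lf 0x4)) (.nd (.lf 0x5) (.lf 0))) (.nd (.nd (.lf 0x1) (.lf 0x5)) (.nd (.lf 0x3) (.lf 0)))) (.nd (.nd (.nd (.lf 0x4) (.lf 0x5)) (.nd (.lf 0x3) (.lf 0))) (.nd (.nd (.lf 0x5) (.lf 0x4)) (.nd (.lf 0x5) (.lf 0))))))))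
def labT_nabbabb : Tr := (.nd (.nd (.nd (.nd (.nd (.nd (.nd (.lf 0x1) (.lf 0x4)) (.nd (.lf 0x5) (.lf 0))) (.nd (.nd (.lf 0x5) (.lf 0x4)) (.nd (.lf 0x3) (.lf 0)))) (.nd (.nd (.nd (.lf 0x7) (.lf 0x3)) (.nd (.lf 0x4) (.lf 0))) (.nd (.nd (.lf 0x3) (.lf 0x7)) (.nd (.lf 0x3) (.lf 0))))) (.nd (.nd (.nd (.nd (.lf 0x4) (.lf 0x5)) (.nd (.lf 0x4) (.lf 0))) (.nd (.nd (.lf 0x4) (.lf 0x6)) (.nd (.lf 0x5) (.lf 0)))) (.nd (.nd (.nd (.lf 0x6) (.lf 0x1)) (.nd (.lf 0x4) (.lf 0))) (.nd (.nd (.lf 0x3) (.lf 0x5)) (.nd (.lf 0x6) (.lf 0)))))) (.nd (.nd (.nd (.nd (.nd (.lf 0x3) (.lf 0x5)) (.nd (.lf 0x3) (.lf 0))) (.nd (.nd (.lf 0x5) (.lf 0x1)) (.nd (.lf 0x4) (.lf 0)))) (.nd (.nd (.nd (.lf 0x3) (.lf 0x4)) (.nd (.lf 0x3) (.lf 0))) (.nd (.nd (.lf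 0x3) (.lf 0x1)) (.nd (.lf 0x1) (.lf 0))))) (.nd (.nd (.nd (.nd (.lf 0x5) (.lf 0x5)) (.nd (.lf 0x6) (.lf 0))) (.nd (.nd (.lf 0x4) (.lf 0x3)) (.nd (.lf 0x4) (.lf 0)))) (.nd (.nd (.nd (.lf 0x1) (.lf 0x4)) (.nd (.lf 0x5) (.lf 0))) (.nd (.nd (.lf 0x1) (.lf 0x1)) (.nd (.lf 0x5) (.lf 0))))))) (.nd (.nd (.nd (.nd (.nd (.nd (.lf 0x4) (.lf 0x4)) (.nd (.lf 0x4) (.lf 0))) (.nd (.nd (.lf 0x4) (.lf 0x5)) (.nd (.lf 0x4) (.lf 0)))) (.nd (.nd (.nd (.lf 0x3) (.lf 0x5)) (.nd (.lf 0x5) (.lf 0))) (.nd (.nd (.lf 0x4) (.lf 0x1)) (.nd (.lf 0x4) (.lf 0))))) (.nd (.nd (.nd (.nd (.lf 0x5) (.lf 0x4)) (.nd (.lf 0x2) (.lf 0))) (.nd (.nd (.lf 0x5) (.lf 0x5)) (.nd (.lf 0x5) (.lf 0)))) (.nd (.nd (.nd (.lf 0x4) (.lf 0x5)) (.nd (.lf 0x5) (.lf 0))) (.nd (.nd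 (.lf 0x4) (.lf 0x7)) (.nd (.lf 0x5) (.lf 0)))))) (.nd (.nd (.nd (.nd (.nd (.lf 0x6) (.lf 0x6)) (.nd (.lf 0x3) (.lf 0))) (.nd (.nd (.lf 0x1) (.lf 0x6)) (.nd (.lf 0x4) (.lf 0)))) (.nd (.nd (.nd (.lf 0x5) (.lf 0x3)) (.nd (.lf 0x3) (.lf 0))) (.nd (.nd (.lf 0x3) (.lf 0x5)) (.nd (.lf 0x5) (.lf 0))))) (.nd (.nd (.nd (.nd (.lf 0x3) (.lf 0x4)) (.nd (.lf 0x1) (.lf 0))) (.nd (.nd (.lf 0x5) (.lf 0x5)) (.nd (.lf 0x3) (.lf 0)))) (.nd (.nd (.nd (.lf 0x4) (.lf 0x4)) (.nd (.lf 0x1) (.lf 0))) (.nd (.nd (.lf 0x4) (.lf 0x3)) (.nd (.lf 0x3) (.lf 0))))))))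
def labT_nabbbaa : Tr := (.nd (.nd (.nd (.nd (.nd (.nd (.nd (.lf 0x5) (.lf 0x5)) (.nd (.lf 0x5) (.lf 0))) (.nd (.nd (.lf 0x3) (.lf 0x3)) (.nd (.lf 0x5) (.lf 0)))) (.nd (.nd (.nd (.lf 0x3) (.lf 0x3)) (.nd (.lf 0x3) (.lf 0))) (.nd (.nd (.lf 0x3) (.lf 0x3)) (.nd (.lf 0x5) (.lf 0))))) (.nd (.nd (.nd (.nd (.lf 0x4) (.lf 0x5)) (.nd (.lf 0x4) (.lf 0))) (.nd (.nd (.lf 0x3) (.lf 0x3)) (.nd (.lf 0x3) (.lf 0)))) (.nd (.nd (.nd (.lf 0x5) (.lf 0x1)) (.nd (.lf 0x4) (.lf 0))) (.nd (.nd (.lf 0x5) (.lf 0x1)) (.nd (.lf 0x3) (.lf 0)))))) (.nd (.nd (.nd (.nd (.nd (.lf 0x3) (.lf 0x4)) (.nd (.lf 0x1) (.lf 0))) (.nd (.nd (.lf 0x3) (.lf 0x5)) (.nd (.lf 0x4) (.lf 0)))) (.nd (.nd (.nd (.lf 0x6) (.lf 0x4)) (.nd (.lf 0x6) (.lf 0))) (.nd (.nd (.lf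 0x4) (.lf 0x3)) (.nd (.lf 0x3) (.lf 0))))) (.nd (.nd (.nd (.nd (.lf 0x3) (.lf 0x3)) (.nd (.lf 0x5) (.lf 0))) (.nd (.nd (.lf 0x3) (.lf 0x3)) (.nd (.lf 0x4) (.lf 0)))) (.nd (.nd (.nd (.lf 0x1) (.lf 0x4)) (.nd (.lf 0x5) (.lf 0))) (.nd (.nd (.lf 0x3) (.lf 0x5)) (.nd (.lf 0x5) (.lf 0))))))) (.nd (.nd (.nd (.nd (.nd (.nd (.lf 0x6) (.lf 0x4)) (.nd (.lf 0x3) (.lf 0))) (.nd (.nd (.lf 0x4) (.lf 0x5)) (.nd (.lf 0x3) (.lf 0)))) (.nd (.nd (.nd (.lf 0x5) (.lf 0x5)) (.nd (.lf 0x7) (.lf 0))) (.nd (.nd (.lf 0x4) (.lf 0x6)) (.nd (.lf 0x4) (.lf 0))))) (.nd (.nd (.nd (.nd (.lf 0x4) (.lf 0x6)) (.nd (.lf 0x3) (.lf 0))) (.nd (.nd (.lf 0x1) (.lf 0x4)) (.nd (.lf 0x5) (.lf 0)))) (.nd (.nd (.nd (.lf 0x5) (.lf 0x5)) (.nd (.lf 0x4) (.lf 0))) (.nd (.nd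 (.lf 0x1) (.lf 0x1)) (.nd (.lf 0x5) (.lf 0)))))) (.nd (.nd (.nd (.nd (.nd (.lf 0x5) (.lf 0x1)) (.nd (.lf 0x4) (.lf 0))) (.nd (.nd (.lf 0x5) (.lf 0x3)) (.nd (.lf 0x3) (.lf 0)))) (.nd (.nd (.nd (.lf 0x6) (.lf 0x4)) (.nd (.lf 0x1) (.lf 0))) (.nd (.nd (.lf 0x4) (.lf 0x6)) (.nd (.lf 0x2) (.lf 0))))) (.nd (.nd (.nd (.nd (.lf 0x3) (.lf 0x5)) (.nd (.lf 0x5) (.lf 0))) (.nd (.nd (.lf 0x3) (.lf 0x4)) (.nd (.lf 0x4) (.lf 0)))) (.nd (.nd (.nd (.lf 0x4) (.lf 0x5)) (.nd (.lf 0x5) (.lf 0))) (.nd (.nd (.lf 0x4) (.lf 0x4)) (.nd (.lf 0x5) (.lf 0))))))))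
def labT_nabbbab : Tr := (.nd (.nd (.nd (.nd (.nd (.nd (.nd (.lf 0x3) (.lf 0x5)) (.nd (.lf 0x5) (.lf 0))) (.nd (.nd (.lf 0x5) (.lf 0x5)) (.nd (.lf 0x4) (.lf 0)))) (.nd (.nd (.nd (.lf 0x5) (.lf 0x3)) (.nd (.lf 0x6) (.lf 0))) (.nd (.nd (.lf 0x3) (.lf 0x4)) (.nd (.lf 0x7) (.lf 0))))) (.nd (.nd (.nd (.nd (.lf 0x5) (.lf 0x4)) (.nd (.lf 0x3) (.lf 0))) (.nd (.nd (.lf 0x5) (.lf 0x3)) (.nd (.lf 0x6) (.lf 0)))) (.nd (.nd (.nd (.lf 0x6) (.lf 0x5)) (.nd (.lf 0x1) (.lf 0))) (.nd (.nd (.lf 0x5) (.lf 0x1)) (.nd (.lf 0x1) (.lf 0)))))) (.nd (.nd (.nd (.nd (.nd (.lf 0x5) (.lf 0x6)) (.nd (.lf 0x1) (.lf 0))) (.nd (.nd (.lf 0x4) (.lf 0x4)) (.nd (.lf 0x4) (.lf 0)))) (.nd (.nd (.nd (.lf 0x5) (.lf 0x3)) (.nd (.lf 0x3) (.lf 0))) (.nd (.nd (.lf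 0x1) (.lf 0x4)) (.nd (.lf 0x3) (.lf 0))))) (.nd (.nd (.nd (.nd (.lf 0x6) (.lf 0x4)) (.nd (.lf 0x5) (.lf 0))) (.nd (.nd (.lf 0x5) (.lf 0x1)) (.nd (.lf 0x3) (.lf 0)))) (.nd (.nd (.nd (.lf 0x1) (.lf 0x6)) (.nd (.lf 0x3) (.lf 0))) (.nd (.nd (.lf 0x4) (.lf 0x3)) (.nd (.lf 0x3) (.lf 0))))))) (.nd (.nd (.nd (.nd (.nd (.nd (.lf 0x3) (.lf 0x5)) (.nd (.lf 0x3) (.lf 0))) (.nd (.nd (.lf 0x5) (.lf 0x5)) (.nd (.lf 0x4) (.lf 0)))) (.nd (.nd (.nd (.lf 0x3) (.lf 0x1)) (.nd (.lf 0x1) (.lf 0))) (.nd (.nd (.lf 0x1) (.lf 0x5)) (.nd (.lf 0x5) (.lf 0))))) (.nd (.nd (.nd (.nd (.lf 0x3) (.lf 0x1)) (.nd (.lf 0x3) (.lf 0))) (.nd (.nd (.lf 0x4) (.lf 0x1)) (.nd (.lf 0x5) (.lf 0)))) (.nd (.nd (.nd (.lf 0x3) (.lf 0x5)) (.nd (.lf 0x5) (.lf 0))) (.nd (.nd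 (.lf 0x5) (.lf 0x4)) (.nd (.lf 0x5) (.lf 0)))))) (.nd (.nd (.nd (.nd (.nd (.lf 0x4) (.lf 0x3)) (.nd (.lf 0x1) (.lf 0))) (.nd (.nd (.lf 0x5) (.lf 0x5)) (.nd (.lf 0x4) (.lf 0)))) (.nd (.nd (.nd (.lf 0x5) (.lf 0x4)) (.nd (.lf 0x5) (.lf 0))) (.nd (.nd (.lf 0x4) (.lf 0x5)) (.nd (.lf 0x5) (.lf 0))))) (.nd (.nd (.nd (.nd (.lf 0x4) (.lf 0x1)) (.nd (.lf 0x1) (.lf 0))) (.nd (.nd (.lf 0x3) (.lf 0x1)) (.nd (.lf 0x4) (.lf 0)))) (.nd (.nd (.nd (.lf 0x5) (.lf 0x6)) (.nd (.lf 0x7) (.lf 0))) (.nd (.nd (.lf 0x5) (.lf 0x3)) (.nd (.lf 0x4) (.lf 0))))))))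
def labT_nabbbba : Tr := (.nd (.nd (.nd (.nd (.nd (.nd (.nd (.lf 0x5) (.lf 0x5)) (.nd (.lf 0x4) (.lf 0))) (.nd (.nd (.lf 0x5) (.lf 0x6)) (.nd (.lf 0x1) (.lf 0)))) (.nd (.nd (.nd (.lf 0x3) (.lf 0x4)) (.nd (.lf 0x5) (.lf 0))) (.nd (.nd (.lf 0x5) (.lf 0x3)) (.nd (.lf 0x1) (.lf 0))))) (.nd (.nd (.nd (.nd (.lf 0x5) (.lf 0x3)) (.nd (.lf 0x1) (.lf 0))) (.nd (.nd (.lf 0x4) (.lf 0x3)) (.nd (.lf 0x5) (.lf 0)))) (.nd (.nd (.nd (.lf 0x5) (.lf 0x4)) (.nd (.lf 0x1) (.lf 0))) (.nd (.nd (.lf 0x1) (.lf 0x5)) (.nd (.lf 0x4) (.lf 0)))))) (.nd (.nd (.nd (.nd (.nd (.lf 0x4) (.lf 0x3)) (.nd (.lf 0x3) (.lf 0))) (.nd (.nd (.lf 0x5) (.lf 0x3)) (.nd (.lf 0x3) (.lf 0)))) (.nd (.nd (.nd (.lf 0x1) (.lf 0x3)) (.nd (.lf 0x2) (.lf 0))) (.nd (.nd (.lf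 0x5) (.lf 0x3)) (.nd (.lf 0x4) (.lf 0))))) (.nd (.nd (.nd (.nd (.lf 0x4) (.lf 0x4)) (.nd (.lf 0x3) (.lf 0))) (.nd (.nd (.lf 0x4) (.lf 0x4)) (.nd (.lf 0x4) (.lf 0)))) (.nd (.nd (.nd (.lf 0x7) (.lf 0x5)) (.nd (.lf 0x3) (.lf 0))) (.nd (.nd (.lf 0x3) (.lf 0x4)) (.nd (.lf 0x1) (.lf 0))))))) (.nd (.nd (.nd (.nd (.nd (.nd (.lf 0x4) (.lf 0x1)) (.nd (.lf 0x6) (.lf 0))) (.nd (.nd (.lf 0x3) (.lf 0x5)) (.nd (.lf 0x3) (.lf 0)))) (.nd (.nd (.nd (.lf 0x1) (.lf 0x3)) (.nd (.lf 0x4) (.lf 0))) (.nd (.nd (.lf 0x5) (.lf 0x4)) (.nd (.lf 0x3) (.lf 0))))) (.nd (.nd (.nd (.nd (.lf 0x4) (.lf 0x1)) (.nd (.lf 0x3) (.lf 0))) (.nd (.nd (.lf 0x5) (.lf 0x4)) (.nd (.lf 0x2) (.lf 0)))) (.nd (.nd (.nd (.lf 0x5) (.lf 0x4)) (.nd (.lf 0x5) (.lf 0))) (.nd (.nd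 (.lf 0x1) (.lf 0x3)) (.nd (.lf 0x5) (.lf 0)))))) (.nd (.nd (.nd (.nd (.nd (.lf 0x5) (.lf 0x4)) (.nd (.lf 0x5) (.lf 0))) (.nd (.nd (.lf 0x3) (.lf 0x4)) (.nd (.lf 0x5) (.lf 0)))) (.nd (.nd (.nd (.lf 0x1) (.lf 0x5)) (.nd (.lf 0x7) (.lf 0))) (.nd (.nd (.lf 0x5) (.lf 0x3)) (.nd (.lf 0x5) (.lf 0))))) (.nd (.nd (.nd (.nd (.lf 0x4) (.lf 0x5)) (.nd (.lf 0x3) (.lf 0))) (.nd (.nd (.lf 0x1) (.lf 0x5)) (.nd (.lf 0x5) (.lf 0)))) (.nd (.nd (.nd (.lf 0x1) (.lf 0x6)) (.nd (.lf 0x1) (.lf 0))) (.nd (.nd (.lf 0x4) (.lf 0x3)) (.nd (.lf 0x1) (.lf 0))))))))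
def labT_nabbbbb : Tr := (.nd (.nd (.nd (.nd (.nd (.nd (.nd (.lf 0x1) (.lf 0x7)) (.nd (.lf 0x5) (.lf 0))) (.nd (.nd (.lf 0x7) (.lf 0x3)) (.nd (.lf 0x3) (.lf 0)))) (.nd (.nd (.nd (.lf 0x3) (.lf 0x4)) (.nd (.lf 0x4) (.lf 0))) (.nd (.nd (.lf 0x1) (.lf 0x4)) (.nd (.lf 0x3) (.lf 0))))) (.nd (.nd (.nd (.nd (.lf 0x3) (.lf 0x3)) (.nd (.lf 0x4) (.lf 0))) (.nd (.nd (.lf 0x6) (.lf 0x3)) (.nd (.lf 0x5) (.lf 0)))) (.nd (.nd (.nd (.lf 0x5) (.lf 0x5)) (.nd (.lf 0x5) (.lf 0))) (.nd (.nd (.lf 0x5) (.lf 0x7)) (.nd (.lf 0x4) (.lf 0)))))) (.nd (.nd (.nd (.nd (.nd (.lf 0x5) (.lf 0x5)) (.nd (.lf 0x5) (.lf 0))) (.nd (.nd (.lf 0x5) (.lf 0x5)) (.nd (.lf 0x3) (.lf 0)))) (.nd (.nd (.nd (.lf 0x3) (.lf 0x5)) (.nd (.lf 0x6) (.lf 0))) (.nd (.nd (.lf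 0x6) (.lf 0x3)) (.nd (.lf 0x4) (.lf 0))))) (.nd (.nd (.nd (.nd (.lf 0x1) (.lf 0x5)) (.nd (.lf 0x5) (.lf 0))) (.nd (.nd (.lf 0x4) (.lf 0x4)) (.nd (.lf 0x5) (.lf 0)))) (.nd (.nd (.nd (.lf 0x1) (.lf 0x5)) (.nd (.lf 0x6) (.lf 0))) (.nd (.nd (.lf 0x5) (.lf 0x5)) (.nd (.lf 0x5) (.lf 0))))))) (.nd (.nd (.nd (.nd (.nd (.nd (.lf 0x3) (.lf 0x4)) (.nd (.lf 0x5) (.lf 0))) (.nd (.nd (.lf 0x3) (.lf 0x4)) (.nd (.lf 0x6) (.lf 0)))) (.nd (.nd (.nd (.lf 0x3) (.lf 0x5)) (.nd (.lf 0x4) (.lf 0))) (.nd (.nd (.lf 0x6) (.lf 0x5)) (.nd (.lf 0x5) (.lf 0))))) (.nd (.nd (.nd (.nd (.lf 0x5) (.lf 0x3)) (.nd (.lf 0x4) (.lf 0))) (.nd (.nd (.lf 0x3) (.lf 0x1)) (.nd (.lf 0x1) (.lf 0)))) (.nd (.nd (.nd (.lf 0x5) (.lf 0x5)) (.nd (.lf 0x4) (.lf 0))) (.nd (.nd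 (.lf 0x3) (.lf 0x4)) (.nd (.lf 0x6) (.lf 0)))))) (.nd (.nd (.nd (.nd (.nd (.lf 0x5) (.lf 0x6)) (.nd (.lf 0x4) (.lf 0))) (.nd (.nd (.lf 0x5) (.lf 0x5)) (.nd (.lf 0x3) (.lf 0)))) (.nd (.nd (.nd (.lf 0x3) (.lf 0x4)) (.nd (.lf 0x5) (.lf 0))) (.nd (.nd (.lf 0x4) (.lf 0x3)) (.nd (.lf 0x4) (.lf 0))))) (.nd (.nd (.nd (.nd (.lf 0x3) (.lf 0x5)) (.nd (.lf 0x3) (.lf 0))) (.nd (.nd (.lf 0x5) (.lf 0x5)) (.nd (.lf 0x3) (.lf 0)))) (.nd (.nd (.nd (.lf 0x5) (.lf 0x5)) (.nd (.lf 0x3) (.lf 0))) (.nd (.nd (.lf 0x4) (.lf 0x3)) (.nd (.lf 0x5) (.lf 0))))))))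
def labT_nbaaaaa : Tr := (.nd (.nd (.nd (.nd (.nd (.nd (.nd (.lf 0x1) (.lf 0x5)) (.nd (.lf 0x3) (.lf 0x4))) (.nd (.nd (.lf 0x4) (.lf 0x4)) (.nd (.lf 0x5) (.lf 0)))) (.nd (.nd (.nd (.lf 0x1) (.lf 0x5)) (.nd (.lf 0x6) (.lf 0))) (.nd (.nd (.lf 0x1) (.lf 0x5)) (.nd (.lf 0x6) (.lf 0))))) (.nd (.nd (.nd (.nd (.lf 0x5) (.lf 0x4)) (.nd (.lf 0x5) (.lf 0))) (.nd (.nd (.lf 0x5) (.lf 0x4)) (.nd (.lf 0x3) (.lf 0)))) (.nd (.nd (.nd (.lf 0x7) (.lf 0x1)) (.nd (.lf 0x5) (.lf 0))) (.nd (.nd (.lf 0x6) (.lf 0x5)) (.nd (.lf 0x5) (.lf 0)))))) (.nd (.nd (.nd (.nd (.nd (.lf 0x3) (.lf 0x1)) (.nd (.lf 0x3) (.lf 0))) (.nd (.nd (.lf 0x5) (.lf 0x6)) (.nd (.lf 0x5) (.lf 0)))) (.nd (.nd (.nd (.lf 0x4) (.lf 0x5)) (.nd (.lf 0x3) (.lf 0))) (.nd (.nd (.lf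 0x3) (.lf 0x5)) (.nd (.lf 0x3) (.lf 0))))) (.nd (.nd (.nd (.nd (.lf 0x6) (.lf 0x5)) (.nd (.lf 0x3) (.lf 0))) (.nd (.nd (.lf 0x5) (.lf 0x3)) (.nd (.lf 0x5) (.lf 0)))) (.nd (.nd (.nd (.lf 0x6) (.lf 0x3)) (.nd (.lf 0x3) (.lf 0))) (.nd (.nd (.lf 0x3) (.lf 0x3)) (.nd (.lf 0x5) (.lf 0))))))) (.nd (.nd (.nd (.nd (.nd (.nd (.lf 0x4) (.lf 0x3)) (.nd (.lf 0x3) (.lf 0))) (.nd (.nd (.lf 0x4) (.lf 0x6)) (.nd (.lf 0x3) (.lf 0)))) (.nd (.nd (.nd (.lf 0x3) (.lf 0x5)) (.nd (.lf 0x5) (.lf 0))) (.nd (.nd (.lf 0x3) (.lf 0x7)) (.nd (.lf 0x4) (.lf 0))))) (.nd (.nd (.nd (.nd (.lf 0x5) (.lf 0x3)) (.nd (.lf 0x3) (.lf 0))) (.nd (.nd (.lf 0x3) (.lf 0x5)) (.nd (.lf 0x3) (.lf 0)))) (.nd (.nd (.nd (.lf 0x3) (.lf 0x4)) (.nd (.lf 0x4) (.lf 0))) (.nd (.nd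 (.lf 0x5) (.lf 0x4)) (.nd (.lf 0x1) (.lf 0)))))) (.nd (.nd (.nd (.nd (.nd (.lf 0x1) (.lf 0x5)) (.nd (.lf 0x3) (.lf 0))) (.nd (.nd (.lf 0x3) (.lf 0x5)) (.nd (.lf 0x1) (.lf 0)))) (.nd (.nd (.nd (.lf 0x3) (.lf 0x4)) (.nd (.lf 0x1) (.lf 0))) (.nd (.nd (.lf 0x5) (.lf 0x3)) (.nd (.lf 0x5) (.lf 0))))) (.nd (.nd (.nd (.nd (.lf 0x1) (.lf 0x4)) (.nd (.lf 0x3) (.lf 0))) (.nd (.nd (.lf 0x3) (.lf 0x4)) (.nd (.lf 0x6) (.lf 0)))) (.nd (.nd (.nd (.lf 0x3) (.lf 0x3)) (.nd (.lf 0x3) (.lf 0))) (.nd (.nd (.lf 0x5) (.lf 0x6)) (.nd (.lf 0x4) (.lf 0))))))))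
def labT_nbaaaab : Tr := (.nd (.nd (.nd (.nd (.nd (.nd (.nd (.lf 0x1) (.lf 0x1)) (.nd (.lf 0x3) (.lf 0))) (.nd (.nd (.lf 0x5) (.lf 0x3)) (.nd (.lf 0x4) (.lf 0)))) (.nd (.nd (.nd (.lf 0x1) (.lf 0x3)) (.nd (.lf 0x5) (.lf 0))) (.nd (.nd (.lf 0x5) (.lf 0x3)) (.nd (.lf 0x4) (.lf 0))))) (.nd (.nd (.nd (.nd (.lf 0x5) (.lf 0x4)) (.nd (.lf 0x3) (.lf 0))) (.nd (.nd (.lf 0x5) (.lf 0x4)) (.nd (.lf 0x5) (.lf 0)))) (.nd (.nd (.nd (.lf 0x5) (.lf 0x3)) (.nd (.lf 0x3) (.lf 0))) (.nd (.nd (.lf 0x3) (.lf 0x4)) (.nd (.lf 0x4) (.lf 0)))))) (.nd (.nd (.nd (.nd (.nd (.lf 0x5) (.lf 0x5)) (.nd (.lf 0x5) (.lf 0))) (.nd (.nd (.lf 0x6) (.lf 0x6)) (.nd (.lf 0x3) (.lf 0)))) (.nd (.nd (.nd (.lf 0x5) (.lf 0x3)) (.nd (.lf 0x4) (.lf 0))) (.nd (.nd (.lf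 0x3) (.lf 0x3)) (.nd (.lf 0x1) (.lf 0))))) (.nd (.nd (.nd (.nd (.lf 0x5) (.lf 0x6)) (.nd (.lf 0x5) (.lf 0))) (.nd (.nd (.lf 0x4) (.lf 0x3)) (.nd (.lf 0x4) (.lf 0)))) (.nd (.nd (.nd (.lf 0x5) (.lf 0x6)) (.nd (.lf 0x6) (.lf 0))) (.nd (.nd (.lf 0x3) (.lf 0x3)) (.nd (.lf 0x5) (.lf 0))))))) (.nd (.nd (.nd (.nd (.nd (.nd (.lf 0x1) (.lf 0x3)) (.nd (.lf 0x5) (.lf 0))) (.nd (.nd (.lf 0x6) (.lf 0x1)) (.nd (.lf 0x3) (.lf 0)))) (.nd (.nd (.nd (.lf 0x5) (.lf 0x4)) (.nd (.lf 0x5) (.lf 0))) (.nd (.nd (.lf 0x5) (.lf 0x5)) (.nd (.lf 0x4) (.lf 0))))) (.nd (.nd (.nd (.nd (.lf 0x4) (.lf 0x3)) (.nd (.lf 0x3) (.lf 0))) (.nd (.nd (.lf 0x5) (.lf 0x5)) (.nd (.lf 0x5) (.lf 0)))) (.nd (.nd (.nd (.lf 0x5) (.lf 0x5)) (.nd (.lf 0x5) (.lf 0))) (.nd (.nd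 (.lf 0x4) (.lf 0x3)) (.nd (.lf 0x5) (.lf 0)))))) (.nd (.nd (.nd (.nd (.nd (.lf 0x5) (.lf 0x6)) (.nd (.lf 0x2) (.lf 0))) (.nd (.nd (.lf 0x5) (.lf 0x4)) (.nd (.lf 0x3) (.lf 0)))) (.nd (.nd (.nd (.lf 0x5) (.lf 0x5)) (.nd (.lf 0x5) (.lf 0))) (.nd (.nd (.lf 0x5) (.lf 0x5)) (.nd (.lf 0x5) (.lf 0))))) (.nd (.nd (.nd (.nd (.lf 0x3) (.lf 0x4)) (.nd (.lf 0x3) (.lf 0))) (.nd (.nd (.lf 0x3) (.lf 0x5)) (.nd (.lf 0x1) (.lf 0)))) (.nd (.nd (.nd (.lf 0x5) (.lf 0x3)) (.nd (.lf 0x6) (.lf 0))) (.nd (.nd (.lf 0x3) (.lf 0x4)) (.nd (.lf 0x4) (.lf 0))))))))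
def labT_nbaaaba : Tr := (.nd (.nd (.nd (.nd (.nd (.nd (.nd (.lf 0x5) (.lf 0x2)) (.nd (.lf 0x5) (.lf 0))) (.nd (.nd (.lf 0x1) (.lf 0x5)) (.nd (.lf 0x5) (.lf 0)))) (.nd (.nd (.nd (.lf 0x5) (.lf 0x2)) (.nd (.lf 0x6) (.lf 0))) (.nd (.nd (.lf 0x6) (.lf 0x5)) (.nd (.lf 0x1) (.lf 0))))) (.nd (.nd (.nd (.nd (.lf 0x4) (.lf 0x6)) (.nd (.lf 0x5) (.lf 0))) (.nd (.nd (.lf 0x4) (.lf 0x6)) (.nd (.lf 0x4) (.lf 0)))) (.nd (.nd (.nd (.lf 0x3) (.lf 0x2)) (.nd (.lf 0x5) (.lf 0))) (.nd (.nd (.lf 0x1) (.lf 0x5)) (.nd (.lf 0x4) (.lf 0)))))) (.nd (.nd (.nd (.nd (.nd (.lf 0x4) (.lf 0x3)) (.nd (.lf 0x3) (.lf 0))) (.nd (.nd (.lf 0x3) (.lf 0x5)) (.nd (.lf 0x3) (.lf 0)))) (.nd (.nd (.nd (.lf 0x5) (.lf 0x5)) (.nd (.lf 0x3) (.lf 0))) (.nd (.nd (.lf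 0x1) (.lf 0x7)) (.nd (.lf 0x3) (.lf 0))))) (.nd (.nd (.nd (.nd (.lf 0x4) (.lf 0x5)) (.nd (.lf 0x1) (.lf 0))) (.nd (.nd (.lf 0x4) (.lf 0x3)) (.nd (.lf 0x1) (.lf 0)))) (.nd (.nd (.nd (.lf 0x4) (.lf 0x3)) (.nd (.lf 0x5) (.lf 0))) (.nd (.nd (.lf 0x5) (.lf 0x4)) (.nd (.lf 0x4) (.lf 0))))))) (.nd (.nd (.nd (.nd (.nd (.nd (.lf 0x4) (.lf 0x4)) (.nd (.lf 0x1) (.lf 0))) (.nd (.nd (.lf 0x6) (.lf 0x4)) (.nd (.lf 0x3) (.lf 0)))) (.nd (.nd (.nd (.lf 0x4) (.lf 0x6)) (.nd (.lf 0x4) (.lf 0))) (.nd (.nd (.lf 0x5) (.lf 0x1)) (.nd (.lf 0x3) (.lf 0))))) (.nd (.nd (.nd (.nd (.lf 0x4) (.lf 0x2)) (.nd (.lf 0x3) (.lf 0))) (.nd (.nd (.lf 0x3) (.lf 0x1)) (.nd (.lf 0x6) (.lf 0)))) (.nd (.nd (.nd (.lf 0x4) (.lf 0x5)) (.nd (.lf 0x6) (.lf 0))) (.nd (.nd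 (.lf 0x4) (.lf 0x5)) (.nd (.lf 0x4) (.lf 0)))))) (.nd (.nd (.nd (.nd (.nd (.lf 0x4) (.lf 0x4)) (.nd (.lf 0x4) (.lf 0))) (.nd (.nd (.lf 0x3) (.lf 0x5)) (.nd (.lf 0x5) (.lf 0)))) (.nd (.nd (.nd (.lf 0x3) (.lf 0x4)) (.nd (.lf 0x6) (.lf 0))) (.nd (.nd (.lf 0x5) (.lf 0x3)) (.nd (.lf 0x3) (.lf 0))))) (.nd (.nd (.nd (.nd (.lf 0x6) (.lf 0x3)) (.nd (.lf 0x6) (.lf 0))) (.nd (.nd (.lf 0x3) (.lf 0x4)) (.nd (.lf 0x5) (.lf 0)))) (.nd (.nd (.nd (.lf 0x4) (.lf 0x7)) (.nd (.lf 0x5) (.lf 0))) (.nd (.nd (.lf 0x5) (.lf 0x4)) (.nd (.lf 0x6) (.lf 0))))))))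
def labT_nbaaabb : Tr := (.nd (.nd (.nd (.nd (.nd (.nd (.nd (.lf 0x4) (.lf 0x5)) (.nd (.lf 0x5) (.lf 0))) (.nd (.nd (.lf 0x5) (.lf 0x5)) (.nd (.lf 0x3) (.lf 0)))) (.nd (.nd (.nd (.lf 0x4) (.lf 0x3)) (.nd (.lf 0x3) (.lf 0))) (.nd (.nd (.lf 0x5) (.lf 0x4)) (.nd (.lf 0x5) (.lf 0))))) (.nd (.nd (.nd (.nd (.lf 0x5) (.lf 0x5)) (.nd (.lf 0x5) (.lf 0))) (.nd (.nd (.lf 0x3) (.lf 0x3)) (.nd (.lf 0x6) (.lf 0)))) (.nd (.nd (.nd (.lf 0x1) (.lf 0x5)) (.nd (.lf 0x5) (.lf 0))) (.nd (.nd (.lf 0x4) (.lf 0x4)) (.nd (.lf 0x6) (.lf 0)))))) (.nd (.nd (.nd (.nd (.nd (.lf 0x4) (.lf 0x5)) (.nd (.lf 0x4) (.lf 0))) (.nd (.nd (.lf 0x5) (.lf 0x4)) (.nd (.lf 0x3) (.lf 0)))) (.nd (.nd (.nd (.lf 0x4) (.lf 0x2)) (.nd (.lf 0x3) (.lf 0))) (.nd (.nd (.lf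 0x4) (.lf 0x3)) (.nd (.lf 0x4) (.lf 0))))) (.nd (.nd (.nd (.nd (.lf 0x7) (.lf 0x1)) (.nd (.lf 0x4) (.lf 0))) (.nd (.nd (.lf 0x1) (.lf 0x4)) (.nd (.lf 0x4) (.lf 0)))) (.nd (.nd (.nd (.lf 0x3) (.lf 0x7)) (.nd (.lf 0x3) (.lf 0))) (.nd (.nd (.lf 0x1) (.lf 0x5)) (.nd (.lf 0x3) (.lf 0))))))) (.nd (.nd (.nd (.nd (.nd (.nd (.lf 0x4) (.lf 0x2)) (.nd (.lf 0x5) (.lf 0))) (.nd (.nd (.lf 0x1) (.lf 0x5)) (.nd (.lf 0x5) (.lf 0)))) (.nd (.nd (.nd (.lf 0x4) (.lf 0x4)) (.nd (.lf 0x3) (.lf 0))) (.nd (.nd (.lf 0x1) (.lf 0x6)) (.nd (.lf 0x5) (.lf 0))))) (.nd (.nd (.nd (.nd (.lf 0x3) (.lf 0x1)) (.nd (.lf 0x6) (.lf 0))) (.nd (.nd (.lf 0x5) (.lf 0x2)) (.nd (.lf 0x6) (.lf 0)))) (.nd (.nd (.nd (.lf 0x5) (.lf 0x4)) (.nd (.lf 0x5) (.lf 0))) (.nd (.nd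 (.lf 0x4) (.lf 0x3)) (.nd (.lf 0x3) (.lf 0)))))) (.nd (.nd (.nd (.nd (.nd (.lf 0x5) (.lf 0x3)) (.nd (.lf 0x3) (.lf 0))) (.nd (.nd (.lf 0x3) (.lf 0x3)) (.nd (.lf 0x1) (.lf 0)))) (.nd (.nd (.nd (.lf 0x3) (.lf 0x3)) (.nd (.lf 0x4) (.lf 0))) (.nd (.nd (.lf 0x5) (.lf 0x1)) (.nd (.lf 0x1) (.lf 0))))) (.nd (.nd (.nd (.nd (.lf 0x5) (.lf 0x5)) (.nd (.lf 0x4) (.lf 0))) (.nd (.nd (.lf 0x1) (.lf 0x5)) (.nd (.lf 0x1) (.lf 0)))) (.nd (.nd (.nd (.lf 0x2) (.lf 0x5)) (.nd (.lf 0x4) (.lf 0))) (.nd (.nd (.lf 0x3) (.lf 0x1)) (.nd (.lf 0x5) (.lf 0))))))))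
def labT_nbaabaa : Tr := (.nd (.nd (.nd (.nd (.nd (.nd (.nd (.lf 0x1) (.lf 0x4)) (.nd (.lf 0x6) (.lf 0x4))) (.nd (.nd (.lf 0x5) (.lf 0x3)) (.nd (.lf 0x4) (.lf 0)))) (.nd (.nd (.nd (.lf 0x4) (.lf 0x5)) (.nd (.lf 0x4) (.lf 0))) (.nd (.nd (.lf 0x5) (.lf 0x5)) (.nd (.lf 0x1) (.lf 0))))) (.nd (.nd (.nd (.nd (.lf 0x5) (.lf 0x3)) (.nd (.lf 0x1) (.lf 0))) (.nd (.nd (.lf 0x5) (.lf 0x6)) (.nd (.lf 0x5) (.lf 0)))) (.nd (.nd (.nd (.lf 0x1) (.lf 0x3)) (.nd (.lf 0x3) (.lf 0))) (.nd (.nd (.lf 0x5) (.lf 0x5)) (.nd (.lf 0x4) (.lf 0)))))) (.nd (.nd (.nd (.nd (.nd (.lf 0x5) (.lf 0x4)) (.nd (.lf 0x3) (.lf 0))) (.nd (.nd (.lf 0x4) (.lf 0x6)) (.nd (.lf 0x3) (.lf 0)))) (.nd (.nd (.nd (.lf 0x3) (.lf 0x4)) (.nd (.lf 0x5) (.lf 0))) (.nd (.nd (.lf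 0x4) (.lf 0x5)) (.nd (.lf 0x5) (.lf 0))))) (.nd (.nd (.nd (.nd (.lf 0x4) (.lf 0x6)) (.nd (.lf 0x4) (.lf 0))) (.nd (.nd (.lf 0x5) (.lf 0x5)) (.nd (.lf 0x5) (.lf 0)))) (.nd (.nd (.nd (.lf 0x5) (.lf 0x6)) (.nd (.lf 0x1) (.lf 0))) (.nd (.nd (.lf 0x3) (.lf 0x4)) (.nd (.lf 0x1) (.lf 0))))))) (.nd (.nd (.nd (.nd (.nd (.nd (.lf 0x5) (.lf 0x7)) (.nd (.lf 0x6) (.lf 0))) (.nd (.nd (.lf 0x3) (.lf 0x3)) (.nd (.lf 0x3) (.lf 0)))) (.nd (.nd (.nd (.lf 0x5) (.lf 0x4)) (.nd (.lf 0x4) (.lf 0))) (.nd (.nd (.lf 0x4) (.lf 0x5)) (.nd (.lf 0x5) (.lf 0))))) (.nd (.nd (.nd (.nd (.lf 0x5) (.lf 0x5)) (.nd (.lf 0x4) (.lf 0))) (.nd (.nd (.lf 0x1) (.lf 0x4)) (.nd (.lf 0x5) (.lf 0)))) (.nd (.nd (.nd (.lf 0x6) (.lf 0x5)) (.nd (.lf 0x3) (.lf 0))) (.nd (.nd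 (.lf 0x5) (.lf 0x5)) (.nd (.lf 0x3) (.lf 0)))))) (.nd (.nd (.nd (.nd (.nd (.lf 0x5) (.lf 0x5)) (.nd (.lf 0x5) (.lf 0))) (.nd (.nd (.lf 0x5) (.lf 0x3)) (.nd (.lf 0x4) (.lf 0)))) (.nd (.nd (.nd (.lf 0x4) (.lf 0x5)) (.nd (.lf 0x1) (.lf 0))) (.nd (.nd (.lf 0x4) (.lf 0x4)) (.nd (.lf 0x5) (.lf 0))))) (.nd (.nd (.nd (.nd (.lf 0x5) (.lf 0x6)) (.nd (.lf 0x1) (.lf 0))) (.nd (.nd (.lf 0x4) (.lf 0x3)) (.nd (.lf 0x1) (.lf 0)))) (.nd (.nd (.nd (.lf 0x5) (.lf 0x4)) (.nd (.lf 0x3) (.lf 0))) (.nd (.nd (.lf 0x6) (.lf 0x3)) (.nd (.lf 0x6) (.lf 0))))))))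
def labT_nbaabab : Tr := (.nd (.nd (.nd (.nd (.nd (.nd (.nd (.lf 0x5) (.lf 0x3)) (.nd (.lf 0x3) (.lf 0))) (.nd (.nd (.lf 0x5) (.lf 0x3)) (.nd (.lf 0x3) (.lf 0)))) (.nd (.nd (.nd (.lf 0x4) (.lf 0x4)) (.nd (.lf 0x3) (.lf 0))) (.nd (.nd (.lf 0x3) (.lf 0x4)) (.nd (.lf 0x5) (.lf 0))))) (.nd (.nd (.nd (.nd (.lf 0x5) (.lf 0x6)) (.nd (.lf 0x5) (.lf 0))) (.nd (.nd (.lf 0x1) (.lf 0x5)) (.nd (.lf 0x4) (.lf 0)))) (.nd (.nd (.nd (.lf 0x5) (.lf 0x5)) (.nd (.lf 0x5) (.lf 0))) (.nd (.nd (.lf 0x4) (.lf 0x4)) (.nd (.lf 0x5) (.lf 0)))))) (.nd (.nd (.nd (.nd (.nd (.lf 0x4) (.lf 0x5)) (.nd (.lf 0x3) (.lf 0))) (.nd (.nd (.lf 0x5) (.lf 0x1)) (.nd (.lf 0x5) (.lf 0)))) (.nd (.nd (.nd (.lf 0x4) (.lf 0x4)) (.nd (.lf 0x4) (.lf 0))) (.nd (.nd (.lf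 0x5) (.lf 0x1)) (.nd (.lf 0x4) (.lf 0))))) (.nd (.nd (.nd (.nd (.lf 0x3) (.lf 0x3)) (.nd (.lf 0x4) (.lf 0))) (.nd (.nd (.lf 0x3) (.lf 0x5)) (.nd (.lf 0x5) (.lf 0)))) (.nd (.nd (.nd (.lf 0x1) (.lf 0x1)) (.nd (.lf 0x1) (.lf 0))) (.nd (.nd (.lf 0x5) (.lf 0x4)) (.nd (.lf 0x5) (.lf 0))))))) (.nd (.nd (.nd (.nd (.nd (.nd (.lf 0x4) (.lf 0x3)) (.nd (.lf 0x5) (.lf 0))) (.nd (.nd (.lf 0x6) (.lf 0x4)) (.nd (.lf 0x1) (.lf 0)))) (.nd (.nd (.nd (.lf 0x5) (.lf 0x1)) (.nd (.lf 0x3) (.lf 0))) (.nd (.nd (.lf 0x5) (.lf 0x5)) (.nd (.lf 0x3) (.lf 0))))) (.nd (.nd (.nd (.nd (.lf 0x6) (.lf 0x5)) (.nd (.lf 0x1) (.lf 0))) (.nd (.nd (.lf 0x1) (.lf 0x6)) (.nd (.lf 0x1) (.lf 0)))) (.nd (.nd (.nd (.lf 0x4) (.lf 0x3)) (.nd (.lf 0x5) (.lf 0))) (.nd (.nd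 (.lf 0x4) (.lf 0x3)) (.nd (.lf 0x3) (.lf 0)))))) (.nd (.nd (.nd (.nd (.nd (.lf 0x3) (.lf 0x6)) (.nd (.lf 0x4) (.lf 0))) (.nd (.nd (.lf 0x6) (.lf 0x5)) (.nd (.lf 0x5) (.lf 0)))) (.nd (.nd (.nd (.lf 0x5) (.lf 0x5)) (.nd (.lf 0x6) (.lf 0))) (.nd (.nd (.lf 0x6) (.lf 0x5)) (.nd (.lf 0x6) (.lf 0))))) (.nd (.nd (.nd (.nd (.lf 0x1) (.lf 0x6)) (.nd (.lf 0x1) (.lf 0))) (.nd (.nd (.lf 0x4) (.lf 0x3)) (.nd (.lf 0x6) (.lf 0)))) (.nd (.nd (.nd (.lf 0x6) (.lf 0x3)) (.nd (.lf 0x5) (.lf 0))) (.nd (.nd (.lf 0x3) (.lf 0x5)) (.nd (.lf 0x5) (.lf 0))))))))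
def labT_nbaabba : Tr := (.nd (.nd (.nd (.nd (.nd (.nd (.nd (.lf 0x4) (.lf 0x7)) (.nd (.lf 0x3) (.lf 0))) (.nd (.nd (.lf 0x5) (.lf 0x4)) (.nd (.lf 0x5) (.lf 0)))) (.nd (.nd (.nd (.lf 0x1) (.lf 0x3)) (.nd (.lf 0x5) (.lf 0))) (.nd (.nd (.lf 0x3) (.lf 0x6)) (.nd (.lf 0x1) (.lf 0))))) (.nd (.nd (.nd (.nd (.lf 0x4) (.lf 0x4)) (.nd (.lf 0x5) (.lf 0))) (.nd (.nd (.lf 0x5) (.lf 0x4)) (.nd (.lf 0x5) (.lf 0)))) (.nd (.nd (.nd (.lf 0x3) (.lf 0x1)) (.nd (.lf 0x3) (.lf 0))) (.nd (.nd (.lf 0x3) (.lf 0x3)) (.nd (.lf 0x1) (.lf 0)))))) (.nd (.nd (.nd (.nd (.nd (.lf 0x5) (.lf 0x4)) (.nd (.lf 0x5) (.lf 0))) (.nd (.nd (.lf 0x4) (.lf 0x5)) (.nd (.lf 0x6) (.lf 0)))) (.nd (.nd (.nd (.lf 0x4) (.lf 0x4)) (.nd (.lf 0x5) (.lf 0))) (.nd (.nd (.lf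 0x6) (.lf 0x5)) (.nd (.lf 0x6) (.lf 0))))) (.nd (.nd (.nd (.nd (.lf 0x5) (.lf 0x4)) (.nd (.lf 0x1) (.lf 0))) (.nd (.nd (.lf 0x1) (.lf 0x5)) (.nd (.lf 0x5) (.lf 0)))) (.nd (.nd (.nd (.lf 0x7) (.lf 0x5)) (.nd (.lf 0x3) (.lf 0))) (.nd (.nd (.lf 0x1) (.lf 0x6)) (.nd (.lf 0x4) (.lf 0))))))) (.nd (.nd (.nd (.nd (.nd (.nd (.lf 0x1) (.lf 0x3)) (.nd (.lf 0x6) (.lf 0))) (.nd (.nd (.lf 0x5) (.lf 0x4)) (.nd (.lf 0x7) (.lf 0)))) (.nd (.nd (.nd (.lf 0x3) (.lf 0x4)) (.nd (.lf 0x5) (.lf 0))) (.nd (.nd (.lf 0x5) (.lf 0x5)) (.nd (.lf 0x3) (.lf 0))))) (.nd (.nd (.nd (.nd (.lf 0x4) (.lf 0x5)) (.nd (.lf 0x3) (.lf 0))) (.nd (.nd (.lf 0x5) (.lf 0x5)) (.nd (.lf 0x3) (.lf 0)))) (.nd (.nd (.nd (.lf 0x5) (.lf 0x3)) (.nd (.lf 0x4) (.lf 0))) (.nd (.nd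 (.lf 0x4) (.lf 0x1)) (.nd (.lf 0x4) (.lf 0)))))) (.nd (.nd (.nd (.nd (.nd (.lf 0x5) (.lf 0x1)) (.nd (.lf 0x6) (.lf 0))) (.nd (.nd (.lf 0x5) (.lf 0x5)) (.nd (.lf 0x5) (.lf 0)))) (.nd (.nd (.nd (.lf 0x5) (.lf 0x1)) (.nd (.lf 0x3) (.lf 0))) (.nd (.nd (.lf 0x4) (.lf 0x5)) (.nd (.lf 0x3) (.lf 0))))) (.nd (.nd (.nd (.nd (.lf 0x3) (.lf 0x4)) (.nd (.lf 0x5) (.lf 0))) (.nd (.nd (.lf 0x5) (.lf 0x5)) (.nd (.lf 0x4) (.lf 0)))) (.nd (.nd (.nd (.lf 0x5) (.lf 0x3)) (.nd (.lf 0x5) (.lf 0))) (.nd (.nd (.lf 0x5) (.lf 0x6)) (.nd (.lf 0x1) (.lf 0))))))))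
def labT_nbaabbb : Tr := (.nd (.nd (.nd (.nd (.nd (.nd (.nd (.lf 0x5) (.lf 0x6)) (.nd (.lf 0x6) (.lf 0))) (.nd (.nd (.lf 0x5) (.lf 0x5)) (.nd (.lf 0x5) (.lf 0)))) (.nd (.nd (.nd (.lf 0x4) (.lf 0x6)) (.nd (.lf 0x3) (.lf 0))) (.nd (.nd (.lf 0x4) (.lf 0x4)) (.nd (.lf 0x4) (.lf 0))))) (.nd (.nd (.nd (.nd (.lf 0x5) (.lf 0x1)) (.nd (.lf 0x4) (.lf 0))) (.nd (.nd (.lf 0x1) (.lf 0x6)) (.nd (.lf 0x3) (.lf 0)))) (.nd (.nd (.nd (.lf 0x6) (.lf 0x4)) (.nd (.lf 0x6) (.lf 0))) (.nd (.nd (.lf 0x5) (.lf 0x3)) (.nd (.lf 0x4) (.lf 0)))))) (.nd (.nd (.nd (.nd (.nd (.lf 0x3) (.lf 0x5)) (.nd (.lf 0x3) (.lf 0))) (.nd (.nd (.lf 0x5) (.lf 0x1)) (.nd (.lf 0x5) (.lf 0)))) (.nd (.nd (.nd (.lf 0x3) (.lf 0x5)) (.nd (.lf 0x6) (.lf 0))) (.nd (.nd (.lf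 0x1) (.lf 0x1)) (.nd (.lf 0x3) (.lf 0))))) (.nd (.nd (.nd (.nd (.lf 0x5) (.lf 0x4)) (.nd (.lf 0x6) (.lf 0))) (.nd (.nd (.lf 0x5) (.lf 0x5)) (.nd (.lf 0x4) (.lf 0)))) (.nd (.nd (.nd (.lf 0x3) (.lf 0x5)) (.nd (.lf 0x3) (.lf 0))) (.nd (.nd (.lf 0x7) (.lf 0x5)) (.nd (.lf 0x5) (.lf 0))))))) (.nd (.nd (.nd (.nd (.nd (.nd (.lf 0x4) (.lf 0x3)) (.nd (.lf 0x1) (.lf 0))) (.nd (.nd (.lf 0x3) (.lf 0x1)) (.nd (.lf 0x5) (.lf 0)))) (.nd (.nd (.nd (.lf 0x4) (.lf 0x3)) (.nd (.lf 0x5) (.lf 0))) (.nd (.nd (.lf 0x1) (.lf 0x5)) (.nd (.lf 0x4) (.lf 0))))) (.nd (.nd (.nd (.nd (.lf 0x5) (.lf 0x4)) (.nd (.lf 0x4) (.lf 0))) (.nd (.nd (.lf 0x4) (.lf 0x6)) (.nd (.lf 0x3) (.lf 0)))) (.nd (.nd (.nd (.lf 0x3) (.lf 0x4)) (.nd (.lf 0x1) (.lf 0))) (.nd (.nd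 (.lf 0x3) (.lf 0x4)) (.nd (.lf 0x5) (.lf 0)))))) (.nd (.nd (.nd (.nd (.nd (.lf 0x4) (.lf 0x1)) (.nd (.lf 0x6) (.lf 0))) (.nd (.nd (.lf 0x4) (.lf 0x4)) (.nd (.lf 0x4) (.lf 0)))) (.nd (.nd (.nd (.lf 0x3) (.lf 0x3)) (.nd (.lf 0x6) (.lf 0))) (.nd (.nd (.lf 0x6) (.lf 0x6)) (.nd (.lf 0x5) (.lf 0))))) (.nd (.nd (.nd (.nd (.lf 0x4) (.lf 0x5)) (.nd (.lf 0x4) (.lf 0))) (.nd (.nd (.lf 0x1) (.lf 0x4)) (.nd (.lf 0x6) (.lf 0)))) (.nd (.nd (.nd (.lf 0x1) (.lf 0x3)) (.nd (.lf 0x4) (.lf 0))) (.nd (.nd (.lf 0x4) (.lf 0x5)) (.nd (.lf 0x4) (.lf 0))))))))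
def labT_nbabaaa : Tr := (.nd (.nd (.nd (.nd (.nd (.nd (.nd (.lf 0x5) (.lf 0x5)) (.nd (.lf 0x3) (.lf 0x2))) (.nd (.nd (.lf 0x7) (.lf 0x3)) (.nd (.lf 0x6) (.lf 0)))) (.nd (.nd (.nd (.lf 0x4) (.lf 0x4)) (.nd (.lf 0x4) (.lf 0))) (.nd (.nd (.lf 0x3) (.lf 0x3)) (.nd (.lf 0x4) (.lf 0))))) (.nd (.nd (.nd (.nd (.lf 0x4) (.lf 0x1)) (.nd (.lf 0x6) (.lf 0))) (.nd (.nd (.lf 0x5) (.lf 0x3)) (.nd (.lf 0x5) (.lf 0)))) (.nd (.nd (.nd (.lf 0x5) (.lf 0x5)) (.nd (.lf 0x3) (.lf 0))) (.nd (.nd (.lf 0x5) (.lf 0x5)) (.nd (.lf 0x4) (.lf 0)))))) (.nd (.nd (.nd (.nd (.nd (.lf 0x4) (.lf 0x1)) (.nd (.lf 0x5) (.lf 0))) (.nd (.nd (.lf 0x5) (.lf 0x4)) (.nd (.lf 0x4) (.lf 0)))) (.nd (.nd (.nd (.lf 0x3) (.lf 0x3)) (.nd (.lf 0x3) (.lf 0))) (.nd (.nd (.lf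 0x3) (.lf 0x4)) (.nd (.lf 0x4) (.lf 0))))) (.nd (.nd (.nd (.nd (.lf 0x3) (.lf 0x1)) (.nd (.lf 0x4) (.lf 0))) (.nd (.nd (.lf 0x1) (.lf 0x4)) (.nd (.lf 0x5) (.lf 0)))) (.nd (.nd (.nd (.lf 0x3) (.lf 0x3)) (.nd (.lf 0x5) (.lf 0))) (.nd (.nd (.lf 0x4) (.lf 0x5)) (.nd (.lf 0x4) (.lf 0))))))) (.nd (.nd (.nd (.nd (.nd (.nd (.lf 0x5) (.lf 0x3)) (.nd (.lf 0x5) (.lf 0))) (.nd (.nd (.lf 0x3) (.lf 0x5)) (.nd (.lf 0x4) (.lf 0)))) (.nd (.nd (.nd (.lf 0x4) (.lf 0x4)) (.nd (.lf 0x5) (.lf 0))) (.nd (.nd (.lf 0x4) (.lf 0x5)) (.nd (.lf 0x5) (.lf 0))))) (.nd (.nd (.nd (.nd (.lf 0x1) (.lf 0x6)) (.nd (.lf 0x1) (.lf 0))) (.nd (.nd (.lf 0x5) (.lf 0x2)) (.nd (.lf 0x5) (.lf 0)))) (.nd (.nd (.nd (.lf 0x4) (.lf 0x3)) (.nd (.lf 0x6) (.lf 0))) (.nd (.nd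 (.lf 0x3) (.lf 0x4)) (.nd (.lf 0x5) (.lf 0)))))) (.nd (.nd (.nd (.nd (.nd (.lf 0x4) (.lf 0x3)) (.nd (.lf 0x6) (.lf 0))) (.nd (.nd (.lf 0x5) (.lf 0x5)) (.nd (.lf 0x3) (.lf 0)))) (.nd (.nd (.nd (.lf 0x5) (.lf 0x1)) (.nd (.lf 0x4) (.lf 0))) (.nd (.nd (.lf 0x5) (.lf 0x3)) (.nd (.lf 0x4) (.lf 0))))) (.nd (.nd (.nd (.nd (.lf 0x1) (.lf 0x1)) (.nd (.lf 0x6) (.lf 0))) (.nd (.nd (.lf 0x3) (.lf 0x5)) (.nd (.lf 0x4) (.lf 0)))) (.nd (.nd (.nd (.lf 0x5) (.lf 0x4)) (.nd (.lf 0x5) (.lf 0))) (.nd (.nd (.lf 0x3) (.lf 0x4)) (.nd (.lf 0x1) (.lf 0))))))))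
def labT_nbabaab : Tr := (.nd (.nd (.nd (.nd (.nd (.nd (.nd (.lf 0x5) (.lf 0x3)) (.nd (.lf 0x5) (.lf 0))) (.nd (.nd (.lf 0x4) (.lf 0x2)) (.nd (.lf 0x4) (.lf 0)))) (.nd (.nd (.nd (.lf 0x5) (.lf 0x3)) (.nd (.lf 0x3) (.lf 0))) (.nd (.nd (.lf 0x5) (.lf 0x5)) (.nd (.lf 0x2) (.lf 0))))) (.nd (.nd (.nd (.nd (.lf 0x5) (.lf 0x5)) (.nd (.lf 0x5) (.lf 0))) (.nd (.nd (.lf 0x3) (.lf 0x5)) (.nd (.lf 0x6) (.lf 0)))) (.nd (.nd (.nd (.lf 0x2) (.lf 0x6)) (.nd (.lf 0x4) (.lf 0))) (.nd (.nd (.lf 0x5) (.lf 0x5)) (.nd (.lf 0x5) (.lf 0)))))) (.nd (.nd (.nd (.nd (.nd (.lf 0x3) (.lf 0x3)) (.nd (.lf 0x5) (.lf 0))) (.nd (.nd (.lf 0x6) (.lf 0x5)) (.nd (.lf 0x3) (.lf 0)))) (.nd (.nd (.nd (.lf 0x5) (.lf 0x4)) (.nd (.lf 0x4) (.lf 0))) (.nd (.nd (.lf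 0x4) (.lf 0x5)) (.nd (.lf 0x6) (.lf 0))))) (.nd (.nd (.nd (.nd (.lf 0x3) (.lf 0x6)) (.nd (.lf 0x3) (.lf 0))) (.nd (.nd (.lf 0x5) (.lf 0x6)) (.nd (.lf 0x3) (.lf 0)))) (.nd (.nd (.nd (.lf 0x5) (.lf 0x3)) (.nd (.lf 0x3) (.lf 0))) (.nd (.nd (.lf 0x5) (.lf 0x4)) (.nd (.lf 0x4) (.lf 0))))))) (.nd (.nd (.nd (.nd (.nd (.nd (.lf 0x5) (.lf 0x5)) (.nd (.lf 0x3) (.lf 0))) (.nd (.nd (.lf 0x3) (.lf 0x5)) (.nd (.lf 0x5) (.lf 0)))) (.nd (.nd (.nd (.lf 0x6) (.lf 0x4)) (.nd (.lf 0x2) (.lf 0))) (.nd (.nd (.lf 0x1) (.lf 0x3)) (.nd (.lf 0x1) (.lf 0))))) (.nd (.nd (.nd (.nd (.lf 0x5) (.lf 0x5)) (.nd (.lf 0x3) (.lf 0))) (.nd (.nd (.lf 0x3) (.lf 0x5)) (.nd (.lf 0x1) (.lf 0)))) (.nd (.nd (.nd (.lf 0x5) (.lf 0x6)) (.nd (.lf 0x5) (.lf 0))) (.nd (.nd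 (.lf 0x5) (.lf 0x4)) (.nd (.lf 0x6) (.lf 0)))))) (.nd (.nd (.nd (.nd (.nd (.lf 0x4) (.lf 0x1)) (.nd (.lf 0x5) (.lf 0))) (.nd (.nd (.lf 0x6) (.lf 0x5)) (.nd (.lf 0x3) (.lf 0)))) (.nd (.nd (.nd (.lf 0x1) (.lf 0x6)) (.nd (.lf 0x5) (.lf 0))) (.nd (.nd (.lf 0x4) (.lf 0x1)) (.nd (.lf 0x4) (.lf 0))))) (.nd (.nd (.nd (.nd (.lf 0x4) (.lf 0x6)) (.nd (.lf 0x5) (.lf 0))) (.nd (.nd (.lf 0x5) (.lf 0x3)) (.nd (.lf 0x4) (.lf 0)))) (.nd (.nd (.nd (.lf 0x4) (.lf 0x4)) (.nd (.lf 0x4) (.lf 0))) (.nd (.nd (.lf 0x1) (.lf 0x1)) (.nd (.lf 0x5) (.lf 0))))))))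
def labT_nbababa : Tr := (.nd (.nd (.nd (.nd (.nd (.nd (.nd (.lf 0x5) (.lf 0x3)) (.nd (.lf 0x5) (.lf 0))) (.nd (.nd (.lf 0x5) (.lf 0x3)) (.nd (.lf 0x6) (.lf 0)))) (.nd (.nd (.nd (.lf 0x5) (.lf 0x4)) (.nd (.lf 0x5) (.lf 0))) (.nd (.nd (.lf 0x4) (.lf 0x3)) (.nd (.lf 0x4) (.lf 0))))) (.nd (.nd (.nd (.nd (.lf 0x1) (.lf 0x5)) (.nd (.lf 0x5) (.lf 0))) (.nd (.nd (.lf 0x5) (.lf 0x3)) (.nd (.lf 0x5) (.lf 0)))) (.nd (.nd (.nd (.lf 0x3) (.lf 0x3)) (.nd (.lf 0x3) (.lf 0))) (.nd (.nd (.lf 0x5) (.lf 0x5)) (.nd (.lf 0x4) (.lf 0)))))) (.nd (.nd (.nd (.nd (.nd (.lf 0x2) (.lf 0x5)) (.nd (.lf 0x5) (.lf 0))) (.nd (.nd (.lf 0x5) (.lf 0x1)) (.nd (.lf 0x4) (.lf 0)))) (.nd (.nd (.nd (.lf 0x3) (.lf 0x3)) (.nd (.lf 0x3) (.lf 0))) (.nd (.nd (.lf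 0x5) (.lf 0x5)) (.nd (.lf 0x5) (.lf 0))))) (.nd (.nd (.nd (.nd (.lf 0x3) (.lf 0x4)) (.nd (.lf 0x3) (.lf 0))) (.nd (.nd (.lf 0x5) (.lf 0x5)) (.nd (.lf 0x3) (.lf 0)))) (.nd (.nd (.nd (.lf 0x4) (.lf 0x1)) (.nd (.lf 0x3) (.lf 0))) (.nd (.nd (.lf 0x1) (.lf 0x3)) (.nd (.lf 0x5) (.lf 0))))))) (.nd (.nd (.nd (.nd (.nd (.nd (.lf 0x5) (.lf 0x4)) (.nd (.lf 0x5) (.lf 0))) (.nd (.nd (.lf 0x3) (.lf 0x1)) (.nd (.lf 0x1) (.lf 0)))) (.nd (.nd (.nd (.lf 0x6) (.lf 0x3)) (.nd (.lf 0x3) (.lf 0))) (.nd (.nd (.lf 0x5) (.lf 0x5)) (.nd (.lf 0x4) (.lf 0))))) (.nd (.nd (.nd (.nd (.lf 0x4) (.lf 0x5)) (.nd (.lf 0x5) (.lf 0))) (.nd (.nd (.lf 0x3) (.lf 0x5)) (.nd (.lf 0x7) (.lf 0)))) (.nd (.nd (.nd (.lf 0x3) (.lf 0x5)) (.nd (.lf 0x4) (.lf 0))) (.nd (.nd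 (.lf 0x5) (.lf 0x4)) (.nd (.lf 0x3) (.lf 0)))))) (.nd (.nd (.nd (.nd (.nd (.lf 0x3) (.lf 0x1)) (.nd (.lf 0x3) (.lf 0))) (.nd (.nd (.lf 0x6) (.lf 0x6)) (.nd (.lf 0x5) (.lf 0)))) (.nd (.nd (.nd (.lf 0x5) (.lf 0x5)) (.nd (.lf 0x3) (.lf 0))) (.nd (.nd (.lf 0x3) (.lf 0x5)) (.nd (.lf 0x4) (.lf 0))))) (.nd (.nd (.nd (.nd (.lf 0x4) (.lf 0x5)) (.nd (.lf 0x1) (.lf 0))) (.nd (.nd (.lf 0x5) (.lf 0x5)) (.nd (.lf 0x5) (.lf 0)))) (.nd (.nd (.nd (.lf 0x4) (.lf 0x4)) (.nd (.lf 0x6) (.lf 0))) (.nd (.nd (.lf 0x5) (.lf 0x5)) (.nd (.lf 0x1) (.lf 0))))))))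
def labT_nbababb : Tr := (.nd (.nd (.nd (.nd (.nd (.nd (.nd (.lf 0x1) (.lf 0x4)) (.nd (.lf 0x4) (.lf 0))) (.nd (.nd (.lf 0x6) (.lf 0x5)) (.nd (.lf 0x5) (.lf 0)))) (.nd (.nd (.nd (.lf 0x5) (.lf 0x1)) (.nd (.lf 0x1) (.lf 0))) (.nd (.nd (.lf 0x5) (.lf 0x4)) (.nd (.lf 0x5) (.lf 0))))) (.nd (.nd (.nd (.nd (.lf 0x5) (.lf 0x3)) (.nd (.lf 0x1) (.lf 0))) (.nd (.nd (.lf 0x4) (.lf 0x3)) (.nd (.lf 0x5) (.lf 0)))) (.nd (.nd (.nd (.lf 0x6) (.lf 0x5)) (.nd (.lf 0x1) (.lf 0))) (.nd (.nd (.lf 0x1) (.lf 0x5)) (.nd (.lf 0x4) (.lf 0)))))) (.nd (.nd (.nd (.nd (.nd (.lf 0x5) (.lf 0x5)) (.nd (.lf 0x5) (.lf 0))) (.nd (.nd (.lf 0x1) (.lf 0x5)) (.nd (.lf 0x5) (.lf 0)))) (.nd (.nd (.nd (.lf 0x5) (.lf 0x3)) (.nd (.lf 0x7) (.lf 0))) (.nd (.nd (.lf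 0x4) (.lf 0x4)) (.nd (.lf 0x5) (.lf 0))))) (.nd (.nd (.nd (.nd (.lf 0x3) (.lf 0x5)) (.nd (.lf 0x5) (.lf 0))) (.nd (.nd (.lf 0x3) (.lf 0x4)) (.nd (.lf 0x5) (.lf 0)))) (.nd (.nd (.nd (.lf 0x4) (.lf 0x4)) (.nd (.lf 0x7) (.lf 0))) (.nd (.nd (.lf 0x5) (.lf 0x4)) (.nd (.lf 0x4) (.lf 0))))))) (.nd (.nd (.nd (.nd (.nd (.nd (.lf 0x1) (.lf 0x4)) (.nd (.lf 0x3) (.lf 0))) (.nd (.nd (.lf 0x5) (.lf 0x3)) (.nd (.lf 0x5) (.lf 0)))) (.nd (.nd (.nd (.lf 0x5) (.lf 0x5)) (.nd (.lf 0x4) (.lf 0))) (.nd (.nd (.lf 0x5) (.lf 0x3)) (.nd (.lf 0x3) (.lf 0))))) (.nd (.nd (.nd (.nd (.lf 0x4) (.lf 0x1)) (.nd (.lf 0x3) (.lf 0))) (.nd (.nd (.lf 0x5) (.lf 0x6)) (.nd (.lf 0x5) (.lf 0)))) (.nd (.nd (.nd (.lf 0x5) (.lf 0x5)) (.nd (.lf 0x3) (.lf 0))) (.nd (.nd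 (.lf 0x3) (.lf 0x3)) (.nd (.lf 0x5) (.lf 0)))))) (.nd (.nd (.nd (.nd (.nd (.lf 0x5) (.lf 0x5)) (.nd (.lf 0x4) (.lf 0))) (.nd (.nd (.lf 0x5) (.lf 0x5)) (.nd (.lf 0x5) (.lf 0)))) (.nd (.nd (.nd (.lf 0x5) (.lf 0x5)) (.nd (.lf 0x1) (.lf 0))) (.nd (.nd (.lf 0x4) (.lf 0x1)) (.nd (.lf 0x4) (.lf 0))))) (.nd (.nd (.nd (.nd (.lf 0x1) (.lf 0x5)) (.nd (.lf 0x5) (.lf 0))) (.nd (.nd (.lf 0x1) (.lf 0x3)) (.nd (.lf 0x5) (.lf 0)))) (.nd (.nd (.nd (.lf 0x4) (.lf 0x5)) (.nd (.lf 0x4) (.lf 0))) (.nd (.nd (.lf 0x4) (.lf 0x4)) (.nd (.lf 0x5) (.lf 0))))))))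
def labT_nbabbaa : Tr := (.nd (.nd (.nd (.nd (.nd (.nd (.nd (.lf 0x5) (.lf 0x6)) (.nd (.lf 0x5) (.lf 0))) (.nd (.nd (.lf 0x5) (.lf 0x1)) (.nd (.lf 0x5) (.lf 0)))) (.nd (.nd (.nd (.lf 0x2) (.lf 0x7)) (.nd (.lf 0x6) (.lf 0))) (.nd (.nd (.lf 0x4) (.lf 0x4)) (.nd (.lf 0x6) (.lf 0))))) (.nd (.nd (.nd (.nd (.lf 0x3) (.lf 0x3)) (.nd (.lf 0x3) (.lf 0))) (.nd (.nd (.lf 0x5) (.lf 0x6)) (.nd (.lf 0x7) (.lf 0)))) (.nd (.nd (.nd (.lf 0x5) (.lf 0x4)) (.nd (.lf 0x6) (.lf 0))) (.nd (.nd (.lf 0x3) (.lf 0x3)) (.nd (.lf 0x4) (.lf 0)))))) (.nd (.nd (.nd (.nd (.nd (.lf 0x1) (.lf 0x7)) (.nd (.lf 0x6) (.lf 0))) (.nd (.nd (.lf 0x1) (.lf 0x3)) (.nd (.lf 0x5) (.lf 0)))) (.nd (.nd (.nd (.lf 0x3) (.lf 0x1)) (.nd (.lf 0x4) (.lf 0))) (.nd (.nd (.lf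 0x5) (.lf 0x4)) (.nd (.lf 0x3) (.lf 0))))) (.nd (.nd (.nd (.nd (.lf 0x4) (.lf 0x6)) (.nd (.lf 0x1) (.lf 0))) (.nd (.nd (.lf 0x5) (.lf 0x5)) (.nd (.lf 0x1) (.lf 0)))) (.nd (.nd (.nd (.lf 0x1) (.lf 0x5)) (.nd (.lf 0x6) (.lf 0))) (.nd (.nd (.lf 0x5) (.lf 0x4)) (.nd (.lf 0x5) (.lf 0))))))) (.nd (.nd (.nd (.nd (.nd (.nd (.lf 0x3) (.lf 0x3)) (.nd (.lf 0x5) (.lf 0))) (.nd (.nd (.lf 0x4) (.lf 0x6)) (.nd (.lf 0x3) (.lf 0)))) (.nd (.nd (.nd (.lf 0x4) (.lf 0x1)) (.nd (.lf 0x1) (.lf 0))) (.nd (.nd (.lf 0x4) (.lf 0x3)) (.nd (.lf 0x4) (.lf 0))))) (.nd (.nd (.nd (.nd (.lf 0x3) (.lf 0x3)) (.nd (.lf 0x5) (.lf 0))) (.nd (.nd (.lf 0x5) (.lf 0x5)) (.nd (.lf 0x1) (.lf 0)))) (.nd (.nd (.nd (.lf 0x5) (.lf 0x7)) (.nd (.lf 0x4) (.lf 0))) (.nd (.nd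 (.lf 0x3) (.lf 0x3)) (.nd (.lf 0x1) (.lf 0)))))) (.nd (.nd (.nd (.nd (.nd (.lf 0x5) (.lf 0x5)) (.nd (.lf 0x4) (.lf 0))) (.nd (.nd (.lf 0x5) (.lf 0x6)) (.nd (.lf 0x5) (.lf 0)))) (.nd (.nd (.nd (.lf 0x1) (.lf 0x5)) (.nd (.lf 0x3) (.lf 0))) (.nd (.nd (.lf 0x5) (.lf 0x5)) (.nd (.lf 0x5) (.lf 0))))) (.nd (.nd (.nd (.nd (.lf 0x3) (.lf 0x4)) (.nd (.lf 0x5) (.lf 0))) (.nd (.nd (.lf 0x4) (.lf 0x3)) (.nd (.lf 0x4) (.lf 0)))) (.nd (.nd (.nd (.lf 0x3) (.lf 0x3)) (.nd (.lf 0x4) (.lf 0))) (.nd (.nd (.lf 0x1) (.lf 0x4)) (.nd (.lf 0x5) (.lf 0))))))))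
def labT_nbabbab : Tr := (.nd (.nd (.nd (.nd (.nd (.nd (.nd (.lf 0x3) (.lf 0x5)) (.nd (.lf 0x4) (.lf 0))) (.nd (.nd (.lf 0x5) (.lf 0x5)) (.nd (.lf 0x3) (.lf 0)))) (.nd (.nd (.nd (.lf 0x4) (.lf 0x6)) (.nd (.lf 0x1) (.lf 0))) (.nd (.nd (.lf 0x5) (.lf 0x4)) (.nd (.lf 0x5) (.lf 0))))) (.nd (.nd (.nd (.nd (.lf 0x4) (.lf 0x1)) (.nd (.lf 0x5) (.lf 0))) (.nd (.nd (.lf 0x3) (.lf 0x3)) (.nd (.lf 0x3) (.lf 0)))) (.nd (.nd (.nd (.lf 0x5) (.lf 0x4)) (.nd (.lf 0x4) (.lf 0))) (.nd (.nd (.lf 0x5) (.lf 0x4)) (.nd (.lf 0x5) (.lf 0)))))) (.nd (.nd (.nd (.nd (.nd (.lf 0x6) (.lf 0x4)) (.nd (.lf 0x3) (.lf 0))) (.nd (.nd (.lf 0x5) (.lf 0x4)) (.nd (.lf 0x5) (.lf 0)))) (.nd (.nd (.nd (.lf 0x5) (.lf 0x4)) (.nd (.lf 0x3) (.lf 0))) (.nd (.nd (.lf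 0x5) (.lf 0x7)) (.nd (.lf 0x6) (.lf 0))))) (.nd (.nd (.nd (.nd (.lf 0x3) (.lf 0x3)) (.nd (.lf 0x4) (.lf 0))) (.nd (.nd (.lf 0x1) (.lf 0x5)) (.nd (.lf 0x4) (.lf 0)))) (.nd (.nd (.nd (.lf 0x5) (.lf 0x5)) (.nd (.lf 0x3) (.lf 0))) (.nd (.nd (.lf 0x1) (.lf 0x5)) (.nd (.lf 0x1) (.lf 0))))))) (.nd (.nd (.nd (.nd (.nd (.nd (.lf 0x5) (.lf 0x1)) (.nd (.lf 0x5) (.lf 0))) (.nd (.nd (.lf 0x6) (.lf 0x5)) (.nd (.lf 0x1) (.lf 0)))) (.nd (.nd (.nd (.lf 0x6) (.lf 0x1)) (.nd (.lf 0x4) (.lf 0))) (.nd (.nd (.lf 0x5) (.lf 0x3)) (.nd (.lf 0x3) (.lf 0))))) (.nd (.nd (.nd (.nd (.lf 0x4) (.lf 0x5)) (.nd (.lf 0x5) (.lf 0))) (.nd (.nd (.lf 0x5) (.lf 0x6)) (.nd (.lf 0x4) (.lf 0)))) (.nd (.nd (.nd (.lf 0x5) (.lf 0x3)) (.nd (.lf 0x5) (.lf 0))) (.nd (.nd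 (.lf 0x1) (.lf 0x5)) (.nd (.lf 0x1) (.lf 0)))))) (.nd (.nd (.nd (.nd (.nd (.lf 0x5) (.lf 0x5)) (.nd (.lf 0x5) (.lf 0))) (.nd (.nd (.lf 0x3) (.lf 0x5)) (.nd (.lf 0x5) (.lf 0)))) (.nd (.nd (.nd (.lf 0x4) (.lf 0x5)) (.nd (.lf 0x6) (.lf 0))) (.nd (.nd (.lf 0x6) (.lf 0x4)) (.nd (.lf 0x5) (.lf 0))))) (.nd (.nd (.nd (.nd (.lf 0x4) (.lf 0x1)) (.nd (.lf 0x5) (.lf 0))) (.nd (.nd (.lf 0x4) (.lf 0x3)) (.nd (.lf 0x3) (.lf 0)))) (.nd (.nd (.nd (.lf 0x4) (.lf 0x4)) (.nd (.lf 0x3) (.lf 0))) (.nd (.nd (.lf 0x4) (.lf 0x5)) (.nd (.lf 0x5) (.lf 0))))))))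
def labT_nbabbba : Tr := (.nd (.nd (.nd (.nd (.nd (.nd (.nd (.lf 0x3) (.lf 0x1)) (.nd (.lf 0x5) (.lf 0))) (.nd (.nd (.lf 0x5) (.lf 0x5)) (.nd (.lf 0x1) (.lf 0)))) (.nd (.nd (.nd (.lf 0x5) (.lf 0x3)) (.nd (.lf 0x1) (.lf 0))) (.nd (.nd (.lf 0x2) (.lf 0x3)) (.nd (.lf 0x3) (.lf 0))))) (.nd (.nd (.nd (.nd (.lf 0x6) (.lf 0x3)) (.nd (.lf 0x5) (.lf 0))) (.nd (.nd (.lf 0x1) (.lf 0x5)) (.nd (.lf 0x5) (.lf 0)))) (.nd (.nd (.nd (.lf 0x4) (.lf 0x1)) (.nd (.lf 0x6) (.lf 0))) (.nd (.nd (.lf 0x3) (.lf 0x4)) (.nd (.lf 0x6) (.lf 0)))))) (.nd (.nd (.nd (.nd (.nd (.lf 0x5) (.lf 0x4)) (.nd (.lf 0x1) (.lf 0))) (.nd (.nd (.lf 0x3) (.lf 0x5)) (.nd (.lf 0x1) (.lf 0)))) (.nd (.nd (.nd (.lf 0x4) (.lf 0x4)) (.nd (.lf 0x6) (.lf 0))) (.nd (.nd (.lf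 0x5) (.lf 0x6)) (.nd (.lf 0x5) (.lf 0))))) (.nd (.nd (.nd (.nd (.lf 0x3) (.lf 0x3)) (.nd (.lf 0x5) (.lf 0))) (.nd (.nd (.lf 0x5) (.lf 0x5)) (.nd (.lf 0x4) (.lf 0)))) (.nd (.nd (.nd (.lf 0x4) (.lf 0x2)) (.nd (.lf 0x6) (.lf 0))) (.nd (.nd (.lf 0x5) (.lf 0x5)) (.nd (.lf 0x7) (.lf 0))))))) (.nd (.nd (.nd (.nd (.nd (.nd (.lf 0x5) (.lf 0x3)) (.nd (.lf 0x5) (.lf 0))) (.nd (.nd (.lf 0x5) (.lf 0x5)) (.nd (.lf 0x5) (.lf 0)))) (.nd (.nd (.nd (.lf 0x5) (.lf 0x5)) (.nd (.lf 0x5) (.lf 0))) (.nd (.nd (.lf 0x1) (.lf 0x5)) (.nd (.lf 0x3) (.lf 0))))) (.nd (.nd (.nd (.nd (.lf 0x6) (.lf 0x1)) (.nd (.lf 0x4) (.lf 0))) (.nd (.nd (.lf 0x5) (.lf 0x1)) (.nd (.lf 0x1) (.lf 0)))) (.nd (.nd (.nd (.lf 0x6) (.lf 0x3)) (.nd (.lf 0x5) (.lf 0))) (.nd (.nd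 (.lf 0x3) (.lf 0x5)) (.nd (.lf 0x1) (.lf 0)))))) (.nd (.nd (.nd (.nd (.nd (.lf 0x1) (.lf 0x5)) (.nd (.lf 0x5) (.lf 0))) (.nd (.nd (.lf 0x3) (.lf 0x4)) (.nd (.lf 0x5) (.lf 0)))) (.nd (.nd (.nd (.lf 0x5) (.lf 0x3)) (.nd (.lf 0x6) (.lf 0))) (.nd (.nd (.lf 0x3) (.lf 0x5)) (.nd (.lf 0x5) (.lf 0))))) (.nd (.nd (.nd (.nd (.lf 0x3) (.lf 0x5)) (.nd (.lf 0x5) (.lf 0))) (.nd (.nd (.lf 0x5) (.lf 0x5)) (.nd (.lf 0x3) (.lf 0)))) (.nd (.nd (.nd (.lf 0x4) (.lf 0x3)) (.nd (.lf 0x3) (.lf 0))) (.nd (.nd (.lf 0x5) (.lf 0x4)) (.nd (.lf 0x4) (.lf 0))))))))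
def labT_nbabbbb : Tr := (.nd (.nd (.nd (.nd (.nd (.nd (.nd (.lf 0x5) (.lf 0x5)) (.nd (.lf 0x5) (.lf 0))) (.nd (.nd (.lf 0x5) (.lf 0x5)) (.nd (.lf 0x4) (.lf 0)))) (.nd (.nd (.nd (.lf 0x3) (.lf 0x5)) (.nd (.lf 0x3) (.lf 0))) (.nd (.nd (.lf 0x5) (.lf 0x1)) (.nd (.lf 0x4) (.lf 0))))) (.nd (.nd (.nd (.nd (.lf 0x5) (.lf 0x4)) (.nd (.lf 0x6) (.lf 0))) (.nd (.nd (.lf 0x4) (.lf 0x6)) (.nd (.lf 0x5) (.lf 0)))) (.nd (.nd (.nd (.lf 0x6) (.lf 0x5)) (.nd (.lf 0x4) (.lf 0))) (.nd (.nd (.lf 0x5) (.lf 0x4)) (.nd (.lf 0x5) (.lf 0)))))) (.nd (.nd (.nd (.nd (.nd (.lf 0x6) (.lf 0x4)) (.nd (.lf 0x5) (.lf 0))) (.nd (.nd (.lf 0x4) (.lf 0x5)) (.nd (.lf 0x6) (.lf 0)))) (.nd (.nd (.nd (.lf 0x3) (.lf 0x4)) (.nd (.lf 0x6) (.lf 0))) (.nd (.nd (.lf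 0x6) (.lf 0x3)) (.nd (.lf 0x3) (.lf 0))))) (.nd (.nd (.nd (.nd (.lf 0x5) (.lf 0x5)) (.nd (.lf 0x4) (.lf 0))) (.nd (.nd (.lf 0x5) (.lf 0x4)) (.nd (.lf 0x5) (.lf 0)))) (.nd (.nd (.nd (.lf 0x1) (.lf 0x3)) (.nd (.lf 0x4) (.lf 0))) (.nd (.nd (.lf 0x4) (.lf 0x3)) (.nd (.lf 0x4) (.lf 0))))))) (.nd (.nd (.nd (.nd (.nd (.nd (.lf 0x5) (.lf 0x4)) (.nd (.lf 0x4) (.lf 0))) (.nd (.nd (.lf 0x5) (.lf 0x6)) (.nd (.lf 0x3) (.lf 0)))) (.nd (.nd (.nd (.lf 0x5) (.lf 0x5)) (.nd (.lf 0x5) (.lf 0))) (.nd (.nd (.lf 0x3) (.lf 0x3)) (.nd (.lf 0x5) (.lf 0))))) (.nd (.nd (.nd (.nd (.lf 0x5) (.lf 0x5)) (.nd (.lf 0x5) (.lf 0))) (.nd (.nd (.lf 0x5) (.lf 0x1)) (.nd (.lf 0x4) (.lf 0)))) (.nd (.nd (.nd (.lf 0x4) (.lf 0x4)) (.nd (.lf 0x3) (.lf 0))) (.nd (.nd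 (.lf 0x3) (.lf 0x5)) (.nd (.lf 0x3) (.lf 0)))))) (.nd (.nd (.nd (.nd (.nd (.lf 0x5) (.lf 0x6)) (.nd (.lf 0x6) (.lf 0))) (.nd (.nd (.lf 0x3) (.lf 0x5)) (.nd (.lf 0x4) (.lf 0)))) (.nd (.nd (.nd (.lf 0x7) (.lf 0x5)) (.nd (.lf 0x4) (.lf 0))) (.nd (.nd (.lf 0x1) (.lf 0x4)) (.nd (.lf 0x4) (.lf 0))))) (.nd (.nd (.nd (.nd (.lf 0x5) (.lf 0x5)) (.nd (.lf 0x4) (.lf 0))) (.nd (.nd (.lf 0x3) (.lf 0x4)) (.nd (.lf 0x6) (.lf 0)))) (.nd (.nd (.nd (.lf 0x1) (.lf 0x4)) (.nd (.lf 0x3) (.lf 0))) (.nd (.nd (.lf 0x5) (.lf 0x3)) (.nd (.lf 0x3) (.lf 0))))))))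
def labT_nbbaaaa : Tr := (.nd (.nd (.nd (.nd (.nd (.nd (.nd (.lf 0x3) (.lf 0x3)) (.nd (.lf 0x3) (.lf 0x5))) (.nd (.nd (.lf 0x1) (.lf 0x5)) (.nd (.lf 0x5) (.lf 0)))) (.nd (.nd (.nd (.lf 0x5) (.lf 0x3)) (.nd (.lf 0x4) (.lf 0))) (.nd (.nd (.lf 0x1) (.lf 0x6)) (.nd (.lf 0x3) (.lf 0))))) (.nd (.nd (.nd (.nd (.lf 0x4) (.lf 0x3)) (.nd (.lf 0x5) (.lf 0))) (.nd (.nd (.lf 0x3) (.lf 0x4)) (.nd (.lf 0x6) (.lf 0)))) (.nd (.nd (.nd (.lf 0x1) (.lf 0x5)) (.nd (.lf 0x4) (.lf 0))) (.nd (.nd (.lf 0x4) (.lf 0x5)) (.nd (.lf 0x6) (.lf 0)))))) (.nd (.nd (.nd (.nd (.nd (.lf 0x3) (.lf 0x7)) (.nd (.lf 0x5) (.lf 0))) (.nd (.nd (.lf 0x3) (.lf 0x6)) (.nd (.lf 0x5) (.lf 0)))) (.nd (.nd (.nd (.lf 0x4) (.lf 0x5)) (.nd (.lf 0x6) (.lf 0))) (.nd (.nd (.lf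 0x5) (.lf 0x4)) (.nd (.lf 0x4) (.lf 0))))) (.nd (.nd (.nd (.nd (.lf 0x3) (.lf 0x6)) (.nd (.lf 0x1) (.lf 0))) (.nd (.nd (.lf 0x3) (.lf 0x5)) (.nd (.lf 0x1) (.lf 0)))) (.nd (.nd (.nd (.lf 0x5) (.lf 0x1)) (.nd (.lf 0x4) (.lf 0))) (.nd (.nd (.lf 0x5) (.lf 0x5)) (.nd (.lf 0x6) (.lf 0))))))) (.nd (.nd (.nd (.nd (.nd (.nd (.lf 0x3) (.lf 0x1)) (.nd (.lf 0x5) (.lf 0))) (.nd (.nd (.lf 0x5) (.lf 0x4)) (.nd (.lf 0x5) (.lf 0)))) (.nd (.nd (.nd (.lf 0x6) (.lf 0x3)) (.nd (.lf 0x4) (.lf 0))) (.nd (.nd (.lf 0x3) (.lf 0x5)) (.nd (.lf 0x5) (.lf 0))))) (.nd (.nd (.nd (.nd (.lf 0x5) (.lf 0x4)) (.nd (.lf 0x4) (.lf 0))) (.nd (.nd (.lf 0x3) (.lf 0x5)) (.nd (.lf 0x3) (.lf 0)))) (.nd (.nd (.nd (.lf 0x3) (.lf 0x4)) (.nd (.lf 0x5) (.lf 0))) (.nd (.nd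 (.lf 0x3) (.lf 0x5)) (.nd (.lf 0x4) (.lf 0)))))) (.nd (.nd (.nd (.nd (.nd (.lf 0x4) (.lf 0x6)) (.nd (.lf 0x5) (.lf 0))) (.nd (.nd (.lf 0x4) (.lf 0x6)) (.nd (.lf 0x3) (.lf 0)))) (.nd (.nd (.nd (.lf 0x5) (.lf 0x5)) (.nd (.lf 0x4) (.lf 0))) (.nd (.nd (.lf 0x6) (.lf 0x2)) (.nd (.lf 0x2) (.lf 0))))) (.nd (.nd (.nd (.nd (.lf 0x1) (.lf 0x5)) (.nd (.lf 0x6) (.lf 0))) (.nd (.nd (.lf 0x4) (.lf 0x3)) (.nd (.lf 0x3) (.lf 0)))) (.nd (.nd (.nd (.lf 0x5) (.lf 0x1)) (.nd (.lf 0x4) (.lf 0))) (.nd (.nd (.lf 0x5) (.lf 0x3)) (.nd (.lf 0x3) (.lf 0))))))))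
def labT_nbbaaab : Tr := (.nd (.nd (.nd (.nd (.nd (.nd (.nd (.lf 0x3) (.lf 0x1)) (.nd (.lf 0x3) (.lf 0))) (.nd (.nd (.lf 0x1) (.lf 0x6)) (.nd (.lf 0x5) (.lf 0)))) (.nd (.nd (.nd (.lf 0x4) (.lf 0x5)) (.nd (.lf 0x5) (.lf 0))) (.nd (.nd (.lf 0x5) (.lf 0x7)) (.nd (.lf 0x3) (.lf 0))))) (.nd (.nd (.nd (.nd (.lf 0x4) (.lf 0x1)) (.nd (.lf 0x4) (.lf 0))) (.nd (.nd (.lf 0x6) (.lf 0x6)) (.nd (.lf 0x4) (.lf 0)))) (.nd (.nd (.nd (.lf 0x5) (.lf 0x4)) (.nd (.lf 0x5) (.lf 0))) (.nd (.nd (.lf 0x5) (.lf 0x3)) (.nd (.lf 0x4) (.lf 0)))))) (.nd (.nd (.nd (.nd (.nd (.lf 0x3) (.lf 0x1)) (.nd (.lf 0x6) (.lf 0))) (.nd (.nd (.lf 0x4) (.lf 0x6)) (.nd (.lf 0x5) (.lf 0)))) (.nd (.nd (.nd (.lf 0x5) (.lf 0x5)) (.nd (.lf 0x6) (.lf 0))) (.nd (.nd (.lf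 0x5) (.lf 0x4)) (.nd (.lf 0x3) (.lf 0))))) (.nd (.nd (.nd (.nd (.lf 0x4) (.lf 0x5)) (.nd (.lf 0x3) (.lf 0))) (.nd (.nd (.lf 0x3) (.lf 0x3)) (.nd (.lf 0x5) (.lf 0)))) (.nd (.nd (.nd (.lf 0x4) (.lf 0x6)) (.nd (.lf 0x5) (.lf 0))) (.nd (.nd (.lf 0x4) (.lf 0x3)) (.nd (.lf 0x5) (.lf 0))))))) (.nd (.nd (.nd (.nd (.nd (.nd (.lf 0x5) (.lf 0x1)) (.nd (.lf 0x3) (.lf 0))) (.nd (.nd (.lf 0x5) (.lf 0x5)) (.nd (.lf 0x1) (.lf 0)))) (.nd (.nd (.nd (.lf 0x4) (.lf 0x3)) (.nd (.lf 0x5) (.lf 0))) (.nd (.nd (.lf 0x4) (.lf 0x3)) (.nd (.lf 0x5) (.lf 0))))) (.nd (.nd (.nd (.nd (.lf 0x3) (.lf 0x5)) (.nd (.lf 0x5) (.lf 0))) (.nd (.nd (.lf 0x4) (.lf 0x6)) (.nd (.lf 0x6) (.lf 0)))) (.nd (.nd (.nd (.lf 0x6) (.lf 0x3)) (.nd (.lf 0x5) (.lf 0))) (.nd (.nd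 (.lf 0x5) (.lf 0x1)) (.nd (.lf 0x3) (.lf 0)))))) (.nd (.nd (.nd (.nd (.nd (.lf 0x5) (.lf 0x2)) (.nd (.lf 0x5) (.lf 0))) (.nd (.nd (.lf 0x4) (.lf 0x3)) (.nd (.lf 0x3) (.lf 0)))) (.nd (.nd (.nd (.lf 0x3) (.lf 0x6)) (.nd (.lf 0x3) (.lf 0))) (.nd (.nd (.lf 0x4) (.lf 0x4)) (.nd (.lf 0x4) (.lf 0))))) (.nd (.nd (.nd (.nd (.lf 0x1) (.lf 0x5)) (.nd (.lf 0x5) (.lf 0))) (.nd (.nd (.lf 0x3) (.lf 0x6)) (.nd (.lf 0x7) (.lf 0)))) (.nd (.nd (.nd (.lf 0x5) (.lf 0x5)) (.nd (.lf 0x5) (.lf 0))) (.nd (.nd (.lf 0x4) (.lf 0x4)) (.nd (.lf 0x6) (.lf 0))))))))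
def labT_nbbaaba : Tr := (.nd (.nd (.nd (.nd (.nd (.nd (.nd (.lf 0x1) (.lf 0x3)) (.nd (.lf 0x1) (.lf 0))) (.nd (.nd (.lf 0x3) (.lf 0x5)) (.nd (.lf 0x5) (.lf 0)))) (.nd (.nd (.nd (.lf 0x7) (.lf 0x5)) (.nd (.lf 0x2) (.lf 0))) (.nd (.nd (.lf 0x6) (.lf 0x1)) (.nd (.lf 0x1) (.lf 0))))) (.nd (.nd (.nd (.nd (.lf 0x5) (.lf 0x3)) (.nd (.lf 0x5) (.lf 0))) (.nd (.nd (.lf 0x3) (.lf 0x2)) (.nd (.lf 0x4) (.lf 0)))) (.nd (.nd (.nd (.lf 0x3) (.lf 0x1)) (.nd (.lf 0x4) (.lf 0))) (.nd (.nd (.lf 0x4) (.lf 0x5)) (.nd (.lf 0x1) (.lf 0)))))) (.nd (.nd (.nd (.nd (.nd (.lf 0x3) (.lf 0x6)) (.nd (.lf 0x5) (.lf 0))) (.nd (.nd (.lf 0x5) (.lf 0x3)) (.nd (.lf 0x5) (.lf 0)))) (.nd (.nd (.nd (.lf 0x5) (.lf 0x5)) (.nd (.lf 0x3) (.lf 0))) (.nd (.nd (.lf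 0x5) (.lf 0x5)) (.nd (.lf 0x5) (.lf 0))))) (.nd (.nd (.nd (.nd (.lf 0x3) (.lf 0x3)) (.nd (.lf 0x1) (.lf 0))) (.nd (.nd (.lf 0x5) (.lf 0x3)) (.nd (.lf 0x3) (.lf 0)))) (.nd (.nd (.nd (.lf 0x6) (.lf 0x5)) (.nd (.lf 0x4) (.lf 0))) (.nd (.nd (.lf 0x4) (.lf 0x4)) (.nd (.lf 0x4) (.lf 0))))))) (.nd (.nd (.nd (.nd (.nd (.nd (.lf 0x5) (.lf 0x1)) (.nd (.lf 0x3) (.lf 0))) (.nd (.nd (.lf 0x2) (.lf 0x4)) (.nd (.lf 0x6) (.lf 0)))) (.nd (.nd (.nd (.lf 0x5) (.lf 0x5)) (.nd (.lf 0x1) (.lf 0))) (.nd (.nd (.lf 0x5) (.lf 0x4)) (.nd (.lf 0x5) (.lf 0))))) (.nd (.nd (.nd (.nd (.lf 0x6) (.lf 0x4)) (.nd (.lf 0x4) (.lf 0))) (.nd (.nd (.lf 0x5) (.lf 0x3)) (.nd (.lf 0x1) (.lf 0)))) (.nd (.nd (.nd (.lf 0x3) (.lf 0x5)) (.nd (.lf 0x5) (.lf 0))) (.nd (.nd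 (.lf 0x3) (.lf 0x5)) (.nd (.lf 0x3) (.lf 0)))))) (.nd (.nd (.nd (.nd (.nd (.lf 0x3) (.lf 0x3)) (.nd (.lf 0x6) (.lf 0))) (.nd (.nd (.lf 0x5) (.lf 0x5)) (.nd (.lf 0x5) (.lf 0)))) (.nd (.nd (.nd (.lf 0x5) (.lf 0x5)) (.nd (.lf 0x6) (.lf 0))) (.nd (.nd (.lf 0x5) (.lf 0x4)) (.nd (.lf 0x3) (.lf 0))))) (.nd (.nd (.nd (.nd (.lf 0x4) (.lf 0x4)) (.nd (.lf 0x4) (.lf 0))) (.nd (.nd (.lf 0x3) (.lf 0x6)) (.nd (.lf 0x3) (.lf 0)))) (.nd (.nd (.nd (.lf 0x6) (.lf 0x6)) (.nd (.lf 0x5) (.lf 0))) (.nd (.nd (.lf 0x6) (.lf 0x3)) (.nd (.lf 0x3) (.lf 0))))))))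
def labT_nbbaabb : Tr := (.nd (.nd (.nd (.nd (.nd (.nd (.nd (.lf 0x3) (.lf 0x5)) (.nd (.lf 0x4) (.lf 0))) (.nd (.nd (.lf 0x1) (.lf 0x4)) (.nd (.lf 0x3) (.lf 0)))) (.nd (.nd (.nd (.lf 0x4) (.lf 0x4)) (.nd (.lf 0x4) (.lf 0))) (.nd (.nd (.lf 0x5) (.lf 0x5)) (.nd (.lf 0x5) (.lf 0))))) (.nd (.nd (.nd (.nd (.lf 0x5) (.lf 0x5)) (.nd (.lf 0x5) (.lf 0))) (.nd (.nd (.lf 0x4) (.lf 0x7)) (.nd (.lf 0x4) (.lf 0)))) (.nd (.nd (.nd (.lf 0x4) (.lf 0x5)) (.nd (.lf 0x3) (.lf 0))) (.nd (.nd (.lf 0x6) (.lf 0x3)) (.nd (.lf 0x3) (.lf 0)))))) (.nd (.nd (.nd (.nd (.nd (.lf 0x4) (.lf 0x3)) (.nd (.lf 0x5) (.lf 0))) (.nd (.nd (.lf 0x4) (.lf 0x3)) (.nd (.lf 0x1) (.lf 0)))) (.nd (.nd (.nd (.lf 0x3) (.lf 0x4)) (.nd (.lf 0x4) (.lf 0))) (.nd (.nd (.lf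 0x4) (.lf 0x7)) (.nd (.lf 0x5) (.lf 0))))) (.nd (.nd (.nd (.nd (.lf 0x5) (.lf 0x4)) (.nd (.lf 0x3) (.lf 0))) (.nd (.nd (.lf 0x3) (.lf 0x5)) (.nd (.lf 0x3) (.lf 0)))) (.nd (.nd (.nd (.lf 0x5) (.lf 0x4)) (.nd (.lf 0x3) (.lf 0))) (.nd (.nd (.lf 0x7) (.lf 0x5)) (.nd (.lf 0x3) (.lf 0))))))) (.nd (.nd (.nd (.nd (.nd (.nd (.lf 0x3) (.lf 0x5)) (.nd (.lf 0x5) (.lf 0))) (.nd (.nd (.lf 0x6) (.lf 0x6)) (.nd (.lf 0x4) (.lf 0)))) (.nd (.nd (.nd (.lf 0x3) (.lf 0x5)) (.nd (.lf 0x5) (.lf 0))) (.nd (.nd (.lf 0x5) (.lf 0x1)) (.nd (.lf 0x5) (.lf 0))))) (.nd (.nd (.nd (.nd (.lf 0x5) (.lf 0x5)) (.nd (.lf 0x1) (.lf 0))) (.nd (.nd (.lf 0x6) (.lf 0x3)) (.nd (.lf 0x5) (.lf 0)))) (.nd (.nd (.nd (.lf 0x3) (.lf 0x6)) (.nd (.lf 0x4) (.lf 0))) (.nd (.nd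 (.lf 0x5) (.lf 0x4)) (.nd (.lf 0x3) (.lf 0)))))) (.nd (.nd (.nd (.nd (.nd (.lf 0x4) (.lf 0x4)) (.nd (.lf 0x3) (.lf 0))) (.nd (.nd (.lf 0x3) (.lf 0x4)) (.nd (.lf 0x5) (.lf 0)))) (.nd (.nd (.nd (.lf 0x5) (.lf 0x5)) (.nd (.lf 0x6) (.lf 0))) (.nd (.nd (.lf 0x1) (.lf 0x5)) (.nd (.lf 0x4) (.lf 0))))) (.nd (.nd (.nd (.nd (.lf 0x5) (.lf 0x3)) (.nd (.lf 0x3) (.lf 0))) (.nd (.nd (.lf 0x3) (.lf 0x5)) (.nd (.lf 0x5) (.lf 0)))) (.nd (.nd (.nd (.lf 0x3) (.lf 0x4)) (.nd (.lf 0x3) (.lf 0))) (.nd (.nd (.lf 0x3) (.lf 0x5)) (.nd (.lf 0x3) (.lf 0))))))))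
def labT_nbbabaa : Tr := (.nd (.nd (.nd (.nd (.nd (.nd (.nd (.lf 0x1) (.lf 0x7)) (.nd (.lf 0x4) (.lf 0x5))) (.nd (.nd (.lf 0x4) (.lf 0x6)) (.nd (.lf 0x3) (.lf 0)))) (.nd (.nd (.nd (.lf 0x4) (.lf 0x5)) (.nd (.lf 0x4) (.lf 0))) (.nd (.nd (.lf 0x3) (.lf 0x3)) (.nd (.lf 0x3) (.lf 0))))) (.nd (.nd (.nd (.nd (.lf 0x4) (.lf 0x6)) (.nd (.lf 0x5) (.lf 0))) (.nd (.nd (.lf 0x3) (.lf 0x6)) (.nd (.lf 0x5) (.lf 0)))) (.nd (.nd (.nd (.lf 0x1) (.lf 0x3)) (.nd (.lf 0x5) (.lf 0))) (.nd (.nd (.lf 0x4) (.lf 0x4)) (.nd (.lf 0x6) (.lf 0)))))) (.nd (.nd (.nd (.nd (.nd (.lf 0x5) (.lf 0x6)) (.nd (.lf 0x1) (.lf 0))) (.nd (.nd (.lf 0x4) (.lf 0x3)) (.nd (.lf 0x4) (.lf 0)))) (.nd (.nd (.nd (.lf 0x5) (.lf 0x6)) (.nd (.lf 0x5) (.lf 0))) (.nd (.nd (.lf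 0x3) (.lf 0x4)) (.nd (.lf 0x4) (.lf 0))))) (.nd (.nd (.nd (.nd (.lf 0x4) (.lf 0x4)) (.nd (.lf 0x5) (.lf 0))) (.nd (.nd (.lf 0x5) (.lf 0x3)) (.nd (.lf 0x1) (.lf 0)))) (.nd (.nd (.nd (.lf 0x5) (.lf 0x4)) (.nd (.lf 0x4) (.lf 0))) (.nd (.nd (.lf 0x3) (.lf 0x4)) (.nd (.lf 0x3) (.lf 0))))))) (.nd (.nd (.nd (.nd (.nd (.nd (.lf 0x5) (.lf 0x5)) (.nd (.lf 0x5) (.lf 0))) (.nd (.nd (.lf 0x1) (.lf 0x5)) (.nd (.lf 0x3) (.lf 0)))) (.nd (.nd (.nd (.lf 0x5) (.lf 0x3)) (.nd (.lf 0x1) (.lf 0))) (.nd (.nd (.lf 0x4) (.lf 0x5)) (.nd (.lf 0x5) (.lf 0))))) (.nd (.nd (.nd (.nd (.lf 0x4) (.lf 0x6)) (.nd (.lf 0x5) (.lf 0))) (.nd (.nd (.lf 0x1) (.lf 0x3)) (.nd (.lf 0x4) (.lf 0)))) (.nd (.nd (.nd (.lf 0x6) (.lf 0x5)) (.nd (.lf 0x3) (.lf 0))) (.nd (.nd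 (.lf 0x4) (.lf 0x2)) (.nd (.lf 0x3) (.lf 0)))))) (.nd (.nd (.nd (.nd (.nd (.lf 0x3) (.lf 0x4)) (.nd (.lf 0x5) (.lf 0))) (.nd (.nd (.lf 0x4) (.lf 0x5)) (.nd (.lf 0x4) (.lf 0)))) (.nd (.nd (.nd (.lf 0x5) (.lf 0x6)) (.nd (.lf 0x5) (.lf 0))) (.nd (.nd (.lf 0x1) (.lf 0x4)) (.nd (.lf 0x3) (.lf 0))))) (.nd (.nd (.nd (.nd (.lf 0x4) (.lf 0x1)) (.nd (.lf 0x6) (.lf 0))) (.nd (.nd (.lf 0x4) (.lf 0x5)) (.nd (.lf 0x3) (.lf 0)))) (.nd (.nd (.nd (.lf 0x5) (.lf 0x1)) (.nd (.lf 0x6) (.lf 0))) (.nd (.nd (.lf 0x3) (.lf 0x1)) (.nd (.lf 0x5) (.lf 0))))))))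
def labT_nbbabab : Tr := (.nd (.nd (.nd (.nd (.nd (.nd (.nd (.lf 0x1) (.lf 0x4)) (.nd (.lf 0x7) (.lf 0))) (.nd (.nd (.lf 0x5) (.lf 0x1)) (.nd (.lf 0x3) (.lf 0)))) (.nd (.nd (.nd (.lf 0x3) (.lf 0x6)) (.nd (.lf 0x4) (.lf 0))) (.nd (.nd (.lf 0x4) (.lf 0x5)) (.nd (.lf 0x4) (.lf 0))))) (.nd (.nd (.nd (.nd (.lf 0x5) (.lf 0x1)) (.nd (.lf 0x4) (.lf 0))) (.nd (.nd (.lf 0x3) (.lf 0x3)) (.nd (.lf 0x5) (.lf 0)))) (.nd (.nd (.nd (.lf 0x1) (.lf 0x4)) (.nd (.lf 0x5) (.lf 0))) (.nd (.nd (.lf 0x3) (.lf 0x4)) (.nd (.lf 0x4) (.lf 0)))))) (.nd (.nd (.nd (.nd (.nd (.lf 0x7) (.lf 0x3)) (.nd (.lf 0x6) (.lf 0))) (.nd (.nd (.lf 0x3) (.lf 0x7)) (.nd (.lf 0x3) (.lf 0)))) (.nd (.nd (.nd (.lf 0x3) (.lf 0x4)) (.nd (.lf 0x5) (.lf 0))) (.nd (.nd (.lf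 0x3) (.lf 0x4)) (.nd (.lf 0x4) (.lf 0))))) (.nd (.nd (.nd (.nd (.lf 0x4) (.lf 0x4)) (.nd (.lf 0x4) (.lf 0))) (.nd (.nd (.lf 0x1) (.lf 0x4)) (.nd (.lf 0x4) (.lf 0)))) (.nd (.nd (.nd (.lf 0x3) (.lf 0x3)) (.nd (.lf 0x5) (.lf 0))) (.nd (.nd (.lf 0x3) (.lf 0x5)) (.nd (.lf 0x3) (.lf 0))))))) (.nd (.nd (.nd (.nd (.nd (.nd (.lf 0x5) (.lf 0x6)) (.nd (.lf 0x5) (.lf 0))) (.nd (.nd (.lf 0x5) (.lf 0x5)) (.nd (.lf 0x3) (.lf 0)))) (.nd (.nd (.nd (.lf 0x4) (.lf 0x5)) (.nd (.lf 0x1) (.lf 0))) (.nd (.nd (.lf 0x4) (.lf 0x3)) (.nd (.lf 0x5) (.lf 0))))) (.nd (.nd (.nd (.nd (.lf 0x1) (.lf 0x1)) (.nd (.lf 0x5) (.lf 0))) (.nd (.nd (.lf 0x5) (.lf 0x4)) (.nd (.lf 0x6) (.lf 0)))) (.nd (.nd (.nd (.lf 0x4) (.lf 0x3)) (.nd (.lf 0x1) (.lf 0))) (.nd (.nd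 (.lf 0x3) (.lf 0x5)) (.nd (.lf 0x5) (.lf 0)))))) (.nd (.nd (.nd (.nd (.nd (.lf 0x4) (.lf 0x5)) (.nd (.lf 0x6) (.lf 0))) (.nd (.nd (.lf 0x3) (.lf 0x1)) (.nd (.lf 0x3) (.lf 0)))) (.nd (.nd (.nd (.lf 0x5) (.lf 0x5)) (.nd (.lf 0x3) (.lf 0))) (.nd (.nd (.lf 0x5) (.lf 0x5)) (.nd (.lf 0x3) (.lf 0))))) (.nd (.nd (.nd (.nd (.lf 0x6) (.lf 0x4)) (.nd (.lf 0x5) (.lf 0))) (.nd (.nd (.lf 0x1) (.lf 0x7)) (.nd (.lf 0x6) (.lf 0)))) (.nd (.nd (.nd (.lf 0x4) (.lf 0x1)) (.nd (.lf 0x3) (.lf 0))) (.nd (.nd (.lf 0x4) (.lf 0x3)) (.nd (.lf 0x5) (.lf 0))))))))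
def labT_nbbabba : Tr := (.nd (.nd (.nd (.nd (.nd (.nd (.nd (.lf 0x3) (.lf 0x7)) (.nd (.lf 0x3) (.lf 0))) (.nd (.nd (.lf 0x5) (.lf 0x3)) (.nd (.lf 0x6) (.lf 0)))) (.nd (.nd (.nd (.lf 0x5) (.lf 0x3)) (.nd (.lf 0x3) (.lf 0))) (.nd (.nd (.lf 0x4) (.lf 0x4)) (.nd (.lf 0x5) (.lf 0))))) (.nd (.nd (.nd (.nd (.lf 0x3) (.lf 0x5)) (.nd (.lf 0x5) (.lf 0))) (.nd (.nd (.lf 0x6) (.lf 0x6)) (.nd (.lf 0x4) (.lf 0)))) (.nd (.nd (.nd (.lf 0x5) (.lf 0x5)) (.nd (.lf 0x4) (.lf 0))) (.nd (.nd (.lf 0x3) (.lf 0x3)) (.nd (.lf 0x3) (.lf 0)))))) (.nd (.nd (.nd (.nd (.nd (.lf 0x6) (.lf 0x4)) (.nd (.lf 0x5) (.lf 0))) (.nd (.nd (.lf 0x1) (.lf 0x4)) (.nd (.lf 0x4) (.lf 0)))) (.nd (.nd (.nd (.lf 0x4) (.lf 0x4)) (.nd (.lf 0x4) (.lf 0))) (.nd (.nd (.lf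 0x5) (.lf 0x1)) (.nd (.lf 0x5) (.lf 0))))) (.nd (.nd (.nd (.nd (.lf 0x5) (.lf 0x6)) (.nd (.lf 0x6) (.lf 0))) (.nd (.nd (.lf 0x3) (.lf 0x4)) (.nd (.lf 0x3) (.lf 0)))) (.nd (.nd (.nd (.lf 0x3) (.lf 0x3)) (.nd (.lf 0x1) (.lf 0))) (.nd (.nd (.lf 0x7) (.lf 0x4)) (.nd (.lf 0x4) (.lf 0))))))) (.nd (.nd (.nd (.nd (.nd (.nd (.lf 0x3) (.lf 0x3)) (.nd (.lf 0x5) (.lf 0))) (.nd (.nd (.lf 0x5) (.lf 0x5)) (.nd (.lf 0x4) (.lf 0)))) (.nd (.nd (.nd (.lf 0x1) (.lf 0x5)) (.nd (.lf 0x4) (.lf 0))) (.nd (.nd (.lf 0x1) (.lf 0x4)) (.nd (.lf 0x5) (.lf 0))))) (.nd (.nd (.nd (.nd (.lf 0x4) (.lf 0x4)) (.nd (.lf 0x3) (.lf 0))) (.nd (.nd (.lf 0x4) (.lf 0x6)) (.nd (.lf 0x6) (.lf 0)))) (.nd (.nd (.nd (.lf 0x5) (.lf 0x4)) (.nd (.lf 0x5) (.lf 0))) (.nd (.nd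 (.lf 0x5) (.lf 0x3)) (.nd (.lf 0x5) (.lf 0)))))) (.nd (.nd (.nd (.nd (.nd (.lf 0x4) (.lf 0x5)) (.nd (.lf 0x4) (.lf 0))) (.nd (.nd (.lf 0x4) (.lf 0x5)) (.nd (.lf 0x4) (.lf 0)))) (.nd (.nd (.nd (.lf 0x3) (.lf 0x3)) (.nd (.lf 0x3) (.lf 0))) (.nd (.nd (.lf 0x1) (.lf 0x4)) (.nd (.lf 0x1) (.lf 0))))) (.nd (.nd (.nd (.nd (.lf 0x1) (.lf 0x6)) (.nd (.lf 0x1) (.lf 0))) (.nd (.nd (.lf 0x5) (.lf 0x4)) (.nd (.lf 0x1) (.lf 0)))) (.nd (.nd (.nd (.lf 0x7) (.lf 0x6)) (.nd (.lf 0x4) (.lf 0))) (.nd (.nd (.lf 0x3) (.lf 0x2)) (.nd (.lf 0x1) (.lf 0))))))))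
def labT_nbbabbb : Tr := (.nd (.nd (.nd (.nd (.nd (.nd (.nd (.lf 0x3) (.lf 0x4)) (.nd (.lf 0x1) (.lf 0))) (.nd (.nd (.lf 0x1) (.lf 0x7)) (.nd (.lf 0x5) (.lf 0)))) (.nd (.nd (.nd (.lf 0x2) (.lf 0x1)) (.nd (.lf 0x4) (.lf 0))) (.nd (.nd (.lf 0x3) (.lf 0x5)) (.nd (.lf 0x4) (.lf 0))))) (.nd (.nd (.nd (.nd (.lf 0x3) (.lf 0x5)) (.nd (.lf 0x5) (.lf 0))) (.nd (.nd (.lf 0x5) (.lf 0x3)) (.nd (.lf 0x5) (.lf 0)))) (.nd (.nd (.nd (.lf 0x5) (.lf 0x1)) (.nd (.lf 0x5) (.lf 0))) (.nd (.nd (.lf 0x5) (.lf 0x5)) (.nd (.lf 0x3) (.lf 0)))))) (.nd (.nd (.nd (.nd (.nd (.lf 0x5) (.lf 0x5)) (.nd (.lf 0x5) (.lf 0))) (.nd (.nd (.lf 0x4) (.lf 0x4)) (.nd (.lf 0x3) (.lf 0)))) (.nd (.nd (.nd (.lf 0x3) (.lf 0x4)) (.nd (.lf 0x3) (.lf 0))) (.nd (.nd (.lf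 0x6) (.lf 0x3)) (.nd (.lf 0x5) (.lf 0))))) (.nd (.nd (.nd (.nd (.lf 0x5) (.lf 0x5)) (.nd (.lf 0x4) (.lf 0))) (.nd (.nd (.lf 0x3) (.lf 0x1)) (.nd (.lf 0x5) (.lf 0)))) (.nd (.nd (.nd (.lf 0x4) (.lf 0x5)) (.nd (.lf 0x5) (.lf 0))) (.nd (.nd (.lf 0x5) (.lf 0x4)) (.nd (.lf 0x5) (.lf 0))))))) (.nd (.nd (.nd (.nd (.nd (.nd (.lf 0x4) (.lf 0x3)) (.nd (.lf 0x5) (.lf 0))) (.nd (.nd (.lf 0x5) (.lf 0x5)) (.nd (.lf 0x1) (.lf 0)))) (.nd (.nd (.nd (.lf 0x4) (.lf 0x5)) (.nd (.lf 0x4) (.lf 0))) (.nd (.nd (.lf 0x1) (.lf 0x4)) (.nd (.lf 0x3) (.lf 0))))) (.nd (.nd (.nd (.nd (.lf 0x4) (.lf 0x1)) (.nd (.lf 0x5) (.lf 0))) (.nd (.nd (.lf 0x4) (.lf 0x3)) (.nd (.lf 0x5) (.lf 0)))) (.nd (.nd (.nd (.lf 0x3) (.lf 0x4)) (.nd (.lf 0x6) (.lf 0))) (.nd (.nd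 (.lf 0x5) (.lf 0x5)) (.nd (.lf 0x5) (.lf 0)))))) (.nd (.nd (.nd (.nd (.nd (.lf 0x3) (.lf 0x3)) (.nd (.lf 0x4) (.lf 0))) (.nd (.nd (.lf 0x3) (.lf 0x5)) (.nd (.lf 0x3) (.lf 0)))) (.nd (.nd (.nd (.lf 0x7) (.lf 0x5)) (.nd (.lf 0x5) (.lf 0))) (.nd (.nd (.lf 0x5) (.lf 0x5)) (.nd (.lf 0x1) (.lf 0))))) (.nd (.nd (.nd (.nd (.lf 0x3) (.lf 0x5)) (.nd (.lf 0x4) (.lf 0))) (.nd (.nd (.lf 0x5) (.lf 0x4)) (.nd (.lf 0x5) (.lf 0)))) (.nd (.nd (.nd (.lf 0x3) (.lf 0x5)) (.nd (.lf 0x5) (.lf 0))) (.nd (.nd (.lf 0x6) (.lf 0x5)) (.nd (.lf 0x5) (.lf 0))))))))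
def labT_nbbbaaa : Tr := (.nd (.nd (.nd (.nd (.nd (.nd (.nd (.lf 0x5) (.lf 0x5)) (.nd (.lf 0x5) (.lf 0x3))) (.nd (.nd (.lf 0x1) (.lf 0x5)) (.nd (.lf 0x3) (.lf 0)))) (.nd (.nd (.nd (.lf 0x1) (.lf 0x4)) (.nd (.lf 0x6) (.lf 0))) (.nd (.nd (.lf 0x6) (.lf 0x1)) (.nd (.lf 0x1) (.lf 0))))) (.nd (.nd (.nd (.nd (.lf 0x3) (.lf 0x1)) (.nd (.lf 0x4) (.lf 0))) (.nd (.nd (.lf 0x5) (.lf 0x4)) (.nd (.lf 0x3) (.lf 0)))) (.nd (.nd (.nd (.lf 0x5) (.lf 0x5)) (.nd (.lf 0x4) (.lf 0))) (.nd (.nd (.lf 0x6) (.lf 0x3)) (.nd (.lf 0x1) (.lf 0)))))) (.nd (.nd (.nd (.nd (.nd (.lf 0x5) (.lf 0x5)) (.nd (.lf 0x5) (.lf 0))) (.nd (.nd (.lf 0x4) (.lf 0x5)) (.nd (.lf 0x4) (.lf 0)))) (.nd (.nd (.nd (.lf 0x3) (.lf 0x5)) (.nd (.lf 0x4) (.lf 0))) (.nd (.nd (.lf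 0x1) (.lf 0x4)) (.nd (.lf 0x4) (.lf 0))))) (.nd (.nd (.nd (.nd (.lf 0x5) (.lf 0x5)) (.nd (.lf 0x1) (.lf 0))) (.nd (.nd (.lf 0x1) (.lf 0x5)) (.nd (.lf 0x5) (.lf 0)))) (.nd (.nd (.nd (.lf 0x3) (.lf 0x4)) (.nd (.lf 0x3) (.lf 0))) (.nd (.nd (.lf 0x6) (.lf 0x2)) (.nd (.lf 0x7) (.lf 0))))))) (.nd (.nd (.nd (.nd (.nd (.nd (.lf 0x4) (.lf 0x6)) (.nd (.lf 0x3) (.lf 0))) (.nd (.nd (.lf 0x3) (.lf 0x6)) (.nd (.lf 0x3) (.lf 0)))) (.nd (.nd (.nd (.lf 0x4) (.lf 0x5)) (.nd (.lf 0x5) (.lf 0))) (.nd (.nd (.lf 0x4) (.lf 0x5)) (.nd (.lf 0x5) (.lf 0))))) (.nd (.nd (.nd (.nd (.lf 0x3) (.lf 0x4)) (.nd (.lf 0x5) (.lf 0))) (.nd (.nd (.lf 0x3) (.lf 0x5)) (.nd (.lf 0x1) (.lf 0)))) (.nd (.nd (.nd (.lf 0x4) (.lf 0x4)) (.nd (.lf 0x5) (.lf 0))) (.nd (.nd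 (.lf 0x4) (.lf 0x6)) (.nd (.lf 0x3) (.lf 0)))))) (.nd (.nd (.nd (.nd (.nd (.lf 0x4) (.lf 0x1)) (.nd (.lf 0x4) (.lf 0))) (.nd (.nd (.lf 0x1) (.lf 0x5)) (.nd (.lf 0x4) (.lf 0)))) (.nd (.nd (.nd (.lf 0x5) (.lf 0x4)) (.nd (.lf 0x1) (.lf 0))) (.nd (.nd (.lf 0x5) (.lf 0x4)) (.nd (.lf 0x3) (.lf 0))))) (.nd (.nd (.nd (.nd (.lf 0x5) (.lf 0x4)) (.nd (.lf 0x5) (.lf 0))) (.nd (.nd (.lf 0x5) (.lf 0x7)) (.nd (.lf 0x5) (.lf 0)))) (.nd (.nd (.nd (.lf 0x3) (.lf 0x3)) (.nd (.lf 0x6) (.lf 0))) (.nd (.nd (.lf 0x5) (.lf 0x4)) (.nd (.lf 0x6) (.lf 0))))))))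
def labT_nbbbaab : Tr := (.nd (.nd (.nd (.nd (.nd (.nd (.nd (.lf 0x4) (.lf 0x1)) (.nd (.lf 0x1) (.lf 0))) (.nd (.nd (.lf 0x5) (.lf 0x4)) (.nd (.lf 0x3) (.lf 0)))) (.nd (.nd (.nd (.lf 0x5) (.lf 0x5)) (.nd (.lf 0x1) (.lf 0))) (.nd (.nd (.lf 0x1) (.lf 0x1)) (.nd (.lf 0x5) (.lf 0))))) (.nd (.nd (.nd (.nd (.lf 0x3) (.lf 0x1)) (.nd (.lf 0x3) (.lf 0))) (.nd (.nd (.lf 0x3) (.lf 0x1)) (.nd (.lf 0x5) (.lf 0)))) (.nd (.nd (.nd (.lf 0x4) (.lf 0x5)) (.nd (.lf 0x3) (.lf 0))) (.nd (.nd (.lf 0x4) (.lf 0x4)) (.nd (.lf 0x5) (.lf 0)))))) (.nd (.nd (.nd (.nd (.nd (.lf 0x1) (.lf 0x4)) (.nd (.lf 0x4) (.lf 0))) (.nd (.nd (.lf 0x3) (.lf 0x4)) (.nd (.lf 0x5) (.lf 0)))) (.nd (.nd (.nd (.lf 0x5) (.lf 0x1)) (.nd (.lf 0x5) (.lf 0))) (.nd (.nd (.lf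 0x5) (.lf 0x1)) (.nd (.lf 0x4) (.lf 0))))) (.nd (.nd (.nd (.nd (.lf 0x4) (.lf 0x3)) (.nd (.lf 0x4) (.lf 0))) (.nd (.nd (.lf 0x5) (.lf 0x5)) (.nd (.lf 0x5) (.lf 0)))) (.nd (.nd (.nd (.lf 0x4) (.lf 0x3)) (.nd (.lf 0x2) (.lf 0))) (.nd (.nd (.lf 0x1) (.lf 0x3)) (.nd (.lf 0x5) (.lf 0))))))) (.nd (.nd (.nd (.nd (.nd (.nd (.lf 0x6) (.lf 0x5)) (.nd (.lf 0x3) (.lf 0))) (.nd (.nd (.lf 0x5) (.lf 0x6)) (.nd (.lf 0x3) (.lf 0)))) (.nd (.nd (.nd (.lf 0x5) (.lf 0x6)) (.nd (.lf 0x4) (.lf 0))) (.nd (.nd (.lf 0x7) (.lf 0x4)) (.nd (.lf 0x4) (.lf 0))))) (.nd (.nd (.nd (.nd (.lf 0x5) (.lf 0x3)) (.nd (.lf 0x6) (.lf 0))) (.nd (.nd (.lf 0x4) (.lf 0x3)) (.nd (.lf 0x4) (.lf 0)))) (.nd (.nd (.nd (.lf 0x5) (.lf 0x5)) (.nd (.lf 0x4) (.lf 0))) (.nd (.nd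 (.lf 0x4) (.lf 0x1)) (.nd (.lf 0x4) (.lf 0)))))) (.nd (.nd (.nd (.nd (.nd (.lf 0x5) (.lf 0x7)) (.nd (.lf 0x5) (.lf 0))) (.nd (.nd (.lf 0x6) (.lf 0x5)) (.nd (.lf 0x5) (.lf 0)))) (.nd (.nd (.nd (.lf 0x1) (.lf 0x5)) (.nd (.lf 0x7) (.lf 0))) (.nd (.nd (.lf 0x5) (.lf 0x3)) (.nd (.lf 0x3) (.lf 0))))) (.nd (.nd (.nd (.nd (.lf 0x3) (.lf 0x4)) (.nd (.lf 0x3) (.lf 0))) (.nd (.nd (.lf 0x3) (.lf 0x5)) (.nd (.lf 0x4) (.lf 0)))) (.nd (.nd (.nd (.lf 0x5) (.lf 0x4)) (.nd (.lf 0x5) (.lf 0))) (.nd (.nd (.lf 0x4) (.lf 0x4)) (.nd (.lf 0x1) (.lf 0))))))))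
def labT_nbbbaba : Tr := (.nd (.nd (.nd (.nd (.nd (.nd (.nd (.lf 0x4) (.lf 0x6)) (.nd (.lf 0x4) (.lf 0))) (.nd (.nd (.lf 0x3) (.lf 0x6)) (.nd (.lf 0x5) (.lf 0)))) (.nd (.nd (.nd (.lf 0x4) (.lf 0x4)) (.nd (.lf 0x5) (.lf 0))) (.nd (.nd (.lf 0x5) (.lf 0x7)) (.nd (.lf 0x5) (.lf 0))))) (.nd (.nd (.nd (.nd (.lf 0x4) (.lf 0x3)) (.nd (.lf 0x4) (.lf 0))) (.nd (.nd (.lf 0x4) (.lf 0x3)) (.nd (.lf 0x3) (.lf 0)))) (.nd (.nd (.nd (.lf 0x1) (.lf 0x4)) (.nd (.lf 0x3) (.lf 0))) (.nd (.nd (.lf 0x3) (.lf 0x3)) (.nd (.lf 0x5) (.lf 0)))))) (.nd (.nd (.nd (.nd (.nd (.lf 0x1) (.lf 0x1)) (.nd (.lf 0x5) (.lf 0))) (.nd (.nd (.lf 0x7) (.lf 0x5)) (.nd (.lf 0x1) (.lf 0)))) (.nd (.nd (.nd (.lf 0x5) (.lf 0x1)) (.nd (.lf 0x5) (.lf 0))) (.nd (.nd (.lf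 0x4) (.lf 0x4)) (.nd (.lf 0x4) (.lf 0))))) (.nd (.nd (.nd (.nd (.lf 0x3) (.lf 0x3)) (.nd (.lf 0x3) (.lf 0))) (.nd (.nd (.lf 0x7) (.lf 0x4)) (.nd (.lf 0x3) (.lf 0)))) (.nd (.nd (.nd (.lf 0x4) (.lf 0x5)) (.nd (.lf 0x5) (.lf 0))) (.nd (.nd (.lf 0x3) (.lf 0x5)) (.nd (.lf 0x7) (.lf 0))))))) (.nd (.nd (.nd (.nd (.nd (.nd (.lf 0x5) (.lf 0x5)) (.nd (.lf 0x5) (.lf 0))) (.nd (.nd (.lf 0x4) (.lf 0x1)) (.nd (.lf 0x3) (.lf 0)))) (.nd (.nd (.nd (.lf 0x3) (.lf 0x4)) (.nd (.lf 0x5) (.lf 0))) (.nd (.nd (.lf 0x3) (.lf 0x5)) (.nd (.lf 0x5) (.lf 0))))) (.nd (.nd (.nd (.nd (.lf 0x3) (.lf 0x3)) (.nd (.lf 0x3) (.lf 0))) (.nd (.nd (.lf 0x5) (.lf 0x4)) (.nd (.lf 0x5) (.lf 0)))) (.nd (.nd (.nd (.lf 0x5) (.lf 0x3)) (.nd (.lf 0x4) (.lf 0))) (.nd (.nd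 (.lf 0x4) (.lf 0x3)) (.nd (.lf 0x3) (.lf 0)))))) (.nd (.nd (.nd (.nd (.nd (.lf 0x5) (.lf 0x4)) (.nd (.lf 0x4) (.lf 0))) (.nd (.nd (.lf 0x1) (.lf 0x7)) (.nd (.lf 0x5) (.lf 0)))) (.nd (.nd (.nd (.lf 0x7) (.lf 0x5)) (.nd (.lf 0x1) (.lf 0))) (.nd (.nd (.lf 0x5) (.lf 0x3)) (.nd (.lf 0x3) (.lf 0))))) (.nd (.nd (.nd (.nd (.lf 0x4) (.lf 0x4)) (.nd (.lf 0x5) (.lf 0))) (.nd (.nd (.lf 0x6) (.lf 0x5)) (.nd (.lf 0x3) (.lf 0)))) (.nd (.nd (.nd (.lf 0x5) (.lf 0x5)) (.nd (.lf 0x7) (.lf 0))) (.nd (.nd (.lf 0x3) (.lf 0x5)) (.nd (.lf 0x4) (.lf 0))))))))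
def labT_nbbbabb : Tr := (.nd (.nd (.nd (.nd (.nd (.nd (.nd (.lf 0x6) (.lf 0x3)) (.nd (.lf 0x3) (.lf 0))) (.nd (.nd (.lf 0x5) (.lf 0x4)) (.nd (.lf 0x5) (.lf 0)))) (.nd (.nd (.nd (.lf 0x6) (.lf 0x3)) (.nd (.lf 0x4) (.lf 0))) (.nd (.nd (.lf 0x5) (.lf 0x5)) (.nd (.lf 0x5) (.lf 0))))) (.nd (.nd (.nd (.nd (.lf 0x1) (.lf 0x4)) (.nd (.lf 0x2) (.lf 0))) (.nd (.nd (.lf 0x1) (.lf 0x3)) (.nd (.lf 0x5) (.lf 0)))) (.nd (.nd (.nd (.lf 0x5) (.lf 0x5)) (.nd (.lf 0x1) (.lf 0))) (.nd (.nd (.lf 0x6) (.lf 0x3)) (.nd (.lf 0x3) (.lf 0)))))) (.nd (.nd (.nd (.nd (.nd (.lf 0x5) (.lf 0x5)) (.nd (.lf 0x4) (.lf 0))) (.nd (.nd (.lf 0x5) (.lf 0x5)) (.nd (.lf 0x4) (.lf 0)))) (.nd (.nd (.nd (.lf 0x6) (.lf 0x3)) (.nd (.lf 0x4) (.lf 0))) (.nd (.nd (.lf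 0x3) (.lf 0x4)) (.nd (.lf 0x2) (.lf 0))))) (.nd (.nd (.nd (.nd (.lf 0x4) (.lf 0x5)) (.nd (.lf 0x3) (.lf 0))) (.nd (.nd (.lf 0x3) (.lf 0x4)) (.nd (.lf 0x5) (.lf 0)))) (.nd (.nd (.nd (.lf 0x3) (.lf 0x5)) (.nd (.lf 0x5) (.lf 0))) (.nd (.nd (.lf 0x5) (.lf 0x4)) (.nd (.lf 0x4) (.lf 0))))))) (.nd (.nd (.nd (.nd (.nd (.nd (.lf 0x5) (.lf 0x4)) (.nd (.lf 0x6) (.lf 0))) (.nd (.nd (.lf 0x3) (.lf 0x4)) (.nd (.lf 0x5) (.lf 0)))) (.nd (.nd (.nd (.lf 0x4) (.lf 0x3)) (.nd (.lf 0x6) (.lf 0))) (.nd (.nd (.lf 0x5) (.lf 0x5)) (.nd (.lf 0x4) (.lf 0))))) (.nd (.nd (.nd (.nd (.lf 0x4) (.lf 0x5)) (.nd (.lf 0x5) (.lf 0))) (.nd (.nd (.lf 0x4) (.lf 0x3)) (.nd (.lf 0x4) (.lf 0)))) (.nd (.nd (.nd (.lf 0x5) (.lf 0x4)) (.nd (.lf 0x3) (.lf 0))) (.nd (.nd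 (.lf 0x4) (.lf 0x1)) (.nd (.lf 0x7) (.lf 0)))))) (.nd (.nd (.nd (.nd (.nd (.lf 0x6) (.lf 0x4)) (.nd (.lf 0x5) (.lf 0))) (.nd (.nd (.lf 0x4) (.lf 0x5)) (.nd (.lf 0x5) (.lf 0)))) (.nd (.nd (.nd (.lf 0x5) (.lf 0x5)) (.nd (.lf 0x5) (.lf 0))) (.nd (.nd (.lf 0x5) (.lf 0x4)) (.nd (.lf 0x1) (.lf 0))))) (.nd (.nd (.nd (.nd (.lf 0x6) (.lf 0x5)) (.nd (.lf 0x4) (.lf 0))) (.nd (.nd (.lf 0x6) (.lf 0x4)) (.nd (.lf 0x4) (.lf 0)))) (.nd (.nd (.nd (.lf 0x6) (.lf 0x3)) (.nd (.lf 0x7) (.lf 0))) (.nd (.nd (.lf 0x4) (.lf 0x3)) (.nd (.lf 0x6) (.lf 0))))))))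
def labT_nbbbbaa : Tr := (.nd (.nd (.nd (.nd (.nd (.nd (.nd (.lf 0x4) (.lf 0x5)) (.nd (.lf 0x3) (.lf 0))) (.nd (.nd (.lf 0x5) (.lf 0x5)) (.nd (.lf 0x1) (.lf 0)))) (.nd (.nd (.nd (.lf 0x3) (.lf 0x5)) (.nd (.lf 0x3) (.lf 0))) (.nd (.nd (.lf 0x5) (.lf 0x3)) (.nd (.lf 0x5) (.lf 0))))) (.nd (.nd (.nd (.nd (.lf 0x4) (.lf 0x5)) (.nd (.lf 0x5) (.lf 0))) (.nd (.nd (.lf 0x6) (.lf 0x5)) (.nd (.lf 0x6) (.lf 0)))) (.nd (.nd (.nd (.lf 0x4) (.lf 0x3)) (.nd (.lf 0x6) (.lf 0))) (.nd (.nd (.lf 0x4) (.lf 0x6)) (.nd (.lf 0x4) (.lf 0)))))) (.nd (.nd (.nd (.nd (.nd (.lf 0x1) (.lf 0x5)) (.nd (.lf 0x3) (.lf 0))) (.nd (.nd (.lf 0x6) (.lf 0x1)) (.nd (.lf 0x5) (.lf 0)))) (.nd (.nd (.nd (.lf 0x6) (.lf 0x5)) (.nd (.lf 0x5) (.lf 0))) (.nd (.nd (.lf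 0x6) (.lf 0x5)) (.nd (.lf 0x5) (.lf 0))))) (.nd (.nd (.nd (.nd (.lf 0x3) (.lf 0x3)) (.nd (.lf 0x4) (.lf 0))) (.nd (.nd (.lf 0x4) (.lf 0x5)) (.nd (.lf 0x1) (.lf 0)))) (.nd (.nd (.nd (.lf 0x3) (.lf 0x5)) (.nd (.lf 0x3) (.lf 0))) (.nd (.nd (.lf 0x5) (.lf 0x1)) (.nd (.lf 0x5) (.lf 0))))))) (.nd (.nd (.nd (.nd (.nd (.nd (.lf 0x5) (.lf 0x5)) (.nd (.lf 0x3) (.lf 0))) (.nd (.nd (.lf 0x5) (.lf 0x5)) (.nd (.lf 0x5) (.lf 0)))) (.nd (.nd (.nd (.lf 0x1) (.lf 0x4)) (.nd (.lf 0x5) (.lf 0))) (.nd (.nd (.lf 0x3) (.lf 0x4)) (.nd (.lf 0x4) (.lf 0))))) (.nd (.nd (.nd (.nd (.lf 0x4) (.lf 0x5)) (.nd (.lf 0x5) (.lf 0))) (.nd (.nd (.lf 0x4) (.lf 0x4)) (.nd (.lf 0x5) (.lf 0)))) (.nd (.nd (.nd (.lf 0x5) (.lf 0x1)) (.nd (.lf 0x1) (.lf 0))) (.nd (.nd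 (.lf 0x3) (.lf 0x5)) (.nd (.lf 0x3) (.lf 0)))))) (.nd (.nd (.nd (.nd (.nd (.lf 0x1) (.lf 0x5)) (.nd (.lf 0x5) (.lf 0))) (.nd (.nd (.lf 0x5) (.lf 0x5)) (.nd (.lf 0x6) (.lf 0)))) (.nd (.nd (.nd (.lf 0x3) (.lf 0x3)) (.nd (.lf 0x5) (.lf 0))) (.nd (.nd (.lf 0x4) (.lf 0x5)) (.nd (.lf 0x3) (.lf 0))))) (.nd (.nd (.nd (.nd (.lf 0x5) (.lf 0x4)) (.nd (.lf 0x1) (.lf 0))) (.nd (.nd (.lf 0x5) (.lf 0x5)) (.nd (.lf 0x5) (.lf 0)))) (.nd (.nd (.nd (.lf 0x5) (.lf 0x5)) (.nd (.lf 0x6) (.lf 0))) (.nd (.nd (.lf 0x1) (.lf 0x3)) (.nd (.lf 0x5) (.lf 0))))))))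
def labT_nbbbbab : Tr := (.nd (.nd (.nd (.nd (.nd (.nd (.nd (.lf 0x5) (.lf 0x5)) (.nd (.lf 0x3) (.lf 0))) (.nd (.nd (.lf 0x7) (.lf 0x5)) (.nd (.lf 0x5) (.lf 0)))) (.nd (.nd (.nd (.lf 0x5) (.lf 0x6)) (.nd (.lf 0x5) (.lf 0))) (.nd (.nd (.lf 0x6) (.lf 0x4)) (.nd (.lf 0x4) (.lf 0))))) (.nd (.nd (.nd (.nd (.lf 0x5) (.lf 0x5)) (.nd (.lf 0x1) (.lf 0))) (.nd (.nd (.lf 0x6) (.lf 0x3)) (.nd (.lf 0x3) (.lf 0)))) (.nd (.nd (.nd (.lf 0x3) (.lf 0x5)) (.nd (.lf 0x3) (.lf 0))) (.nd (.nd (.lf 0x5) (.lf 0x5)) (.nd (.lf 0x1) (.lf 0)))))) (.nd (.nd (.nd (.nd (.nd (.lf 0x5) (.lf 0x3)) (.nd (.lf 0x1) (.lf 0))) (.nd (.nd (.lf 0x1) (.lf 0x5)) (.nd (.lf 0x5) (.lf 0)))) (.nd (.nd (.nd (.lf 0x5) (.lf 0x1)) (.nd (.lf 0x3) (.lf 0))) (.nd (.nd (.lf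 0x1) (.lf 0x5)) (.nd (.lf 0x5) (.lf 0))))) (.nd (.nd (.nd (.nd (.lf 0x3) (.lf 0x4)) (.nd (.lf 0x4) (.lf 0))) (.nd (.nd (.lf 0x4) (.lf 0x5)) (.nd (.lf 0x3) (.lf 0)))) (.nd (.nd (.nd (.lf 0x5) (.lf 0x2)) (.nd (.lf 0x3) (.lf 0))) (.nd (.nd (.lf 0x1) (.lf 0x3)) (.nd (.lf 0x5) (.lf 0))))))) (.nd (.nd (.nd (.nd (.nd (.nd (.lf 0x5) (.lf 0x5)) (.nd (.lf 0x5) (.lf 0))) (.nd (.nd (.lf 0x6) (.lf 0x4)) (.nd (.lf 0x4) (.lf 0)))) (.nd (.nd (.nd (.lf 0x5) (.lf 0x6)) (.nd (.lf 0x3) (.lf 0))) (.nd (.nd (.lf 0x5) (.lf 0x3)) (.nd (.lf 0x5) (.lf 0))))) (.nd (.nd (.nd (.nd (.lf 0x3) (.lf 0x4)) (.nd (.lf 0x5) (.lf 0))) (.nd (.nd (.lf 0x5) (.lf 0x4)) (.nd (.lf 0x3) (.lf 0)))) (.nd (.nd (.nd (.lf 0x1) (.lf 0x4)) (.nd (.lf 0x3) (.lf 0))) (.nd (.nd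 (.lf 0x5) (.lf 0x1)) (.nd (.lf 0x1) (.lf 0)))))) (.nd (.nd (.nd (.nd (.nd (.lf 0x5) (.lf 0x5)) (.nd (.lf 0x5) (.lf 0))) (.nd (.nd (.lf 0x4) (.lf 0x5)) (.nd (.lf 0x5) (.lf 0)))) (.nd (.nd (.nd (.lf 0x3) (.lf 0x5)) (.nd (.lf 0x5) (.lf 0))) (.nd (.nd (.lf 0x5) (.lf 0x5)) (.nd (.lf 0x5) (.lf 0))))) (.nd (.nd (.nd (.nd (.lf 0x6) (.lf 0x5)) (.nd (.lf 0x5) (.lf 0))) (.nd (.nd (.lf 0x4) (.lf 0x5)) (.nd (.lf 0x5) (.lf 0)))) (.nd (.nd (.nd (.lf 0x5) (.lf 0x3)) (.nd (.lf 0x1) (.lf 0))) (.nd (.nd (.lf 0x5) (.lf 0x4)) (.nd (.lf 0x1) (.lf 0))))))))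
def labT_nbbbbba : Tr := (.nd (.nd (.nd (.nd (.nd (.nd (.nd (.lf 0x3) (.lf 0x4)) (.nd (.lf 0x5) (.lf 0))) (.nd (.nd (.lf 0x4) (.lf 0x1)) (.nd (.lf 0x3) (.lf 0)))) (.nd (.nd (.nd (.lf 0x4) (.lf 0x4)) (.nd (.lf 0x6) (.lf 0))) (.nd (.nd (.lf 0x3) (.lf 0x3)) (.nd (.lf 0x3) (.lf 0))))) (.nd (.nd (.nd (.nd (.lf 0x6) (.lf 0x1)) (.nd (.lf 0x4) (.lf 0))) (.nd (.nd (.lf 0x5) (.lf 0x3)) (.nd (.lf 0x5) (.lf 0)))) (.nd (.nd (.nd (.lf 0x1) (.lf 0x6)) (.nd (.lf 0x4) (.lf 0))) (.nd (.nd (.lf 0x3) (.lf 0x5)) (.nd (.lf 0x6) (.lf 0)))))) (.nd (.nd (.nd (.nd (.nd (.lf 0x5) (.lf 0x4)) (.nd (.lf 0x5) (.lf 0))) (.nd (.nd (.lf 0x4) (.lf 0x5)) (.nd (.lf 0x3) (.lf 0)))) (.nd (.nd (.nd (.lf 0x1) (.lf 0x5)) (.nd (.lf 0x5) (.lf 0))) (.nd (.nd (.lf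 0x3) (.lf 0x4)) (.nd (.lf 0x3) (.lf 0))))) (.nd (.nd (.nd (.nd (.lf 0x4) (.lf 0x5)) (.nd (.lf 0x6) (.lf 0))) (.nd (.nd (.lf 0x5) (.lf 0x3)) (.nd (.lf 0x5) (.lf 0)))) (.nd (.nd (.nd (.lf 0x4) (.lf 0x5)) (.nd (.lf 0x4) (.lf 0))) (.nd (.nd (.lf 0x3) (.lf 0x5)) (.nd (.lf 0x1) (.lf 0))))))) (.nd (.nd (.nd (.nd (.nd (.nd (.lf 0x5) (.lf 0x3)) (.nd (.lf 0x5) (.lf 0))) (.nd (.nd (.lf 0x4) (.lf 0x5)) (.nd (.lf 0x3) (.lf 0)))) (.nd (.nd (.nd (.lf 0x5) (.lf 0x1)) (.nd (.lf 0x3) (.lf 0))) (.nd (.nd (.lf 0x5) (.lf 0x6)) (.nd (.lf 0x3) (.lf 0))))) (.nd (.nd (.nd (.nd (.lf 0x5) (.lf 0x3)) (.nd (.lf 0x5) (.lf 0))) (.nd (.nd (.lf 0x4) (.lf 0x4)) (.nd (.lf 0x1) (.lf 0)))) (.nd (.nd (.nd (.lf 0x4) (.lf 0x3)) (.nd (.lf 0x3) (.lf 0))) (.nd (.nd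 (.lf 0x5) (.lf 0x6)) (.nd (.lf 0x4) (.lf 0)))))) (.nd (.nd (.nd (.nd (.nd (.lf 0x1) (.lf 0x3)) (.nd (.lf 0x1) (.lf 0))) (.nd (.nd (.lf 0x5) (.lf 0x5)) (.nd (.lf 0x4) (.lf 0)))) (.nd (.nd (.nd (.lf 0x5) (.lf 0x3)) (.nd (.lf 0x3) (.lf 0))) (.nd (.nd (.lf 0x3) (.lf 0x4)) (.nd (.lf 0x1) (.lf 0))))) (.nd (.nd (.nd (.nd (.lf 0x1) (.lf 0x5)) (.nd (.lf 0x1) (.lf 0))) (.nd (.nd (.lf 0x5) (.lf 0x3)) (.nd (.lf 0x6) (.lf 0)))) (.nd (.nd (.nd (.lf 0x3) (.lf 0x1)) (.nd (.lf 0x3) (.lf 0))) (.nd (.nd (.lf 0x3) (.lf 0x3)) (.nd (.lf 0x3) (.lf 0))))))))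
def labT_nbbbbbb : Tr := (.nd (.nd (.nd (.nd (.nd (.nd (.nd (.lf 0x3) (.lf 0x3)) (.nd (.lf 0x5) (.lf 0))) (.nd (.nd (.lf 0x3) (.lf 0x4)) (.nd (.lf 0x5) (.lf 0)))) (.nd (.nd (.nd (.lf 0x5) (.lf 0x5)) (.nd (.lf 0x1) (.lf 0))) (.nd (.nd (.lf 0x3) (.lf 0x7)) (.nd (.lf 0x3) (.lf 0))))) (.nd (.nd (.nd (.nd (.lf 0x3) (.lf 0x3)) (.nd (.lf 0x5) (.lf 0))) (.nd (.nd (.lf 0x5) (.lf 0x4)) (.nd (.lf 0x3) (.lf 0)))) (.nd (.nd (.nd (.lf 0x4) (.lf 0x3)) (.nd (.lf 0x6) (.lf 0))) (.nd (.nd (.lf 0x1) (.lf 0x3)) (.nd (.lf 0x5) (.lf 0)))))) (.nd (.nd (.nd (.nd (.nd (.lf 0x3) (.lf 0x3)) (.nd (.lf 0x4) (.lf 0))) (.nd (.nd (.lf 0x5) (.lf 0x1)) (.nd (.lf 0x3) (.lf 0)))) (.nd (.nd (.nd (.lf 0x4) (.lf 0x4)) (.nd (.lf 0x4) (.lf 0))) (.nd (.nd (.lf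 0x6) (.lf 0x1)) (.nd (.lf 0x5) (.lf 0))))) (.nd (.nd (.nd (.nd (.lf 0x5) (.lf 0x5)) (.nd (.lf 0x3) (.lf 0))) (.nd (.nd (.lf 0x6) (.lf 0x3)) (.nd (.lf 0x4) (.lf 0)))) (.nd (.nd (.nd (.lf 0x2) (.lf 0x4)) (.nd (.lf 0x3) (.lf 0))) (.nd (.nd (.lf 0x6) (.lf 0x5)) (.nd (.lf 0x4) (.lf 0))))))) (.nd (.nd (.nd (.nd (.nd (.nd (.lf 0x5) (.lf 0x5)) (.nd (.lf 0x6) (.lf 0))) (.nd (.nd (.lf 0x3) (.lf 0x3)) (.nd (.lf 0x7) (.lf 0)))) (.nd (.nd (.nd (.lf 0x6) (.lf 0x5)) (.nd (.lf 0x3) (.lf 0))) (.nd (.nd (.lf 0x3) (.lf 0x4)) (.nd (.lf 0x5) (.lf 0))))) (.nd (.nd (.nd (.nd (.lf 0x3) (.lf 0x1)) (.nd (.lf 0x6) (.lf 0))) (.nd (.nd (.lf 0x3) (.lf 0x7)) (.nd (.lf 0x5) (.lf 0)))) (.nd (.nd (.nd (.lf 0x3) (.lf 0x6)) (.nd (.lf 0x4) (.lf 0))) (.nd (.nd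 (.lf 0x1) (.lf 0x5)) (.nd (.lf 0x5) (.lf 0)))))) (.nd (.nd (.nd (.nd (.nd (.lf 0x5) (.lf 0x3)) (.nd (.lf 0x5) (.lf 0))) (.nd (.nd (.lf 0x7) (.lf 0x4)) (.nd (.lf 0x3) (.lf 0)))) (.nd (.nd (.nd (.lf 0x3) (.lf 0x5)) (.nd (.lf 0x5) (.lf 0))) (.nd (.nd (.lf 0x3) (.lf 0x3)) (.nd (.lf 0x5) (.lf 0))))) (.nd (.nd (.nd (.nd (.lf 0x4) (.lf 0x4)) (.nd (.lf 0x3) (.lf 0))) (.nd (.nd (.lf 0x1) (.lf 0x6)) (.nd (.lf 0x1) (.lf 0)))) (.nd (.nd (.nd (.lf 0x3) (.lf 0x5)) (.nd (.lf 0x5) (.lf 0))) (.nd (.nd (.lf 0x1) (.lf 0x6)) (.nd (.lf 0x5) (.lf 0))))))))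
def labT : Tr := (.nd (.nd (.nd (.nd (.nd (.nd labT_naaaaaa labT_naaaaab) (.nd labT_naaaaba labT_naaaabb)) (.nd (.nd labT_naaabaa labT_naaabab) (.nd labT_naaabba labT_naaabbb))) (.nd (.nd (.nd labT_naabaaa labT_naabaab) (.nd labT_naababa labT_naababb)) (.nd (.nd labT_naabbaa labT_naabbab) (.nd labT_naabbba labT_naabbbb)))) (.nd (.nd (.nd (.nd labT_nabaaaa labT_nabaaab) (.nd labT_nabaaba labT_nabaabb)) (.nd (.nd labT_nababaa labT_nababab) (.nd labT_nababba labT_nababbb))) (.nd (.nd (.nd labT_nabbaaa labT_nabbaab) (.nd labT_nabbaba labT_nabbabb)) (.nd (.nd labT_nabbbaa labT_nabbbab) (.nd labT_nabbbba labT_nabbbbb))))) (.nd (.nd (.nd (.nd (.nd labT_nbaaaaa labT_nbaaaab) (.nd labT_nbaaaba labT_nbaaabb)) (.nd (.nd labT_nbaabaa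 labT_nbaabab) (.nd labT_nbaabba labT_nbaabbb))) (.nd (.nd (.nd labT_nbabaaa labT_nbabaab) (.nd labT_nbababa labT_nbababb)) (.nd (.nd labT_nbabbaa labT_nbabbab) (.nd labT_nbabbba labT_nbabbbb)))) (.nd (.nd (.nd (.nd labT_nbbaaaa labT_nbbaaab) (.nd labT_nbbaaba labT_nbbaabb)) (.nd (.nd labT_nbbabaa labT_nbbabab) (.nd labT_nbbabba labT_nbbabbb))) (.nd (.nd (.nd labT_nbbbaaa labT_nbbbaab) (.nd labT_nbbbaba labT_nbbbabb)) (.nd (.nd labT_nbbbbaa labT_nbbbbab) (.nd labT_nbbbbba labT_nbbbbbb))))))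
def depT_naaaaaa : Tr := (.nd (.nd (.nd (.nd (.nd (.nd (.nd (.lf 0x0) (.lf 0x5)) (.nd (.lf 0xa) (.lf 0xa))) (.nd (.nd (.lf 0x8) (.lf 0xb)) (.nd (.lf 0x8) (.lf 0)))) (.nd (.nd (.nd (.lf 0xc) (.lf 0xc)) (.nd (.lf 0xb) (.lf 0))) (.nd (.nd (.lf 0xb) (.lf 0xb)) (.nd (.lf 0x7) (.lf 0))))) (.nd (.nd (.nd (.nd (.lf 0xc) (.lf 0x6)) (.nd (.lf 0x8) (.lf 0))) (.nd (.nd (.lf 0xa) (.lf 0x9)) (.nd (.lf 0x8) (.lf 0)))) (.nd (.nd (.nd (.lf 0xc) (.lf 0x9)) (.nd (.lf 0x8) (.lf 0))) (.nd (.nd (.lf 0xa) (.lf 0x9)) (.nd (.lf 0xa) (.lf 0)))))) (.nd (.nd (.nd (.nd (.nd (.lf 0x8) (.lf 0x4)) (.nd (.lf 0x8) (.lf 0))) (.nd (.nd (.lf 0xc) (.lf 0xa)) (.nd (.lf 0x9) (.lf 0)))) (.nd (.nd (.nd (.lf 0x9) (.lf 0x7)) (.nd (.lf 0xa) (.lf 0))) (.nd (.nd (.lf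 0xc) (.lf 0xa)) (.nd (.lf 0x9) (.lf 0))))) (.nd (.nd (.nd (.nd (.lf 0xc) (.lf 0x9)) (.nd (.lf 0xa) (.lf 0))) (.nd (.nd (.lf 0x7) (.lf 0x9)) (.nd (.lf 0xb) (.lf 0)))) (.nd (.nd (.nd (.lf 0xb) (.lf 0xa)) (.nd (.lf 0x6) (.lf 0))) (.nd (.nd (.lf 0x9) (.lf 0xc)) (.nd (.lf 0x9) (.lf 0))))))) (.nd (.nd (.nd (.nd (.nd (.nd (.lf 0xa) (.lf 0x8)) (.nd (.lf 0xc) (.lf 0))) (.nd (.nd (.lf 0x6) (.lf 0xb)) (.nd (.lf 0x9) (.lf 0)))) (.nd (.nd (.nd (.lf 0x9) (.lf 0xc)) (.nd (.lf 0x4) (.lf 0))) (.nd (.nd (.lf 0x9) (.lf 0x9)) (.nd (.lf 0xb) (.lf 0))))) (.nd (.nd (.nd (.nd (.lf 0xb) (.lf 0xc)) (.nd (.lf 0xb) (.lf 0))) (.nd (.nd (.lf 0x8) (.lf 0x8)) (.nd (.lf 0xb) (.lf 0)))) (.nd (.nd (.nd (.lf 0xb) (.lf 0xa)) (.nd (.lf 0xa) (.lf 0))) (.nd (.nd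 (.lf 0xa) (.lf 0xa)) (.nd (.lf 0x8) (.lf 0)))))) (.nd (.nd (.nd (.nd (.nd (.lf 0xa) (.lf 0x7)) (.nd (.lf 0xa) (.lf 0))) (.nd (.nd (.lf 0xb) (.lf 0xc)) (.nd (.lf 0x9) (.lf 0)))) (.nd (.nd (.nd (.lf 0x6) (.lf 0xa)) (.nd (.lf 0xc) (.lf 0))) (.nd (.nd (.lf 0x9) (.lf 0xa)) (.nd (.lf 0xa) (.lf 0))))) (.nd (.nd (.nd (.nd (.lf 0x8) (.lf 0x3)) (.nd (.lf 0xc) (.lf 0))) (.nd (.nd (.lf 0x4) (.lf 0x5)) (.nd (.lf 0x1) (.lf 0)))) (.nd (.nd (.nd (.lf 0x9) (.lf 0x9)) (.nd (.lf 0x9) (.lf 0))) (.nd (.nd (.lf 0x9) (.lf 0xa)) (.nd (.lf 0xa) (.lf 0))))))))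
def depT_naaaaab : Tr := (.nd (.nd (.nd (.nd (.nd (.nd (.nd (.lf 0x9) (.lf 0xa)) (.nd (.lf 0xc) (.lf 0))) (.nd (.nd (.lf 0xa) (.lf 0xb)) (.nd (.lf 0xb) (.lf 0)))) (.nd (.nd (.nd (.lf 0x9) (.lf 0xc)) (.nd (.lf 0xc) (.lf 0))) (.nd (.nd (.lf 0x5) (.lf 0xa)) (.nd (.lf 0x7) (.lf 0))))) (.nd (.nd (.nd (.nd (.lf 0x6) (.lf 0x8)) (.nd (.lf 0x6) (.lf 0))) (.nd (.nd (.lf 0x9) (.lf 0xb)) (.nd (.lf 0xa) (.lf 0)))) (.nd (.nd (.nd (.lf 0xa) (.lf 0x8)) (.nd (.lf 0xa) (.lf 0))) (.nd (.nd (.lf 0xa) (.lf 0x7)) (.nd (.lf 0xa) (.lf 0)))))) (.nd (.nd (.nd (.nd (.nd (.lf 0xb) (.lf 0x5)) (.nd (.lf 0xb) (.lf 0))) (.nd (.nd (.lf 0xa) (.lf 0xa)) (.nd (.lf 0xb) (.lf 0)))) (.nd (.nd (.nd (.lf 0x9) (.lf 0xa)) (.nd (.lf 0x4) (.lf 0))) (.nd (.nd (.lf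 0x2) (.lf 0xb)) (.nd (.lf 0x7) (.lf 0))))) (.nd (.nd (.nd (.nd (.lf 0x9) (.lf 0xa)) (.nd (.lf 0xa) (.lf 0))) (.nd (.nd (.lf 0x9) (.lf 0x8)) (.nd (.lf 0x8) (.lf 0)))) (.nd (.nd (.nd (.lf 0x9) (.lf 0x3)) (.nd (.lf 0xa) (.lf 0))) (.nd (.nd (.lf 0x8) (.lf 0x9)) (.nd (.lf 0x8) (.lf 0))))))) (.nd (.nd (.nd (.nd (.nd (.nd (.lf 0x7) (.lf 0x6)) (.nd (.lf 0xb) (.lf 0))) (.nd (.nd (.lf 0x7) (.lf 0xa)) (.nd (.lf 0xa) (.lf 0)))) (.nd (.nd (.nd (.lf 0x9) (.lf 0x9)) (.nd (.lf 0xa) (.lf 0))) (.nd (.nd (.lf 0x6) (.lf 0x7)) (.nd (.lf 0x9) (.lf 0))))) (.nd (.nd (.nd (.nd (.lf 0x6) (.lf 0xc)) (.nd (.lf 0xb) (.lf 0))) (.nd (.nd (.lf 0xa) (.lf 0x7)) (.nd (.lf 0x8) (.lf 0)))) (.nd (.nd (.nd (.lf 0x9) (.lf 0x7)) (.nd (.lf 0xa) (.lf 0))) (.nd (.nd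 (.lf 0x5) (.lf 0x8)) (.nd (.lf 0x6) (.lf 0)))))) (.nd (.nd (.nd (.nd (.nd (.lf 0x7) (.lf 0xb)) (.nd (.lf 0x8) (.lf 0))) (.nd (.nd (.lf 0xa) (.lf 0xa)) (.nd (.lf 0xb) (.lf 0)))) (.nd (.nd (.nd (.lf 0x4) (.lf 0x8)) (.nd (.lf 0x5) (.lf 0))) (.nd (.nd (.lf 0x8) (.lf 0x8)) (.nd (.lf 0xb) (.lf 0))))) (.nd (.nd (.nd (.nd (.lf 0xb) (.lf 0xc)) (.nd (.lf 0xc) (.lf 0))) (.nd (.nd (.lf 0x6) (.lf 0x9)) (.nd (.lf 0x8) (.lf 0)))) (.nd (.nd (.nd (.lf 0x9) (.lf 0xa)) (.nd (.lf 0x8) (.lf 0))) (.nd (.nd (.lf 0xa) (.lf 0x6)) (.nd (.lf 0x7) (.lf 0))))))))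
def depT_naaaaba : Tr := (.nd (.nd (.nd (.nd (.nd (.nd (.nd (.lf 0x8) (.lf 0xb)) (.nd (.lf 0x9) (.lf 0))) (.nd (.nd (.lf 0x9) (.lf 0x4)) (.nd (.lf 0xb) (.lf 0)))) (.nd (.nd (.nd (.lf 0x7) (.lf 0x5)) (.nd (.lf 0x8) (.lf 0))) (.nd (.nd (.lf 0x7) (.lf 0x8)) (.nd (.lf 0xa) (.lf 0))))) (.nd (.nd (.nd (.nd (.lf 0xa) (.lf 0xc)) (.nd (.lf 0xa) (.lf 0))) (.nd (.nd (.lf 0x8) (.lf 0x8)) (.nd (.lf 0x5) (.lf 0)))) (.nd (.nd (.nd (.lf 0x8) (.lf 0xa)) (.nd (.lf 0xa) (.lf 0))) (.nd (.nd (.lf 0x7) (.lf 0x9)) (.nd (.lf 0xb) (.lf 0)))))) (.nd (.nd (.nd (.nd (.nd (.lf 0x7) (.lf 0xb)) (.nd (.lf 0x8) (.lf 0))) (.nd (.nd (.lf 0xb) (.lf 0x7)) (.nd (.lf 0x8) (.lf 0)))) (.nd (.nd (.nd (.lf 0xa) (.lf 0x9)) (.nd (.lf 0xd) (.lf 0))) (.nd (.nd (.lf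 0xb) (.lf 0x9)) (.nd (.lf 0x5) (.lf 0))))) (.nd (.nd (.nd (.nd (.lf 0xb) (.lf 0x9)) (.nd (.lf 0x8) (.lf 0))) (.nd (.nd (.lf 0x6) (.lf 0xc)) (.nd (.lf 0xa) (.lf 0)))) (.nd (.nd (.nd (.lf 0x9) (.lf 0x4)) (.nd (.lf 0xa) (.lf 0))) (.nd (.nd (.lf 0x6) (.lf 0xb)) (.nd (.lf 0x8) (.lf 0))))))) (.nd (.nd (.nd (.nd (.nd (.nd (.lf 0xa) (.lf 0x9)) (.nd (.lf 0x8) (.lf 0))) (.nd (.nd (.lf 0xa) (.lf 0x8)) (.nd (.lf 0xa) (.lf 0)))) (.nd (.nd (.nd (.lf 0xa) (.lf 0xc)) (.nd (.lf 0x8) (.lf 0))) (.nd (.nd (.lf 0x7) (.lf 0xa)) (.nd (.lf 0x9) (.lf 0))))) (.nd (.nd (.nd (.nd (.lf 0xa) (.lf 0x3)) (.nd (.lf 0x6) (.lf 0))) (.nd (.nd (.lf 0xb) (.lf 0xd)) (.nd (.lf 0x8) (.lf 0)))) (.nd (.nd (.nd (.lf 0xc) (.lf 0xc)) (.nd (.lf 0xb) (.lf 0))) (.nd (.nd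 (.lf 0xb) (.lf 0x8)) (.nd (.lf 0x7) (.lf 0)))))) (.nd (.nd (.nd (.nd (.nd (.lf 0xb) (.lf 0x4)) (.nd (.lf 0xa) (.lf 0))) (.nd (.nd (.lf 0xa) (.lf 0x9)) (.nd (.lf 0x7) (.lf 0)))) (.nd (.nd (.nd (.lf 0xb) (.lf 0xb)) (.nd (.lf 0x9) (.lf 0))) (.nd (.nd (.lf 0xb) (.lf 0x6)) (.nd (.lf 0x9) (.lf 0))))) (.nd (.nd (.nd (.nd (.lf 0x9) (.lf 0x8)) (.nd (.lf 0x2) (.lf 0))) (.nd (.nd (.lf 0xa) (.lf 0x8)) (.nd (.lf 0x9) (.lf 0)))) (.nd (.nd (.nd (.lf 0xa) (.lf 0x8)) (.nd (.lf 0x9) (.lf 0))) (.nd (.nd (.lf 0x9) (.lf 0x9)) (.nd (.lf 0xa) (.lf 0))))))))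
def depT_naaaabb : Tr := (.nd (.nd (.nd (.nd (.nd (.nd (.nd (.lf 0x7) (.lf 0xb)) (.nd (.lf 0xa) (.lf 0))) (.nd (.nd (.lf 0x8) (.lf 0xc)) (.nd (.lf 0xa) (.lf 0)))) (.nd (.nd (.nd (.lf 0x9) (.lf 0x8)) (.nd (.lf 0xb) (.lf 0))) (.nd (.nd (.lf 0xa) (.lf 0x9)) (.nd (.lf 0x9) (.lf 0))))) (.nd (.nd (.nd (.nd (.lf 0xc) (.lf 0x9)) (.nd (.lf 0xb) (.lf 0))) (.nd (.nd (.lf 0x6) (.lf 0xb)) (.nd (.lf 0xc) (.lf 0)))) (.nd (.nd (.nd (.lf 0x9) (.lf 0xc)) (.nd (.lf 0xa) (.lf 0))) (.nd (.nd (.lf 0x9) (.lf 0xa)) (.nd (.lf 0x6) (.lf 0)))))) (.nd (.nd (.nd (.nd (.nd (.lf 0x8) (.lf 0xa)) (.nd (.lf 0x7) (.lf 0))) (.nd (.nd (.lf 0xb) (.lf 0x7)) (.nd (.lf 0x9) (.lf 0)))) (.nd (.nd (.nd (.lf 0xa) (.lf 0x9)) (.nd (.lf 0x9) (.lf 0))) (.nd (.nd (.lf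 0x9) (.lf 0x5)) (.nd (.lf 0xb) (.lf 0))))) (.nd (.nd (.nd (.nd (.lf 0xa) (.lf 0x9)) (.nd (.lf 0xb) (.lf 0))) (.nd (.nd (.lf 0xb) (.lf 0xc)) (.nd (.lf 0xb) (.lf 0)))) (.nd (.nd (.nd (.lf 0xb) (.lf 0x9)) (.nd (.lf 0xc) (.lf 0))) (.nd (.nd (.lf 0xb) (.lf 0x9)) (.nd (.lf 0x9) (.lf 0))))))) (.nd (.nd (.nd (.nd (.nd (.nd (.lf 0x3) (.lf 0xb)) (.nd (.lf 0xc) (.lf 0))) (.nd (.nd (.lf 0xa) (.lf 0xd)) (.nd (.lf 0x8) (.lf 0)))) (.nd (.nd (.nd (.lf 0x6) (.lf 0x9)) (.nd (.lf 0xa) (.lf 0))) (.nd (.nd (.lf 0xc) (.lf 0x9)) (.nd (.lf 0x8) (.lf 0))))) (.nd (.nd (.nd (.nd (.lf 0x5) (.lf 0x9)) (.nd (.lf 0xb) (.lf 0))) (.nd (.nd (.lf 0x6) (.lf 0x8)) (.nd (.lf 0x8) (.lf 0)))) (.nd (.nd (.nd (.lf 0x8) (.lf 0xb)) (.nd (.lf 0x9) (.lf 0))) (.nd (.nd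 (.lf 0x4) (.lf 0x9)) (.nd (.lf 0x9) (.lf 0)))))) (.nd (.nd (.nd (.nd (.nd (.lf 0x9) (.lf 0x9)) (.nd (.lf 0x8) (.lf 0))) (.nd (.nd (.lf 0xc) (.lf 0x4)) (.nd (.lf 0x9) (.lf 0)))) (.nd (.nd (.nd (.lf 0x8) (.lf 0x6)) (.nd (.lf 0x7) (.lf 0))) (.nd (.nd (.lf 0xb) (.lf 0x7)) (.nd (.lf 0x8) (.lf 0))))) (.nd (.nd (.nd (.nd (.lf 0xd) (.lf 0xa)) (.nd (.lf 0xa) (.lf 0))) (.nd (.nd (.lf 0xa) (.lf 0x8)) (.nd (.lf 0xa) (.lf 0)))) (.nd (.nd (.nd (.lf 0x8) (.lf 0xa)) (.nd (.lf 0x9) (.lf 0))) (.nd (.nd (.lf 0x8) (.lf 0xa)) (.nd (.lf 0xa) (.lf 0))))))))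
def depT_naaabaa : Tr := (.nd (.nd (.nd (.nd (.nd (.nd (.nd (.lf 0xa) (.lf 0x8)) (.nd (.lf 0x9) (.lf 0xb))) (.nd (.nd (.lf 0x6) (.lf 0xd)) (.nd (.lf 0xa) (.lf 0)))) (.nd (.nd (.nd (.lf 0xb) (.lf 0xc)) (.nd (.lf 0x5) (.lf 0))) (.nd (.nd (.lf 0xa) (.lf 0xa)) (.nd (.lf 0xa) (.lf 0))))) (.nd (.nd (.nd (.nd (.lf 0xb) (.lf 0x7)) (.nd (.lf 0xa) (.lf 0))) (.nd (.nd (.lf 0xa) (.lf 0xa)) (.nd (.lf 0xb) (.lf 0)))) (.nd (.nd (.nd (.lf 0x9) (.lf 0xb)) (.nd (.lf 0x6) (.lf 0))) (.nd (.nd (.lf 0x8) (.lf 0xa)) (.nd (.lf 0xb) (.lf 0)))))) (.nd (.nd (.nd (.nd (.nd (.lf 0xa) (.lf 0xb)) (.nd (.lf 0x5) (.lf 0))) (.nd (.nd (.lf 0xb) (.lf 0xb)) (.nd (.lf 0x7) (.lf 0)))) (.nd (.nd (.nd (.lf 0x8) (.lf 0x8)) (.nd (.lf 0xa) (.lf 0))) (.nd (.nd (.lf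 0xa) (.lf 0xc)) (.nd (.lf 0x9) (.lf 0))))) (.nd (.nd (.nd (.nd (.lf 0x7) (.lf 0xb)) (.nd (.lf 0x9) (.lf 0))) (.nd (.nd (.lf 0xb) (.lf 0xb)) (.nd (.lf 0x8) (.lf 0)))) (.nd (.nd (.nd (.lf 0xc) (.lf 0xa)) (.nd (.lf 0xa) (.lf 0))) (.nd (.nd (.lf 0x9) (.lf 0x9)) (.nd (.lf 0x4) (.lf 0))))))) (.nd (.nd (.nd (.nd (.nd (.nd (.lf 0x9) (.lf 0x8)) (.nd (.lf 0xb) (.lf 0))) (.nd (.nd (.lf 0xa) (.lf 0x9)) (.nd (.lf 0xa) (.lf 0)))) (.nd (.nd (.nd (.lf 0x5) (.lf 0xb)) (.nd (.lf 0x9) (.lf 0))) (.nd (.nd (.lf 0xb) (.lf 0xb)) (.nd (.lf 0x9) (.lf 0))))) (.nd (.nd (.nd (.nd (.lf 0x5) (.lf 0x9)) (.nd (.lf 0x7) (.lf 0))) (.nd (.nd (.lf 0x6) (.lf 0xa)) (.nd (.lf 0x9) (.lf 0)))) (.nd (.nd (.nd (.lf 0xb) (.lf 0xa)) (.nd (.lf 0x9) (.lf 0))) (.nd (.nd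 (.lf 0x8) (.lf 0xa)) (.nd (.lf 0xb) (.lf 0)))))) (.nd (.nd (.nd (.nd (.nd (.lf 0xa) (.lf 0xc)) (.nd (.lf 0x8) (.lf 0))) (.nd (.nd (.lf 0xa) (.lf 0x9)) (.nd (.lf 0x6) (.lf 0)))) (.nd (.nd (.nd (.lf 0x9) (.lf 0xb)) (.nd (.lf 0x8) (.lf 0))) (.nd (.nd (.lf 0xa) (.lf 0xa)) (.nd (.lf 0x9) (.lf 0))))) (.nd (.nd (.nd (.nd (.lf 0x9) (.lf 0x8)) (.nd (.lf 0x8) (.lf 0))) (.nd (.nd (.lf 0xb) (.lf 0x9)) (.nd (.lf 0x6) (.lf 0)))) (.nd (.nd (.nd (.lf 0x5) (.lf 0x9)) (.nd (.lf 0x9) (.lf 0))) (.nd (.nd (.lf 0x7) (.lf 0x1)) (.nd (.lf 0x7) (.lf 0))))))))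
def depT_naaabab : Tr := (.nd (.nd (.nd (.nd (.nd (.nd (.nd (.lf 0xa) (.lf 0x4)) (.nd (.lf 0x8) (.lf 0))) (.nd (.nd (.lf 0xa) (.lf 0xb)) (.nd (.lf 0xa) (.lf 0)))) (.nd (.nd (.nd (.lf 0x8) (.lf 0xb)) (.nd (.lf 0xb) (.lf 0))) (.nd (.nd (.lf 0x6) (.lf 0xa)) (.nd (.lf 0xb) (.lf 0))))) (.nd (.nd (.nd (.nd (.lf 0xc) (.lf 0xa)) (.nd (.lf 0x8) (.lf 0))) (.nd (.nd (.lf 0xc) (.lf 0xb)) (.nd (.lf 0x8) (.lf 0)))) (.nd (.nd (.nd (.lf 0xa) (.lf 0xa)) (.nd (.lf 0x9) (.lf 0))) (.nd (.nd (.lf 0xa) (.lf 0x6)) (.nd (.lf 0xa) (.lf 0)))))) (.nd (.nd (.nd (.nd (.nd (.lf 0x9) (.lf 0xa)) (.nd (.lf 0x6) (.lf 0))) (.nd (.nd (.lf 0x4) (.lf 0x9)) (.nd (.lf 0x8) (.lf 0)))) (.nd (.nd (.nd (.lf 0x8) (.lf 0xc)) (.nd (.lf 0xb) (.lf 0))) (.nd (.nd (.lf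 0x9) (.lf 0x4)) (.nd (.lf 0x5) (.lf 0))))) (.nd (.nd (.nd (.nd (.lf 0x8) (.lf 0x5)) (.nd (.lf 0xb) (.lf 0))) (.nd (.nd (.lf 0xb) (.lf 0xa)) (.nd (.lf 0xa) (.lf 0)))) (.nd (.nd (.nd (.lf 0xa) (.lf 0xa)) (.nd (.lf 0xa) (.lf 0))) (.nd (.nd (.lf 0x6) (.lf 0x9)) (.nd (.lf 0x9) (.lf 0))))))) (.nd (.nd (.nd (.nd (.nd (.nd (.lf 0xa) (.lf 0x9)) (.nd (.lf 0x9) (.lf 0))) (.nd (.nd (.lf 0x7) (.lf 0xa)) (.nd (.lf 0xb) (.lf 0)))) (.nd (.nd (.nd (.lf 0xb) (.lf 0xb)) (.nd (.lf 0x2) (.lf 0))) (.nd (.nd (.lf 0xc) (.lf 0xc)) (.nd (.lf 0x8) (.lf 0))))) (.nd (.nd (.nd (.nd (.lf 0x9) (.lf 0xa)) (.nd (.lf 0x9) (.lf 0))) (.nd (.nd (.lf 0x3) (.lf 0xa)) (.nd (.lf 0x7) (.lf 0)))) (.nd (.nd (.nd (.lf 0x8) (.lf 0x7)) (.nd (.lf 0x4) (.lf 0))) (.nd (.nd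 (.lf 0xa) (.lf 0xb)) (.nd (.lf 0x8) (.lf 0)))))) (.nd (.nd (.nd (.nd (.nd (.lf 0x7) (.lf 0x9)) (.nd (.lf 0x9) (.lf 0))) (.nd (.nd (.lf 0xd) (.lf 0xb)) (.nd (.lf 0xb) (.lf 0)))) (.nd (.nd (.nd (.lf 0x9) (.lf 0xa)) (.nd (.lf 0xb) (.lf 0))) (.nd (.nd (.lf 0x9) (.lf 0xd)) (.nd (.lf 0xb) (.lf 0))))) (.nd (.nd (.nd (.nd (.lf 0x9) (.lf 0x8)) (.nd (.lf 0xa) (.lf 0))) (.nd (.nd (.lf 0xb) (.lf 0xb)) (.nd (.lf 0x9) (.lf 0)))) (.nd (.nd (.nd (.lf 0xc) (.lf 0xb)) (.nd (.lf 0xd) (.lf 0))) (.nd (.nd (.lf 0xd) (.lf 0x8)) (.nd (.lf 0x9) (.lf 0))))))))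
def depT_naaabba : Tr := (.nd (.nd (.nd (.nd (.nd (.nd (.nd (.lf 0xb) (.lf 0x9)) (.nd (.lf 0x7) (.lf 0))) (.nd (.nd (.lf 0x9) (.lf 0x9)) (.nd (.lf 0x6) (.lf 0)))) (.nd (.nd (.nd (.lf 0xa) (.lf 0x5)) (.nd (.lf 0x5) (.lf 0))) (.nd (.nd (.lf 0x9) (.lf 0x7)) (.nd (.lf 0x8) (.lf 0))))) (.nd (.nd (.nd (.nd (.lf 0x8) (.lf 0x9)) (.nd (.lf 0xb) (.lf 0))) (.nd (.nd (.lf 0x7) (.lf 0x7)) (.nd (.lf 0x6) (.lf 0)))) (.nd (.nd (.nd (.lf 0xd) (.lf 0x8)) (.nd (.lf 0xb) (.lf 0))) (.nd (.nd (.lf 0x9) (.lf 0xa)) (.nd (.lf 0x9) (.lf 0)))))) (.nd (.nd (.nd (.nd (.nd (.lf 0x7) (.lf 0x7)) (.nd (.lf 0x6) (.lf 0))) (.nd (.nd (.lf 0x7) (.lf 0xb)) (.nd (.lf 0xc) (.lf 0)))) (.nd (.nd (.nd (.lf 0x9) (.lf 0xa)) (.nd (.lf 0x9) (.lf 0))) (.nd (.nd (.lf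 0x9) (.lf 0xa)) (.nd (.lf 0x8) (.lf 0))))) (.nd (.nd (.nd (.nd (.lf 0x4) (.lf 0x5)) (.nd (.lf 0x9) (.lf 0))) (.nd (.nd (.lf 0x9) (.lf 0x9)) (.nd (.lf 0x8) (.lf 0)))) (.nd (.nd (.nd (.lf 0x8) (.lf 0x9)) (.nd (.lf 0x8) (.lf 0))) (.nd (.nd (.lf 0x9) (.lf 0xc)) (.nd (.lf 0xa) (.lf 0))))))) (.nd (.nd (.nd (.nd (.nd (.nd (.lf 0x8) (.lf 0x6)) (.nd (.lf 0x7) (.lf 0))) (.nd (.nd (.lf 0x9) (.lf 0x9)) (.nd (.lf 0x9) (.lf 0)))) (.nd (.nd (.nd (.lf 0x7) (.lf 0x7)) (.nd (.lf 0x9) (.lf 0))) (.nd (.nd (.lf 0x9) (.lf 0x8)) (.nd (.lf 0xb) (.lf 0))))) (.nd (.nd (.nd (.nd (.lf 0xb) (.lf 0x9)) (.nd (.lf 0xb) (.lf 0))) (.nd (.nd (.lf 0xa) (.lf 0x8)) (.nd (.lf 0xa) (.lf 0)))) (.nd (.nd (.nd (.lf 0xa) (.lf 0xb)) (.nd (.lf 0xa) (.lf 0))) (.nd (.nd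 (.lf 0x3) (.lf 0x6)) (.nd (.lf 0x8) (.lf 0)))))) (.nd (.nd (.nd (.nd (.nd (.lf 0xa) (.lf 0xb)) (.nd (.lf 0x9) (.lf 0))) (.nd (.nd (.lf 0x9) (.lf 0x9)) (.nd (.lf 0x9) (.lf 0)))) (.nd (.nd (.nd (.lf 0xb) (.lf 0xa)) (.nd (.lf 0x8) (.lf 0))) (.nd (.nd (.lf 0xa) (.lf 0xb)) (.nd (.lf 0x5) (.lf 0))))) (.nd (.nd (.nd (.nd (.lf 0xb) (.lf 0x8)) (.nd (.lf 0xb) (.lf 0))) (.nd (.nd (.lf 0x7) (.lf 0xc)) (.nd (.lf 0x7) (.lf 0)))) (.nd (.nd (.nd (.lf 0xa) (.lf 0xc)) (.nd (.lf 0xb) (.lf 0))) (.nd (.nd (.lf 0x8) (.lf 0x3)) (.nd (.lf 0xa) (.lf 0))))))))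
def depT_naaabbb : Tr := (.nd (.nd (.nd (.nd (.nd (.nd (.nd (.lf 0xb) (.lf 0xa)) (.nd (.lf 0x9) (.lf 0))) (.nd (.nd (.lf 0x8) (.lf 0x8)) (.nd (.lf 0x9) (.lf 0)))) (.nd (.nd (.nd (.lf 0xa) (.lf 0x4)) (.nd (.lf 0xb) (.lf 0))) (.nd (.nd (.lf 0x8) (.lf 0x8)) (.nd (.lf 0x6) (.lf 0))))) (.nd (.nd (.nd (.nd (.lf 0x9) (.lf 0x8)) (.nd (.lf 0xb) (.lf 0))) (.nd (.nd (.lf 0x9) (.lf 0x7)) (.nd (.lf 0xa) (.lf 0)))) (.nd (.nd (.nd (.lf 0xa) (.lf 0xe)) (.nd (.lf 0xc) (.lf 0))) (.nd (.nd (.lf 0x6) (.lf 0xa)) (.nd (.lf 0xb) (.lf 0)))))) (.nd (.nd (.nd (.nd (.nd (.lf 0xa) (.lf 0xa)) (.nd (.lf 0x9) (.lf 0))) (.nd (.nd (.lf 0x9) (.lf 0x8)) (.nd (.lf 0xa) (.lf 0)))) (.nd (.nd (.nd (.lf 0x3) (.lf 0x9)) (.nd (.lf 0xb) (.lf 0))) (.nd (.nd (.lf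 0x9) (.lf 0x8)) (.nd (.lf 0xb) (.lf 0))))) (.nd (.nd (.nd (.nd (.lf 0x9) (.lf 0xa)) (.nd (.lf 0x8) (.lf 0))) (.nd (.nd (.lf 0x5) (.lf 0xc)) (.nd (.lf 0xa) (.lf 0)))) (.nd (.nd (.nd (.lf 0xa) (.lf 0xc)) (.nd (.lf 0xb) (.lf 0))) (.nd (.nd (.lf 0xb) (.lf 0xb)) (.nd (.lf 0xb) (.lf 0))))))) (.nd (.nd (.nd (.nd (.nd (.nd (.lf 0x9) (.lf 0x9)) (.nd (.lf 0x9) (.lf 0))) (.nd (.nd (.lf 0x4) (.lf 0x8)) (.nd (.lf 0x9) (.lf 0)))) (.nd (.nd (.nd (.lf 0x5) (.lf 0x8)) (.nd (.lf 0xd) (.lf 0))) (.nd (.nd (.lf 0x5) (.lf 0x9)) (.nd (.lf 0x7) (.lf 0))))) (.nd (.nd (.nd (.nd (.lf 0x8) (.lf 0xc)) (.nd (.lf 0x8) (.lf 0))) (.nd (.nd (.lf 0x6) (.lf 0xb)) (.nd (.lf 0xb) (.lf 0)))) (.nd (.nd (.nd (.lf 0x8) (.lf 0xc)) (.nd (.lf 0xc) (.lf 0))) (.nd (.nd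 (.lf 0x8) (.lf 0x7)) (.nd (.lf 0x6) (.lf 0)))))) (.nd (.nd (.nd (.nd (.nd (.lf 0xa) (.lf 0xa)) (.nd (.lf 0x9) (.lf 0))) (.nd (.nd (.lf 0xa) (.lf 0x8)) (.nd (.lf 0x8) (.lf 0)))) (.nd (.nd (.nd (.lf 0xc) (.lf 0x9)) (.nd (.lf 0xa) (.lf 0))) (.nd (.nd (.lf 0x9) (.lf 0x5)) (.nd (.lf 0xd) (.lf 0))))) (.nd (.nd (.nd (.nd (.lf 0x5) (.lf 0x6)) (.nd (.lf 0x8) (.lf 0))) (.nd (.nd (.lf 0x6) (.lf 0x8)) (.nd (.lf 0xa) (.lf 0)))) (.nd (.nd (.nd (.lf 0x6) (.lf 0x8)) (.nd (.lf 0xa) (.lf 0))) (.nd (.nd (.lf 0xc) (.lf 0xb)) (.nd (.lf 0x7) (.lf 0))))))))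
def depT_naabaaa : Tr := (.nd (.nd (.nd (.nd (.nd (.nd (.nd (.lf 0x0) (.lf 0x8)) (.nd (.lf 0xb) (.lf 0x6))) (.nd (.nd (.lf 0xc) (.lf 0x7)) (.nd (.lf 0x6) (.lf 0)))) (.nd (.nd (.nd (.lf 0x8) (.lf 0x9)) (.nd (.lf 0x9) (.lf 0))) (.nd (.nd (.lf 0x4) (.lf 0x8)) (.nd (.lf 0x9) (.lf 0))))) (.nd (.nd (.nd (.nd (.lf 0xa) (.lf 0x7)) (.nd (.lf 0x9) (.lf 0))) (.nd (.nd (.lf 0x9) (.lf 0xc)) (.nd (.lf 0x6) (.lf 0)))) (.nd (.nd (.nd (.lf 0xa) (.lf 0x8)) (.nd (.lf 0xa) (.lf 0))) (.nd (.nd (.lf 0xa) (.lf 0x1)) (.nd (.lf 0xb) (.lf 0)))))) (.nd (.nd (.nd (.nd (.nd (.lf 0xa) (.lf 0xa)) (.nd (.lf 0xb) (.lf 0))) (.nd (.nd (.lf 0x9) (.lf 0xa)) (.nd (.lf 0x8) (.lf 0)))) (.nd (.nd (.nd (.lf 0x5) (.lf 0x8)) (.nd (.lf 0x3) (.lf 0))) (.nd (.nd (.lf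 0x9) (.lf 0x3)) (.nd (.lf 0x8) (.lf 0))))) (.nd (.nd (.nd (.nd (.lf 0x3) (.lf 0xa)) (.nd (.lf 0x9) (.lf 0))) (.nd (.nd (.lf 0xb) (.lf 0xa)) (.nd (.lf 0x6) (.lf 0)))) (.nd (.nd (.nd (.lf 0xb) (.lf 0x8)) (.nd (.lf 0x9) (.lf 0))) (.nd (.nd (.lf 0x5) (.lf 0xb)) (.nd (.lf 0xb) (.lf 0))))))) (.nd (.nd (.nd (.nd (.nd (.nd (.lf 0xa) (.lf 0x9)) (.nd (.lf 0xa) (.lf 0))) (.nd (.nd (.lf 0x7) (.lf 0x9)) (.nd (.lf 0x7) (.lf 0)))) (.nd (.nd (.nd (.lf 0xa) (.lf 0xa)) (.nd (.lf 0xb) (.lf 0))) (.nd (.nd (.lf 0x7) (.lf 0x8)) (.nd (.lf 0xa) (.lf 0))))) (.nd (.nd (.nd (.nd (.lf 0x6) (.lf 0xa)) (.nd (.lf 0x8) (.lf 0))) (.nd (.nd (.lf 0x6) (.lf 0xa)) (.nd (.lf 0xc) (.lf 0)))) (.nd (.nd (.nd (.lf 0xc) (.lf 0x9)) (.nd (.lf 0xd) (.lf 0))) (.nd (.nd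 (.lf 0xa) (.lf 0x8)) (.nd (.lf 0x8) (.lf 0)))))) (.nd (.nd (.nd (.nd (.nd (.lf 0x9) (.lf 0x6)) (.nd (.lf 0xa) (.lf 0))) (.nd (.nd (.lf 0xa) (.lf 0xc)) (.nd (.lf 0xc) (.lf 0)))) (.nd (.nd (.nd (.lf 0xa) (.lf 0xa)) (.nd (.lf 0xb) (.lf 0))) (.nd (.nd (.lf 0xa) (.lf 0xb)) (.nd (.lf 0xb) (.lf 0))))) (.nd (.nd (.nd (.nd (.lf 0x7) (.lf 0x9)) (.nd (.lf 0x6) (.lf 0))) (.nd (.nd (.lf 0x9) (.lf 0xb)) (.nd (.lf 0x5) (.lf 0)))) (.nd (.nd (.nd (.lf 0x7) (.lf 0xb)) (.nd (.lf 0xa) (.lf 0))) (.nd (.nd (.lf 0x6) (.lf 0xd)) (.nd (.lf 0xc) (.lf 0))))))))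
def depT_naabaab : Tr := (.nd (.nd (.nd (.nd (.nd (.nd (.nd (.lf 0xa) (.lf 0xd)) (.nd (.lf 0xb) (.lf 0))) (.nd (.nd (.lf 0xc) (.lf 0x7)) (.nd (.lf 0xa) (.lf 0)))) (.nd (.nd (.nd (.lf 0x9) (.lf 0x9)) (.nd (.lf 0x5) (.lf 0))) (.nd (.nd (.lf 0xa) (.lf 0x9)) (.nd (.lf 0x6) (.lf 0))))) (.nd (.nd (.nd (.nd (.lf 0x6) (.lf 0x8)) (.nd (.lf 0xb) (.lf 0))) (.nd (.nd (.lf 0x6) (.lf 0x5)) (.nd (.lf 0x8) (.lf 0)))) (.nd (.nd (.nd (.lf 0xa) (.lf 0x8)) (.nd (.lf 0x9) (.lf 0))) (.nd (.nd (.lf 0xb) (.lf 0xb)) (.nd (.lf 0xa) (.lf 0)))))) (.nd (.nd (.nd (.nd (.nd (.lf 0x9) (.lf 0xa)) (.nd (.lf 0x6) (.lf 0))) (.nd (.nd (.lf 0x9) (.lf 0xb)) (.nd (.lf 0xb) (.lf 0)))) (.nd (.nd (.nd (.lf 0x8) (.lf 0x9)) (.nd (.lf 0xa) (.lf 0))) (.nd (.nd (.lf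 0xa) (.lf 0x8)) (.nd (.lf 0x8) (.lf 0))))) (.nd (.nd (.nd (.nd (.lf 0x8) (.lf 0xa)) (.nd (.lf 0xb) (.lf 0))) (.nd (.nd (.lf 0x7) (.lf 0xa)) (.nd (.lf 0xc) (.lf 0)))) (.nd (.nd (.nd (.lf 0x6) (.lf 0xb)) (.nd (.lf 0xa) (.lf 0))) (.nd (.nd (.lf 0xa) (.lf 0xb)) (.nd (.lf 0x9) (.lf 0))))))) (.nd (.nd (.nd (.nd (.nd (.nd (.lf 0x9) (.lf 0xa)) (.nd (.lf 0xb) (.lf 0))) (.nd (.nd (.lf 0x7) (.lf 0x7)) (.nd (.lf 0xa) (.lf 0)))) (.nd (.nd (.nd (.lf 0xa) (.lf 0xa)) (.nd (.lf 0xb) (.lf 0))) (.nd (.nd (.lf 0x7) (.lf 0x7)) (.nd (.lf 0xa) (.lf 0))))) (.nd (.nd (.nd (.nd (.lf 0x5) (.lf 0xa)) (.nd (.lf 0x5) (.lf 0))) (.nd (.nd (.lf 0x8) (.lf 0x9)) (.nd (.lf 0x9) (.lf 0)))) (.nd (.nd (.nd (.lf 0x5) (.lf 0x9)) (.nd (.lf 0x8) (.lf 0))) (.nd (.nd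 (.lf 0x8) (.lf 0x9)) (.nd (.lf 0xb) (.lf 0)))))) (.nd (.nd (.nd (.nd (.nd (.lf 0xa) (.lf 0xa)) (.nd (.lf 0x7) (.lf 0))) (.nd (.nd (.lf 0x9) (.lf 0xa)) (.nd (.lf 0x8) (.lf 0)))) (.nd (.nd (.nd (.lf 0xc) (.lf 0x8)) (.nd (.lf 0x9) (.lf 0))) (.nd (.nd (.lf 0x7) (.lf 0x9)) (.nd (.lf 0xa) (.lf 0))))) (.nd (.nd (.nd (.nd (.lf 0xa) (.lf 0xc)) (.nd (.lf 0xb) (.lf 0))) (.nd (.nd (.lf 0x9) (.lf 0xb)) (.nd (.lf 0x7) (.lf 0)))) (.nd (.nd (.nd (.lf 0xb) (.lf 0xa)) (.nd (.lf 0xa) (.lf 0))) (.nd (.nd (.lf 0x2) (.lf 0xb)) (.nd (.lf 0xa) (.lf 0))))))))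
def depT_naababa : Tr := (.nd (.nd (.nd (.nd (.nd (.nd (.nd (.lf 0xb) (.lf 0xb)) (.nd (.lf 0x7) (.lf 0))) (.nd (.nd (.lf 0x5) (.lf 0xa)) (.nd (.lf 0xb) (.lf 0)))) (.nd (.nd (.nd (.lf 0xa) (.lf 0x7)) (.nd (.lf 0xb) (.lf 0))) (.nd (.nd (.lf 0x8) (.lf 0x9)) (.nd (.lf 0x8) (.lf 0))))) (.nd (.nd (.nd (.nd (.lf 0x8) (.lf 0xb)) (.nd (.lf 0xa) (.lf 0))) (.nd (.nd (.lf 0xa) (.lf 0x9)) (.nd (.lf 0x8) (.lf 0)))) (.nd (.nd (.nd (.lf 0xa) (.lf 0x7)) (.nd (.lf 0xb) (.lf 0))) (.nd (.nd (.lf 0x9) (.lf 0xa)) (.nd (.lf 0x7) (.lf 0)))))) (.nd (.nd (.nd (.nd (.nd (.lf 0xb) (.lf 0xa)) (.nd (.lf 0xa) (.lf 0))) (.nd (.nd (.lf 0xb) (.lf 0x9)) (.nd (.lf 0x9) (.lf 0)))) (.nd (.nd (.nd (.lf 0x7) (.lf 0xa)) (.nd (.lf 0xa) (.lf 0))) (.nd (.nd (.lf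 0xb) (.lf 0x7)) (.nd (.lf 0xb) (.lf 0))))) (.nd (.nd (.nd (.nd (.lf 0x8) (.lf 0xa)) (.nd (.lf 0xa) (.lf 0))) (.nd (.nd (.lf 0x9) (.lf 0xb)) (.nd (.lf 0x3) (.lf 0)))) (.nd (.nd (.nd (.lf 0xa) (.lf 0x7)) (.nd (.lf 0xb) (.lf 0))) (.nd (.nd (.lf 0x9) (.lf 0x8)) (.nd (.lf 0x9) (.lf 0))))))) (.nd (.nd (.nd (.nd (.nd (.nd (.lf 0xc) (.lf 0xa)) (.nd (.lf 0xb) (.lf 0))) (.nd (.nd (.lf 0x8) (.lf 0x6)) (.nd (.lf 0x7) (.lf 0)))) (.nd (.nd (.nd (.lf 0x7) (.lf 0x9)) (.nd (.lf 0xb) (.lf 0))) (.nd (.nd (.lf 0xd) (.lf 0x7)) (.nd (.lf 0xa) (.lf 0))))) (.nd (.nd (.nd (.nd (.lf 0xb) (.lf 0x8)) (.nd (.lf 0x9) (.lf 0))) (.nd (.nd (.lf 0xa) (.lf 0xa)) (.nd (.lf 0x9) (.lf 0)))) (.nd (.nd (.nd (.lf 0xa) (.lf 0xb)) (.nd (.lf 0xc) (.lf 0))) (.nd (.nd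 (.lf 0x9) (.lf 0x8)) (.nd (.lf 0xa) (.lf 0)))))) (.nd (.nd (.nd (.nd (.nd (.lf 0xb) (.lf 0xa)) (.nd (.lf 0xb) (.lf 0))) (.nd (.nd (.lf 0xa) (.lf 0x9)) (.nd (.lf 0xb) (.lf 0)))) (.nd (.nd (.nd (.lf 0xc) (.lf 0x8)) (.nd (.lf 0x3) (.lf 0))) (.nd (.nd (.lf 0x5) (.lf 0x9)) (.nd (.lf 0xc) (.lf 0))))) (.nd (.nd (.nd (.nd (.lf 0x6) (.lf 0x7)) (.nd (.lf 0xb) (.lf 0))) (.nd (.nd (.lf 0xc) (.lf 0xb)) (.nd (.lf 0xa) (.lf 0)))) (.nd (.nd (.nd (.lf 0x5) (.lf 0xa)) (.nd (.lf 0x8) (.lf 0))) (.nd (.nd (.lf 0x8) (.lf 0x7)) (.nd (.lf 0x8) (.lf 0))))))))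
def depT_naababb : Tr := (.nd (.nd (.nd (.nd (.nd (.nd (.nd (.lf 0x8) (.lf 0xa)) (.nd (.lf 0xb) (.lf 0))) (.nd (.nd (.lf 0x9) (.lf 0x3)) (.nd (.lf 0x9) (.lf 0)))) (.nd (.nd (.nd (.lf 0x9) (.lf 0x7)) (.nd (.lf 0x7) (.lf 0))) (.nd (.nd (.lf 0x8) (.lf 0xa)) (.nd (.lf 0xa) (.lf 0))))) (.nd (.nd (.nd (.nd (.lf 0x9) (.lf 0xa)) (.nd (.lf 0xa) (.lf 0))) (.nd (.nd (.lf 0xb) (.lf 0x7)) (.nd (.lf 0x8) (.lf 0)))) (.nd (.nd (.nd (.lf 0xb) (.lf 0x5)) (.nd (.lf 0x8) (.lf 0))) (.nd (.nd (.lf 0x7) (.lf 0x7)) (.nd (.lf 0x9) (.lf 0)))))) (.nd (.nd (.nd (.nd (.nd (.lf 0xb) (.lf 0xb)) (.nd (.lf 0x9) (.lf 0))) (.nd (.nd (.lf 0x9) (.lf 0x8)) (.nd (.lf 0x7) (.lf 0)))) (.nd (.nd (.nd (.lf 0x8) (.lf 0xa)) (.nd (.lf 0x9) (.lf 0))) (.nd (.nd (.lf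 0xb) (.lf 0x9)) (.nd (.lf 0xa) (.lf 0))))) (.nd (.nd (.nd (.nd (.lf 0xa) (.lf 0x8)) (.nd (.lf 0xa) (.lf 0))) (.nd (.nd (.lf 0xb) (.lf 0x8)) (.nd (.lf 0x6) (.lf 0)))) (.nd (.nd (.nd (.lf 0x9) (.lf 0xc)) (.nd (.lf 0x7) (.lf 0))) (.nd (.nd (.lf 0x6) (.lf 0x9)) (.nd (.lf 0xd) (.lf 0))))))) (.nd (.nd (.nd (.nd (.nd (.nd (.lf 0xa) (.lf 0xa)) (.nd (.lf 0x4) (.lf 0))) (.nd (.nd (.lf 0xb) (.lf 0x8)) (.nd (.lf 0x9) (.lf 0)))) (.nd (.nd (.nd (.lf 0x9) (.lf 0x9)) (.nd (.lf 0xa) (.lf 0))) (.nd (.nd (.lf 0x9) (.lf 0x9)) (.nd (.lf 0x8) (.lf 0))))) (.nd (.nd (.nd (.nd (.lf 0x9) (.lf 0x8)) (.nd (.lf 0x8) (.lf 0))) (.nd (.nd (.lf 0x8) (.lf 0x8)) (.nd (.lf 0x7) (.lf 0)))) (.nd (.nd (.nd (.lf 0xd) (.lf 0xb)) (.nd (.lf 0xb) (.lf 0))) (.nd (.nd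 (.lf 0x5) (.lf 0xa)) (.nd (.lf 0x9) (.lf 0)))))) (.nd (.nd (.nd (.nd (.nd (.lf 0xa) (.lf 0x9)) (.nd (.lf 0x6) (.lf 0))) (.nd (.nd (.lf 0x8) (.lf 0x6)) (.nd (.lf 0x9) (.lf 0)))) (.nd (.nd (.nd (.lf 0xa) (.lf 0xa)) (.nd (.lf 0x7) (.lf 0))) (.nd (.nd (.lf 0xb) (.lf 0xa)) (.nd (.lf 0xa) (.lf 0))))) (.nd (.nd (.nd (.nd (.lf 0x9) (.lf 0x8)) (.nd (.lf 0x8) (.lf 0))) (.nd (.nd (.lf 0x6) (.lf 0xa)) (.nd (.lf 0xb) (.lf 0)))) (.nd (.nd (.nd (.lf 0xa) (.lf 0x9)) (.nd (.lf 0xa) (.lf 0))) (.nd (.nd (.lf 0xb) (.lf 0x8)) (.nd (.lf 0xb) (.lf 0))))))))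
def depT_naabbaa : Tr := (.nd (.nd (.nd (.nd (.nd (.nd (.nd (.lf 0xa) (.lf 0x9)) (.nd (.lf 0xc) (.lf 0))) (.nd (.nd (.lf 0xa) (.lf 0x9)) (.nd (.lf 0x8) (.lf 0)))) (.nd (.nd (.nd (.lf 0x9) (.lf 0x9)) (.nd (.lf 0x8) (.lf 0))) (.nd (.nd (.lf 0x8) (.lf 0xc)) (.nd (.lf 0xa) (.lf 0))))) (.nd (.nd (.nd (.nd (.lf 0x4) (.lf 0xa)) (.nd (.lf 0x6) (.lf 0))) (.nd (.nd (.lf 0xa) (.lf 0xb)) (.nd (.lf 0x9) (.lf 0)))) (.nd (.nd (.nd (.lf 0x6) (.lf 0xa)) (.nd (.lf 0xb) (.lf 0))) (.nd (.nd (.lf 0x8) (.lf 0x6)) (.nd (.lf 0xb) (.lf 0)))))) (.nd (.nd (.nd (.nd (.nd (.lf 0xb) (.lf 0x8)) (.nd (.lf 0xb) (.lf 0))) (.nd (.nd (.lf 0xb) (.lf 0xa)) (.nd (.lf 0xa) (.lf 0)))) (.nd (.nd (.nd (.lf 0x8) (.lf 0x8)) (.nd (.lf 0x9) (.lf 0))) (.nd (.nd (.lf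 0x6) (.lf 0xb)) (.nd (.lf 0x9) (.lf 0))))) (.nd (.nd (.nd (.nd (.lf 0xa) (.lf 0x9)) (.nd (.lf 0x8) (.lf 0))) (.nd (.nd (.lf 0xa) (.lf 0xa)) (.nd (.lf 0xa) (.lf 0)))) (.nd (.nd (.nd (.lf 0x9) (.lf 0x6)) (.nd (.lf 0xb) (.lf 0))) (.nd (.nd (.lf 0x8) (.lf 0x4)) (.nd (.lf 0x9) (.lf 0))))))) (.nd (.nd (.nd (.nd (.nd (.nd (.lf 0xb) (.lf 0xa)) (.nd (.lf 0xc) (.lf 0))) (.nd (.nd (.lf 0xa) (.lf 0xa)) (.nd (.lf 0xb) (.lf 0)))) (.nd (.nd (.nd (.lf 0xb) (.lf 0x9)) (.nd (.lf 0x5) (.lf 0))) (.nd (.nd (.lf 0x6) (.lf 0x6)) (.nd (.lf 0x9) (.lf 0))))) (.nd (.nd (.nd (.nd (.lf 0xc) (.lf 0x8)) (.nd (.lf 0xa) (.lf 0))) (.nd (.nd (.lf 0x7) (.lf 0x8)) (.nd (.lf 0x9) (.lf 0)))) (.nd (.nd (.nd (.lf 0x8) (.lf 0xa)) (.nd (.lf 0x6) (.lf 0))) (.nd (.nd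 (.lf 0xb) (.lf 0xa)) (.nd (.lf 0xa) (.lf 0)))))) (.nd (.nd (.nd (.nd (.nd (.lf 0x7) (.lf 0xa)) (.nd (.lf 0xa) (.lf 0))) (.nd (.nd (.lf 0xa) (.lf 0x9)) (.nd (.lf 0x7) (.lf 0)))) (.nd (.nd (.nd (.lf 0x9) (.lf 0x7)) (.nd (.lf 0xa) (.lf 0))) (.nd (.nd (.lf 0xc) (.lf 0xc)) (.nd (.lf 0xb) (.lf 0))))) (.nd (.nd (.nd (.nd (.lf 0xa) (.lf 0x9)) (.nd (.lf 0x7) (.lf 0))) (.nd (.nd (.lf 0xa) (.lf 0x9)) (.nd (.lf 0x8) (.lf 0)))) (.nd (.nd (.nd (.lf 0x7) (.lf 0x8)) (.nd (.lf 0x7) (.lf 0))) (.nd (.nd (.lf 0xa) (.lf 0xb)) (.nd (.lf 0x6) (.lf 0))))))))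
def depT_naabbab : Tr := (.nd (.nd (.nd (.nd (.nd (.nd (.nd (.lf 0xa) (.lf 0x7)) (.nd (.lf 0xb) (.lf 0))) (.nd (.nd (.lf 0x7) (.lf 0x7)) (.nd (.lf 0x8) (.lf 0)))) (.nd (.nd (.nd (.lf 0xb) (.lf 0xa)) (.nd (.lf 0x7) (.lf 0))) (.nd (.nd (.lf 0x8) (.lf 0x5)) (.nd (.lf 0x8) (.lf 0))))) (.nd (.nd (.nd (.nd (.lf 0xa) (.lf 0x8)) (.nd (.lf 0xa) (.lf 0))) (.nd (.nd (.lf 0xa) (.lf 0xb)) (.nd (.lf 0x9) (.lf 0)))) (.nd (.nd (.nd (.lf 0xb) (.lf 0x9)) (.nd (.lf 0xa) (.lf 0))) (.nd (.nd (.lf 0x9) (.lf 0x9)) (.nd (.lf 0x4) (.lf 0)))))) (.nd (.nd (.nd (.nd (.nd (.lf 0xa) (.lf 0xa)) (.nd (.lf 0xb) (.lf 0))) (.nd (.nd (.lf 0x5) (.lf 0xa)) (.nd (.lf 0x6) (.lf 0)))) (.nd (.nd (.nd (.lf 0x8) (.lf 0xb)) (.nd (.lf 0xb) (.lf 0))) (.nd (.nd (.lf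 0x9) (.lf 0x9)) (.nd (.lf 0xa) (.lf 0))))) (.nd (.nd (.nd (.nd (.lf 0xa) (.lf 0xa)) (.nd (.lf 0x9) (.lf 0))) (.nd (.nd (.lf 0x8) (.lf 0x7)) (.nd (.lf 0x9) (.lf 0)))) (.nd (.nd (.nd (.lf 0xb) (.lf 0xc)) (.nd (.lf 0x6) (.lf 0))) (.nd (.nd (.lf 0xc) (.lf 0xa)) (.nd (.lf 0x9) (.lf 0))))))) (.nd (.nd (.nd (.nd (.nd (.nd (.lf 0x8) (.lf 0x6)) (.nd (.lf 0x9) (.lf 0))) (.nd (.nd (.lf 0x6) (.lf 0xb)) (.nd (.lf 0x4) (.lf 0)))) (.nd (.nd (.nd (.lf 0x1) (.lf 0x9)) (.nd (.lf 0xb) (.lf 0))) (.nd (.nd (.lf 0x7) (.lf 0x5)) (.nd (.lf 0x9) (.lf 0))))) (.nd (.nd (.nd (.nd (.lf 0xb) (.lf 0xb)) (.nd (.lf 0x9) (.lf 0))) (.nd (.nd (.lf 0x7) (.lf 0x7)) (.nd (.lf 0xb) (.lf 0)))) (.nd (.nd (.nd (.lf 0x8) (.lf 0x6)) (.nd (.lf 0xb) (.lf 0))) (.nd (.nd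 (.lf 0xa) (.lf 0x9)) (.nd (.lf 0xa) (.lf 0)))))) (.nd (.nd (.nd (.nd (.nd (.lf 0x4) (.lf 0x8)) (.nd (.lf 0xa) (.lf 0))) (.nd (.nd (.lf 0xa) (.lf 0x9)) (.nd (.lf 0x9) (.lf 0)))) (.nd (.nd (.nd (.lf 0xb) (.lf 0xa)) (.nd (.lf 0xb) (.lf 0))) (.nd (.nd (.lf 0xb) (.lf 0xb)) (.nd (.lf 0x9) (.lf 0))))) (.nd (.nd (.nd (.nd (.lf 0x3) (.lf 0xa)) (.nd (.lf 0x8) (.lf 0))) (.nd (.nd (.lf 0xa) (.lf 0x9)) (.nd (.lf 0xa) (.lf 0)))) (.nd (.nd (.nd (.lf 0x8) (.lf 0x9)) (.nd (.lf 0x8) (.lf 0))) (.nd (.nd (.lf 0x8) (.lf 0xb)) (.nd (.lf 0xa) (.lf 0))))))))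
def depT_naabbba : Tr := (.nd (.nd (.nd (.nd (.nd (.nd (.nd (.lf 0x9) (.lf 0x8)) (.nd (.lf 0xd) (.lf 0))) (.nd (.nd (.lf 0xb) (.lf 0x8)) (.nd (.lf 0x6) (.lf 0)))) (.nd (.nd (.nd (.lf 0x6) (.lf 0x8)) (.nd (.lf 0xc) (.lf 0))) (.nd (.nd (.lf 0x8) (.lf 0x6)) (.nd (.lf 0xa) (.lf 0))))) (.nd (.nd (.nd (.nd (.lf 0xc) (.lf 0xa)) (.nd (.lf 0x8) (.lf 0))) (.nd (.nd (.lf 0xb) (.lf 0xb)) (.nd (.lf 0x8) (.lf 0)))) (.nd (.nd (.nd (.lf 0xb) (.lf 0xb)) (.nd (.lf 0xc) (.lf 0))) (.nd (.nd (.lf 0xa) (.lf 0x8)) (.nd (.lf 0x8) (.lf 0)))))) (.nd (.nd (.nd (.nd (.nd (.lf 0xa) (.lf 0xb)) (.nd (.lf 0xa) (.lf 0))) (.nd (.nd (.lf 0xc) (.lf 0xa)) (.nd (.lf 0x8) (.lf 0)))) (.nd (.nd (.nd (.lf 0x9) (.lf 0x8)) (.nd (.lf 0x9) (.lf 0))) (.nd (.nd (.lf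 0x6) (.lf 0xb)) (.nd (.lf 0x6) (.lf 0))))) (.nd (.nd (.nd (.nd (.lf 0x6) (.lf 0x7)) (.nd (.lf 0xb) (.lf 0))) (.nd (.nd (.lf 0x9) (.lf 0xa)) (.nd (.lf 0xa) (.lf 0)))) (.nd (.nd (.nd (.lf 0x9) (.lf 0x5)) (.nd (.lf 0x9) (.lf 0))) (.nd (.nd (.lf 0xb) (.lf 0x1)) (.nd (.lf 0xa) (.lf 0))))))) (.nd (.nd (.nd (.nd (.nd (.nd (.lf 0x8) (.lf 0x9)) (.nd (.lf 0x7) (.lf 0))) (.nd (.nd (.lf 0x8) (.lf 0xb)) (.nd (.lf 0xb) (.lf 0)))) (.nd (.nd (.nd (.lf 0xb) (.lf 0xa)) (.nd (.lf 0x7) (.lf 0))) (.nd (.nd (.lf 0xa) (.lf 0xa)) (.nd (.lf 0x6) (.lf 0))))) (.nd (.nd (.nd (.nd (.lf 0x9) (.lf 0xa)) (.nd (.lf 0x9) (.lf 0))) (.nd (.nd (.lf 0x9) (.lf 0x5)) (.nd (.lf 0xa) (.lf 0)))) (.nd (.nd (.nd (.lf 0xb) (.lf 0x9)) (.nd (.lf 0xb) (.lf 0))) (.nd (.nd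 (.lf 0xa) (.lf 0xc)) (.nd (.lf 0xc) (.lf 0)))))) (.nd (.nd (.nd (.nd (.nd (.lf 0xa) (.lf 0xb)) (.nd (.lf 0xc) (.lf 0))) (.nd (.nd (.lf 0x8) (.lf 0xc)) (.nd (.lf 0x8) (.lf 0)))) (.nd (.nd (.nd (.lf 0x9) (.lf 0xa)) (.nd (.lf 0x7) (.lf 0))) (.nd (.nd (.lf 0xa) (.lf 0x7)) (.nd (.lf 0xa) (.lf 0))))) (.nd (.nd (.nd (.nd (.lf 0xb) (.lf 0xa)) (.nd (.lf 0xa) (.lf 0))) (.nd (.nd (.lf 0x7) (.lf 0xa)) (.nd (.lf 0x5) (.lf 0)))) (.nd (.nd (.nd (.lf 0x7) (.lf 0x9)) (.nd (.lf 0x9) (.lf 0))) (.nd (.nd (.lf 0xb) (.lf 0x9)) (.nd (.lf 0xa) (.lf 0))))))))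
def depT_naabbbb : Tr := (.nd (.nd (.nd (.nd (.nd (.nd (.nd (.lf 0xa) (.lf 0x9)) (.nd (.lf 0xc) (.lf 0))) (.nd (.nd (.lf 0xb) (.lf 0xc)) (.nd (.lf 0xc) (.lf 0)))) (.nd (.nd (.nd (.lf 0xb) (.lf 0xa)) (.nd (.lf 0x7) (.lf 0))) (.nd (.nd (.lf 0xb) (.lf 0x5)) (.nd (.lf 0x7) (.lf 0))))) (.nd (.nd (.nd (.nd (.lf 0xa) (.lf 0x6)) (.nd (.lf 0xb) (.lf 0))) (.nd (.nd (.lf 0xb) (.lf 0xb)) (.nd (.lf 0xa) (.lf 0)))) (.nd (.nd (.nd (.lf 0xb) (.lf 0xa)) (.nd (.lf 0xb) (.lf 0))) (.nd (.nd (.lf 0x7) (.lf 0x7)) (.nd (.lf 0xc) (.lf 0)))))) (.nd (.nd (.nd (.nd (.nd (.lf 0x9) (.lf 0xa)) (.nd (.lf 0xa) (.lf 0))) (.nd (.nd (.lf 0xa) (.lf 0xb)) (.nd (.lf 0x5) (.lf 0)))) (.nd (.nd (.nd (.lf 0xb) (.lf 0xa)) (.nd (.lf 0xa) (.lf 0))) (.nd (.nd (.lf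 0xa) (.lf 0x9)) (.nd (.lf 0x8) (.lf 0))))) (.nd (.nd (.nd (.nd (.lf 0xa) (.lf 0xb)) (.nd (.lf 0xb) (.lf 0))) (.nd (.nd (.lf 0x3) (.lf 0x9)) (.nd (.lf 0x9) (.lf 0)))) (.nd (.nd (.nd (.lf 0xa) (.lf 0x9)) (.nd (.lf 0x8) (.lf 0))) (.nd (.nd (.lf 0x8) (.lf 0x9)) (.nd (.lf 0xa) (.lf 0))))))) (.nd (.nd (.nd (.nd (.nd (.nd (.lf 0x8) (.lf 0x9)) (.nd (.lf 0xb) (.lf 0))) (.nd (.nd (.lf 0xa) (.lf 0x6)) (.nd (.lf 0x9) (.lf 0)))) (.nd (.nd (.nd (.lf 0x7) (.lf 0xb)) (.nd (.lf 0xb) (.lf 0))) (.nd (.nd (.lf 0x9) (.lf 0xa)) (.nd (.lf 0x9) (.lf 0))))) (.nd (.nd (.nd (.nd (.lf 0xa) (.lf 0xb)) (.nd (.lf 0xc) (.lf 0))) (.nd (.nd (.lf 0x7) (.lf 0x5)) (.nd (.lf 0xa) (.lf 0)))) (.nd (.nd (.nd (.lf 0xc) (.lf 0x8)) (.nd (.lf 0x4) (.lf 0))) (.nd (.nd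 (.lf 0xc) (.lf 0x8)) (.nd (.lf 0xa) (.lf 0)))))) (.nd (.nd (.nd (.nd (.nd (.lf 0x8) (.lf 0xa)) (.nd (.lf 0x3) (.lf 0))) (.nd (.nd (.lf 0x6) (.lf 0x9)) (.nd (.lf 0x6) (.lf 0)))) (.nd (.nd (.nd (.lf 0xb) (.lf 0xa)) (.nd (.lf 0x8) (.lf 0))) (.nd (.nd (.lf 0x9) (.lf 0x8)) (.nd (.lf 0xa) (.lf 0))))) (.nd (.nd (.nd (.nd (.lf 0x7) (.lf 0x8)) (.nd (.lf 0xc) (.lf 0))) (.nd (.nd (.lf 0x7) (.lf 0x6)) (.nd (.lf 0xb) (.lf 0)))) (.nd (.nd (.nd (.lf 0x6) (.lf 0x8)) (.nd (.lf 0x9) (.lf 0))) (.nd (.nd (.lf 0xb) (.lf 0xa)) (.nd (.lf 0xa) (.lf 0))))))))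
def depT_nabaaaa : Tr := (.nd (.nd (.nd (.nd (.nd (.nd (.nd (.lf 0x0) (.lf 0xc)) (.nd (.lf 0x5) (.lf 0xa))) (.nd (.nd (.lf 0x9) (.lf 0x8)) (.nd (.lf 0x8) (.lf 0)))) (.nd (.nd (.nd (.lf 0x2) (.lf 0x9)) (.nd (.lf 0x6) (.lf 0))) (.nd (.nd (.lf 0xb) (.lf 0x9)) (.nd (.lf 0x8) (.lf 0))))) (.nd (.nd (.nd (.nd (.lf 0xb) (.lf 0x7)) (.nd (.lf 0x6) (.lf 0))) (.nd (.nd (.lf 0x7) (.lf 0x6)) (.nd (.lf 0x9) (.lf 0)))) (.nd (.nd (.nd (.lf 0x7) (.lf 0x9)) (.nd (.lf 0x9) (.lf 0))) (.nd (.nd (.lf 0x7) (.lf 0x9)) (.nd (.lf 0xb) (.lf 0)))))) (.nd (.nd (.nd (.nd (.nd (.lf 0x8) (.lf 0x6)) (.nd (.lf 0x5) (.lf 0))) (.nd (.nd (.lf 0x8) (.lf 0xa)) (.nd (.lf 0x6) (.lf 0)))) (.nd (.nd (.nd (.lf 0xa) (.lf 0x9)) (.nd (.lf 0x8) (.lf 0))) (.nd (.nd (.lf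 0x6) (.lf 0x7)) (.nd (.lf 0x7) (.lf 0))))) (.nd (.nd (.nd (.nd (.lf 0xa) (.lf 0xb)) (.nd (.lf 0x6) (.lf 0))) (.nd (.nd (.lf 0xa) (.lf 0x9)) (.nd (.lf 0x7) (.lf 0)))) (.nd (.nd (.nd (.lf 0x9) (.lf 0xa)) (.nd (.lf 0xa) (.lf 0))) (.nd (.nd (.lf 0xc) (.lf 0xb)) (.nd (.lf 0x8) (.lf 0))))))) (.nd (.nd (.nd (.nd (.nd (.nd (.lf 0xb) (.lf 0x6)) (.nd (.lf 0xb) (.lf 0))) (.nd (.nd (.lf 0x9) (.lf 0xa)) (.nd (.lf 0xe) (.lf 0)))) (.nd (.nd (.nd (.lf 0xc) (.lf 0x7)) (.nd (.lf 0xb) (.lf 0))) (.nd (.nd (.lf 0x7) (.lf 0x8)) (.nd (.lf 0x9) (.lf 0))))) (.nd (.nd (.nd (.nd (.lf 0xa) (.lf 0x7)) (.nd (.lf 0x8) (.lf 0))) (.nd (.nd (.lf 0x9) (.lf 0x7)) (.nd (.lf 0x7) (.lf 0)))) (.nd (.nd (.nd (.lf 0x9) (.lf 0x7)) (.nd (.lf 0x8) (.lf 0))) (.nd (.nd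 (.lf 0xc) (.lf 0xa)) (.nd (.lf 0xa) (.lf 0)))))) (.nd (.nd (.nd (.nd (.nd (.lf 0x9) (.lf 0xb)) (.nd (.lf 0xb) (.lf 0))) (.nd (.nd (.lf 0xb) (.lf 0x8)) (.nd (.lf 0x6) (.lf 0)))) (.nd (.nd (.nd (.lf 0x8) (.lf 0xc)) (.nd (.lf 0xb) (.lf 0))) (.nd (.nd (.lf 0x3) (.lf 0xa)) (.nd (.lf 0x8) (.lf 0))))) (.nd (.nd (.nd (.nd (.lf 0x9) (.lf 0x7)) (.nd (.lf 0x8) (.lf 0))) (.nd (.nd (.lf 0x6) (.lf 0x9)) (.nd (.lf 0xc) (.lf 0)))) (.nd (.nd (.nd (.lf 0x7) (.lf 0x8)) (.nd (.lf 0x8) (.lf 0))) (.nd (.nd (.lf 0x8) (.lf 0xb)) (.nd (.lf 0xc) (.lf 0))))))))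
def depT_nabaaab : Tr := (.nd (.nd (.nd (.nd (.nd (.nd (.nd (.lf 0xb) (.lf 0xa)) (.nd (.lf 0xa) (.lf 0))) (.nd (.nd (.lf 0x9) (.lf 0x9)) (.nd (.lf 0xa) (.lf 0)))) (.nd (.nd (.nd (.lf 0x7) (.lf 0xb)) (.nd (.lf 0xb) (.lf 0))) (.nd (.nd (.lf 0x8) (.lf 0x8)) (.nd (.lf 0x7) (.lf 0))))) (.nd (.nd (.nd (.nd (.lf 0x9) (.lf 0xa)) (.nd (.lf 0x5) (.lf 0))) (.nd (.nd (.lf 0x9) (.lf 0x9)) (.nd (.lf 0x9) (.lf 0)))) (.nd (.nd (.nd (.lf 0xb) (.lf 0xb)) (.nd (.lf 0x9) (.lf 0))) (.nd (.nd (.lf 0x7) (.lf 0xb)) (.nd (.lf 0x1) (.lf 0)))))) (.nd (.nd (.nd (.nd (.nd (.lf 0xa) (.lf 0xa)) (.nd (.lf 0xc) (.lf 0))) (.nd (.nd (.lf 0x9) (.lf 0xa)) (.nd (.lf 0x9) (.lf 0)))) (.nd (.nd (.nd (.lf 0x9) (.lf 0x9)) (.nd (.lf 0xc) (.lf 0))) (.nd (.nd (.lf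 0x9) (.lf 0xb)) (.nd (.lf 0x9) (.lf 0))))) (.nd (.nd (.nd (.nd (.lf 0x9) (.lf 0x9)) (.nd (.lf 0x8) (.lf 0))) (.nd (.nd (.lf 0xa) (.lf 0x8)) (.nd (.lf 0x8) (.lf 0)))) (.nd (.nd (.nd (.lf 0xc) (.lf 0x7)) (.nd (.lf 0xa) (.lf 0))) (.nd (.nd (.lf 0xb) (.lf 0xa)) (.nd (.lf 0x8) (.lf 0))))))) (.nd (.nd (.nd (.nd (.nd (.nd (.lf 0xa) (.lf 0xa)) (.nd (.lf 0x8) (.lf 0))) (.nd (.nd (.lf 0xa) (.lf 0xb)) (.nd (.lf 0x8) (.lf 0)))) (.nd (.nd (.nd (.lf 0x9) (.lf 0x8)) (.nd (.lf 0x9) (.lf 0))) (.nd (.nd (.lf 0x9) (.lf 0xa)) (.nd (.lf 0x9) (.lf 0))))) (.nd (.nd (.nd (.nd (.lf 0x9) (.lf 0x9)) (.nd (.lf 0x6) (.lf 0))) (.nd (.nd (.lf 0x9) (.lf 0x8)) (.nd (.lf 0xa) (.lf 0)))) (.nd (.nd (.nd (.lf 0xc) (.lf 0x6)) (.nd (.lf 0x7) (.lf 0))) (.nd (.nd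 (.lf 0x7) (.lf 0x7)) (.nd (.lf 0xb) (.lf 0)))))) (.nd (.nd (.nd (.nd (.nd (.lf 0x9) (.lf 0x7)) (.nd (.lf 0x9) (.lf 0))) (.nd (.nd (.lf 0x8) (.lf 0xb)) (.nd (.lf 0x8) (.lf 0)))) (.nd (.nd (.nd (.lf 0xb) (.lf 0xb)) (.nd (.lf 0x8) (.lf 0))) (.nd (.nd (.lf 0xb) (.lf 0xd)) (.nd (.lf 0x9) (.lf 0))))) (.nd (.nd (.nd (.nd (.lf 0x4) (.lf 0x5)) (.nd (.lf 0x9) (.lf 0))) (.nd (.nd (.lf 0x8) (.lf 0x9)) (.nd (.lf 0x6) (.lf 0)))) (.nd (.nd (.nd (.lf 0xc) (.lf 0xc)) (.nd (.lf 0x8) (.lf 0))) (.nd (.nd (.lf 0xc) (.lf 0xc)) (.nd (.lf 0x2) (.lf 0))))))))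
def depT_nabaaba : Tr := (.nd (.nd (.nd (.nd (.nd (.nd (.nd (.lf 0x3) (.lf 0x8)) (.nd (.lf 0xa) (.lf 0))) (.nd (.nd (.lf 0xa) (.lf 0xa)) (.nd (.lf 0xb) (.lf 0)))) (.nd (.nd (.nd (.lf 0x8) (.lf 0xa)) (.nd (.lf 0xa) (.lf 0))) (.nd (.nd (.lf 0x9) (.lf 0x9)) (.nd (.lf 0xb) (.lf 0))))) (.nd (.nd (.nd (.nd (.lf 0x8) (.lf 0x5)) (.nd (.lf 0xc) (.lf 0))) (.nd (.nd (.lf 0xa) (.lf 0x7)) (.nd (.lf 0x9) (.lf 0)))) (.nd (.nd (.nd (.lf 0xc) (.lf 0x9)) (.nd (.lf 0x9) (.lf 0))) (.nd (.nd (.lf 0x8) (.lf 0x9)) (.nd (.lf 0xa) (.lf 0)))))) (.nd (.nd (.nd (.nd (.nd (.lf 0xb) (.lf 0xb)) (.nd (.lf 0xa) (.lf 0))) (.nd (.nd (.lf 0xa) (.lf 0xb)) (.nd (.lf 0xa) (.lf 0)))) (.nd (.nd (.nd (.lf 0xd) (.lf 0xa)) (.nd (.lf 0xa) (.lf 0))) (.nd (.nd (.lf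 0x9) (.lf 0xa)) (.nd (.lf 0x8) (.lf 0))))) (.nd (.nd (.nd (.nd (.lf 0xa) (.lf 0x7)) (.nd (.lf 0x6) (.lf 0))) (.nd (.nd (.lf 0x5) (.lf 0x9)) (.nd (.lf 0x8) (.lf 0)))) (.nd (.nd (.nd (.lf 0x9) (.lf 0x6)) (.nd (.lf 0x9) (.lf 0))) (.nd (.nd (.lf 0xb) (.lf 0x7)) (.nd (.lf 0xb) (.lf 0))))))) (.nd (.nd (.nd (.nd (.nd (.nd (.lf 0x6) (.lf 0x9)) (.nd (.lf 0x8) (.lf 0))) (.nd (.nd (.lf 0x6) (.lf 0x8)) (.nd (.lf 0x9) (.lf 0)))) (.nd (.nd (.nd (.lf 0xa) (.lf 0xc)) (.nd (.lf 0x7) (.lf 0))) (.nd (.nd (.lf 0x9) (.lf 0x8)) (.nd (.lf 0xa) (.lf 0))))) (.nd (.nd (.nd (.nd (.lf 0x8) (.lf 0xc)) (.nd (.lf 0x9) (.lf 0))) (.nd (.nd (.lf 0x6) (.lf 0xa)) (.nd (.lf 0x7) (.lf 0)))) (.nd (.nd (.nd (.lf 0xb) (.lf 0x9)) (.nd (.lf 0xa) (.lf 0))) (.nd (.nd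 (.lf 0x8) (.lf 0xa)) (.nd (.lf 0xb) (.lf 0)))))) (.nd (.nd (.nd (.nd (.nd (.lf 0xa) (.lf 0x8)) (.nd (.lf 0xb) (.lf 0))) (.nd (.nd (.lf 0xa) (.lf 0x9)) (.nd (.lf 0x9) (.lf 0)))) (.nd (.nd (.nd (.lf 0xc) (.lf 0xa)) (.nd (.lf 0xd) (.lf 0))) (.nd (.nd (.lf 0x1) (.lf 0x9)) (.nd (.lf 0xb) (.lf 0))))) (.nd (.nd (.nd (.nd (.lf 0xa) (.lf 0xa)) (.nd (.lf 0xa) (.lf 0))) (.nd (.nd (.lf 0xb) (.lf 0x9)) (.nd (.lf 0xb) (.lf 0)))) (.nd (.nd (.nd (.lf 0x8) (.lf 0x9)) (.nd (.lf 0xa) (.lf 0))) (.nd (.nd (.lf 0x6) (.lf 0x7)) (.nd (.lf 0xa) (.lf 0))))))))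
def depT_nabaabb : Tr := (.nd (.nd (.nd (.nd (.nd (.nd (.nd (.lf 0xa) (.lf 0x7)) (.nd (.lf 0xa) (.lf 0))) (.nd (.nd (.lf 0xa) (.lf 0xc)) (.nd (.lf 0xb) (.lf 0)))) (.nd (.nd (.nd (.lf 0x8) (.lf 0xc)) (.nd (.lf 0xa) (.lf 0))) (.nd (.nd (.lf 0x7) (.lf 0xc)) (.nd (.lf 0xa) (.lf 0))))) (.nd (.nd (.nd (.nd (.lf 0xb) (.lf 0x9)) (.nd (.lf 0x8) (.lf 0))) (.nd (.nd (.lf 0xa) (.lf 0xb)) (.nd (.lf 0x7) (.lf 0)))) (.nd (.nd (.nd (.lf 0x8) (.lf 0x9)) (.nd (.lf 0x9) (.lf 0))) (.nd (.nd (.lf 0x7) (.lf 0xa)) (.nd (.lf 0x7) (.lf 0)))))) (.nd (.nd (.nd (.nd (.nd (.lf 0x9) (.lf 0x8)) (.nd (.lf 0x8) (.lf 0))) (.nd (.nd (.lf 0xb) (.lf 0xa)) (.nd (.lf 0xa) (.lf 0)))) (.nd (.nd (.nd (.lf 0x8) (.lf 0xc)) (.nd (.lf 0x9) (.lf 0))) (.nd (.nd (.lf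 0xd) (.lf 0xc)) (.nd (.lf 0x9) (.lf 0))))) (.nd (.nd (.nd (.nd (.lf 0xb) (.lf 0x7)) (.nd (.lf 0x2) (.lf 0))) (.nd (.nd (.lf 0x8) (.lf 0xa)) (.nd (.lf 0x9) (.lf 0)))) (.nd (.nd (.nd (.lf 0x9) (.lf 0x7)) (.nd (.lf 0xa) (.lf 0))) (.nd (.nd (.lf 0xa) (.lf 0x8)) (.nd (.lf 0x9) (.lf 0))))))) (.nd (.nd (.nd (.nd (.nd (.nd (.lf 0xc) (.lf 0x9)) (.nd (.lf 0xa) (.lf 0))) (.nd (.nd (.lf 0xa) (.lf 0x9)) (.nd (.lf 0xa) (.lf 0)))) (.nd (.nd (.nd (.lf 0x8) (.lf 0x6)) (.nd (.lf 0x3) (.lf 0))) (.nd (.nd (.lf 0xb) (.lf 0x9)) (.nd (.lf 0xc) (.lf 0))))) (.nd (.nd (.nd (.nd (.lf 0xb) (.lf 0xa)) (.nd (.lf 0xb) (.lf 0))) (.nd (.nd (.lf 0xb) (.lf 0x8)) (.nd (.lf 0x8) (.lf 0)))) (.nd (.nd (.nd (.lf 0xa) (.lf 0xc)) (.nd (.lf 0xa) (.lf 0))) (.nd (.nd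 (.lf 0xc) (.lf 0xc)) (.nd (.lf 0xa) (.lf 0)))))) (.nd (.nd (.nd (.nd (.nd (.lf 0x7) (.lf 0xa)) (.nd (.lf 0xa) (.lf 0))) (.nd (.nd (.lf 0x8) (.lf 0xb)) (.nd (.lf 0x9) (.lf 0)))) (.nd (.nd (.nd (.lf 0x7) (.lf 0x7)) (.nd (.lf 0x7) (.lf 0))) (.nd (.nd (.lf 0x9) (.lf 0x7)) (.nd (.lf 0x8) (.lf 0))))) (.nd (.nd (.nd (.nd (.lf 0x5) (.lf 0x7)) (.nd (.lf 0xd) (.lf 0))) (.nd (.nd (.lf 0xa) (.lf 0x6)) (.nd (.lf 0xb) (.lf 0)))) (.nd (.nd (.nd (.lf 0x7) (.lf 0xb)) (.nd (.lf 0x9) (.lf 0))) (.nd (.nd (.lf 0x5) (.lf 0x7)) (.nd (.lf 0x6) (.lf 0))))))))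
def depT_nababaa : Tr := (.nd (.nd (.nd (.nd (.nd (.nd (.nd (.lf 0x0) (.lf 0xb)) (.nd (.lf 0xa) (.lf 0x9))) (.nd (.nd (.lf 0x8) (.lf 0xb)) (.nd (.lf 0xa) (.lf 0)))) (.nd (.nd (.nd (.lf 0x8) (.lf 0x7)) (.nd (.lf 0xb) (.lf 0))) (.nd (.nd (.lf 0xb) (.lf 0xb)) (.nd (.lf 0x9) (.lf 0))))) (.nd (.nd (.nd (.nd (.lf 0x7) (.lf 0x8)) (.nd (.lf 0xb) (.lf 0))) (.nd (.nd (.lf 0x9) (.lf 0xa)) (.nd (.lf 0xa) (.lf 0)))) (.nd (.nd (.nd (.lf 0xb) (.lf 0x8)) (.nd (.lf 0x6) (.lf 0))) (.nd (.nd (.lf 0x8) (.lf 0xb)) (.nd (.lf 0xd) (.lf 0)))))) (.nd (.nd (.nd (.nd (.nd (.lf 0xb) (.lf 0xb)) (.nd (.lf 0xa) (.lf 0))) (.nd (.nd (.lf 0x7) (.lf 0x7)) (.nd (.lf 0xa) (.lf 0)))) (.nd (.nd (.nd (.lf 0x3) (.lf 0x8)) (.nd (.lf 0x7) (.lf 0))) (.nd (.nd (.lf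 0x8) (.lf 0x9)) (.nd (.lf 0xa) (.lf 0))))) (.nd (.nd (.nd (.nd (.lf 0xa) (.lf 0xa)) (.nd (.lf 0xa) (.lf 0))) (.nd (.nd (.lf 0x4) (.lf 0x9)) (.nd (.lf 0xa) (.lf 0)))) (.nd (.nd (.nd (.lf 0x9) (.lf 0x7)) (.nd (.lf 0x9) (.lf 0))) (.nd (.nd (.lf 0xa) (.lf 0x8)) (.nd (.lf 0x7) (.lf 0))))))) (.nd (.nd (.nd (.nd (.nd (.nd (.lf 0xb) (.lf 0x7)) (.nd (.lf 0x7) (.lf 0))) (.nd (.nd (.lf 0xc) (.lf 0x9)) (.nd (.lf 0xd) (.lf 0)))) (.nd (.nd (.nd (.lf 0xa) (.lf 0x9)) (.nd (.lf 0xb) (.lf 0))) (.nd (.nd (.lf 0x9) (.lf 0x3)) (.nd (.lf 0x5) (.lf 0))))) (.nd (.nd (.nd (.nd (.lf 0xb) (.lf 0xb)) (.nd (.lf 0xc) (.lf 0))) (.nd (.nd (.lf 0x9) (.lf 0x9)) (.nd (.lf 0x7) (.lf 0)))) (.nd (.nd (.nd (.lf 0x7) (.lf 0xa)) (.nd (.lf 0xc) (.lf 0))) (.nd (.nd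 (.lf 0xa) (.lf 0xa)) (.nd (.lf 0x7) (.lf 0)))))) (.nd (.nd (.nd (.nd (.nd (.lf 0x9) (.lf 0x8)) (.nd (.lf 0xa) (.lf 0))) (.nd (.nd (.lf 0x9) (.lf 0x6)) (.nd (.lf 0x8) (.lf 0)))) (.nd (.nd (.nd (.lf 0x9) (.lf 0x9)) (.nd (.lf 0xa) (.lf 0))) (.nd (.nd (.lf 0x4) (.lf 0xb)) (.nd (.lf 0x9) (.lf 0))))) (.nd (.nd (.nd (.nd (.lf 0xb) (.lf 0x4)) (.nd (.lf 0xa) (.lf 0))) (.nd (.nd (.lf 0xb) (.lf 0x7)) (.nd (.lf 0x9) (.lf 0)))) (.nd (.nd (.nd (.lf 0xc) (.lf 0x9)) (.nd (.lf 0x7) (.lf 0))) (.nd (.nd (.lf 0xb) (.lf 0x9)) (.nd (.lf 0xa) (.lf 0))))))))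
def depT_nababab : Tr := (.nd (.nd (.nd (.nd (.nd (.nd (.nd (.lf 0x7) (.lf 0xb)) (.nd (.lf 0xa) (.lf 0))) (.nd (.nd (.lf 0xa) (.lf 0xc)) (.nd (.lf 0x8) (.lf 0)))) (.nd (.nd (.nd (.lf 0xa) (.lf 0x2)) (.nd (.lf 0x6) (.lf 0))) (.nd (.nd (.lf 0x5) (.lf 0xa)) (.nd (.lf 0xa) (.lf 0))))) (.nd (.nd (.nd (.nd (.lf 0x9) (.lf 0xb)) (.nd (.lf 0x7) (.lf 0))) (.nd (.nd (.lf 0x5) (.lf 0xa)) (.nd (.lf 0x9) (.lf 0)))) (.nd (.nd (.nd (.lf 0xb) (.lf 0x8)) (.nd (.lf 0xa) (.lf 0))) (.nd (.nd (.lf 0xb) (.lf 0x8)) (.nd (.lf 0x7) (.lf 0)))))) (.nd (.nd (.nd (.nd (.nd (.lf 0x0) (.lf 0xb)) (.nd (.lf 0x7) (.lf 0))) (.nd (.nd (.lf 0x7) (.lf 0x9)) (.nd (.lf 0x6) (.lf 0)))) (.nd (.nd (.nd (.lf 0x7) (.lf 0xa)) (.nd (.lf 0x9) (.lf 0))) (.nd (.nd (.lf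 0x8) (.lf 0xb)) (.nd (.lf 0xb) (.lf 0))))) (.nd (.nd (.nd (.nd (.lf 0x9) (.lf 0xc)) (.nd (.lf 0x5) (.lf 0))) (.nd (.nd (.lf 0x8) (.lf 0xa)) (.nd (.lf 0x6) (.lf 0)))) (.nd (.nd (.nd (.lf 0xa) (.lf 0x8)) (.nd (.lf 0xa) (.lf 0))) (.nd (.nd (.lf 0xb) (.lf 0xa)) (.nd (.lf 0x9) (.lf 0))))))) (.nd (.nd (.nd (.nd (.nd (.nd (.lf 0x9) (.lf 0x9)) (.nd (.lf 0xc) (.lf 0))) (.nd (.nd (.lf 0x8) (.lf 0xb)) (.nd (.lf 0xb) (.lf 0)))) (.nd (.nd (.nd (.lf 0x9) (.lf 0xa)) (.nd (.lf 0x9) (.lf 0))) (.nd (.nd (.lf 0x9) (.lf 0x7)) (.nd (.lf 0x7) (.lf 0))))) (.nd (.nd (.nd (.nd (.lf 0xc) (.lf 0x9)) (.nd (.lf 0x8) (.lf 0))) (.nd (.nd (.lf 0xc) (.lf 0x8)) (.nd (.lf 0x9) (.lf 0)))) (.nd (.nd (.nd (.lf 0x9) (.lf 0x9)) (.nd (.lf 0xb) (.lf 0))) (.nd (.nd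 (.lf 0x9) (.lf 0x7)) (.nd (.lf 0x9) (.lf 0)))))) (.nd (.nd (.nd (.nd (.nd (.lf 0x7) (.lf 0xb)) (.nd (.lf 0xa) (.lf 0))) (.nd (.nd (.lf 0x6) (.lf 0x9)) (.nd (.lf 0xa) (.lf 0)))) (.nd (.nd (.nd (.lf 0xc) (.lf 0xb)) (.nd (.lf 0x5) (.lf 0))) (.nd (.nd (.lf 0x8) (.lf 0xb)) (.nd (.lf 0x7) (.lf 0))))) (.nd (.nd (.nd (.nd (.lf 0x9) (.lf 0x5)) (.nd (.lf 0x9) (.lf 0))) (.nd (.nd (.lf 0x7) (.lf 0xa)) (.nd (.lf 0xb) (.lf 0)))) (.nd (.nd (.nd (.lf 0x8) (.lf 0x9)) (.nd (.lf 0x3) (.lf 0))) (.nd (.nd (.lf 0x9) (.lf 0x9)) (.nd (.lf 0x7) (.lf 0))))))))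
def depT_nababba : Tr := (.nd (.nd (.nd (.nd (.nd (.nd (.nd (.lf 0xa) (.lf 0xb)) (.nd (.lf 0x5) (.lf 0))) (.nd (.nd (.lf 0xc) (.lf 0xa)) (.nd (.lf 0xa) (.lf 0)))) (.nd (.nd (.nd (.lf 0x7) (.lf 0x4)) (.nd (.lf 0x9) (.lf 0))) (.nd (.nd (.lf 0x8) (.lf 0x7)) (.nd (.lf 0x9) (.lf 0))))) (.nd (.nd (.nd (.nd (.lf 0xb) (.lf 0xc)) (.nd (.lf 0x7) (.lf 0))) (.nd (.nd (.lf 0xa) (.lf 0x8)) (.nd (.lf 0x6) (.lf 0)))) (.nd (.nd (.nd (.lf 0xa) (.lf 0x5)) (.nd (.lf 0xb) (.lf 0))) (.nd (.nd (.lf 0x7) (.lf 0x6)) (.nd (.lf 0xa) (.lf 0)))))) (.nd (.nd (.nd (.nd (.nd (.lf 0x7) (.lf 0xc)) (.nd (.lf 0x8) (.lf 0))) (.nd (.nd (.lf 0xa) (.lf 0xb)) (.nd (.lf 0x9) (.lf 0)))) (.nd (.nd (.nd (.lf 0xa) (.lf 0x9)) (.nd (.lf 0x5) (.lf 0))) (.nd (.nd (.lf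 0xc) (.lf 0x6)) (.nd (.lf 0x3) (.lf 0))))) (.nd (.nd (.nd (.nd (.lf 0x9) (.lf 0x7)) (.nd (.lf 0xb) (.lf 0))) (.nd (.nd (.lf 0xb) (.lf 0x9)) (.nd (.lf 0x9) (.lf 0)))) (.nd (.nd (.nd (.lf 0xa) (.lf 0x7)) (.nd (.lf 0x6) (.lf 0))) (.nd (.nd (.lf 0x9) (.lf 0x6)) (.nd (.lf 0xb) (.lf 0))))))) (.nd (.nd (.nd (.nd (.nd (.nd (.lf 0xb) (.lf 0x6)) (.nd (.lf 0x8) (.lf 0))) (.nd (.nd (.lf 0x8) (.lf 0xa)) (.nd (.lf 0xc) (.lf 0)))) (.nd (.nd (.nd (.lf 0xb) (.lf 0x9)) (.nd (.lf 0x8) (.lf 0))) (.nd (.nd (.lf 0xc) (.lf 0x8)) (.nd (.lf 0xa) (.lf 0))))) (.nd (.nd (.nd (.nd (.lf 0x7) (.lf 0xa)) (.nd (.lf 0xb) (.lf 0))) (.nd (.nd (.lf 0x8) (.lf 0xc)) (.nd (.lf 0x9) (.lf 0)))) (.nd (.nd (.nd (.lf 0x7) (.lf 0xb)) (.nd (.lf 0xa) (.lf 0))) (.nd (.nd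 (.lf 0x8) (.lf 0x8)) (.nd (.lf 0x9) (.lf 0)))))) (.nd (.nd (.nd (.nd (.nd (.lf 0xd) (.lf 0xc)) (.nd (.lf 0x7) (.lf 0))) (.nd (.nd (.lf 0xb) (.lf 0x6)) (.nd (.lf 0xc) (.lf 0)))) (.nd (.nd (.nd (.lf 0xa) (.lf 0x8)) (.nd (.lf 0x7) (.lf 0))) (.nd (.nd (.lf 0x8) (.lf 0x9)) (.nd (.lf 0x8) (.lf 0))))) (.nd (.nd (.nd (.nd (.lf 0xb) (.lf 0x8)) (.nd (.lf 0xa) (.lf 0))) (.nd (.nd (.lf 0xa) (.lf 0x9)) (.nd (.lf 0xc) (.lf 0)))) (.nd (.nd (.nd (.lf 0x7) (.lf 0xa)) (.nd (.lf 0x9) (.lf 0))) (.nd (.nd (.lf 0x3) (.lf 0x4)) (.nd (.lf 0x8) (.lf 0))))))))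
def depT_nababbb : Tr := (.nd (.nd (.nd (.nd (.nd (.nd (.nd (.lf 0x6) (.lf 0xc)) (.nd (.lf 0x8) (.lf 0))) (.nd (.nd (.lf 0x4) (.lf 0xa)) (.nd (.lf 0x9) (.lf 0)))) (.nd (.nd (.nd (.lf 0xb) (.lf 0xa)) (.nd (.lf 0xc) (.lf 0))) (.nd (.nd (.lf 0xb) (.lf 0xa)) (.nd (.lf 0xb) (.lf 0))))) (.nd (.nd (.nd (.nd (.lf 0xa) (.lf 0xa)) (.nd (.lf 0x9) (.lf 0))) (.nd (.nd (.lf 0x9) (.lf 0x9)) (.nd (.lf 0x5) (.lf 0)))) (.nd (.nd (.nd (.lf 0xa) (.lf 0xb)) (.nd (.lf 0xa) (.lf 0))) (.nd (.nd (.lf 0xa) (.lf 0xa)) (.nd (.lf 0x3) (.lf 0)))))) (.nd (.nd (.nd (.nd (.nd (.lf 0xa) (.lf 0xc)) (.nd (.lf 0x9) (.lf 0))) (.nd (.nd (.lf 0xc) (.lf 0xb)) (.nd (.lf 0xb) (.lf 0)))) (.nd (.nd (.nd (.lf 0xc) (.lf 0xa)) (.nd (.lf 0xb) (.lf 0))) (.nd (.nd (.lf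 0xa) (.lf 0xa)) (.nd (.lf 0xa) (.lf 0))))) (.nd (.nd (.nd (.nd (.lf 0x9) (.lf 0x8)) (.nd (.lf 0x9) (.lf 0))) (.nd (.nd (.lf 0xa) (.lf 0xa)) (.nd (.lf 0x8) (.lf 0)))) (.nd (.nd (.nd (.lf 0x8) (.lf 0x8)) (.nd (.lf 0xa) (.lf 0))) (.nd (.nd (.lf 0xb) (.lf 0x9)) (.nd (.lf 0x4) (.lf 0))))))) (.nd (.nd (.nd (.nd (.nd (.nd (.lf 0xd) (.lf 0x6)) (.nd (.lf 0x6) (.lf 0))) (.nd (.nd (.lf 0x7) (.lf 0xc)) (.nd (.lf 0xa) (.lf 0)))) (.nd (.nd (.nd (.lf 0xa) (.lf 0x1)) (.nd (.lf 0xd) (.lf 0))) (.nd (.nd (.lf 0x7) (.lf 0x7)) (.nd (.lf 0xb) (.lf 0))))) (.nd (.nd (.nd (.nd (.lf 0xa) (.lf 0x6)) (.nd (.lf 0x9) (.lf 0))) (.nd (.nd (.lf 0x9) (.lf 0xc)) (.nd (.lf 0x9) (.lf 0)))) (.nd (.nd (.nd (.lf 0x8) (.lf 0xb)) (.nd (.lf 0xc) (.lf 0))) (.nd (.nd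 (.lf 0x8) (.lf 0x7)) (.nd (.lf 0xb) (.lf 0)))))) (.nd (.nd (.nd (.nd (.nd (.lf 0xb) (.lf 0xc)) (.nd (.lf 0xc) (.lf 0))) (.nd (.nd (.lf 0xa) (.lf 0xb)) (.nd (.lf 0xb) (.lf 0)))) (.nd (.nd (.nd (.lf 0xc) (.lf 0x9)) (.nd (.lf 0xa) (.lf 0))) (.nd (.nd (.lf 0xa) (.lf 0x9)) (.nd (.lf 0xd) (.lf 0))))) (.nd (.nd (.nd (.nd (.lf 0xb) (.lf 0x9)) (.nd (.lf 0x8) (.lf 0))) (.nd (.nd (.lf 0xa) (.lf 0x9)) (.nd (.lf 0x1) (.lf 0)))) (.nd (.nd (.nd (.lf 0x7) (.lf 0x8)) (.nd (.lf 0xa) (.lf 0))) (.nd (.nd (.lf 0xc) (.lf 0x7)) (.nd (.lf 0xb) (.lf 0))))))))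
def depT_nabbaaa : Tr := (.nd (.nd (.nd (.nd (.nd (.nd (.nd (.lf 0xc) (.lf 0x9)) (.nd (.lf 0x4) (.lf 0x9))) (.nd (.nd (.lf 0xb) (.lf 0xa)) (.nd (.lf 0xb) (.lf 0)))) (.nd (.nd (.nd (.lf 0xa) (.lf 0x9)) (.nd (.lf 0xb) (.lf 0))) (.nd (.nd (.lf 0x8) (.lf 0x8)) (.nd (.lf 0x9) (.lf 0))))) (.nd (.nd (.nd (.nd (.lf 0x8) (.lf 0xb)) (.nd (.lf 0x8) (.lf 0))) (.nd (.nd (.lf 0x9) (.lf 0x5)) (.nd (.lf 0xa) (.lf 0)))) (.nd (.nd (.nd (.lf 0xa) (.lf 0x8)) (.nd (.lf 0x5) (.lf 0))) (.nd (.nd (.lf 0xb) (.lf 0x6)) (.nd (.lf 0x8) (.lf 0)))))) (.nd (.nd (.nd (.nd (.nd (.lf 0xb) (.lf 0xa)) (.nd (.lf 0xa) (.lf 0))) (.nd (.nd (.lf 0x9) (.lf 0xb)) (.nd (.lf 0xa) (.lf 0)))) (.nd (.nd (.nd (.lf 0xa) (.lf 0x5)) (.nd (.lf 0x9) (.lf 0))) (.nd (.nd (.lf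 0xa) (.lf 0x7)) (.nd (.lf 0x6) (.lf 0))))) (.nd (.nd (.nd (.nd (.lf 0xc) (.lf 0x8)) (.nd (.lf 0x9) (.lf 0))) (.nd (.nd (.lf 0xc) (.lf 0xa)) (.nd (.lf 0xa) (.lf 0)))) (.nd (.nd (.nd (.lf 0x9) (.lf 0xc)) (.nd (.lf 0x7) (.lf 0))) (.nd (.nd (.lf 0xc) (.lf 0xc)) (.nd (.lf 0xc) (.lf 0))))))) (.nd (.nd (.nd (.nd (.nd (.nd (.lf 0xb) (.lf 0x5)) (.nd (.lf 0xa) (.lf 0))) (.nd (.nd (.lf 0xc) (.lf 0x9)) (.nd (.lf 0xc) (.lf 0)))) (.nd (.nd (.nd (.lf 0xc) (.lf 0x7)) (.nd (.lf 0xa) (.lf 0))) (.nd (.nd (.lf 0x7) (.lf 0xb)) (.nd (.lf 0x6) (.lf 0))))) (.nd (.nd (.nd (.nd (.lf 0xa) (.lf 0x9)) (.nd (.lf 0x7) (.lf 0))) (.nd (.nd (.lf 0xa) (.lf 0x8)) (.nd (.lf 0xa) (.lf 0)))) (.nd (.nd (.nd (.lf 0x6) (.lf 0x8)) (.nd (.lf 0xa) (.lf 0))) (.nd (.nd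 (.lf 0x9) (.lf 0x9)) (.nd (.lf 0x9) (.lf 0)))))) (.nd (.nd (.nd (.nd (.nd (.lf 0x9) (.lf 0x9)) (.nd (.lf 0x8) (.lf 0))) (.nd (.nd (.lf 0x9) (.lf 0x7)) (.nd (.lf 0x7) (.lf 0)))) (.nd (.nd (.nd (.lf 0xa) (.lf 0xb)) (.nd (.lf 0xa) (.lf 0))) (.nd (.nd (.lf 0x7) (.lf 0x9)) (.nd (.lf 0xc) (.lf 0))))) (.nd (.nd (.nd (.nd (.lf 0xa) (.lf 0xb)) (.nd (.lf 0x9) (.lf 0))) (.nd (.nd (.lf 0x9) (.lf 0xa)) (.nd (.lf 0xa) (.lf 0)))) (.nd (.nd (.nd (.lf 0xb) (.lf 0xb)) (.nd (.lf 0x5) (.lf 0))) (.nd (.nd (.lf 0x8) (.lf 0x7)) (.nd (.lf 0x7) (.lf 0))))))))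
def depT_nabbaab : Tr := (.nd (.nd (.nd (.nd (.nd (.nd (.nd (.lf 0x7) (.lf 0x6)) (.nd (.lf 0x9) (.lf 0))) (.nd (.nd (.lf 0x8) (.lf 0xa)) (.nd (.lf 0x7) (.lf 0)))) (.nd (.nd (.nd (.lf 0x8) (.lf 0xc)) (.nd (.lf 0x9) (.lf 0))) (.nd (.nd (.lf 0x8) (.lf 0x9)) (.nd (.lf 0xb) (.lf 0))))) (.nd (.nd (.nd (.nd (.lf 0x6) (.lf 0xb)) (.nd (.lf 0x8) (.lf 0))) (.nd (.nd (.lf 0x7) (.lf 0xb)) (.nd (.lf 0x6) (.lf 0)))) (.nd (.nd (.nd (.lf 0xa) (.lf 0xa)) (.nd (.lf 0x7) (.lf 0))) (.nd (.nd (.lf 0xa) (.lf 0x8)) (.nd (.lf 0x8) (.lf 0)))))) (.nd (.nd (.nd (.nd (.nd (.lf 0x8) (.lf 0x8)) (.nd (.lf 0x9) (.lf 0))) (.nd (.nd (.lf 0xa) (.lf 0x8)) (.nd (.lf 0x8) (.lf 0)))) (.nd (.nd (.nd (.lf 0x7) (.lf 0x4)) (.nd (.lf 0x6) (.lf 0))) (.nd (.nd (.lf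 0x3) (.lf 0x9)) (.nd (.lf 0x9) (.lf 0))))) (.nd (.nd (.nd (.nd (.lf 0x6) (.lf 0x9)) (.nd (.lf 0x8) (.lf 0))) (.nd (.nd (.lf 0x8) (.lf 0xa)) (.nd (.lf 0x4) (.lf 0)))) (.nd (.nd (.nd (.lf 0x7) (.lf 0xb)) (.nd (.lf 0xc) (.lf 0))) (.nd (.nd (.lf 0xa) (.lf 0xa)) (.nd (.lf 0xb) (.lf 0))))))) (.nd (.nd (.nd (.nd (.nd (.nd (.lf 0xa) (.lf 0xa)) (.nd (.lf 0xb) (.lf 0))) (.nd (.nd (.lf 0x7) (.lf 0x5)) (.nd (.lf 0x5) (.lf 0)))) (.nd (.nd (.nd (.lf 0x5) (.lf 0x9)) (.nd (.lf 0xa) (.lf 0))) (.nd (.nd (.lf 0x9) (.lf 0x8)) (.nd (.lf 0xa) (.lf 0))))) (.nd (.nd (.nd (.nd (.lf 0xd) (.lf 0xb)) (.nd (.lf 0x8) (.lf 0))) (.nd (.nd (.lf 0x9) (.lf 0x9)) (.nd (.lf 0x6) (.lf 0)))) (.nd (.nd (.nd (.lf 0x8) (.lf 0xa)) (.nd (.lf 0x6) (.lf 0))) (.nd (.nd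 (.lf 0x9) (.lf 0xa)) (.nd (.lf 0x8) (.lf 0)))))) (.nd (.nd (.nd (.nd (.nd (.lf 0xb) (.lf 0xa)) (.nd (.lf 0x9) (.lf 0))) (.nd (.nd (.lf 0x8) (.lf 0x5)) (.nd (.lf 0x9) (.lf 0)))) (.nd (.nd (.nd (.lf 0x9) (.lf 0x9)) (.nd (.lf 0x5) (.lf 0))) (.nd (.nd (.lf 0x1) (.lf 0x7)) (.nd (.lf 0x7) (.lf 0))))) (.nd (.nd (.nd (.nd (.lf 0xb) (.lf 0xa)) (.nd (.lf 0x9) (.lf 0))) (.nd (.nd (.lf 0x3) (.lf 0x8)) (.nd (.lf 0x8) (.lf 0)))) (.nd (.nd (.nd (.lf 0xa) (.lf 0x9)) (.nd (.lf 0x5) (.lf 0))) (.nd (.nd (.lf 0xb) (.lf 0x9)) (.nd (.lf 0xb) (.lf 0))))))))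
def depT_nabbaba : Tr := (.nd (.nd (.nd (.nd (.nd (.nd (.nd (.lf 0xb) (.lf 0xa)) (.nd (.lf 0x8) (.lf 0))) (.nd (.nd (.lf 0x8) (.lf 0x9)) (.nd (.lf 0x7) (.lf 0)))) (.nd (.nd (.nd (.lf 0x9) (.lf 0xb)) (.nd (.lf 0x9) (.lf 0))) (.nd (.nd (.lf 0x8) (.lf 0x9)) (.nd (.lf 0xa) (.lf 0))))) (.nd (.nd (.nd (.nd (.lf 0xb) (.lf 0x8)) (.nd (.lf 0x7) (.lf 0))) (.nd (.nd (.lf 0x8) (.lf 0x7)) (.nd (.lf 0x9) (.lf 0)))) (.nd (.nd (.nd (.lf 0x8) (.lf 0x6)) (.nd (.lf 0x9) (.lf 0))) (.nd (.nd (.lf 0x7) (.lf 0xb)) (.nd (.lf 0xc) (.lf 0)))))) (.nd (.nd (.nd (.nd (.nd (.lf 0xa) (.lf 0x9)) (.nd (.lf 0x9) (.lf 0))) (.nd (.nd (.lf 0xa) (.lf 0x9)) (.nd (.lf 0x8) (.lf 0)))) (.nd (.nd (.nd (.lf 0x6) (.lf 0x9)) (.nd (.lf 0x7) (.lf 0))) (.nd (.nd (.lf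 0x6) (.lf 0x5)) (.nd (.lf 0x6) (.lf 0))))) (.nd (.nd (.nd (.nd (.lf 0x9) (.lf 0xa)) (.nd (.lf 0xb) (.lf 0))) (.nd (.nd (.lf 0xa) (.lf 0xa)) (.nd (.lf 0x9) (.lf 0)))) (.nd (.nd (.nd (.lf 0x8) (.lf 0xa)) (.nd (.lf 0xa) (.lf 0))) (.nd (.nd (.lf 0x7) (.lf 0x3)) (.nd (.lf 0xa) (.lf 0))))))) (.nd (.nd (.nd (.nd (.nd (.nd (.lf 0x7) (.lf 0x6)) (.nd (.lf 0x9) (.lf 0))) (.nd (.nd (.lf 0x8) (.lf 0x4)) (.nd (.lf 0x8) (.lf 0)))) (.nd (.nd (.nd (.lf 0x6) (.lf 0x8)) (.nd (.lf 0xb) (.lf 0))) (.nd (.nd (.lf 0x8) (.lf 0xd)) (.nd (.lf 0x8) (.lf 0))))) (.nd (.nd (.nd (.nd (.lf 0xb) (.lf 0xa)) (.nd (.lf 0xa) (.lf 0))) (.nd (.nd (.lf 0x5) (.lf 0xa)) (.nd (.lf 0xa) (.lf 0)))) (.nd (.nd (.nd (.lf 0xb) (.lf 0x7)) (.nd (.lf 0x9) (.lf 0))) (.nd (.nd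 (.lf 0x6) (.lf 0x9)) (.nd (.lf 0x6) (.lf 0)))))) (.nd (.nd (.nd (.nd (.nd (.lf 0xc) (.lf 0x4)) (.nd (.lf 0x9) (.lf 0))) (.nd (.nd (.lf 0x9) (.lf 0x8)) (.nd (.lf 0x7) (.lf 0)))) (.nd (.nd (.nd (.lf 0xb) (.lf 0xa)) (.nd (.lf 0x4) (.lf 0))) (.nd (.nd (.lf 0xa) (.lf 0x9)) (.nd (.lf 0xb) (.lf 0))))) (.nd (.nd (.nd (.nd (.lf 0xb) (.lf 0xc)) (.nd (.lf 0x9) (.lf 0))) (.nd (.nd (.lf 0x9) (.lf 0xc)) (.nd (.lf 0xb) (.lf 0)))) (.nd (.nd (.nd (.lf 0x8) (.lf 0x8)) (.nd (.lf 0xb) (.lf 0))) (.nd (.nd (.lf 0x8) (.lf 0x7)) (.nd (.lf 0xc) (.lf 0))))))))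
def depT_nabbabb : Tr := (.nd (.nd (.nd (.nd (.nd (.nd (.nd (.lf 0x8) (.lf 0xc)) (.nd (.lf 0xb) (.lf 0))) (.nd (.nd (.lf 0x9) (.lf 0xb)) (.nd (.lf 0x8) (.lf 0)))) (.nd (.nd (.nd (.lf 0x7) (.lf 0xa)) (.nd (.lf 0x9) (.lf 0))) (.nd (.nd (.lf 0x9) (.lf 0x6)) (.nd (.lf 0xb) (.lf 0))))) (.nd (.nd (.nd (.nd (.lf 0xc) (.lf 0xa)) (.nd (.lf 0x4) (.lf 0))) (.nd (.nd (.lf 0x9) (.lf 0x7)) (.nd (.lf 0xa) (.lf 0)))) (.nd (.nd (.nd (.lf 0x8) (.lf 0x9)) (.nd (.lf 0xb) (.lf 0))) (.nd (.nd (.lf 0xa) (.lf 0xa)) (.nd (.lf 0x4) (.lf 0)))))) (.nd (.nd (.nd (.nd (.nd (.lf 0xc) (.lf 0xb)) (.nd (.lf 0x6) (.lf 0))) (.nd (.nd (.lf 0xa) (.lf 0x9)) (.nd (.lf 0x8) (.lf 0)))) (.nd (.nd (.nd (.lf 0xa) (.lf 0xc)) (.nd (.lf 0xb) (.lf 0))) (.nd (.nd (.lf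 0xa) (.lf 0x9)) (.nd (.lf 0x6) (.lf 0))))) (.nd (.nd (.nd (.nd (.lf 0x7) (.lf 0x9)) (.nd (.lf 0x8) (.lf 0))) (.nd (.nd (.lf 0xa) (.lf 0x6)) (.nd (.lf 0x6) (.lf 0)))) (.nd (.nd (.nd (.lf 0x8) (.lf 0x6)) (.nd (.lf 0x4) (.lf 0))) (.nd (.nd (.lf 0xa) (.lf 0x9)) (.nd (.lf 0xa) (.lf 0))))))) (.nd (.nd (.nd (.nd (.nd (.nd (.lf 0x7) (.lf 0x8)) (.nd (.lf 0xa) (.lf 0))) (.nd (.nd (.lf 0x9) (.lf 0x9)) (.nd (.lf 0x5) (.lf 0)))) (.nd (.nd (.nd (.lf 0xc) (.lf 0x8)) (.nd (.lf 0xb) (.lf 0))) (.nd (.nd (.lf 0x9) (.lf 0x7)) (.nd (.lf 0xa) (.lf 0))))) (.nd (.nd (.nd (.nd (.lf 0xb) (.lf 0xb)) (.nd (.lf 0x2) (.lf 0))) (.nd (.nd (.lf 0xd) (.lf 0xd)) (.nd (.lf 0xb) (.lf 0)))) (.nd (.nd (.nd (.lf 0x9) (.lf 0xc)) (.nd (.lf 0xb) (.lf 0))) (.nd (.nd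 (.lf 0xb) (.lf 0x7)) (.nd (.lf 0xc) (.lf 0)))))) (.nd (.nd (.nd (.nd (.nd (.lf 0x8) (.lf 0x3)) (.nd (.lf 0xa) (.lf 0))) (.nd (.nd (.lf 0x8) (.lf 0x6)) (.nd (.lf 0xa) (.lf 0)))) (.nd (.nd (.nd (.lf 0xa) (.lf 0xb)) (.nd (.lf 0xd) (.lf 0))) (.nd (.nd (.lf 0x7) (.lf 0xc)) (.nd (.lf 0xa) (.lf 0))))) (.nd (.nd (.nd (.nd (.lf 0x9) (.lf 0xb)) (.nd (.lf 0x7) (.lf 0))) (.nd (.nd (.lf 0xa) (.lf 0x4)) (.nd (.lf 0x9) (.lf 0)))) (.nd (.nd (.nd (.lf 0x9) (.lf 0xa)) (.nd (.lf 0xa) (.lf 0))) (.nd (.nd (.lf 0xb) (.lf 0x8)) (.nd (.lf 0xa) (.lf 0))))))))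
def depT_nabbbaa : Tr := (.nd (.nd (.nd (.nd (.nd (.nd (.nd (.lf 0xc) (.lf 0xa)) (.nd (.lf 0xa) (.lf 0))) (.nd (.nd (.lf 0xb) (.lf 0x9)) (.nd (.lf 0x9) (.lf 0)))) (.nd (.nd (.nd (.lf 0x9) (.lf 0x7)) (.nd (.lf 0xb) (.lf 0))) (.nd (.nd (.lf 0x5) (.lf 0x6)) (.nd (.lf 0xc) (.lf 0))))) (.nd (.nd (.nd (.nd (.lf 0xa) (.lf 0xa)) (.nd (.lf 0x9) (.lf 0))) (.nd (.nd (.lf 0x8) (.lf 0xa)) (.nd (.lf 0xa) (.lf 0)))) (.nd (.nd (.nd (.lf 0xb) (.lf 0x6)) (.nd (.lf 0x9) (.lf 0))) (.nd (.nd (.lf 0xc) (.lf 0x8)) (.nd (.lf 0x8) (.lf 0)))))) (.nd (.nd (.nd (.nd (.nd (.lf 0xa) (.lf 0x8)) (.nd (.lf 0x8) (.lf 0))) (.nd (.nd (.lf 0xc) (.lf 0xc)) (.nd (.lf 0x6) (.lf 0)))) (.nd (.nd (.nd (.lf 0x9) (.lf 0x9)) (.nd (.lf 0x6) (.lf 0))) (.nd (.nd (.lf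 0x8) (.lf 0x9)) (.nd (.lf 0xb) (.lf 0))))) (.nd (.nd (.nd (.nd (.lf 0xb) (.lf 0xa)) (.nd (.lf 0x9) (.lf 0))) (.nd (.nd (.lf 0x9) (.lf 0x8)) (.nd (.lf 0x9) (.lf 0)))) (.nd (.nd (.nd (.lf 0x9) (.lf 0x7)) (.nd (.lf 0x9) (.lf 0))) (.nd (.nd (.lf 0x8) (.lf 0xa)) (.nd (.lf 0xa) (.lf 0))))))) (.nd (.nd (.nd (.nd (.nd (.nd (.lf 0x8) (.lf 0x9)) (.nd (.lf 0x8) (.lf 0))) (.nd (.nd (.lf 0xb) (.lf 0x9)) (.nd (.lf 0xa) (.lf 0)))) (.nd (.nd (.nd (.lf 0x7) (.lf 0xb)) (.nd (.lf 0x3) (.lf 0))) (.nd (.nd (.lf 0xa) (.lf 0x9)) (.nd (.lf 0xa) (.lf 0))))) (.nd (.nd (.nd (.nd (.lf 0x9) (.lf 0x7)) (.nd (.lf 0xa) (.lf 0))) (.nd (.nd (.lf 0x9) (.lf 0x9)) (.nd (.lf 0x7) (.lf 0)))) (.nd (.nd (.nd (.lf 0x8) (.lf 0x9)) (.nd (.lf 0x9) (.lf 0))) (.nd (.nd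 (.lf 0x9) (.lf 0x9)) (.nd (.lf 0xa) (.lf 0)))))) (.nd (.nd (.nd (.nd (.nd (.lf 0xc) (.lf 0x7)) (.nd (.lf 0xb) (.lf 0))) (.nd (.nd (.lf 0x9) (.lf 0xa)) (.nd (.lf 0xb) (.lf 0)))) (.nd (.nd (.nd (.lf 0x9) (.lf 0xa)) (.nd (.lf 0x9) (.lf 0))) (.nd (.nd (.lf 0xb) (.lf 0x9)) (.nd (.lf 0x6) (.lf 0))))) (.nd (.nd (.nd (.nd (.lf 0xb) (.lf 0xd)) (.nd (.lf 0xa) (.lf 0))) (.nd (.nd (.lf 0xb) (.lf 0xb)) (.nd (.lf 0x9) (.lf 0)))) (.nd (.nd (.nd (.lf 0x9) (.lf 0xb)) (.nd (.lf 0xc) (.lf 0))) (.nd (.nd (.lf 0x4) (.lf 0x7)) (.nd (.lf 0xc) (.lf 0))))))))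
def depT_nabbbab : Tr := (.nd (.nd (.nd (.nd (.nd (.nd (.nd (.lf 0xb) (.lf 0xb)) (.nd (.lf 0x8) (.lf 0))) (.nd (.nd (.lf 0xc) (.lf 0x8)) (.nd (.lf 0x8) (.lf 0)))) (.nd (.nd (.nd (.lf 0x8) (.lf 0x9)) (.nd (.lf 0xa) (.lf 0))) (.nd (.nd (.lf 0x9) (.lf 0xa)) (.nd (.lf 0x7) (.lf 0))))) (.nd (.nd (.nd (.nd (.lf 0x7) (.lf 0x7)) (.nd (.lf 0x4) (.lf 0))) (.nd (.nd (.lf 0x9) (.lf 0x5)) (.nd (.lf 0x9) (.lf 0)))) (.nd (.nd (.nd (.lf 0x9) (.lf 0x8)) (.nd (.lf 0xb) (.lf 0))) (.nd (.nd (.lf 0x8) (.lf 0x7)) (.nd (.lf 0x8) (.lf 0)))))) (.nd (.nd (.nd (.nd (.nd (.lf 0xa) (.lf 0x9)) (.nd (.lf 0xc) (.lf 0))) (.nd (.nd (.lf 0x7) (.lf 0x7)) (.nd (.lf 0x9) (.lf 0)))) (.nd (.nd (.nd (.lf 0xc) (.lf 0x9)) (.nd (.lf 0x9) (.lf 0))) (.nd (.nd (.lf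 0x6) (.lf 0x9)) (.nd (.lf 0xb) (.lf 0))))) (.nd (.nd (.nd (.nd (.lf 0x9) (.lf 0x8)) (.nd (.lf 0xb) (.lf 0))) (.nd (.nd (.lf 0x8) (.lf 0x8)) (.nd (.lf 0x6) (.lf 0)))) (.nd (.nd (.nd (.lf 0x6) (.lf 0x8)) (.nd (.lf 0xa) (.lf 0))) (.nd (.nd (.lf 0xb) (.lf 0xa)) (.nd (.lf 0x8) (.lf 0))))))) (.nd (.nd (.nd (.nd (.nd (.nd (.lf 0x9) (.lf 0xc)) (.nd (.lf 0x9) (.lf 0))) (.nd (.nd (.lf 0xb) (.lf 0x9)) (.nd (.lf 0x9) (.lf 0)))) (.nd (.nd (.nd (.lf 0xb) (.lf 0xa)) (.nd (.lf 0xa) (.lf 0))) (.nd (.nd (.lf 0x9) (.lf 0x9)) (.nd (.lf 0xa) (.lf 0))))) (.nd (.nd (.nd (.nd (.lf 0x8) (.lf 0x8)) (.nd (.lf 0x8) (.lf 0))) (.nd (.nd (.lf 0x6) (.lf 0x8)) (.nd (.lf 0x8) (.lf 0)))) (.nd (.nd (.nd (.lf 0x7) (.lf 0xa)) (.nd (.lf 0xc) (.lf 0))) (.nd (.nd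 (.lf 0xb) (.lf 0x8)) (.nd (.lf 0xb) (.lf 0)))))) (.nd (.nd (.nd (.nd (.nd (.lf 0x9) (.lf 0x9)) (.nd (.lf 0xa) (.lf 0))) (.nd (.nd (.lf 0xa) (.lf 0xb)) (.nd (.lf 0xb) (.lf 0)))) (.nd (.nd (.nd (.lf 0xa) (.lf 0xc)) (.nd (.lf 0xa) (.lf 0))) (.nd (.nd (.lf 0x9) (.lf 0xb)) (.nd (.lf 0xb) (.lf 0))))) (.nd (.nd (.nd (.nd (.lf 0x9) (.lf 0xa)) (.nd (.lf 0xa) (.lf 0))) (.nd (.nd (.lf 0x9) (.lf 0xa)) (.nd (.lf 0x9) (.lf 0)))) (.nd (.nd (.nd (.lf 0xa) (.lf 0x8)) (.nd (.lf 0x2) (.lf 0))) (.nd (.nd (.lf 0xb) (.lf 0xb)) (.nd (.lf 0xa) (.lf 0))))))))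
def depT_nabbbba : Tr := (.nd (.nd (.nd (.nd (.nd (.nd (.nd (.lf 0xa) (.lf 0x9)) (.nd (.lf 0x8) (.lf 0))) (.nd (.nd (.lf 0x7) (.lf 0xa)) (.nd (.lf 0x9) (.lf 0)))) (.nd (.nd (.nd (.lf 0x9) (.lf 0x9)) (.nd (.lf 0xb) (.lf 0))) (.nd (.nd (.lf 0xb) (.lf 0xa)) (.nd (.lf 0x8) (.lf 0))))) (.nd (.nd (.nd (.nd (.lf 0xc) (.lf 0xb)) (.nd (.lf 0x5) (.lf 0))) (.nd (.nd (.lf 0x9) (.lf 0x8)) (.nd (.lf 0xd) (.lf 0)))) (.nd (.nd (.nd (.lf 0xb) (.lf 0x7)) (.nd (.lf 0x9) (.lf 0))) (.nd (.nd (.lf 0x9) (.lf 0xb)) (.nd (.lf 0x7) (.lf 0)))))) (.nd (.nd (.nd (.nd (.nd (.lf 0x9) (.lf 0xb)) (.nd (.lf 0xa) (.lf 0))) (.nd (.nd (.lf 0xb) (.lf 0x7)) (.nd (.lf 0xd) (.lf 0)))) (.nd (.nd (.nd (.lf 0x9) (.lf 0xb)) (.nd (.lf 0x5) (.lf 0))) (.nd (.nd (.lf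 0xb) (.lf 0xb)) (.nd (.lf 0xb) (.lf 0))))) (.nd (.nd (.nd (.nd (.lf 0xa) (.lf 0xa)) (.nd (.lf 0x3) (.lf 0))) (.nd (.nd (.lf 0xb) (.lf 0xc)) (.nd (.lf 0x8) (.lf 0)))) (.nd (.nd (.nd (.lf 0x3) (.lf 0xa)) (.nd (.lf 0xb) (.lf 0))) (.nd (.nd (.lf 0xc) (.lf 0xa)) (.nd (.lf 0x5) (.lf 0))))))) (.nd (.nd (.nd (.nd (.nd (.nd (.lf 0xb) (.lf 0xb)) (.nd (.lf 0x8) (.lf 0))) (.nd (.nd (.lf 0x7) (.lf 0xb)) (.nd (.lf 0x6) (.lf 0)))) (.nd (.nd (.nd (.lf 0xa) (.lf 0xb)) (.nd (.lf 0x8) (.lf 0))) (.nd (.nd (.lf 0xa) (.lf 0x8)) (.nd (.lf 0x9) (.lf 0))))) (.nd (.nd (.nd (.nd (.lf 0xa) (.lf 0x7)) (.nd (.lf 0x9) (.lf 0))) (.nd (.nd (.lf 0xa) (.lf 0xb)) (.nd (.lf 0x7) (.lf 0)))) (.nd (.nd (.nd (.lf 0xb) (.lf 0x8)) (.nd (.lf 0xa) (.lf 0))) (.nd (.nd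 (.lf 0xa) (.lf 0x9)) (.nd (.lf 0xc) (.lf 0)))))) (.nd (.nd (.nd (.nd (.nd (.lf 0x8) (.lf 0xa)) (.nd (.lf 0xa) (.lf 0))) (.nd (.nd (.lf 0xb) (.lf 0x6)) (.nd (.lf 0xb) (.lf 0)))) (.nd (.nd (.nd (.lf 0x7) (.lf 0xd)) (.nd (.lf 0x6) (.lf 0))) (.nd (.nd (.lf 0xa) (.lf 0xa)) (.nd (.lf 0xa) (.lf 0))))) (.nd (.nd (.nd (.nd (.lf 0x9) (.lf 0x9)) (.nd (.lf 0x9) (.lf 0))) (.nd (.nd (.lf 0x8) (.lf 0xc)) (.nd (.lf 0xb) (.lf 0)))) (.nd (.nd (.nd (.lf 0xb) (.lf 0x8)) (.nd (.lf 0x9) (.lf 0))) (.nd (.nd (.lf 0xa) (.lf 0x8)) (.nd (.lf 0x7) (.lf 0))))))))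
def depT_nabbbbb : Tr := (.nd (.nd (.nd (.nd (.nd (.nd (.nd (.lf 0x7) (.lf 0x6)) (.nd (.lf 0xb) (.lf 0))) (.nd (.nd (.lf 0x5) (.lf 0x6)) (.nd (.lf 0xb) (.lf 0)))) (.nd (.nd (.nd (.lf 0xa) (.lf 0x8)) (.nd (.lf 0xb) (.lf 0))) (.nd (.nd (.lf 0xb) (.lf 0xa)) (.nd (.lf 0xb) (.lf 0))))) (.nd (.nd (.nd (.nd (.lf 0xa) (.lf 0xb)) (.nd (.lf 0x6) (.lf 0))) (.nd (.nd (.lf 0xa) (.lf 0x9)) (.nd (.lf 0x6) (.lf 0)))) (.nd (.nd (.nd (.lf 0x9) (.lf 0x9)) (.nd (.lf 0x9) (.lf 0))) (.nd (.nd (.lf 0xb) (.lf 0x8)) (.nd (.lf 0xa) (.lf 0)))))) (.nd (.nd (.nd (.nd (.nd (.lf 0x6) (.lf 0x8)) (.nd (.lf 0x5) (.lf 0))) (.nd (.nd (.lf 0x9) (.lf 0xa)) (.nd (.lf 0xb) (.lf 0)))) (.nd (.nd (.nd (.lf 0x9) (.lf 0xb)) (.nd (.lf 0x6) (.lf 0))) (.nd (.nd (.lf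 0x8) (.lf 0xb)) (.nd (.lf 0x7) (.lf 0))))) (.nd (.nd (.nd (.nd (.lf 0x9) (.lf 0x8)) (.nd (.lf 0xa) (.lf 0))) (.nd (.nd (.lf 0xa) (.lf 0x9)) (.nd (.lf 0x9) (.lf 0)))) (.nd (.nd (.nd (.lf 0xb) (.lf 0x9)) (.nd (.lf 0x8) (.lf 0))) (.nd (.nd (.lf 0x9) (.lf 0x9)) (.nd (.lf 0x6) (.lf 0))))))) (.nd (.nd (.nd (.nd (.nd (.nd (.lf 0xb) (.lf 0x8)) (.nd (.lf 0xb) (.lf 0))) (.nd (.nd (.lf 0x9) (.lf 0x9)) (.nd (.lf 0x5) (.lf 0)))) (.nd (.nd (.nd (.lf 0x8) (.lf 0xa)) (.nd (.lf 0xb) (.lf 0))) (.nd (.nd (.lf 0x4) (.lf 0xb)) (.nd (.lf 0x8) (.lf 0))))) (.nd (.nd (.nd (.nd (.lf 0xb) (.lf 0x7)) (.nd (.lf 0xa) (.lf 0))) (.nd (.nd (.lf 0xb) (.lf 0x8)) (.nd (.lf 0x6) (.lf 0)))) (.nd (.nd (.nd (.lf 0x7) (.lf 0xc)) (.nd (.lf 0xc) (.lf 0))) (.nd (.nd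 (.lf 0x6) (.lf 0x3)) (.nd (.lf 0x8) (.lf 0)))))) (.nd (.nd (.nd (.nd (.nd (.lf 0xa) (.lf 0x9)) (.nd (.lf 0x8) (.lf 0))) (.nd (.nd (.lf 0xb) (.lf 0xb)) (.nd (.lf 0xa) (.lf 0)))) (.nd (.nd (.nd (.lf 0x4) (.lf 0xb)) (.nd (.lf 0xa) (.lf 0))) (.nd (.nd (.lf 0x9) (.lf 0x9)) (.nd (.lf 0x8) (.lf 0))))) (.nd (.nd (.nd (.nd (.lf 0xb) (.lf 0x9)) (.nd (.lf 0x8) (.lf 0))) (.nd (.nd (.lf 0x9) (.lf 0xa)) (.nd (.lf 0x8) (.lf 0)))) (.nd (.nd (.nd (.lf 0x9) (.lf 0xa)) (.nd (.lf 0xa) (.lf 0))) (.nd (.nd (.lf 0xb) (.lf 0x7)) (.nd (.lf 0x9) (.lf 0))))))))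
def depT_nbaaaaa : Tr := (.nd (.nd (.nd (.nd (.nd (.nd (.nd (.lf 0x0) (.lf 0xa)) (.nd (.lf 0x7) (.lf 0x9))) (.nd (.nd (.lf 0x6) (.lf 0x9)) (.nd (.lf 0x9) (.lf 0)))) (.nd (.nd (.nd (.lf 0x4) (.lf 0x9)) (.nd (.lf 0x8) (.lf 0))) (.nd (.nd (.lf 0x6) (.lf 0xa)) (.nd (.lf 0xa) (.lf 0))))) (.nd (.nd (.nd (.nd (.lf 0x9) (.lf 0x9)) (.nd (.lf 0xa) (.lf 0))) (.nd (.nd (.lf 0x9) (.lf 0x9)) (.nd (.lf 0xa) (.lf 0)))) (.nd (.nd (.nd (.lf 0x7) (.lf 0x7)) (.nd (.lf 0xc) (.lf 0))) (.nd (.nd (.lf 0xa) (.lf 0xc)) (.nd (.lf 0xb) (.lf 0)))))) (.nd (.nd (.nd (.nd (.nd (.lf 0xb) (.lf 0x8)) (.nd (.lf 0x9) (.lf 0))) (.nd (.nd (.lf 0x9) (.lf 0x9)) (.nd (.lf 0xb) (.lf 0)))) (.nd (.nd (.nd (.lf 0xa) (.lf 0x8)) (.nd (.lf 0xb) (.lf 0))) (.nd (.nd (.lf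 0xb) (.lf 0xc)) (.nd (.lf 0xa) (.lf 0))))) (.nd (.nd (.nd (.nd (.lf 0x6) (.lf 0xa)) (.nd (.lf 0xc) (.lf 0))) (.nd (.nd (.lf 0xc) (.lf 0xa)) (.nd (.lf 0xc) (.lf 0)))) (.nd (.nd (.nd (.lf 0xb) (.lf 0xb)) (.nd (.lf 0xa) (.lf 0))) (.nd (.nd (.lf 0x9) (.lf 0x7)) (.nd (.lf 0xd) (.lf 0))))))) (.nd (.nd (.nd (.nd (.nd (.nd (.lf 0xa) (.lf 0x8)) (.nd (.lf 0xb) (.lf 0))) (.nd (.nd (.lf 0xa) (.lf 0x7)) (.nd (.lf 0x9) (.lf 0)))) (.nd (.nd (.nd (.lf 0x9) (.lf 0x8)) (.nd (.lf 0xb) (.lf 0))) (.nd (.nd (.lf 0x8) (.lf 0x7)) (.nd (.lf 0xb) (.lf 0))))) (.nd (.nd (.nd (.nd (.lf 0xb) (.lf 0x9)) (.nd (.lf 0x7) (.lf 0))) (.nd (.nd (.lf 0x9) (.lf 0x9)) (.nd (.lf 0xa) (.lf 0)))) (.nd (.nd (.nd (.lf 0x9) (.lf 0x8)) (.nd (.lf 0x7) (.lf 0))) (.nd (.nd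 (.lf 0x9) (.lf 0x9)) (.nd (.lf 0xa) (.lf 0)))))) (.nd (.nd (.nd (.nd (.nd (.lf 0x7) (.lf 0xa)) (.nd (.lf 0xa) (.lf 0))) (.nd (.nd (.lf 0x4) (.lf 0x9)) (.nd (.lf 0x8) (.lf 0)))) (.nd (.nd (.nd (.lf 0xa) (.lf 0x8)) (.nd (.lf 0x9) (.lf 0))) (.nd (.nd (.lf 0xc) (.lf 0xc)) (.nd (.lf 0x9) (.lf 0))))) (.nd (.nd (.nd (.nd (.lf 0x9) (.lf 0xa)) (.nd (.lf 0x9) (.lf 0))) (.nd (.nd (.lf 0x9) (.lf 0xa)) (.nd (.lf 0x9) (.lf 0)))) (.nd (.nd (.nd (.lf 0x7) (.lf 0x8)) (.nd (.lf 0x7) (.lf 0))) (.nd (.nd (.lf 0xd) (.lf 0x7)) (.nd (.lf 0x9) (.lf 0))))))))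
def depT_nbaaaab : Tr := (.nd (.nd (.nd (.nd (.nd (.nd (.nd (.lf 0xb) (.lf 0x5)) (.nd (.lf 0x6) (.lf 0))) (.nd (.nd (.lf 0xd) (.lf 0xb)) (.nd (.lf 0xa) (.lf 0)))) (.nd (.nd (.nd (.lf 0x9) (.lf 0xb)) (.nd (.lf 0x9) (.lf 0))) (.nd (.nd (.lf 0xc) (.lf 0x8)) (.nd (.lf 0xa) (.lf 0))))) (.nd (.nd (.nd (.nd (.lf 0x9) (.lf 0xb)) (.nd (.lf 0x7) (.lf 0))) (.nd (.nd (.lf 0x5) (.lf 0xb)) (.nd (.lf 0xa) (.lf 0)))) (.nd (.nd (.nd (.lf 0xc) (.lf 0xa)) (.nd (.lf 0x7) (.lf 0))) (.nd (.nd (.lf 0xb) (.lf 0x9)) (.nd (.lf 0x7) (.lf 0)))))) (.nd (.nd (.nd (.nd (.nd (.lf 0x8) (.lf 0x9)) (.nd (.lf 0x9) (.lf 0))) (.nd (.nd (.lf 0x8) (.lf 0xb)) (.nd (.lf 0xa) (.lf 0)))) (.nd (.nd (.nd (.lf 0xb) (.lf 0xa)) (.nd (.lf 0x2) (.lf 0))) (.nd (.nd (.lf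 0xc) (.lf 0x7)) (.nd (.lf 0x8) (.lf 0))))) (.nd (.nd (.nd (.nd (.lf 0xc) (.lf 0x8)) (.nd (.lf 0x6) (.lf 0))) (.nd (.nd (.lf 0xb) (.lf 0xb)) (.nd (.lf 0xb) (.lf 0)))) (.nd (.nd (.nd (.lf 0xb) (.lf 0x1)) (.nd (.lf 0x8) (.lf 0))) (.nd (.nd (.lf 0xa) (.lf 0x5)) (.nd (.lf 0x9) (.lf 0))))))) (.nd (.nd (.nd (.nd (.nd (.nd (.lf 0xb) (.lf 0xa)) (.nd (.lf 0xc) (.lf 0))) (.nd (.nd (.lf 0x8) (.lf 0x9)) (.nd (.lf 0x9) (.lf 0)))) (.nd (.nd (.nd (.lf 0x9) (.lf 0xb)) (.nd (.lf 0xc) (.lf 0))) (.nd (.nd (.lf 0xa) (.lf 0xc)) (.nd (.lf 0xb) (.lf 0))))) (.nd (.nd (.nd (.nd (.lf 0xb) (.lf 0x8)) (.nd (.lf 0x9) (.lf 0))) (.nd (.nd (.lf 0xa) (.lf 0x6)) (.nd (.lf 0xc) (.lf 0)))) (.nd (.nd (.nd (.lf 0xc) (.lf 0x9)) (.nd (.lf 0x8) (.lf 0))) (.nd (.nd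 (.lf 0x7) (.lf 0xa)) (.nd (.lf 0xb) (.lf 0)))))) (.nd (.nd (.nd (.nd (.nd (.lf 0x9) (.lf 0x6)) (.nd (.lf 0x6) (.lf 0))) (.nd (.nd (.lf 0xa) (.lf 0x8)) (.nd (.lf 0x7) (.lf 0)))) (.nd (.nd (.nd (.lf 0xa) (.lf 0xc)) (.nd (.lf 0x6) (.lf 0))) (.nd (.nd (.lf 0xa) (.lf 0xb)) (.nd (.lf 0xb) (.lf 0))))) (.nd (.nd (.nd (.nd (.lf 0xa) (.lf 0x9)) (.nd (.lf 0x8) (.lf 0))) (.nd (.nd (.lf 0x9) (.lf 0xb)) (.nd (.lf 0xa) (.lf 0)))) (.nd (.nd (.nd (.lf 0xd) (.lf 0x9)) (.nd (.lf 0x5) (.lf 0))) (.nd (.nd (.lf 0xb) (.lf 0x6)) (.nd (.lf 0x9) (.lf 0))))))))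
def depT_nbaaaba : Tr := (.nd (.nd (.nd (.nd (.nd (.nd (.nd (.lf 0x9) (.lf 0x7)) (.nd (.lf 0xc) (.lf 0))) (.nd (.nd (.lf 0x8) (.lf 0xb)) (.nd (.lf 0x9) (.lf 0)))) (.nd (.nd (.nd (.lf 0xd) (.lf 0x7)) (.nd (.lf 0x6) (.lf 0))) (.nd (.nd (.lf 0x8) (.lf 0x9)) (.nd (.lf 0x8) (.lf 0))))) (.nd (.nd (.nd (.nd (.lf 0x9) (.lf 0x9)) (.nd (.lf 0xb) (.lf 0))) (.nd (.nd (.lf 0xc) (.lf 0x7)) (.nd (.lf 0x8) (.lf 0)))) (.nd (.nd (.nd (.lf 0x9) (.lf 0x4)) (.nd (.lf 0xa) (.lf 0))) (.nd (.nd (.lf 0x9) (.lf 0x9)) (.nd (.lf 0xa) (.lf 0)))))) (.nd (.nd (.nd (.nd (.nd (.lf 0xa) (.lf 0xa)) (.nd (.lf 0xc) (.lf 0))) (.nd (.nd (.lf 0x4) (.lf 0x9)) (.nd (.lf 0xb) (.lf 0)))) (.nd (.nd (.nd (.lf 0xa) (.lf 0xa)) (.nd (.lf 0x9) (.lf 0))) (.nd (.nd (.lf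 0x7) (.lf 0x7)) (.nd (.lf 0xc) (.lf 0))))) (.nd (.nd (.nd (.nd (.lf 0x9) (.lf 0x9)) (.nd (.lf 0x8) (.lf 0))) (.nd (.nd (.lf 0xa) (.lf 0x7)) (.nd (.lf 0xb) (.lf 0)))) (.nd (.nd (.nd (.lf 0x8) (.lf 0xa)) (.nd (.lf 0xd) (.lf 0))) (.nd (.nd (.lf 0xc) (.lf 0x8)) (.nd (.lf 0x8) (.lf 0))))))) (.nd (.nd (.nd (.nd (.nd (.nd (.lf 0xb) (.lf 0xb)) (.nd (.lf 0x6) (.lf 0))) (.nd (.nd (.lf 0x8) (.lf 0x5)) (.nd (.lf 0x2) (.lf 0)))) (.nd (.nd (.nd (.lf 0x7) (.lf 0x6)) (.nd (.lf 0xa) (.lf 0))) (.nd (.nd (.lf 0x8) (.lf 0x9)) (.nd (.lf 0xa) (.lf 0))))) (.nd (.nd (.nd (.nd (.lf 0x8) (.lf 0x5)) (.nd (.lf 0xa) (.lf 0))) (.nd (.nd (.lf 0xa) (.lf 0x7)) (.nd (.lf 0xa) (.lf 0)))) (.nd (.nd (.nd (.lf 0x9) (.lf 0xa)) (.nd (.lf 0x8) (.lf 0))) (.nd (.nd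 (.lf 0x9) (.lf 0x8)) (.nd (.lf 0x6) (.lf 0)))))) (.nd (.nd (.nd (.nd (.nd (.lf 0x9) (.lf 0x5)) (.nd (.lf 0xa) (.lf 0))) (.nd (.nd (.lf 0xa) (.lf 0xb)) (.nd (.lf 0xb) (.lf 0)))) (.nd (.nd (.nd (.lf 0xb) (.lf 0x7)) (.nd (.lf 0x9) (.lf 0))) (.nd (.nd (.lf 0x7) (.lf 0x6)) (.nd (.lf 0xb) (.lf 0))))) (.nd (.nd (.nd (.nd (.lf 0x9) (.lf 0xc)) (.nd (.lf 0x8) (.lf 0))) (.nd (.nd (.lf 0x9) (.lf 0xa)) (.nd (.lf 0xb) (.lf 0)))) (.nd (.nd (.nd (.lf 0x9) (.lf 0x7)) (.nd (.lf 0x5) (.lf 0))) (.nd (.nd (.lf 0x4) (.lf 0x7)) (.nd (.lf 0x8) (.lf 0))))))))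
def depT_nbaaabb : Tr := (.nd (.nd (.nd (.nd (.nd (.nd (.nd (.lf 0x9) (.lf 0x9)) (.nd (.lf 0x8) (.lf 0))) (.nd (.nd (.lf 0xb) (.lf 0x9)) (.nd (.lf 0xa) (.lf 0)))) (.nd (.nd (.nd (.lf 0xa) (.lf 0x9)) (.nd (.lf 0x8) (.lf 0))) (.nd (.nd (.lf 0x8) (.lf 0x9)) (.nd (.lf 0xb) (.lf 0))))) (.nd (.nd (.nd (.nd (.lf 0xa) (.lf 0x9)) (.nd (.lf 0xb) (.lf 0))) (.nd (.nd (.lf 0x8) (.lf 0x9)) (.nd (.lf 0xa) (.lf 0)))) (.nd (.nd (.nd (.lf 0xa) (.lf 0xa)) (.nd (.lf 0x9) (.lf 0))) (.nd (.nd (.lf 0x5) (.lf 0x8)) (.nd (.lf 0xa) (.lf 0)))))) (.nd (.nd (.nd (.nd (.nd (.lf 0x8) (.lf 0xc)) (.nd (.lf 0x9) (.lf 0))) (.nd (.nd (.lf 0xb) (.lf 0xa)) (.nd (.lf 0xa) (.lf 0)))) (.nd (.nd (.nd (.lf 0xb) (.lf 0x7)) (.nd (.lf 0xa) (.lf 0))) (.nd (.nd (.lf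 0x7) (.lf 0xa)) (.nd (.lf 0xb) (.lf 0))))) (.nd (.nd (.nd (.nd (.lf 0x5) (.lf 0x7)) (.nd (.lf 0x8) (.lf 0))) (.nd (.nd (.lf 0xa) (.lf 0xa)) (.nd (.lf 0xa) (.lf 0)))) (.nd (.nd (.nd (.lf 0xa) (.lf 0x5)) (.nd (.lf 0x7) (.lf 0))) (.nd (.nd (.lf 0x3) (.lf 0x5)) (.nd (.lf 0x9) (.lf 0))))))) (.nd (.nd (.nd (.nd (.nd (.nd (.lf 0x8) (.lf 0x4)) (.nd (.lf 0xb) (.lf 0))) (.nd (.nd (.lf 0xa) (.lf 0x9)) (.nd (.lf 0xa) (.lf 0)))) (.nd (.nd (.nd (.lf 0xa) (.lf 0xa)) (.nd (.lf 0xa) (.lf 0))) (.nd (.nd (.lf 0x2) (.lf 0x8)) (.nd (.lf 0xc) (.lf 0))))) (.nd (.nd (.nd (.nd (.lf 0xa) (.lf 0x9)) (.nd (.lf 0x7) (.lf 0))) (.nd (.nd (.lf 0xd) (.lf 0x8)) (.nd (.lf 0x9) (.lf 0)))) (.nd (.nd (.nd (.lf 0x2) (.lf 0xa)) (.nd (.lf 0x9) (.lf 0))) (.nd (.nd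 (.lf 0x8) (.lf 0x4)) (.nd (.lf 0x8) (.lf 0)))))) (.nd (.nd (.nd (.nd (.nd (.lf 0xa) (.lf 0x9)) (.nd (.lf 0x8) (.lf 0))) (.nd (.nd (.lf 0xa) (.lf 0xb)) (.nd (.lf 0x8) (.lf 0)))) (.nd (.nd (.nd (.lf 0xa) (.lf 0xa)) (.nd (.lf 0x9) (.lf 0))) (.nd (.nd (.lf 0x8) (.lf 0x6)) (.nd (.lf 0x9) (.lf 0))))) (.nd (.nd (.nd (.nd (.lf 0xa) (.lf 0xc)) (.nd (.lf 0xc) (.lf 0))) (.nd (.nd (.lf 0x8) (.lf 0xa)) (.nd (.lf 0x8) (.lf 0)))) (.nd (.nd (.nd (.lf 0x7) (.lf 0xc)) (.nd (.lf 0xb) (.lf 0))) (.nd (.nd (.lf 0xb) (.lf 0x6)) (.nd (.lf 0x9) (.lf 0))))))))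
def depT_nbaabaa : Tr := (.nd (.nd (.nd (.nd (.nd (.nd (.nd (.lf 0x8) (.lf 0xa)) (.nd (.lf 0x9) (.lf 0xb))) (.nd (.nd (.lf 0x6) (.lf 0x9)) (.nd (.lf 0x9) (.lf 0)))) (.nd (.nd (.nd (.lf 0xa) (.lf 0x9)) (.nd (.lf 0x8) (.lf 0))) (.nd (.nd (.lf 0xb) (.lf 0xb)) (.nd (.lf 0x7) (.lf 0))))) (.nd (.nd (.nd (.nd (.lf 0xb) (.lf 0x9)) (.nd (.lf 0x7) (.lf 0))) (.nd (.nd (.lf 0x9) (.lf 0x8)) (.nd (.lf 0x9) (.lf 0)))) (.nd (.nd (.nd (.lf 0x9) (.lf 0x9)) (.nd (.lf 0x9) (.lf 0))) (.nd (.nd (.lf 0x9) (.lf 0xb)) (.nd (.lf 0x9) (.lf 0)))))) (.nd (.nd (.nd (.nd (.nd (.lf 0xa) (.lf 0x9)) (.nd (.lf 0x8) (.lf 0))) (.nd (.nd (.lf 0xb) (.lf 0x6)) (.nd (.lf 0xa) (.lf 0)))) (.nd (.nd (.nd (.lf 0x9) (.lf 0xa)) (.nd (.lf 0x7) (.lf 0))) (.nd (.nd (.lf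 0xa) (.lf 0xb)) (.nd (.lf 0x8) (.lf 0))))) (.nd (.nd (.nd (.nd (.lf 0xb) (.lf 0xa)) (.nd (.lf 0xb) (.lf 0))) (.nd (.nd (.lf 0x7) (.lf 0x9)) (.nd (.lf 0x7) (.lf 0)))) (.nd (.nd (.nd (.lf 0x8) (.lf 0xa)) (.nd (.lf 0x5) (.lf 0))) (.nd (.nd (.lf 0xb) (.lf 0xa)) (.nd (.lf 0x8) (.lf 0))))))) (.nd (.nd (.nd (.nd (.nd (.nd (.lf 0x9) (.lf 0x8)) (.nd (.lf 0x7) (.lf 0))) (.nd (.nd (.lf 0x8) (.lf 0x8)) (.nd (.lf 0x6) (.lf 0)))) (.nd (.nd (.nd (.lf 0xa) (.lf 0xa)) (.nd (.lf 0xb) (.lf 0))) (.nd (.nd (.lf 0xa) (.lf 0xa)) (.nd (.lf 0x8) (.lf 0))))) (.nd (.nd (.nd (.nd (.lf 0x8) (.lf 0x9)) (.nd (.lf 0x8) (.lf 0))) (.nd (.nd (.lf 0x8) (.lf 0x4)) (.nd (.lf 0xb) (.lf 0)))) (.nd (.nd (.nd (.lf 0x9) (.lf 0x8)) (.nd (.lf 0x7) (.lf 0))) (.nd (.nd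 (.lf 0xc) (.lf 0xc)) (.nd (.lf 0xb) (.lf 0)))))) (.nd (.nd (.nd (.nd (.nd (.lf 0xb) (.lf 0xa)) (.nd (.lf 0xa) (.lf 0))) (.nd (.nd (.lf 0xa) (.lf 0x7)) (.nd (.lf 0xb) (.lf 0)))) (.nd (.nd (.nd (.lf 0x2) (.lf 0xb)) (.nd (.lf 0x9) (.lf 0))) (.nd (.nd (.lf 0x8) (.lf 0x9)) (.nd (.lf 0xc) (.lf 0))))) (.nd (.nd (.nd (.nd (.lf 0xb) (.lf 0x8)) (.nd (.lf 0x7) (.lf 0))) (.nd (.nd (.lf 0xa) (.lf 0x9)) (.nd (.lf 0x8) (.lf 0)))) (.nd (.nd (.nd (.lf 0x9) (.lf 0xb)) (.nd (.lf 0xb) (.lf 0))) (.nd (.nd (.lf 0x9) (.lf 0xa)) (.nd (.lf 0x9) (.lf 0))))))))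
def depT_nbaabab : Tr := (.nd (.nd (.nd (.nd (.nd (.nd (.nd (.lf 0x5) (.lf 0x9)) (.nd (.lf 0x5) (.lf 0))) (.nd (.nd (.lf 0xc) (.lf 0x8)) (.nd (.lf 0x9) (.lf 0)))) (.nd (.nd (.nd (.lf 0xa) (.lf 0x6)) (.nd (.lf 0x7) (.lf 0))) (.nd (.nd (.lf 0x9) (.lf 0x7)) (.nd (.lf 0x7) (.lf 0))))) (.nd (.nd (.nd (.nd (.lf 0xa) (.lf 0x7)) (.nd (.lf 0xa) (.lf 0))) (.nd (.nd (.lf 0x4) (.lf 0x7)) (.nd (.lf 0x7) (.lf 0)))) (.nd (.nd (.nd (.lf 0xd) (.lf 0xa)) (.nd (.lf 0x8) (.lf 0))) (.nd (.nd (.lf 0x9) (.lf 0xa)) (.nd (.lf 0x4) (.lf 0)))))) (.nd (.nd (.nd (.nd (.nd (.lf 0x9) (.lf 0x8)) (.nd (.lf 0xb) (.lf 0))) (.nd (.nd (.lf 0x7) (.lf 0xa)) (.nd (.lf 0x9) (.lf 0)))) (.nd (.nd (.nd (.lf 0xc) (.lf 0x8)) (.nd (.lf 0xa) (.lf 0))) (.nd (.nd (.lf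 0xb) (.lf 0x7)) (.nd (.lf 0xb) (.lf 0))))) (.nd (.nd (.nd (.nd (.lf 0x9) (.lf 0xb)) (.nd (.lf 0x9) (.lf 0))) (.nd (.nd (.lf 0xb) (.lf 0x7)) (.nd (.lf 0xb) (.lf 0)))) (.nd (.nd (.nd (.lf 0x6) (.lf 0xa)) (.nd (.lf 0x8) (.lf 0))) (.nd (.nd (.lf 0xb) (.lf 0x7)) (.nd (.lf 0xa) (.lf 0))))))) (.nd (.nd (.nd (.nd (.nd (.nd (.lf 0x5) (.lf 0x5)) (.nd (.lf 0x9) (.lf 0))) (.nd (.nd (.lf 0x8) (.lf 0x8)) (.nd (.lf 0x4) (.lf 0)))) (.nd (.nd (.nd (.lf 0xb) (.lf 0xa)) (.nd (.lf 0xa) (.lf 0))) (.nd (.nd (.lf 0x9) (.lf 0xc)) (.nd (.lf 0x9) (.lf 0))))) (.nd (.nd (.nd (.nd (.lf 0x7) (.lf 0xa)) (.nd (.lf 0x9) (.lf 0))) (.nd (.nd (.lf 0x9) (.lf 0xa)) (.nd (.lf 0x7) (.lf 0)))) (.nd (.nd (.nd (.lf 0xb) (.lf 0x8)) (.nd (.lf 0xa) (.lf 0))) (.nd (.nd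 (.lf 0xa) (.lf 0xa)) (.nd (.lf 0xc) (.lf 0)))))) (.nd (.nd (.nd (.nd (.nd (.lf 0xc) (.lf 0x6)) (.nd (.lf 0xa) (.lf 0))) (.nd (.nd (.lf 0x7) (.lf 0xa)) (.nd (.lf 0xb) (.lf 0)))) (.nd (.nd (.nd (.lf 0xa) (.lf 0xb)) (.nd (.lf 0x9) (.lf 0))) (.nd (.nd (.lf 0x8) (.lf 0xd)) (.nd (.lf 0x6) (.lf 0))))) (.nd (.nd (.nd (.nd (.lf 0x8) (.lf 0x8)) (.nd (.lf 0x8) (.lf 0))) (.nd (.nd (.lf 0xb) (.lf 0x9)) (.nd (.lf 0x7) (.lf 0)))) (.nd (.nd (.nd (.lf 0xb) (.lf 0xc)) (.nd (.lf 0x9) (.lf 0))) (.nd (.nd (.lf 0x7) (.lf 0x7)) (.nd (.lf 0x9) (.lf 0))))))))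
def depT_nbaabba : Tr := (.nd (.nd (.nd (.nd (.nd (.nd (.nd (.lf 0xa) (.lf 0x6)) (.nd (.lf 0x7) (.lf 0))) (.nd (.nd (.lf 0x7) (.lf 0x9)) (.nd (.lf 0xa) (.lf 0)))) (.nd (.nd (.nd (.lf 0x8) (.lf 0x8)) (.nd (.lf 0xc) (.lf 0))) (.nd (.nd (.lf 0x8) (.lf 0x7)) (.nd (.lf 0x8) (.lf 0))))) (.nd (.nd (.nd (.nd (.lf 0x8) (.lf 0xb)) (.nd (.lf 0x7) (.lf 0))) (.nd (.nd (.lf 0xb) (.lf 0xb)) (.nd (.lf 0x9) (.lf 0)))) (.nd (.nd (.nd (.lf 0x5) (.lf 0x8)) (.nd (.lf 0x7) (.lf 0))) (.nd (.nd (.lf 0xc) (.lf 0xa)) (.nd (.lf 0xb) (.lf 0)))))) (.nd (.nd (.nd (.nd (.nd (.lf 0xb) (.lf 0x9)) (.nd (.lf 0x7) (.lf 0))) (.nd (.nd (.lf 0x7) (.lf 0x8)) (.nd (.lf 0xa) (.lf 0)))) (.nd (.nd (.nd (.lf 0x7) (.lf 0xb)) (.nd (.lf 0xa) (.lf 0))) (.nd (.nd (.lf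 0xa) (.lf 0xc)) (.nd (.lf 0x5) (.lf 0))))) (.nd (.nd (.nd (.nd (.lf 0xa) (.lf 0xa)) (.nd (.lf 0xa) (.lf 0))) (.nd (.nd (.lf 0xa) (.lf 0x7)) (.nd (.lf 0xb) (.lf 0)))) (.nd (.nd (.nd (.lf 0x8) (.lf 0xb)) (.nd (.lf 0xb) (.lf 0))) (.nd (.nd (.lf 0x9) (.lf 0x9)) (.nd (.lf 0xa) (.lf 0))))))) (.nd (.nd (.nd (.nd (.nd (.nd (.lf 0x8) (.lf 0x9)) (.nd (.lf 0x8) (.lf 0))) (.nd (.nd (.lf 0xb) (.lf 0x7)) (.nd (.lf 0x2) (.lf 0)))) (.nd (.nd (.nd (.lf 0x7) (.lf 0x9)) (.nd (.lf 0x9) (.lf 0))) (.nd (.nd (.lf 0x8) (.lf 0x9)) (.nd (.lf 0x9) (.lf 0))))) (.nd (.nd (.nd (.nd (.lf 0xa) (.lf 0xa)) (.nd (.lf 0x8) (.lf 0))) (.nd (.nd (.lf 0xb) (.lf 0xc)) (.nd (.lf 0xb) (.lf 0)))) (.nd (.nd (.nd (.lf 0xa) (.lf 0x7)) (.nd (.lf 0x6) (.lf 0))) (.nd (.nd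 (.lf 0xa) (.lf 0x8)) (.nd (.lf 0xb) (.lf 0)))))) (.nd (.nd (.nd (.nd (.nd (.lf 0xc) (.lf 0xb)) (.nd (.lf 0x3) (.lf 0))) (.nd (.nd (.lf 0xa) (.lf 0xb)) (.nd (.lf 0xa) (.lf 0)))) (.nd (.nd (.nd (.lf 0xa) (.lf 0x9)) (.nd (.lf 0x9) (.lf 0))) (.nd (.nd (.lf 0x9) (.lf 0x8)) (.nd (.lf 0x7) (.lf 0))))) (.nd (.nd (.nd (.nd (.lf 0x9) (.lf 0x9)) (.nd (.lf 0xd) (.lf 0))) (.nd (.nd (.lf 0x8) (.lf 0xa)) (.nd (.lf 0x9) (.lf 0)))) (.nd (.nd (.nd (.lf 0xc) (.lf 0x9)) (.nd (.lf 0x7) (.lf 0))) (.nd (.nd (.lf 0xa) (.lf 0x9)) (.nd (.lf 0x7) (.lf 0))))))))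
def depT_nbaabbb : Tr := (.nd (.nd (.nd (.nd (.nd (.nd (.nd (.lf 0xa) (.lf 0x9)) (.nd (.lf 0x7) (.lf 0))) (.nd (.nd (.lf 0xc) (.lf 0xa)) (.nd (.lf 0xa) (.lf 0)))) (.nd (.nd (.nd (.lf 0xc) (.lf 0x7)) (.nd (.lf 0x9) (.lf 0))) (.nd (.nd (.lf 0xa) (.lf 0x9)) (.nd (.lf 0xa) (.lf 0))))) (.nd (.nd (.nd (.nd (.lf 0x5) (.lf 0x7)) (.nd (.lf 0x6) (.lf 0))) (.nd (.nd (.lf 0x6) (.lf 0x9)) (.nd (.lf 0xb) (.lf 0)))) (.nd (.nd (.nd (.lf 0x3) (.lf 0x9)) (.nd (.lf 0xa) (.lf 0))) (.nd (.nd (.lf 0x6) (.lf 0xb)) (.nd (.lf 0xa) (.lf 0)))))) (.nd (.nd (.nd (.nd (.nd (.lf 0xb) (.lf 0xc)) (.nd (.lf 0xa) (.lf 0))) (.nd (.nd (.lf 0xd) (.lf 0x5)) (.nd (.lf 0xa) (.lf 0)))) (.nd (.nd (.nd (.lf 0x9) (.lf 0xb)) (.nd (.lf 0x5) (.lf 0))) (.nd (.nd (.lf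 0x9) (.lf 0x9)) (.nd (.lf 0x8) (.lf 0))))) (.nd (.nd (.nd (.nd (.lf 0xa) (.lf 0xb)) (.nd (.lf 0x7) (.lf 0))) (.nd (.nd (.lf 0xb) (.lf 0xa)) (.nd (.lf 0xb) (.lf 0)))) (.nd (.nd (.nd (.lf 0xb) (.lf 0xb)) (.nd (.lf 0x9) (.lf 0))) (.nd (.nd (.lf 0x7) (.lf 0x8)) (.nd (.lf 0x8) (.lf 0))))))) (.nd (.nd (.nd (.nd (.nd (.nd (.lf 0xa) (.lf 0xa)) (.nd (.lf 0x8) (.lf 0))) (.nd (.nd (.lf 0xa) (.lf 0x7)) (.nd (.lf 0x8) (.lf 0)))) (.nd (.nd (.nd (.lf 0x4) (.lf 0x9)) (.nd (.lf 0x9) (.lf 0))) (.nd (.nd (.lf 0x9) (.lf 0xb)) (.nd (.lf 0x9) (.lf 0))))) (.nd (.nd (.nd (.nd (.lf 0xb) (.lf 0xb)) (.nd (.lf 0xb) (.lf 0))) (.nd (.nd (.lf 0x9) (.lf 0x8)) (.nd (.lf 0x9) (.lf 0)))) (.nd (.nd (.nd (.lf 0x9) (.lf 0x7)) (.nd (.lf 0x7) (.lf 0))) (.nd (.nd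 (.lf 0x8) (.lf 0x7)) (.nd (.lf 0xa) (.lf 0)))))) (.nd (.nd (.nd (.nd (.nd (.lf 0x9) (.lf 0x4)) (.nd (.lf 0x2) (.lf 0))) (.nd (.nd (.lf 0x9) (.lf 0xa)) (.nd (.lf 0x8) (.lf 0)))) (.nd (.nd (.nd (.lf 0xb) (.lf 0xb)) (.nd (.lf 0x6) (.lf 0))) (.nd (.nd (.lf 0x7) (.lf 0x8)) (.nd (.lf 0x8) (.lf 0))))) (.nd (.nd (.nd (.nd (.lf 0xa) (.lf 0x8)) (.nd (.lf 0x9) (.lf 0))) (.nd (.nd (.lf 0xa) (.lf 0xc)) (.nd (.lf 0x7) (.lf 0)))) (.nd (.nd (.nd (.lf 0x6) (.lf 0x9)) (.nd (.lf 0x9) (.lf 0))) (.nd (.nd (.lf 0x7) (.lf 0x7)) (.nd (.lf 0x9) (.lf 0))))))))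
def depT_nbabaaa : Tr := (.nd (.nd (.nd (.nd (.nd (.nd (.nd (.lf 0x0) (.lf 0xb)) (.nd (.lf 0x9) (.lf 0x6))) (.nd (.nd (.lf 0x8) (.lf 0xb)) (.nd (.lf 0x9) (.lf 0)))) (.nd (.nd (.nd (.lf 0xa) (.lf 0x7)) (.nd (.lf 0xb) (.lf 0))) (.nd (.nd (.lf 0x8) (.lf 0x8)) (.nd (.lf 0x9) (.lf 0))))) (.nd (.nd (.nd (.nd (.lf 0xb) (.lf 0x8)) (.nd (.lf 0x6) (.lf 0))) (.nd (.nd (.lf 0xa) (.lf 0xb)) (.nd (.lf 0x9) (.lf 0)))) (.nd (.nd (.nd (.lf 0xb) (.lf 0x6)) (.nd (.lf 0x8) (.lf 0))) (.nd (.nd (.lf 0x9) (.lf 0xb)) (.nd (.lf 0xa) (.lf 0)))))) (.nd (.nd (.nd (.nd (.nd (.lf 0xb) (.lf 0xa)) (.nd (.lf 0xc) (.lf 0))) (.nd (.nd (.lf 0x9) (.lf 0xb)) (.nd (.lf 0x8) (.lf 0)))) (.nd (.nd (.nd (.lf 0x8) (.lf 0xa)) (.nd (.lf 0x9) (.lf 0))) (.nd (.nd (.lf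 0xa) (.lf 0x9)) (.nd (.lf 0x8) (.lf 0))))) (.nd (.nd (.nd (.nd (.lf 0x8) (.lf 0x6)) (.nd (.lf 0xa) (.lf 0))) (.nd (.nd (.lf 0x8) (.lf 0xb)) (.nd (.lf 0xb) (.lf 0)))) (.nd (.nd (.nd (.lf 0xa) (.lf 0xa)) (.nd (.lf 0xb) (.lf 0))) (.nd (.nd (.lf 0x7) (.lf 0x9)) (.nd (.lf 0xa) (.lf 0))))))) (.nd (.nd (.nd (.nd (.nd (.nd (.lf 0xa) (.lf 0x6)) (.nd (.lf 0xc) (.lf 0))) (.nd (.nd (.lf 0xa) (.lf 0xb)) (.nd (.lf 0xb) (.lf 0)))) (.nd (.nd (.nd (.lf 0xb) (.lf 0x6)) (.nd (.lf 0x9) (.lf 0))) (.nd (.nd (.lf 0x6) (.lf 0xc)) (.nd (.lf 0xb) (.lf 0))))) (.nd (.nd (.nd (.nd (.lf 0x9) (.lf 0x2)) (.nd (.lf 0x7) (.lf 0))) (.nd (.nd (.lf 0x8) (.lf 0x5)) (.nd (.lf 0xb) (.lf 0)))) (.nd (.nd (.nd (.lf 0xb) (.lf 0xa)) (.nd (.lf 0x7) (.lf 0))) (.nd (.nd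 (.lf 0xa) (.lf 0xb)) (.nd (.lf 0xa) (.lf 0)))))) (.nd (.nd (.nd (.nd (.nd (.lf 0xb) (.lf 0x6)) (.nd (.lf 0x1) (.lf 0))) (.nd (.nd (.lf 0x9) (.lf 0x9)) (.nd (.lf 0x7) (.lf 0)))) (.nd (.nd (.nd (.lf 0xa) (.lf 0x7)) (.nd (.lf 0x7) (.lf 0))) (.nd (.nd (.lf 0xb) (.lf 0x7)) (.nd (.lf 0x7) (.lf 0))))) (.nd (.nd (.nd (.nd (.lf 0x5) (.lf 0x9)) (.nd (.lf 0x6) (.lf 0))) (.nd (.nd (.lf 0x8) (.lf 0xb)) (.nd (.lf 0xa) (.lf 0)))) (.nd (.nd (.nd (.lf 0xb) (.lf 0x9)) (.nd (.lf 0xb) (.lf 0))) (.nd (.nd (.lf 0x6) (.lf 0x6)) (.nd (.lf 0x7) (.lf 0))))))))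
def depT_nbabaab : Tr := (.nd (.nd (.nd (.nd (.nd (.nd (.nd (.lf 0xa) (.lf 0x7)) (.nd (.lf 0xa) (.lf 0))) (.nd (.nd (.lf 0xa) (.lf 0x4)) (.nd (.lf 0xb) (.lf 0)))) (.nd (.nd (.nd (.lf 0xa) (.lf 0xa)) (.nd (.lf 0xa) (.lf 0))) (.nd (.nd (.lf 0x9) (.lf 0x8)) (.nd (.lf 0x6) (.lf 0))))) (.nd (.nd (.nd (.nd (.lf 0x9) (.lf 0xb)) (.nd (.lf 0xb) (.lf 0))) (.nd (.nd (.lf 0xc) (.lf 0xc)) (.nd (.lf 0x9) (.lf 0)))) (.nd (.nd (.nd (.lf 0x6) (.lf 0x8)) (.nd (.lf 0x8) (.lf 0))) (.nd (.nd (.lf 0xa) (.lf 0xb)) (.nd (.lf 0xb) (.lf 0)))))) (.nd (.nd (.nd (.nd (.nd (.lf 0xb) (.lf 0xb)) (.nd (.lf 0xb) (.lf 0))) (.nd (.nd (.lf 0x6) (.lf 0xb)) (.nd (.lf 0x8) (.lf 0)))) (.nd (.nd (.nd (.lf 0xa) (.lf 0xa)) (.nd (.lf 0x6) (.lf 0))) (.nd (.nd (.lf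 0x4) (.lf 0xb)) (.nd (.lf 0x9) (.lf 0))))) (.nd (.nd (.nd (.nd (.lf 0x6) (.lf 0x7)) (.nd (.lf 0x2) (.lf 0))) (.nd (.nd (.lf 0xa) (.lf 0xa)) (.nd (.lf 0x9) (.lf 0)))) (.nd (.nd (.nd (.lf 0xb) (.lf 0xc)) (.nd (.lf 0xb) (.lf 0))) (.nd (.nd (.lf 0x8) (.lf 0x8)) (.nd (.lf 0x9) (.lf 0))))))) (.nd (.nd (.nd (.nd (.nd (.nd (.lf 0xb) (.lf 0xa)) (.nd (.lf 0xb) (.lf 0))) (.nd (.nd (.lf 0x6) (.lf 0xa)) (.nd (.lf 0x9) (.lf 0)))) (.nd (.nd (.nd (.lf 0x9) (.lf 0xc)) (.nd (.lf 0x8) (.lf 0))) (.nd (.nd (.lf 0x9) (.lf 0x4)) (.nd (.lf 0x6) (.lf 0))))) (.nd (.nd (.nd (.nd (.lf 0xa) (.lf 0xa)) (.nd (.lf 0x8) (.lf 0))) (.nd (.nd (.lf 0x8) (.lf 0x9)) (.nd (.lf 0xa) (.lf 0)))) (.nd (.nd (.nd (.lf 0xb) (.lf 0x7)) (.nd (.lf 0xc) (.lf 0))) (.nd (.nd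 (.lf 0x7) (.lf 0x9)) (.nd (.lf 0x8) (.lf 0)))))) (.nd (.nd (.nd (.nd (.nd (.lf 0xa) (.lf 0x9)) (.nd (.lf 0x9) (.lf 0))) (.nd (.nd (.lf 0x8) (.lf 0xb)) (.nd (.lf 0xa) (.lf 0)))) (.nd (.nd (.nd (.lf 0x6) (.lf 0x4)) (.nd (.lf 0xb) (.lf 0))) (.nd (.nd (.lf 0x9) (.lf 0xb)) (.nd (.lf 0x6) (.lf 0))))) (.nd (.nd (.nd (.nd (.lf 0x9) (.lf 0x8)) (.nd (.lf 0xb) (.lf 0))) (.nd (.nd (.lf 0x9) (.lf 0x9)) (.nd (.lf 0xb) (.lf 0)))) (.nd (.nd (.nd (.lf 0x8) (.lf 0xb)) (.nd (.lf 0x8) (.lf 0))) (.nd (.nd (.lf 0x9) (.lf 0xa)) (.nd (.lf 0xc) (.lf 0))))))))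
def depT_nbababa : Tr := (.nd (.nd (.nd (.nd (.nd (.nd (.nd (.lf 0xc) (.lf 0xc)) (.nd (.lf 0xc) (.lf 0))) (.nd (.nd (.lf 0x9) (.lf 0xb)) (.nd (.lf 0x7) (.lf 0)))) (.nd (.nd (.nd (.lf 0xb) (.lf 0xa)) (.nd (.lf 0xa) (.lf 0))) (.nd (.nd (.lf 0x7) (.lf 0xa)) (.nd (.lf 0xa) (.lf 0))))) (.nd (.nd (.nd (.nd (.lf 0xa) (.lf 0xa)) (.nd (.lf 0xb) (.lf 0))) (.nd (.nd (.lf 0xc) (.lf 0xb)) (.nd (.lf 0xc) (.lf 0)))) (.nd (.nd (.nd (.lf 0xb) (.lf 0x9)) (.nd (.lf 0xa) (.lf 0))) (.nd (.nd (.lf 0xb) (.lf 0xb)) (.nd (.lf 0x9) (.lf 0)))))) (.nd (.nd (.nd (.nd (.nd (.lf 0x5) (.lf 0xa)) (.nd (.lf 0x9) (.lf 0))) (.nd (.nd (.lf 0x8) (.lf 0x6)) (.nd (.lf 0x9) (.lf 0)))) (.nd (.nd (.nd (.lf 0x6) (.lf 0x8)) (.nd (.lf 0xa) (.lf 0))) (.nd (.nd (.lf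 0x8) (.lf 0xb)) (.nd (.lf 0x8) (.lf 0))))) (.nd (.nd (.nd (.nd (.lf 0xa) (.lf 0x8)) (.nd (.lf 0x9) (.lf 0))) (.nd (.nd (.lf 0xa) (.lf 0xa)) (.nd (.lf 0x9) (.lf 0)))) (.nd (.nd (.nd (.lf 0x9) (.lf 0x9)) (.nd (.lf 0x5) (.lf 0))) (.nd (.nd (.lf 0x8) (.lf 0xb)) (.nd (.lf 0xb) (.lf 0))))))) (.nd (.nd (.nd (.nd (.nd (.nd (.lf 0xa) (.lf 0xa)) (.nd (.lf 0xb) (.lf 0))) (.nd (.nd (.lf 0xa) (.lf 0x9)) (.nd (.lf 0x7) (.lf 0)))) (.nd (.nd (.nd (.lf 0x6) (.lf 0x9)) (.nd (.lf 0xb) (.lf 0))) (.nd (.nd (.lf 0xb) (.lf 0xb)) (.nd (.lf 0x8) (.lf 0))))) (.nd (.nd (.nd (.nd (.lf 0xa) (.lf 0xc)) (.nd (.lf 0x8) (.lf 0))) (.nd (.nd (.lf 0xa) (.lf 0xb)) (.nd (.lf 0x6) (.lf 0)))) (.nd (.nd (.nd (.lf 0xa) (.lf 0xb)) (.nd (.lf 0x9) (.lf 0))) (.nd (.nd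 (.lf 0xa) (.lf 0x9)) (.nd (.lf 0x9) (.lf 0)))))) (.nd (.nd (.nd (.nd (.nd (.lf 0x9) (.lf 0x8)) (.nd (.lf 0xa) (.lf 0))) (.nd (.nd (.lf 0xa) (.lf 0x6)) (.nd (.lf 0xc) (.lf 0)))) (.nd (.nd (.nd (.lf 0xa) (.lf 0xa)) (.nd (.lf 0xa) (.lf 0))) (.nd (.nd (.lf 0x5) (.lf 0xb)) (.nd (.lf 0xa) (.lf 0))))) (.nd (.nd (.nd (.nd (.lf 0x7) (.lf 0xb)) (.nd (.lf 0x9) (.lf 0))) (.nd (.nd (.lf 0x6) (.lf 0xb)) (.nd (.lf 0xc) (.lf 0)))) (.nd (.nd (.nd (.lf 0xb) (.lf 0xb)) (.nd (.lf 0x8) (.lf 0))) (.nd (.nd (.lf 0x8) (.lf 0xc)) (.nd (.lf 0x9) (.lf 0))))))))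
def depT_nbababb : Tr := (.nd (.nd (.nd (.nd (.nd (.nd (.nd (.lf 0x8) (.lf 0xa)) (.nd (.lf 0x5) (.lf 0))) (.nd (.nd (.lf 0x7) (.lf 0x9)) (.nd (.lf 0x9) (.lf 0)))) (.nd (.nd (.nd (.lf 0xa) (.lf 0xa)) (.nd (.lf 0x8) (.lf 0))) (.nd (.nd (.lf 0xb) (.lf 0x8)) (.nd (.lf 0x4) (.lf 0))))) (.nd (.nd (.nd (.nd (.lf 0xc) (.lf 0x8)) (.nd (.lf 0xa) (.lf 0))) (.nd (.nd (.lf 0x7) (.lf 0xc)) (.nd (.lf 0xa) (.lf 0)))) (.nd (.nd (.nd (.lf 0x7) (.lf 0xc)) (.nd (.lf 0x4) (.lf 0))) (.nd (.nd (.lf 0x9) (.lf 0x9)) (.nd (.lf 0x8) (.lf 0)))))) (.nd (.nd (.nd (.nd (.nd (.lf 0x9) (.lf 0x9)) (.nd (.lf 0x8) (.lf 0))) (.nd (.nd (.lf 0x6) (.lf 0x8)) (.nd (.lf 0x7) (.lf 0)))) (.nd (.nd (.nd (.lf 0x7) (.lf 0xc)) (.nd (.lf 0x2) (.lf 0))) (.nd (.nd (.lf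 0xb) (.lf 0xa)) (.nd (.lf 0xa) (.lf 0))))) (.nd (.nd (.nd (.nd (.lf 0xb) (.lf 0x8)) (.nd (.lf 0xa) (.lf 0))) (.nd (.nd (.lf 0xb) (.lf 0xb)) (.nd (.lf 0xc) (.lf 0)))) (.nd (.nd (.nd (.lf 0xa) (.lf 0x9)) (.nd (.lf 0x6) (.lf 0))) (.nd (.nd (.lf 0x5) (.lf 0xb)) (.nd (.lf 0xb) (.lf 0))))))) (.nd (.nd (.nd (.nd (.nd (.nd (.lf 0xa) (.lf 0xc)) (.nd (.lf 0xa) (.lf 0))) (.nd (.nd (.lf 0xb) (.lf 0xc)) (.nd (.lf 0xb) (.lf 0)))) (.nd (.nd (.nd (.lf 0x9) (.lf 0x7)) (.nd (.lf 0x7) (.lf 0))) (.nd (.nd (.lf 0xa) (.lf 0xb)) (.nd (.lf 0x6) (.lf 0))))) (.nd (.nd (.nd (.nd (.lf 0x5) (.lf 0x6)) (.nd (.lf 0x9) (.lf 0))) (.nd (.nd (.lf 0x5) (.lf 0x9)) (.nd (.lf 0x8) (.lf 0)))) (.nd (.nd (.nd (.lf 0xa) (.lf 0x6)) (.nd (.lf 0xa) (.lf 0))) (.nd (.nd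 (.lf 0xc) (.lf 0x7)) (.nd (.lf 0xa) (.lf 0)))))) (.nd (.nd (.nd (.nd (.nd (.lf 0xb) (.lf 0x8)) (.nd (.lf 0x8) (.lf 0))) (.nd (.nd (.lf 0x9) (.lf 0x9)) (.nd (.lf 0xa) (.lf 0)))) (.nd (.nd (.nd (.lf 0xa) (.lf 0x9)) (.nd (.lf 0x6) (.lf 0))) (.nd (.nd (.lf 0x5) (.lf 0x7)) (.nd (.lf 0x9) (.lf 0))))) (.nd (.nd (.nd (.nd (.lf 0x9) (.lf 0x7)) (.nd (.lf 0x6) (.lf 0))) (.nd (.nd (.lf 0x8) (.lf 0xc)) (.nd (.lf 0x8) (.lf 0)))) (.nd (.nd (.nd (.lf 0xa) (.lf 0x8)) (.nd (.lf 0x8) (.lf 0))) (.nd (.nd (.lf 0x7) (.lf 0x9)) (.nd (.lf 0x6) (.lf 0))))))))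
def depT_nbabbaa : Tr := (.nd (.nd (.nd (.nd (.nd (.nd (.nd (.lf 0x6) (.lf 0x8)) (.nd (.lf 0xb) (.lf 0))) (.nd (.nd (.lf 0x8) (.lf 0x8)) (.nd (.lf 0x9) (.lf 0)))) (.nd (.nd (.nd (.lf 0x7) (.lf 0x7)) (.nd (.lf 0x9) (.lf 0))) (.nd (.nd (.lf 0x5) (.lf 0x8)) (.nd (.lf 0x6) (.lf 0))))) (.nd (.nd (.nd (.nd (.lf 0x9) (.lf 0xc)) (.nd (.lf 0x8) (.lf 0))) (.nd (.nd (.lf 0xb) (.lf 0xa)) (.nd (.lf 0x6) (.lf 0)))) (.nd (.nd (.nd (.lf 0xc) (.lf 0x9)) (.nd (.lf 0x5) (.lf 0))) (.nd (.nd (.lf 0xa) (.lf 0x9)) (.nd (.lf 0x9) (.lf 0)))))) (.nd (.nd (.nd (.nd (.nd (.lf 0x7) (.lf 0x8)) (.nd (.lf 0x7) (.lf 0))) (.nd (.nd (.lf 0x9) (.lf 0x8)) (.nd (.lf 0xa) (.lf 0)))) (.nd (.nd (.nd (.lf 0x9) (.lf 0xa)) (.nd (.lf 0x8) (.lf 0))) (.nd (.nd (.lf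 0xd) (.lf 0x8)) (.nd (.lf 0x7) (.lf 0))))) (.nd (.nd (.nd (.nd (.lf 0xc) (.lf 0x7)) (.nd (.lf 0x8) (.lf 0))) (.nd (.nd (.lf 0xb) (.lf 0xb)) (.nd (.lf 0x9) (.lf 0)))) (.nd (.nd (.nd (.lf 0x8) (.lf 0x9)) (.nd (.lf 0xa) (.lf 0))) (.nd (.nd (.lf 0xb) (.lf 0xa)) (.nd (.lf 0xa) (.lf 0))))))) (.nd (.nd (.nd (.nd (.nd (.nd (.lf 0x9) (.lf 0x7)) (.nd (.lf 0xa) (.lf 0))) (.nd (.nd (.lf 0xa) (.lf 0x5)) (.nd (.lf 0x9) (.lf 0)))) (.nd (.nd (.nd (.lf 0xa) (.lf 0x9)) (.nd (.lf 0x3) (.lf 0))) (.nd (.nd (.lf 0x9) (.lf 0x9)) (.nd (.lf 0xa) (.lf 0))))) (.nd (.nd (.nd (.nd (.lf 0x5) (.lf 0xa)) (.nd (.lf 0xc) (.lf 0))) (.nd (.nd (.lf 0xb) (.lf 0xb)) (.nd (.lf 0x4) (.lf 0)))) (.nd (.nd (.nd (.lf 0xb) (.lf 0x7)) (.nd (.lf 0x8) (.lf 0))) (.nd (.nd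 (.lf 0x9) (.lf 0xa)) (.nd (.lf 0xa) (.lf 0)))))) (.nd (.nd (.nd (.nd (.nd (.lf 0xb) (.lf 0x9)) (.nd (.lf 0x5) (.lf 0))) (.nd (.nd (.lf 0xa) (.lf 0x8)) (.nd (.lf 0xb) (.lf 0)))) (.nd (.nd (.nd (.lf 0x8) (.lf 0xa)) (.nd (.lf 0x8) (.lf 0))) (.nd (.nd (.lf 0xc) (.lf 0xb)) (.nd (.lf 0x9) (.lf 0))))) (.nd (.nd (.nd (.nd (.lf 0x5) (.lf 0x7)) (.nd (.lf 0xa) (.lf 0))) (.nd (.nd (.lf 0xb) (.lf 0x8)) (.nd (.lf 0x8) (.lf 0)))) (.nd (.nd (.nd (.lf 0xa) (.lf 0x7)) (.nd (.lf 0xc) (.lf 0))) (.nd (.nd (.lf 0xa) (.lf 0xa)) (.nd (.lf 0xa) (.lf 0))))))))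
def depT_nbabbab : Tr := (.nd (.nd (.nd (.nd (.nd (.nd (.nd (.lf 0xa) (.lf 0xc)) (.nd (.lf 0xb) (.lf 0))) (.nd (.nd (.lf 0x4) (.lf 0x9)) (.nd (.lf 0x7) (.lf 0)))) (.nd (.nd (.nd (.lf 0x7) (.lf 0x7)) (.nd (.lf 0xa) (.lf 0))) (.nd (.nd (.lf 0xa) (.lf 0xa)) (.nd (.lf 0xb) (.lf 0))))) (.nd (.nd (.nd (.nd (.lf 0xa) (.lf 0x8)) (.nd (.lf 0x7) (.lf 0))) (.nd (.nd (.lf 0x9) (.lf 0x9)) (.nd (.lf 0x8) (.lf 0)))) (.nd (.nd (.nd (.lf 0xd) (.lf 0xb)) (.nd (.lf 0x3) (.lf 0))) (.nd (.nd (.lf 0x9) (.lf 0xc)) (.nd (.lf 0xc) (.lf 0)))))) (.nd (.nd (.nd (.nd (.nd (.lf 0xa) (.lf 0xa)) (.nd (.lf 0x9) (.lf 0))) (.nd (.nd (.lf 0xc) (.lf 0x6)) (.nd (.lf 0x9) (.lf 0)))) (.nd (.nd (.nd (.lf 0x9) (.lf 0x8)) (.nd (.lf 0xb) (.lf 0))) (.nd (.nd (.lf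 0x8) (.lf 0x6)) (.nd (.lf 0x9) (.lf 0))))) (.nd (.nd (.nd (.nd (.lf 0x7) (.lf 0xa)) (.nd (.lf 0x8) (.lf 0))) (.nd (.nd (.lf 0x5) (.lf 0xc)) (.nd (.lf 0xc) (.lf 0)))) (.nd (.nd (.nd (.lf 0x9) (.lf 0xa)) (.nd (.lf 0x9) (.lf 0))) (.nd (.nd (.lf 0x8) (.lf 0xc)) (.nd (.lf 0xb) (.lf 0))))))) (.nd (.nd (.nd (.nd (.nd (.nd (.lf 0xc) (.lf 0x9)) (.nd (.lf 0x9) (.lf 0))) (.nd (.nd (.lf 0x8) (.lf 0xb)) (.nd (.lf 0x7) (.lf 0)))) (.nd (.nd (.nd (.lf 0x6) (.lf 0x8)) (.nd (.lf 0x7) (.lf 0))) (.nd (.nd (.lf 0xb) (.lf 0xb)) (.nd (.lf 0xa) (.lf 0))))) (.nd (.nd (.nd (.nd (.lf 0xb) (.lf 0xa)) (.nd (.lf 0x9) (.lf 0))) (.nd (.nd (.lf 0xa) (.lf 0x5)) (.nd (.lf 0xb) (.lf 0)))) (.nd (.nd (.nd (.lf 0xa) (.lf 0xb)) (.nd (.lf 0xa) (.lf 0))) (.nd (.nd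 (.lf 0x7) (.lf 0xa)) (.nd (.lf 0x9) (.lf 0)))))) (.nd (.nd (.nd (.nd (.nd (.lf 0xc) (.lf 0xa)) (.nd (.lf 0x9) (.lf 0))) (.nd (.nd (.lf 0xa) (.lf 0xa)) (.nd (.lf 0x9) (.lf 0)))) (.nd (.nd (.nd (.lf 0xa) (.lf 0x8)) (.nd (.lf 0x6) (.lf 0))) (.nd (.nd (.lf 0xa) (.lf 0x8)) (.nd (.lf 0x9) (.lf 0))))) (.nd (.nd (.nd (.nd (.lf 0x9) (.lf 0xa)) (.nd (.lf 0xb) (.lf 0))) (.nd (.nd (.lf 0x9) (.lf 0xb)) (.nd (.lf 0xa) (.lf 0)))) (.nd (.nd (.nd (.lf 0x8) (.lf 0x8)) (.nd (.lf 0x9) (.lf 0))) (.nd (.nd (.lf 0xa) (.lf 0xb)) (.nd (.lf 0xb) (.lf 0))))))))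
def depT_nbabbba : Tr := (.nd (.nd (.nd (.nd (.nd (.nd (.nd (.lf 0x8) (.lf 0x8)) (.nd (.lf 0x4) (.lf 0))) (.nd (.nd (.lf 0xa) (.lf 0xb)) (.nd (.lf 0xa) (.lf 0)))) (.nd (.nd (.nd (.lf 0x8) (.lf 0x7)) (.nd (.lf 0xb) (.lf 0))) (.nd (.nd (.lf 0x7) (.lf 0xa)) (.nd (.lf 0xb) (.lf 0))))) (.nd (.nd (.nd (.nd (.lf 0x7) (.lf 0xb)) (.nd (.lf 0xb) (.lf 0))) (.nd (.nd (.lf 0x9) (.lf 0x8)) (.nd (.lf 0xa) (.lf 0)))) (.nd (.nd (.nd (.lf 0x7) (.lf 0x2)) (.nd (.lf 0x7) (.lf 0))) (.nd (.nd (.lf 0x5) (.lf 0x7)) (.nd (.lf 0x7) (.lf 0)))))) (.nd (.nd (.nd (.nd (.nd (.lf 0x5) (.lf 0xa)) (.nd (.lf 0x7) (.lf 0))) (.nd (.nd (.lf 0xa) (.lf 0x9)) (.nd (.lf 0x9) (.lf 0)))) (.nd (.nd (.nd (.lf 0x9) (.lf 0xa)) (.nd (.lf 0x9) (.lf 0))) (.nd (.nd (.lf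 0x7) (.lf 0x8)) (.nd (.lf 0xb) (.lf 0))))) (.nd (.nd (.nd (.nd (.lf 0x9) (.lf 0xa)) (.nd (.lf 0x9) (.lf 0))) (.nd (.nd (.lf 0xc) (.lf 0x9)) (.nd (.lf 0xb) (.lf 0)))) (.nd (.nd (.nd (.lf 0xa) (.lf 0x6)) (.nd (.lf 0x9) (.lf 0))) (.nd (.nd (.lf 0xc) (.lf 0x9)) (.nd (.lf 0x3) (.lf 0))))))) (.nd (.nd (.nd (.nd (.nd (.nd (.lf 0xc) (.lf 0x9)) (.nd (.lf 0x8) (.lf 0))) (.nd (.nd (.lf 0xb) (.lf 0xa)) (.nd (.lf 0xc) (.lf 0)))) (.nd (.nd (.nd (.lf 0x7) (.lf 0x8)) (.nd (.lf 0x8) (.lf 0))) (.nd (.nd (.lf 0x7) (.lf 0xb)) (.nd (.lf 0x6) (.lf 0))))) (.nd (.nd (.nd (.nd (.lf 0x5) (.lf 0x7)) (.nd (.lf 0x9) (.lf 0))) (.nd (.nd (.lf 0xb) (.lf 0x8)) (.nd (.lf 0x7) (.lf 0)))) (.nd (.nd (.nd (.lf 0x7) (.lf 0x9)) (.nd (.lf 0x6) (.lf 0))) (.nd (.nd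 (.lf 0xb) (.lf 0xa)) (.nd (.lf 0xa) (.lf 0)))))) (.nd (.nd (.nd (.nd (.nd (.lf 0x5) (.lf 0xa)) (.nd (.lf 0xc) (.lf 0))) (.nd (.nd (.lf 0x9) (.lf 0x8)) (.nd (.lf 0xc) (.lf 0)))) (.nd (.nd (.nd (.lf 0xc) (.lf 0x7)) (.nd (.lf 0x5) (.lf 0))) (.nd (.nd (.lf 0xb) (.lf 0x7)) (.nd (.lf 0xb) (.lf 0))))) (.nd (.nd (.nd (.nd (.lf 0x9) (.lf 0xb)) (.nd (.lf 0xc) (.lf 0))) (.nd (.nd (.lf 0xb) (.lf 0xc)) (.nd (.lf 0xc) (.lf 0)))) (.nd (.nd (.nd (.lf 0xb) (.lf 0xa)) (.nd (.lf 0x4) (.lf 0))) (.nd (.nd (.lf 0xb) (.lf 0x7)) (.nd (.lf 0xb) (.lf 0))))))))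
def depT_nbabbbb : Tr := (.nd (.nd (.nd (.nd (.nd (.nd (.nd (.lf 0x7) (.lf 0xa)) (.nd (.lf 0x9) (.lf 0))) (.nd (.nd (.lf 0xa) (.lf 0xb)) (.nd (.lf 0xa) (.lf 0)))) (.nd (.nd (.nd (.lf 0x4) (.lf 0x9)) (.nd (.lf 0xc) (.lf 0))) (.nd (.nd (.lf 0xb) (.lf 0x9)) (.nd (.lf 0x6) (.lf 0))))) (.nd (.nd (.nd (.nd (.lf 0xc) (.lf 0xa)) (.nd (.lf 0x8) (.lf 0))) (.nd (.nd (.lf 0x9) (.lf 0x8)) (.nd (.lf 0x6) (.lf 0)))) (.nd (.nd (.nd (.lf 0x7) (.lf 0x8)) (.nd (.lf 0x9) (.lf 0))) (.nd (.nd (.lf 0xb) (.lf 0xb)) (.nd (.lf 0xb) (.lf 0)))))) (.nd (.nd (.nd (.nd (.nd (.lf 0x7) (.lf 0xa)) (.nd (.lf 0x6) (.lf 0))) (.nd (.nd (.lf 0xa) (.lf 0xa)) (.nd (.lf 0x8) (.lf 0)))) (.nd (.nd (.nd (.lf 0x9) (.lf 0x9)) (.nd (.lf 0x7) (.lf 0))) (.nd (.nd (.lf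 0x9) (.lf 0x9)) (.nd (.lf 0xa) (.lf 0))))) (.nd (.nd (.nd (.nd (.lf 0x9) (.lf 0xa)) (.nd (.lf 0x7) (.lf 0))) (.nd (.nd (.lf 0xb) (.lf 0x4)) (.nd (.lf 0x9) (.lf 0)))) (.nd (.nd (.nd (.lf 0xa) (.lf 0xa)) (.nd (.lf 0x8) (.lf 0))) (.nd (.nd (.lf 0x3) (.lf 0xa)) (.nd (.lf 0xa) (.lf 0))))))) (.nd (.nd (.nd (.nd (.nd (.nd (.lf 0x7) (.lf 0xb)) (.nd (.lf 0xa) (.lf 0))) (.nd (.nd (.lf 0xb) (.lf 0xa)) (.nd (.lf 0xb) (.lf 0)))) (.nd (.nd (.nd (.lf 0xb) (.lf 0x9)) (.nd (.lf 0xb) (.lf 0))) (.nd (.nd (.lf 0xa) (.lf 0x7)) (.nd (.lf 0xb) (.lf 0))))) (.nd (.nd (.nd (.nd (.lf 0xb) (.lf 0xa)) (.nd (.lf 0x9) (.lf 0))) (.nd (.nd (.lf 0x8) (.lf 0x9)) (.nd (.lf 0x8) (.lf 0)))) (.nd (.nd (.nd (.lf 0x7) (.lf 0xb)) (.nd (.lf 0xa) (.lf 0))) (.nd (.nd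 (.lf 0x6) (.lf 0xa)) (.nd (.lf 0x8) (.lf 0)))))) (.nd (.nd (.nd (.nd (.nd (.lf 0x9) (.lf 0x9)) (.nd (.lf 0x7) (.lf 0))) (.nd (.nd (.lf 0xb) (.lf 0xa)) (.nd (.lf 0xa) (.lf 0)))) (.nd (.nd (.nd (.lf 0x6) (.lf 0xa)) (.nd (.lf 0x9) (.lf 0))) (.nd (.nd (.lf 0x7) (.lf 0xa)) (.nd (.lf 0x7) (.lf 0))))) (.nd (.nd (.nd (.nd (.lf 0xa) (.lf 0x9)) (.nd (.lf 0x7) (.lf 0))) (.nd (.nd (.lf 0x7) (.lf 0x7)) (.nd (.lf 0x5) (.lf 0)))) (.nd (.nd (.nd (.lf 0x9) (.lf 0x6)) (.nd (.lf 0xa) (.lf 0))) (.nd (.nd (.lf 0xb) (.lf 0xb)) (.nd (.lf 0xb) (.lf 0))))))))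
def depT_nbbaaaa : Tr := (.nd (.nd (.nd (.nd (.nd (.nd (.nd (.lf 0x0) (.lf 0xa)) (.nd (.lf 0xb) (.lf 0xb))) (.nd (.nd (.lf 0xa) (.lf 0xa)) (.nd (.lf 0xa) (.lf 0)))) (.nd (.nd (.nd (.lf 0xc) (.lf 0x8)) (.nd (.lf 0x9) (.lf 0))) (.nd (.nd (.lf 0xa) (.lf 0x7)) (.nd (.lf 0x9) (.lf 0))))) (.nd (.nd (.nd (.nd (.lf 0x8) (.lf 0xb)) (.nd (.lf 0x8) (.lf 0))) (.nd (.nd (.lf 0x8) (.lf 0x5)) (.nd (.lf 0x7) (.lf 0)))) (.nd (.nd (.nd (.lf 0x9) (.lf 0xc)) (.nd (.lf 0x7) (.lf 0))) (.nd (.nd (.lf 0x6) (.lf 0xb)) (.nd (.lf 0x8) (.lf 0)))))) (.nd (.nd (.nd (.nd (.nd (.lf 0xb) (.lf 0x6)) (.nd (.lf 0xb) (.lf 0))) (.nd (.nd (.lf 0xc) (.lf 0x8)) (.nd (.lf 0xb) (.lf 0)))) (.nd (.nd (.nd (.lf 0xb) (.lf 0x5)) (.nd (.lf 0x9) (.lf 0))) (.nd (.nd (.lf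 0xb) (.lf 0x8)) (.nd (.lf 0xb) (.lf 0))))) (.nd (.nd (.nd (.nd (.lf 0x7) (.lf 0x9)) (.nd (.lf 0x6) (.lf 0))) (.nd (.nd (.lf 0x9) (.lf 0x9)) (.nd (.lf 0x8) (.lf 0)))) (.nd (.nd (.nd (.lf 0xb) (.lf 0xa)) (.nd (.lf 0x8) (.lf 0))) (.nd (.nd (.lf 0xc) (.lf 0x9)) (.nd (.lf 0x9) (.lf 0))))))) (.nd (.nd (.nd (.nd (.nd (.nd (.lf 0xb) (.lf 0x9)) (.nd (.lf 0xc) (.lf 0))) (.nd (.nd (.lf 0xc) (.lf 0xb)) (.nd (.lf 0x7) (.lf 0)))) (.nd (.nd (.nd (.lf 0x7) (.lf 0x9)) (.nd (.lf 0xa) (.lf 0))) (.nd (.nd (.lf 0x6) (.lf 0xb)) (.nd (.lf 0xc) (.lf 0))))) (.nd (.nd (.nd (.nd (.lf 0xd) (.lf 0xa)) (.nd (.lf 0xb) (.lf 0))) (.nd (.nd (.lf 0x8) (.lf 0xd)) (.nd (.lf 0x8) (.lf 0)))) (.nd (.nd (.nd (.lf 0x9) (.lf 0xb)) (.nd (.lf 0x8) (.lf 0))) (.nd (.nd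 (.lf 0xa) (.lf 0xb)) (.nd (.lf 0x9) (.lf 0)))))) (.nd (.nd (.nd (.nd (.nd (.lf 0xa) (.lf 0x7)) (.nd (.lf 0xa) (.lf 0))) (.nd (.nd (.lf 0x8) (.lf 0x7)) (.nd (.lf 0x3) (.lf 0)))) (.nd (.nd (.nd (.lf 0x9) (.lf 0xb)) (.nd (.lf 0x8) (.lf 0))) (.nd (.nd (.lf 0x9) (.lf 0x5)) (.nd (.lf 0x6) (.lf 0))))) (.nd (.nd (.nd (.nd (.lf 0x8) (.lf 0xb)) (.nd (.lf 0xa) (.lf 0))) (.nd (.nd (.lf 0xa) (.lf 0x9)) (.nd (.lf 0xa) (.lf 0)))) (.nd (.nd (.nd (.lf 0x4) (.lf 0x9)) (.nd (.lf 0x8) (.lf 0))) (.nd (.nd (.lf 0x7) (.lf 0x7)) (.nd (.lf 0x4) (.lf 0))))))))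
def depT_nbbaaab : Tr := (.nd (.nd (.nd (.nd (.nd (.nd (.nd (.lf 0xb) (.lf 0x9)) (.nd (.lf 0x9) (.lf 0))) (.nd (.nd (.lf 0xb) (.lf 0x7)) (.nd (.lf 0xc) (.lf 0)))) (.nd (.nd (.nd (.lf 0xb) (.lf 0xb)) (.nd (.lf 0x5) (.lf 0))) (.nd (.nd (.lf 0x9) (.lf 0x7)) (.nd (.lf 0xa) (.lf 0))))) (.nd (.nd (.nd (.nd (.lf 0xa) (.lf 0x4)) (.nd (.lf 0x8) (.lf 0))) (.nd (.nd (.lf 0x5) (.lf 0x8)) (.nd (.lf 0x8) (.lf 0)))) (.nd (.nd (.nd (.lf 0x9) (.lf 0xb)) (.nd (.lf 0xc) (.lf 0))) (.nd (.nd (.lf 0x8) (.lf 0x8)) (.nd (.lf 0xa) (.lf 0)))))) (.nd (.nd (.nd (.nd (.nd (.lf 0x9) (.lf 0x6)) (.nd (.lf 0x4) (.lf 0))) (.nd (.nd (.lf 0xa) (.lf 0x8)) (.nd (.lf 0xc) (.lf 0)))) (.nd (.nd (.nd (.lf 0xc) (.lf 0xb)) (.nd (.lf 0x5) (.lf 0))) (.nd (.nd (.lf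 0x6) (.lf 0x9)) (.nd (.lf 0xa) (.lf 0))))) (.nd (.nd (.nd (.nd (.lf 0xa) (.lf 0xa)) (.nd (.lf 0x6) (.lf 0))) (.nd (.nd (.lf 0x9) (.lf 0x9)) (.nd (.lf 0xc) (.lf 0)))) (.nd (.nd (.nd (.lf 0x8) (.lf 0x9)) (.nd (.lf 0xc) (.lf 0))) (.nd (.nd (.lf 0x8) (.lf 0xb)) (.nd (.lf 0xb) (.lf 0))))))) (.nd (.nd (.nd (.nd (.nd (.nd (.lf 0x4) (.lf 0x8)) (.nd (.lf 0xb) (.lf 0))) (.nd (.nd (.lf 0xb) (.lf 0xc)) (.nd (.lf 0x9) (.lf 0)))) (.nd (.nd (.nd (.lf 0xb) (.lf 0x8)) (.nd (.lf 0x7) (.lf 0))) (.nd (.nd (.lf 0xb) (.lf 0x9)) (.nd (.lf 0xa) (.lf 0))))) (.nd (.nd (.nd (.nd (.lf 0xa) (.lf 0xa)) (.nd (.lf 0xa) (.lf 0))) (.nd (.nd (.lf 0xb) (.lf 0x7)) (.nd (.lf 0x6) (.lf 0)))) (.nd (.nd (.nd (.lf 0x5) (.lf 0x8)) (.nd (.lf 0x9) (.lf 0))) (.nd (.nd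 (.lf 0x8) (.lf 0x9)) (.nd (.lf 0xb) (.lf 0)))))) (.nd (.nd (.nd (.nd (.nd (.lf 0xc) (.lf 0x3)) (.nd (.lf 0x9) (.lf 0))) (.nd (.nd (.lf 0xb) (.lf 0xa)) (.nd (.lf 0x7) (.lf 0)))) (.nd (.nd (.nd (.lf 0xc) (.lf 0x8)) (.nd (.lf 0x9) (.lf 0))) (.nd (.nd (.lf 0xb) (.lf 0x5)) (.nd (.lf 0xa) (.lf 0))))) (.nd (.nd (.nd (.nd (.lf 0x5) (.lf 0xa)) (.nd (.lf 0x8) (.lf 0))) (.nd (.nd (.lf 0x7) (.lf 0x8)) (.nd (.lf 0x5) (.lf 0)))) (.nd (.nd (.nd (.lf 0xb) (.lf 0x5)) (.nd (.lf 0xa) (.lf 0))) (.nd (.nd (.lf 0xa) (.lf 0xc)) (.nd (.lf 0x8) (.lf 0))))))))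
def depT_nbbaaba : Tr := (.nd (.nd (.nd (.nd (.nd (.nd (.nd (.lf 0x8) (.lf 0x6)) (.nd (.lf 0xa) (.lf 0))) (.nd (.nd (.lf 0xb) (.lf 0xa)) (.nd (.lf 0xb) (.lf 0)))) (.nd (.nd (.nd (.lf 0x6) (.lf 0xb)) (.nd (.lf 0x5) (.lf 0))) (.nd (.nd (.lf 0x8) (.lf 0x9)) (.nd (.lf 0xa) (.lf 0))))) (.nd (.nd (.nd (.nd (.lf 0xa) (.lf 0x7)) (.nd (.lf 0xa) (.lf 0))) (.nd (.nd (.lf 0x6) (.lf 0x2)) (.nd (.lf 0x8) (.lf 0)))) (.nd (.nd (.nd (.lf 0x9) (.lf 0x9)) (.nd (.lf 0xb) (.lf 0))) (.nd (.nd (.lf 0xa) (.lf 0x9)) (.nd (.lf 0x8) (.lf 0)))))) (.nd (.nd (.nd (.nd (.nd (.lf 0xb) (.lf 0x7)) (.nd (.lf 0xd) (.lf 0))) (.nd (.nd (.lf 0x8) (.lf 0xc)) (.nd (.lf 0xe) (.lf 0)))) (.nd (.nd (.nd (.lf 0xb) (.lf 0xb)) (.nd (.lf 0x5) (.lf 0))) (.nd (.nd (.lf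 0xa) (.lf 0x8)) (.nd (.lf 0xc) (.lf 0))))) (.nd (.nd (.nd (.nd (.lf 0x8) (.lf 0xb)) (.nd (.lf 0x8) (.lf 0))) (.nd (.nd (.lf 0x9) (.lf 0x9)) (.nd (.lf 0xa) (.lf 0)))) (.nd (.nd (.nd (.lf 0x9) (.lf 0xb)) (.nd (.lf 0xa) (.lf 0))) (.nd (.nd (.lf 0x6) (.lf 0xb)) (.nd (.lf 0x5) (.lf 0))))))) (.nd (.nd (.nd (.nd (.nd (.nd (.lf 0x9) (.lf 0xa)) (.nd (.lf 0xb) (.lf 0))) (.nd (.nd (.lf 0x4) (.lf 0xa)) (.nd (.lf 0x7) (.lf 0)))) (.nd (.nd (.nd (.lf 0x8) (.lf 0x7)) (.nd (.lf 0xb) (.lf 0))) (.nd (.nd (.lf 0x8) (.lf 0xa)) (.nd (.lf 0xa) (.lf 0))))) (.nd (.nd (.nd (.nd (.lf 0x8) (.lf 0x8)) (.nd (.lf 0xb) (.lf 0))) (.nd (.nd (.lf 0x9) (.lf 0x7)) (.nd (.lf 0x8) (.lf 0)))) (.nd (.nd (.nd (.lf 0xa) (.lf 0xb)) (.nd (.lf 0xa) (.lf 0))) (.nd (.nd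 (.lf 0xa) (.lf 0xa)) (.nd (.lf 0x7) (.lf 0)))))) (.nd (.nd (.nd (.nd (.nd (.lf 0xb) (.lf 0x8)) (.nd (.lf 0x7) (.lf 0))) (.nd (.nd (.lf 0xc) (.lf 0xd)) (.nd (.lf 0x7) (.lf 0)))) (.nd (.nd (.nd (.lf 0xc) (.lf 0xb)) (.nd (.lf 0xa) (.lf 0))) (.nd (.nd (.lf 0xb) (.lf 0xa)) (.nd (.lf 0x9) (.lf 0))))) (.nd (.nd (.nd (.nd (.lf 0x4) (.lf 0x7)) (.nd (.lf 0x7) (.lf 0))) (.nd (.nd (.lf 0xc) (.lf 0x4)) (.nd (.lf 0x8) (.lf 0)))) (.nd (.nd (.nd (.lf 0x9) (.lf 0x9)) (.nd (.lf 0xb) (.lf 0))) (.nd (.nd (.lf 0x8) (.lf 0xb)) (.nd (.lf 0xa) (.lf 0))))))))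
def depT_nbbaabb : Tr := (.nd (.nd (.nd (.nd (.nd (.nd (.nd (.lf 0x7) (.lf 0x5)) (.nd (.lf 0x8) (.lf 0))) (.nd (.nd (.lf 0x9) (.lf 0x7)) (.nd (.lf 0x8) (.lf 0)))) (.nd (.nd (.nd (.lf 0x8) (.lf 0x8)) (.nd (.lf 0x4) (.lf 0))) (.nd (.nd (.lf 0xb) (.lf 0xb)) (.nd (.lf 0x8) (.lf 0))))) (.nd (.nd (.nd (.nd (.lf 0x8) (.lf 0xd)) (.nd (.lf 0xb) (.lf 0))) (.nd (.nd (.lf 0xa) (.lf 0x7)) (.nd (.lf 0x9) (.lf 0)))) (.nd (.nd (.nd (.lf 0xa) (.lf 0xb)) (.nd (.lf 0x7) (.lf 0))) (.nd (.nd (.lf 0x9) (.lf 0xa)) (.nd (.lf 0x9) (.lf 0)))))) (.nd (.nd (.nd (.nd (.nd (.lf 0x9) (.lf 0xb)) (.nd (.lf 0xc) (.lf 0))) (.nd (.nd (.lf 0x8) (.lf 0x8)) (.nd (.lf 0xa) (.lf 0)))) (.nd (.nd (.nd (.lf 0x9) (.lf 0x7)) (.nd (.lf 0x9) (.lf 0))) (.nd (.nd (.lf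 0x8) (.lf 0x6)) (.nd (.lf 0xb) (.lf 0))))) (.nd (.nd (.nd (.nd (.lf 0xa) (.lf 0xb)) (.nd (.lf 0xc) (.lf 0))) (.nd (.nd (.lf 0x9) (.lf 0x9)) (.nd (.lf 0xb) (.lf 0)))) (.nd (.nd (.nd (.lf 0xc) (.lf 0x5)) (.nd (.lf 0x5) (.lf 0))) (.nd (.nd (.lf 0x8) (.lf 0x6)) (.nd (.lf 0xa) (.lf 0))))))) (.nd (.nd (.nd (.nd (.nd (.nd (.lf 0x1) (.lf 0x9)) (.nd (.lf 0x8) (.lf 0))) (.nd (.nd (.lf 0x7) (.lf 0x8)) (.nd (.lf 0x8) (.lf 0)))) (.nd (.nd (.nd (.lf 0xb) (.lf 0xc)) (.nd (.lf 0xa) (.lf 0))) (.nd (.nd (.lf 0xa) (.lf 0x9)) (.nd (.lf 0xb) (.lf 0))))) (.nd (.nd (.nd (.nd (.lf 0xb) (.lf 0xa)) (.nd (.lf 0x9) (.lf 0))) (.nd (.nd (.lf 0x8) (.lf 0x8)) (.nd (.lf 0xc) (.lf 0)))) (.nd (.nd (.nd (.lf 0xc) (.lf 0x8)) (.nd (.lf 0x9) (.lf 0))) (.nd (.nd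 (.lf 0xa) (.lf 0x8)) (.nd (.lf 0xa) (.lf 0)))))) (.nd (.nd (.nd (.nd (.nd (.lf 0xb) (.lf 0x9)) (.nd (.lf 0xc) (.lf 0))) (.nd (.nd (.lf 0x7) (.lf 0x7)) (.nd (.lf 0xb) (.lf 0)))) (.nd (.nd (.nd (.lf 0xc) (.lf 0x6)) (.nd (.lf 0x6) (.lf 0))) (.nd (.nd (.lf 0x5) (.lf 0xb)) (.nd (.lf 0x7) (.lf 0))))) (.nd (.nd (.nd (.nd (.lf 0xc) (.lf 0x9)) (.nd (.lf 0x9) (.lf 0))) (.nd (.nd (.lf 0x7) (.lf 0x9)) (.nd (.lf 0x9) (.lf 0)))) (.nd (.nd (.nd (.lf 0xa) (.lf 0xa)) (.nd (.lf 0x9) (.lf 0))) (.nd (.nd (.lf 0xb) (.lf 0xd)) (.nd (.lf 0xb) (.lf 0))))))))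
def depT_nbbabaa : Tr := (.nd (.nd (.nd (.nd (.nd (.nd (.nd (.lf 0x9) (.lf 0x7)) (.nd (.lf 0x7) (.lf 0x7))) (.nd (.nd (.lf 0x9) (.lf 0x3)) (.nd (.lf 0x9) (.lf 0)))) (.nd (.nd (.nd (.lf 0x6) (.lf 0xb)) (.nd (.lf 0xa) (.lf 0))) (.nd (.nd (.lf 0xa) (.lf 0xa)) (.nd (.lf 0xc) (.lf 0))))) (.nd (.nd (.nd (.nd (.lf 0xa) (.lf 0xa)) (.nd (.lf 0xb) (.lf 0))) (.nd (.nd (.lf 0xa) (.lf 0x9)) (.nd (.lf 0xb) (.lf 0)))) (.nd (.nd (.nd (.lf 0x6) (.lf 0xa)) (.nd (.lf 0xa) (.lf 0))) (.nd (.nd (.lf 0xa) (.lf 0xa)) (.nd (.lf 0xa) (.lf 0)))))) (.nd (.nd (.nd (.nd (.nd (.lf 0xa) (.lf 0x8)) (.nd (.lf 0x9) (.lf 0))) (.nd (.nd (.lf 0xa) (.lf 0xb)) (.nd (.lf 0xa) (.lf 0)))) (.nd (.nd (.nd (.lf 0xb) (.lf 0xa)) (.nd (.lf 0x9) (.lf 0))) (.nd (.nd (.lf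 0xa) (.lf 0x9)) (.nd (.lf 0x7) (.lf 0))))) (.nd (.nd (.nd (.nd (.lf 0x6) (.lf 0xa)) (.nd (.lf 0x7) (.lf 0))) (.nd (.nd (.lf 0xb) (.lf 0xb)) (.nd (.lf 0x4) (.lf 0)))) (.nd (.nd (.nd (.lf 0xc) (.lf 0x8)) (.nd (.lf 0x8) (.lf 0))) (.nd (.nd (.lf 0x8) (.lf 0xc)) (.nd (.lf 0x7) (.lf 0))))))) (.nd (.nd (.nd (.nd (.nd (.nd (.lf 0xa) (.lf 0xc)) (.nd (.lf 0x9) (.lf 0))) (.nd (.nd (.lf 0x8) (.lf 0xa)) (.nd (.lf 0x8) (.lf 0)))) (.nd (.nd (.nd (.lf 0x8) (.lf 0x9)) (.nd (.lf 0x9) (.lf 0))) (.nd (.nd (.lf 0x9) (.lf 0xb)) (.nd (.lf 0xa) (.lf 0))))) (.nd (.nd (.nd (.nd (.lf 0xd) (.lf 0x8)) (.nd (.lf 0xb) (.lf 0))) (.nd (.nd (.lf 0x7) (.lf 0x7)) (.nd (.lf 0x9) (.lf 0)))) (.nd (.nd (.nd (.lf 0xa) (.lf 0x7)) (.nd (.lf 0xa) (.lf 0))) (.nd (.nd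 (.lf 0xc) (.lf 0x6)) (.nd (.lf 0xb) (.lf 0)))))) (.nd (.nd (.nd (.nd (.nd (.lf 0xb) (.lf 0x9)) (.nd (.lf 0x9) (.lf 0))) (.nd (.nd (.lf 0xa) (.lf 0x8)) (.nd (.lf 0x8) (.lf 0)))) (.nd (.nd (.nd (.lf 0x9) (.lf 0xa)) (.nd (.lf 0x9) (.lf 0))) (.nd (.nd (.lf 0xa) (.lf 0xb)) (.nd (.lf 0x9) (.lf 0))))) (.nd (.nd (.nd (.nd (.lf 0xa) (.lf 0x9)) (.nd (.lf 0x8) (.lf 0))) (.nd (.nd (.lf 0x9) (.lf 0x9)) (.nd (.lf 0x9) (.lf 0)))) (.nd (.nd (.nd (.lf 0xb) (.lf 0x6)) (.nd (.lf 0x6) (.lf 0))) (.nd (.nd (.lf 0x7) (.lf 0x3)) (.nd (.lf 0xb) (.lf 0))))))))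
def depT_nbbabab : Tr := (.nd (.nd (.nd (.nd (.nd (.nd (.nd (.lf 0xb) (.lf 0x5)) (.nd (.lf 0x6) (.lf 0))) (.nd (.nd (.lf 0xc) (.lf 0x9)) (.nd (.lf 0xc) (.lf 0)))) (.nd (.nd (.nd (.lf 0x8) (.lf 0x8)) (.nd (.lf 0x7) (.lf 0))) (.nd (.nd (.lf 0xa) (.lf 0x8)) (.nd (.lf 0xa) (.lf 0))))) (.nd (.nd (.nd (.nd (.lf 0x7) (.lf 0x5)) (.nd (.lf 0xa) (.lf 0))) (.nd (.nd (.lf 0x9) (.lf 0xb)) (.nd (.lf 0xb) (.lf 0)))) (.nd (.nd (.nd (.lf 0xa) (.lf 0x9)) (.nd (.lf 0x9) (.lf 0))) (.nd (.nd (.lf 0x7) (.lf 0x7)) (.nd (.lf 0xa) (.lf 0)))))) (.nd (.nd (.nd (.nd (.nd (.lf 0x6) (.lf 0xb)) (.nd (.lf 0x9) (.lf 0))) (.nd (.nd (.lf 0x8) (.lf 0x7)) (.nd (.lf 0xc) (.lf 0)))) (.nd (.nd (.nd (.lf 0xb) (.lf 0xb)) (.nd (.lf 0xc) (.lf 0))) (.nd (.nd (.lf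 0x4) (.lf 0xa)) (.nd (.lf 0x9) (.lf 0))))) (.nd (.nd (.nd (.nd (.lf 0x6) (.lf 0x4)) (.nd (.lf 0xa) (.lf 0))) (.nd (.nd (.lf 0x7) (.lf 0x9)) (.nd (.lf 0x7) (.lf 0)))) (.nd (.nd (.nd (.lf 0xb) (.lf 0xa)) (.nd (.lf 0x9) (.lf 0))) (.nd (.nd (.lf 0x9) (.lf 0xc)) (.nd (.lf 0x6) (.lf 0))))))) (.nd (.nd (.nd (.nd (.nd (.nd (.lf 0x9) (.lf 0x7)) (.nd (.lf 0x9) (.lf 0))) (.nd (.nd (.lf 0xa) (.lf 0x9)) (.nd (.lf 0x8) (.lf 0)))) (.nd (.nd (.nd (.lf 0xb) (.lf 0x7)) (.nd (.lf 0xa) (.lf 0))) (.nd (.nd (.lf 0xb) (.lf 0x9)) (.nd (.lf 0x8) (.lf 0))))) (.nd (.nd (.nd (.nd (.lf 0x8) (.lf 0x7)) (.nd (.lf 0x7) (.lf 0))) (.nd (.nd (.lf 0x9) (.lf 0xa)) (.nd (.lf 0xa) (.lf 0)))) (.nd (.nd (.nd (.lf 0xa) (.lf 0x8)) (.nd (.lf 0x6) (.lf 0))) (.nd (.nd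 (.lf 0x8) (.lf 0xa)) (.nd (.lf 0xb) (.lf 0)))))) (.nd (.nd (.nd (.nd (.nd (.lf 0xd) (.lf 0x2)) (.nd (.lf 0x6) (.lf 0))) (.nd (.nd (.lf 0x9) (.lf 0xb)) (.nd (.lf 0xa) (.lf 0)))) (.nd (.nd (.nd (.lf 0x7) (.lf 0xb)) (.nd (.lf 0xa) (.lf 0))) (.nd (.nd (.lf 0xb) (.lf 0xa)) (.nd (.lf 0x9) (.lf 0))))) (.nd (.nd (.nd (.nd (.lf 0x6) (.lf 0xa)) (.nd (.lf 0xc) (.lf 0))) (.nd (.nd (.lf 0x8) (.lf 0x5)) (.nd (.lf 0x8) (.lf 0)))) (.nd (.nd (.nd (.lf 0x6) (.lf 0x9)) (.nd (.lf 0xa) (.lf 0))) (.nd (.nd (.lf 0x9) (.lf 0xb)) (.nd (.lf 0xa) (.lf 0))))))))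
def depT_nbbabba : Tr := (.nd (.nd (.nd (.nd (.nd (.nd (.nd (.lf 0x8) (.lf 0x6)) (.nd (.lf 0xb) (.lf 0))) (.nd (.nd (.lf 0x8) (.lf 0xa)) (.nd (.lf 0x7) (.lf 0)))) (.nd (.nd (.nd (.lf 0x8) (.lf 0x8)) (.nd (.lf 0xa) (.lf 0))) (.nd (.nd (.lf 0xb) (.lf 0xa)) (.nd (.lf 0x9) (.lf 0))))) (.nd (.nd (.nd (.nd (.lf 0x9) (.lf 0xb)) (.nd (.lf 0xb) (.lf 0))) (.nd (.nd (.lf 0x3) (.lf 0x8)) (.nd (.lf 0xb) (.lf 0)))) (.nd (.nd (.nd (.lf 0x7) (.lf 0x8)) (.nd (.lf 0x9) (.lf 0))) (.nd (.nd (.lf 0xb) (.lf 0xb)) (.nd (.lf 0x9) (.lf 0)))))) (.nd (.nd (.nd (.nd (.nd (.lf 0x8) (.lf 0xb)) (.nd (.lf 0xd) (.lf 0))) (.nd (.nd (.lf 0x7) (.lf 0xa)) (.nd (.lf 0x9) (.lf 0)))) (.nd (.nd (.nd (.lf 0x9) (.lf 0x8)) (.nd (.lf 0xa) (.lf 0))) (.nd (.nd (.lf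 0xb) (.lf 0x9)) (.nd (.lf 0xb) (.lf 0))))) (.nd (.nd (.nd (.nd (.lf 0x7) (.lf 0x8)) (.nd (.lf 0x8) (.lf 0))) (.nd (.nd (.lf 0x8) (.lf 0x8)) (.nd (.lf 0xb) (.lf 0)))) (.nd (.nd (.nd (.lf 0x9) (.lf 0xa)) (.nd (.lf 0x7) (.lf 0))) (.nd (.nd (.lf 0x6) (.lf 0xd)) (.nd (.lf 0x9) (.lf 0))))))) (.nd (.nd (.nd (.nd (.nd (.nd (.lf 0x5) (.lf 0xa)) (.nd (.lf 0xb) (.lf 0))) (.nd (.nd (.lf 0xa) (.lf 0xa)) (.nd (.lf 0x8) (.lf 0)))) (.nd (.nd (.nd (.lf 0x9) (.lf 0x9)) (.nd (.lf 0x9) (.lf 0))) (.nd (.nd (.lf 0x9) (.lf 0x8)) (.nd (.lf 0x9) (.lf 0))))) (.nd (.nd (.nd (.nd (.lf 0xc) (.lf 0x5)) (.nd (.lf 0xb) (.lf 0))) (.nd (.nd (.lf 0xa) (.lf 0x8)) (.nd (.lf 0x8) (.lf 0)))) (.nd (.nd (.nd (.lf 0xa) (.lf 0xa)) (.nd (.lf 0x8) (.lf 0))) (.nd (.nd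 (.lf 0xc) (.lf 0x9)) (.nd (.lf 0x9) (.lf 0)))))) (.nd (.nd (.nd (.nd (.nd (.lf 0x6) (.lf 0x8)) (.nd (.lf 0x9) (.lf 0))) (.nd (.nd (.lf 0x8) (.lf 0xa)) (.nd (.lf 0xa) (.lf 0)))) (.nd (.nd (.nd (.lf 0xa) (.lf 0x9)) (.nd (.lf 0xa) (.lf 0))) (.nd (.nd (.lf 0x8) (.lf 0x8)) (.nd (.lf 0x8) (.lf 0))))) (.nd (.nd (.nd (.nd (.lf 0x8) (.lf 0x7)) (.nd (.lf 0x5) (.lf 0))) (.nd (.nd (.lf 0xb) (.lf 0x6)) (.nd (.lf 0x9) (.lf 0)))) (.nd (.nd (.nd (.lf 0x8) (.lf 0x8)) (.nd (.lf 0x8) (.lf 0))) (.nd (.nd (.lf 0x8) (.lf 0x4)) (.nd (.lf 0xa) (.lf 0))))))))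
def depT_nbbabbb : Tr := (.nd (.nd (.nd (.nd (.nd (.nd (.nd (.lf 0xb) (.lf 0xb)) (.nd (.lf 0x8) (.lf 0))) (.nd (.nd (.lf 0xb) (.lf 0x6)) (.nd (.lf 0xc) (.lf 0)))) (.nd (.nd (.nd (.lf 0x5) (.lf 0x9)) (.nd (.lf 0xc) (.lf 0))) (.nd (.nd (.lf 0x9) (.lf 0xb)) (.nd (.lf 0xa) (.lf 0))))) (.nd (.nd (.nd (.nd (.lf 0xc) (.lf 0xb)) (.nd (.lf 0x9) (.lf 0))) (.nd (.nd (.lf 0xa) (.lf 0x8)) (.nd (.lf 0x4) (.lf 0)))) (.nd (.nd (.nd (.lf 0xa) (.lf 0xa)) (.nd (.lf 0x4) (.lf 0))) (.nd (.nd (.lf 0xa) (.lf 0xa)) (.nd (.lf 0x9) (.lf 0)))))) (.nd (.nd (.nd (.nd (.nd (.lf 0xb) (.lf 0xc)) (.nd (.lf 0x7) (.lf 0))) (.nd (.nd (.lf 0xb) (.lf 0x9)) (.nd (.lf 0x8) (.lf 0)))) (.nd (.nd (.nd (.lf 0xa) (.lf 0x9)) (.nd (.lf 0xa) (.lf 0))) (.nd (.nd (.lf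 0x5) (.lf 0x9)) (.nd (.lf 0x9) (.lf 0))))) (.nd (.nd (.nd (.nd (.lf 0x9) (.lf 0x9)) (.nd (.lf 0xb) (.lf 0))) (.nd (.nd (.lf 0xa) (.lf 0x7)) (.nd (.lf 0xb) (.lf 0)))) (.nd (.nd (.nd (.lf 0x9) (.lf 0xb)) (.nd (.lf 0x9) (.lf 0))) (.nd (.nd (.lf 0xc) (.lf 0xa)) (.nd (.lf 0xc) (.lf 0))))))) (.nd (.nd (.nd (.nd (.nd (.nd (.lf 0xa) (.lf 0x8)) (.nd (.lf 0xa) (.lf 0))) (.nd (.nd (.lf 0x8) (.lf 0xa)) (.nd (.lf 0x9) (.lf 0)))) (.nd (.nd (.nd (.lf 0x9) (.lf 0x6)) (.nd (.lf 0x6) (.lf 0))) (.nd (.nd (.lf 0x9) (.lf 0xa)) (.nd (.lf 0xc) (.lf 0))))) (.nd (.nd (.nd (.nd (.lf 0xc) (.lf 0xb)) (.nd (.lf 0x8) (.lf 0))) (.nd (.nd (.lf 0x8) (.lf 0x8)) (.nd (.lf 0x9) (.lf 0)))) (.nd (.nd (.nd (.lf 0x8) (.lf 0x9)) (.nd (.lf 0x9) (.lf 0))) (.nd (.nd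 (.lf 0x9) (.lf 0xa)) (.nd (.lf 0x7) (.lf 0)))))) (.nd (.nd (.nd (.nd (.nd (.lf 0x6) (.lf 0xa)) (.nd (.lf 0x9) (.lf 0))) (.nd (.nd (.lf 0x9) (.lf 0xc)) (.nd (.lf 0xa) (.lf 0)))) (.nd (.nd (.nd (.lf 0x6) (.lf 0xa)) (.nd (.lf 0x7) (.lf 0))) (.nd (.nd (.lf 0x6) (.lf 0x9)) (.nd (.lf 0x6) (.lf 0))))) (.nd (.nd (.nd (.nd (.lf 0xa) (.lf 0x9)) (.nd (.lf 0xb) (.lf 0))) (.nd (.nd (.lf 0xb) (.lf 0x5)) (.nd (.lf 0x7) (.lf 0)))) (.nd (.nd (.nd (.lf 0x7) (.lf 0xa)) (.nd (.lf 0xa) (.lf 0))) (.nd (.nd (.lf 0x9) (.lf 0x8)) (.nd (.lf 0x9) (.lf 0))))))))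
def depT_nbbbaaa : Tr := (.nd (.nd (.nd (.nd (.nd (.nd (.nd (.lf 0xc) (.lf 0xb)) (.nd (.lf 0xc) (.lf 0xa))) (.nd (.nd (.lf 0xa) (.lf 0xc)) (.nd (.lf 0x9) (.lf 0)))) (.nd (.nd (.nd (.lf 0x7) (.lf 0x8)) (.nd (.lf 0xa) (.lf 0))) (.nd (.nd (.lf 0x9) (.lf 0x7)) (.nd (.lf 0x7) (.lf 0))))) (.nd (.nd (.nd (.nd (.lf 0x3) (.lf 0xa)) (.nd (.lf 0xb) (.lf 0))) (.nd (.nd (.lf 0xb) (.lf 0xb)) (.nd (.lf 0xb) (.lf 0)))) (.nd (.nd (.nd (.lf 0xc) (.lf 0xa)) (.nd (.lf 0xa) (.lf 0))) (.nd (.nd (.lf 0x8) (.lf 0x9)) (.nd (.lf 0x7) (.lf 0)))))) (.nd (.nd (.nd (.nd (.nd (.lf 0xb) (.lf 0xb)) (.nd (.lf 0x9) (.lf 0))) (.nd (.nd (.lf 0xc) (.lf 0x8)) (.nd (.lf 0xa) (.lf 0)))) (.nd (.nd (.nd (.lf 0xb) (.lf 0x7)) (.nd (.lf 0x9) (.lf 0))) (.nd (.nd (.lf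 0x5) (.lf 0x8)) (.nd (.lf 0x7) (.lf 0))))) (.nd (.nd (.nd (.nd (.lf 0x8) (.lf 0x9)) (.nd (.lf 0x7) (.lf 0))) (.nd (.nd (.lf 0x6) (.lf 0x9)) (.nd (.lf 0x6) (.lf 0)))) (.nd (.nd (.nd (.lf 0x3) (.lf 0xb)) (.nd (.lf 0x9) (.lf 0))) (.nd (.nd (.lf 0x8) (.lf 0x7)) (.nd (.lf 0x8) (.lf 0))))))) (.nd (.nd (.nd (.nd (.nd (.nd (.lf 0xa) (.lf 0x5)) (.nd (.lf 0x8) (.lf 0))) (.nd (.nd (.lf 0x8) (.lf 0x9)) (.nd (.lf 0x8) (.lf 0)))) (.nd (.nd (.nd (.lf 0x9) (.lf 0x8)) (.nd (.lf 0xb) (.lf 0))) (.nd (.nd (.lf 0x9) (.lf 0xc)) (.nd (.lf 0xd) (.lf 0))))) (.nd (.nd (.nd (.nd (.lf 0xa) (.lf 0xa)) (.nd (.lf 0xc) (.lf 0))) (.nd (.nd (.lf 0x8) (.lf 0x9)) (.nd (.lf 0x6) (.lf 0)))) (.nd (.nd (.nd (.lf 0x6) (.lf 0xb)) (.nd (.lf 0xa) (.lf 0))) (.nd (.nd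 (.lf 0xa) (.lf 0x8)) (.nd (.lf 0xa) (.lf 0)))))) (.nd (.nd (.nd (.nd (.nd (.lf 0x5) (.lf 0x9)) (.nd (.lf 0xa) (.lf 0))) (.nd (.nd (.lf 0xa) (.lf 0xc)) (.nd (.lf 0xb) (.lf 0)))) (.nd (.nd (.nd (.lf 0xb) (.lf 0x7)) (.nd (.lf 0x9) (.lf 0))) (.nd (.nd (.lf 0xd) (.lf 0x9)) (.nd (.lf 0x8) (.lf 0))))) (.nd (.nd (.nd (.nd (.lf 0xc) (.lf 0x6)) (.nd (.lf 0x9) (.lf 0))) (.nd (.nd (.lf 0xb) (.lf 0x6)) (.nd (.lf 0xc) (.lf 0)))) (.nd (.nd (.nd (.lf 0xb) (.lf 0x8)) (.nd (.lf 0x5) (.lf 0))) (.nd (.nd (.lf 0xa) (.lf 0xa)) (.nd (.lf 0xa) (.lf 0))))))))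
def depT_nbbbaab : Tr := (.nd (.nd (.nd (.nd (.nd (.nd (.nd (.lf 0x8) (.lf 0x8)) (.nd (.lf 0x5) (.lf 0))) (.nd (.nd (.lf 0xc) (.lf 0xb)) (.nd (.lf 0x6) (.lf 0)))) (.nd (.nd (.nd (.lf 0xc) (.lf 0xc)) (.nd (.lf 0x9) (.lf 0))) (.nd (.nd (.lf 0xa) (.lf 0xa)) (.nd (.lf 0xa) (.lf 0))))) (.nd (.nd (.nd (.nd (.lf 0xc) (.lf 0x9)) (.nd (.lf 0xa) (.lf 0))) (.nd (.nd (.lf 0x6) (.lf 0x8)) (.nd (.lf 0x8) (.lf 0)))) (.nd (.nd (.nd (.lf 0xa) (.lf 0x8)) (.nd (.lf 0x9) (.lf 0))) (.nd (.nd (.lf 0xa) (.lf 0x9)) (.nd (.lf 0xb) (.lf 0)))))) (.nd (.nd (.nd (.nd (.nd (.lf 0x6) (.lf 0xa)) (.nd (.lf 0x8) (.lf 0))) (.nd (.nd (.lf 0x8) (.lf 0xa)) (.nd (.lf 0xc) (.lf 0)))) (.nd (.nd (.nd (.lf 0x7) (.lf 0x8)) (.nd (.lf 0xc) (.lf 0))) (.nd (.nd (.lf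 0x9) (.lf 0x9)) (.nd (.lf 0x9) (.lf 0))))) (.nd (.nd (.nd (.nd (.lf 0x9) (.lf 0x7)) (.nd (.lf 0x3) (.lf 0))) (.nd (.nd (.lf 0x5) (.lf 0x9)) (.nd (.lf 0xd) (.lf 0)))) (.nd (.nd (.nd (.lf 0x9) (.lf 0x8)) (.nd (.lf 0x5) (.lf 0))) (.nd (.nd (.lf 0x9) (.lf 0x7)) (.nd (.lf 0x8) (.lf 0))))))) (.nd (.nd (.nd (.nd (.nd (.nd (.lf 0x8) (.lf 0xb)) (.nd (.lf 0x7) (.lf 0))) (.nd (.nd (.lf 0x4) (.lf 0x6)) (.nd (.lf 0xa) (.lf 0)))) (.nd (.nd (.nd (.lf 0xa) (.lf 0x7)) (.nd (.lf 0x8) (.lf 0))) (.nd (.nd (.lf 0x5) (.lf 0xa)) (.nd (.lf 0xc) (.lf 0))))) (.nd (.nd (.nd (.nd (.lf 0xb) (.lf 0xb)) (.nd (.lf 0x5) (.lf 0))) (.nd (.nd (.lf 0xa) (.lf 0xa)) (.nd (.lf 0xb) (.lf 0)))) (.nd (.nd (.nd (.lf 0xb) (.lf 0xa)) (.nd (.lf 0xa) (.lf 0))) (.nd (.nd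 (.lf 0xa) (.lf 0x6)) (.nd (.lf 0x7) (.lf 0)))))) (.nd (.nd (.nd (.nd (.nd (.lf 0xb) (.lf 0x5)) (.nd (.lf 0xb) (.lf 0))) (.nd (.nd (.lf 0x8) (.lf 0x9)) (.nd (.lf 0xb) (.lf 0)))) (.nd (.nd (.nd (.lf 0x7) (.lf 0xd)) (.nd (.lf 0x5) (.lf 0))) (.nd (.nd (.lf 0xa) (.lf 0xa)) (.nd (.lf 0x8) (.lf 0))))) (.nd (.nd (.nd (.nd (.lf 0xb) (.lf 0xa)) (.nd (.lf 0xa) (.lf 0))) (.nd (.nd (.lf 0xb) (.lf 0x7)) (.nd (.lf 0x3) (.lf 0)))) (.nd (.nd (.nd (.lf 0x7) (.lf 0xa)) (.nd (.lf 0xb) (.lf 0))) (.nd (.nd (.lf 0x9) (.lf 0x8)) (.nd (.lf 0x6) (.lf 0))))))))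
def depT_nbbbaba : Tr := (.nd (.nd (.nd (.nd (.nd (.nd (.nd (.lf 0xa) (.lf 0x8)) (.nd (.lf 0xa) (.lf 0))) (.nd (.nd (.lf 0xc) (.lf 0x5)) (.nd (.lf 0x7) (.lf 0)))) (.nd (.nd (.nd (.lf 0xb) (.lf 0xc)) (.nd (.lf 0xb) (.lf 0))) (.nd (.nd (.lf 0xa) (.lf 0x5)) (.nd (.lf 0x9) (.lf 0))))) (.nd (.nd (.nd (.nd (.lf 0x9) (.lf 0x8)) (.nd (.lf 0x8) (.lf 0))) (.nd (.nd (.lf 0x8) (.lf 0x8)) (.nd (.lf 0x8) (.lf 0)))) (.nd (.nd (.nd (.lf 0x8) (.lf 0xb)) (.nd (.lf 0x9) (.lf 0))) (.nd (.nd (.lf 0x7) (.lf 0x5)) (.nd (.lf 0xa) (.lf 0)))))) (.nd (.nd (.nd (.nd (.nd (.lf 0xb) (.lf 0x8)) (.nd (.lf 0xa) (.lf 0))) (.nd (.nd (.lf 0x4) (.lf 0xa)) (.nd (.lf 0x6) (.lf 0)))) (.nd (.nd (.nd (.lf 0x9) (.lf 0xa)) (.nd (.lf 0x9) (.lf 0))) (.nd (.nd (.lf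 0x8) (.lf 0x4)) (.nd (.lf 0xb) (.lf 0))))) (.nd (.nd (.nd (.nd (.lf 0xc) (.lf 0x8)) (.nd (.lf 0xa) (.lf 0))) (.nd (.nd (.lf 0x7) (.lf 0x8)) (.nd (.lf 0x8) (.lf 0)))) (.nd (.nd (.nd (.lf 0xa) (.lf 0xd)) (.nd (.lf 0xb) (.lf 0))) (.nd (.nd (.lf 0xa) (.lf 0xc)) (.nd (.lf 0x8) (.lf 0))))))) (.nd (.nd (.nd (.nd (.nd (.nd (.lf 0xc) (.lf 0x8)) (.nd (.lf 0x9) (.lf 0))) (.nd (.nd (.lf 0xa) (.lf 0x8)) (.nd (.lf 0x9) (.lf 0)))) (.nd (.nd (.nd (.lf 0x9) (.lf 0x9)) (.nd (.lf 0xa) (.lf 0))) (.nd (.nd (.lf 0x9) (.lf 0x8)) (.nd (.lf 0xb) (.lf 0))))) (.nd (.nd (.nd (.nd (.lf 0x9) (.lf 0x9)) (.nd (.lf 0x9) (.lf 0))) (.nd (.nd (.lf 0xc) (.lf 0x9)) (.nd (.lf 0x8) (.lf 0)))) (.nd (.nd (.nd (.lf 0x6) (.lf 0x9)) (.nd (.lf 0x5) (.lf 0))) (.nd (.nd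 (.lf 0xa) (.lf 0x9)) (.nd (.lf 0x4) (.lf 0)))))) (.nd (.nd (.nd (.nd (.nd (.lf 0x9) (.lf 0xb)) (.nd (.lf 0xb) (.lf 0))) (.nd (.nd (.lf 0x9) (.lf 0x5)) (.nd (.lf 0xb) (.lf 0)))) (.nd (.nd (.nd (.lf 0x3) (.lf 0xa)) (.nd (.lf 0xb) (.lf 0))) (.nd (.nd (.lf 0xa) (.lf 0xa)) (.nd (.lf 0xb) (.lf 0))))) (.nd (.nd (.nd (.nd (.lf 0x9) (.lf 0xa)) (.nd (.lf 0x8) (.lf 0))) (.nd (.nd (.lf 0x7) (.lf 0xc)) (.nd (.lf 0xb) (.lf 0)))) (.nd (.nd (.nd (.lf 0xa) (.lf 0xc)) (.nd (.lf 0x6) (.lf 0))) (.nd (.nd (.lf 0x9) (.lf 0x8)) (.nd (.lf 0xa) (.lf 0))))))))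
def depT_nbbbabb : Tr := (.nd (.nd (.nd (.nd (.nd (.nd (.nd (.lf 0x8) (.lf 0xa)) (.nd (.lf 0x6) (.lf 0))) (.nd (.nd (.lf 0xc) (.lf 0x9)) (.nd (.lf 0x9) (.lf 0)))) (.nd (.nd (.nd (.lf 0x9) (.lf 0xb)) (.nd (.lf 0x9) (.lf 0))) (.nd (.nd (.lf 0x7) (.lf 0xa)) (.nd (.lf 0xc) (.lf 0))))) (.nd (.nd (.nd (.nd (.lf 0x5) (.lf 0x8)) (.nd (.lf 0x7) (.lf 0))) (.nd (.nd (.lf 0x6) (.lf 0x9)) (.nd (.lf 0xb) (.lf 0)))) (.nd (.nd (.nd (.lf 0xd) (.lf 0xa)) (.nd (.lf 0xa) (.lf 0))) (.nd (.nd (.lf 0x4) (.lf 0xa)) (.nd (.lf 0xc) (.lf 0)))))) (.nd (.nd (.nd (.nd (.nd (.lf 0x9) (.lf 0xb)) (.nd (.lf 0xa) (.lf 0))) (.nd (.nd (.lf 0xc) (.lf 0xa)) (.nd (.lf 0x7) (.lf 0)))) (.nd (.nd (.nd (.lf 0xa) (.lf 0xa)) (.nd (.lf 0xa) (.lf 0))) (.nd (.nd (.lf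 0x8) (.lf 0x9)) (.nd (.lf 0x5) (.lf 0))))) (.nd (.nd (.nd (.nd (.lf 0xa) (.lf 0xa)) (.nd (.lf 0x9) (.lf 0))) (.nd (.nd (.lf 0xa) (.lf 0xa)) (.nd (.lf 0xc) (.lf 0)))) (.nd (.nd (.nd (.lf 0xb) (.lf 0xc)) (.nd (.lf 0xb) (.lf 0))) (.nd (.nd (.lf 0x8) (.lf 0x9)) (.nd (.lf 0x9) (.lf 0))))))) (.nd (.nd (.nd (.nd (.nd (.nd (.lf 0xc) (.lf 0xb)) (.nd (.lf 0x6) (.lf 0))) (.nd (.nd (.lf 0xa) (.lf 0xa)) (.nd (.lf 0x9) (.lf 0)))) (.nd (.nd (.nd (.lf 0x7) (.lf 0x9)) (.nd (.lf 0x9) (.lf 0))) (.nd (.nd (.lf 0xd) (.lf 0xb)) (.nd (.lf 0x9) (.lf 0))))) (.nd (.nd (.nd (.nd (.lf 0x9) (.lf 0xb)) (.nd (.lf 0x9) (.lf 0))) (.nd (.nd (.lf 0xa) (.lf 0x8)) (.nd (.lf 0x9) (.lf 0)))) (.nd (.nd (.nd (.lf 0xc) (.lf 0xa)) (.nd (.lf 0xa) (.lf 0))) (.nd (.nd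 (.lf 0xc) (.lf 0x7)) (.nd (.lf 0x7) (.lf 0)))))) (.nd (.nd (.nd (.nd (.nd (.lf 0x4) (.lf 0x6)) (.nd (.lf 0x8) (.lf 0))) (.nd (.nd (.lf 0xa) (.lf 0xa)) (.nd (.lf 0xa) (.lf 0)))) (.nd (.nd (.nd (.lf 0xb) (.lf 0xb)) (.nd (.lf 0x9) (.lf 0))) (.nd (.nd (.lf 0x5) (.lf 0xb)) (.nd (.lf 0x8) (.lf 0))))) (.nd (.nd (.nd (.nd (.lf 0x3) (.lf 0xb)) (.nd (.lf 0x9) (.lf 0))) (.nd (.nd (.lf 0x9) (.lf 0x9)) (.nd (.lf 0x8) (.lf 0)))) (.nd (.nd (.nd (.lf 0xa) (.lf 0x9)) (.nd (.lf 0x7) (.lf 0))) (.nd (.nd (.lf 0x8) (.lf 0xa)) (.nd (.lf 0xb) (.lf 0))))))))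
def depT_nbbbbaa : Tr := (.nd (.nd (.nd (.nd (.nd (.nd (.nd (.lf 0x6) (.lf 0x6)) (.nd (.lf 0xb) (.lf 0))) (.nd (.nd (.lf 0xa) (.lf 0xa)) (.nd (.lf 0xa) (.lf 0)))) (.nd (.nd (.nd (.lf 0xc) (.lf 0x8)) (.nd (.lf 0xa) (.lf 0))) (.nd (.nd (.lf 0xb) (.lf 0x6)) (.nd (.lf 0x9) (.lf 0))))) (.nd (.nd (.nd (.nd (.lf 0x2) (.lf 0xa)) (.nd (.lf 0x5) (.lf 0))) (.nd (.nd (.lf 0xa) (.lf 0xc)) (.nd (.lf 0x5) (.lf 0)))) (.nd (.nd (.nd (.lf 0xa) (.lf 0x8)) (.nd (.lf 0x8) (.lf 0))) (.nd (.nd (.lf 0x7) (.lf 0x4)) (.nd (.lf 0x8) (.lf 0)))))) (.nd (.nd (.nd (.nd (.nd (.lf 0x5) (.lf 0xb)) (.nd (.lf 0xa) (.lf 0))) (.nd (.nd (.lf 0x5) (.lf 0x9)) (.nd (.lf 0xb) (.lf 0)))) (.nd (.nd (.nd (.lf 0x6) (.lf 0xb)) (.nd (.lf 0xa) (.lf 0))) (.nd (.nd (.lf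 0x7) (.lf 0xa)) (.nd (.lf 0xb) (.lf 0))))) (.nd (.nd (.nd (.nd (.lf 0x1) (.lf 0xa)) (.nd (.lf 0xa) (.lf 0))) (.nd (.nd (.lf 0xa) (.lf 0x8)) (.nd (.lf 0xb) (.lf 0)))) (.nd (.nd (.nd (.lf 0xa) (.lf 0xb)) (.nd (.lf 0xa) (.lf 0))) (.nd (.nd (.lf 0xb) (.lf 0x9)) (.nd (.lf 0x9) (.lf 0))))))) (.nd (.nd (.nd (.nd (.nd (.nd (.lf 0x9) (.lf 0xb)) (.nd (.lf 0xa) (.lf 0))) (.nd (.nd (.lf 0xa) (.lf 0xb)) (.nd (.lf 0xb) (.lf 0)))) (.nd (.nd (.nd (.lf 0x7) (.lf 0x8)) (.nd (.lf 0x8) (.lf 0))) (.nd (.nd (.lf 0xa) (.lf 0x9)) (.nd (.lf 0x8) (.lf 0))))) (.nd (.nd (.nd (.nd (.lf 0x9) (.lf 0xc)) (.nd (.lf 0xb) (.lf 0))) (.nd (.nd (.lf 0xc) (.lf 0x9)) (.nd (.lf 0xb) (.lf 0)))) (.nd (.nd (.nd (.lf 0xb) (.lf 0xa)) (.nd (.lf 0x8) (.lf 0))) (.nd (.nd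 (.lf 0xa) (.lf 0x9)) (.nd (.lf 0x8) (.lf 0)))))) (.nd (.nd (.nd (.nd (.nd (.lf 0x8) (.lf 0x6)) (.nd (.lf 0x9) (.lf 0))) (.nd (.nd (.lf 0x9) (.lf 0x8)) (.nd (.lf 0xa) (.lf 0)))) (.nd (.nd (.nd (.lf 0xa) (.lf 0xb)) (.nd (.lf 0xa) (.lf 0))) (.nd (.nd (.lf 0x9) (.lf 0xc)) (.nd (.lf 0xa) (.lf 0))))) (.nd (.nd (.nd (.nd (.lf 0x9) (.lf 0x7)) (.nd (.lf 0x8) (.lf 0))) (.nd (.nd (.lf 0xc) (.lf 0xc)) (.nd (.lf 0xb) (.lf 0)))) (.nd (.nd (.nd (.lf 0xb) (.lf 0x4)) (.nd (.lf 0x7) (.lf 0))) (.nd (.nd (.lf 0x9) (.lf 0x8)) (.nd (.lf 0xa) (.lf 0))))))))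
def depT_nbbbbab : Tr := (.nd (.nd (.nd (.nd (.nd (.nd (.nd (.lf 0xb) (.lf 0x8)) (.nd (.lf 0x8) (.lf 0))) (.nd (.nd (.lf 0x8) (.lf 0xa)) (.nd (.lf 0x8) (.lf 0)))) (.nd (.nd (.nd (.lf 0xa) (.lf 0x8)) (.nd (.lf 0x5) (.lf 0))) (.nd (.nd (.lf 0x8) (.lf 0x7)) (.nd (.lf 0x9) (.lf 0))))) (.nd (.nd (.nd (.nd (.lf 0x9) (.lf 0xd)) (.nd (.lf 0x4) (.lf 0))) (.nd (.nd (.lf 0x9) (.lf 0x9)) (.nd (.lf 0xa) (.lf 0)))) (.nd (.nd (.nd (.lf 0xb) (.lf 0xc)) (.nd (.lf 0xc) (.lf 0))) (.nd (.nd (.lf 0xd) (.lf 0x9)) (.nd (.lf 0x7) (.lf 0)))))) (.nd (.nd (.nd (.nd (.nd (.lf 0x8) (.lf 0x7)) (.nd (.lf 0xa) (.lf 0))) (.nd (.nd (.lf 0xa) (.lf 0xa)) (.nd (.lf 0xa) (.lf 0)))) (.nd (.nd (.nd (.lf 0xa) (.lf 0x9)) (.nd (.lf 0x9) (.lf 0))) (.nd (.nd (.lf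 0x9) (.lf 0xc)) (.nd (.lf 0x8) (.lf 0))))) (.nd (.nd (.nd (.nd (.lf 0xb) (.lf 0xa)) (.nd (.lf 0x5) (.lf 0))) (.nd (.nd (.lf 0xa) (.lf 0x9)) (.nd (.lf 0x6) (.lf 0)))) (.nd (.nd (.nd (.lf 0x8) (.lf 0x5)) (.nd (.lf 0xa) (.lf 0))) (.nd (.nd (.lf 0x5) (.lf 0x5)) (.nd (.lf 0x6) (.lf 0))))))) (.nd (.nd (.nd (.nd (.nd (.nd (.lf 0x2) (.lf 0xa)) (.nd (.lf 0xc) (.lf 0))) (.nd (.nd (.lf 0x6) (.lf 0xa)) (.nd (.lf 0xb) (.lf 0)))) (.nd (.nd (.nd (.lf 0xa) (.lf 0x9)) (.nd (.lf 0x9) (.lf 0))) (.nd (.nd (.lf 0xa) (.lf 0xa)) (.nd (.lf 0xb) (.lf 0))))) (.nd (.nd (.nd (.nd (.lf 0xb) (.lf 0x6)) (.nd (.lf 0xb) (.lf 0))) (.nd (.nd (.lf 0x8) (.lf 0x8)) (.nd (.lf 0xa) (.lf 0)))) (.nd (.nd (.nd (.lf 0x9) (.lf 0xb)) (.nd (.lf 0x8) (.lf 0))) (.nd (.nd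 (.lf 0x9) (.lf 0xa)) (.nd (.lf 0x8) (.lf 0)))))) (.nd (.nd (.nd (.nd (.nd (.lf 0xa) (.lf 0xb)) (.nd (.lf 0xd) (.lf 0))) (.nd (.nd (.lf 0x7) (.lf 0xc)) (.nd (.lf 0xb) (.lf 0)))) (.nd (.nd (.nd (.lf 0xa) (.lf 0xa)) (.nd (.lf 0x3) (.lf 0))) (.nd (.nd (.lf 0xc) (.lf 0x7)) (.nd (.lf 0xa) (.lf 0))))) (.nd (.nd (.nd (.nd (.lf 0x8) (.lf 0xc)) (.nd (.lf 0xa) (.lf 0))) (.nd (.nd (.lf 0xb) (.lf 0x6)) (.nd (.lf 0xb) (.lf 0)))) (.nd (.nd (.nd (.lf 0xa) (.lf 0xa)) (.nd (.lf 0x9) (.lf 0))) (.nd (.nd (.lf 0x7) (.lf 0x8)) (.nd (.lf 0x7) (.lf 0))))))))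
def depT_nbbbbba : Tr := (.nd (.nd (.nd (.nd (.nd (.nd (.nd (.lf 0x6) (.lf 0xa)) (.nd (.lf 0x8) (.lf 0))) (.nd (.nd (.lf 0x9) (.lf 0xb)) (.nd (.lf 0xa) (.lf 0)))) (.nd (.nd (.nd (.lf 0xa) (.lf 0x8)) (.nd (.lf 0x6) (.lf 0))) (.nd (.nd (.lf 0xb) (.lf 0x5)) (.nd (.lf 0xb) (.lf 0))))) (.nd (.nd (.nd (.nd (.lf 0x4) (.lf 0xb)) (.nd (.lf 0xa) (.lf 0))) (.nd (.nd (.lf 0xa) (.lf 0xa)) (.nd (.lf 0xd) (.lf 0)))) (.nd (.nd (.nd (.lf 0x6) (.lf 0x7)) (.nd (.lf 0xb) (.lf 0))) (.nd (.nd (.lf 0xb) (.lf 0x8)) (.nd (.lf 0x9) (.lf 0)))))) (.nd (.nd (.nd (.nd (.nd (.lf 0xb) (.lf 0x7)) (.nd (.lf 0xa) (.lf 0))) (.nd (.nd (.lf 0xb) (.lf 0x9)) (.nd (.lf 0x5) (.lf 0)))) (.nd (.nd (.nd (.lf 0xb) (.lf 0xc)) (.nd (.lf 0x7) (.lf 0))) (.nd (.nd (.lf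 0xa) (.lf 0x8)) (.nd (.lf 0x8) (.lf 0))))) (.nd (.nd (.nd (.nd (.lf 0xa) (.lf 0x8)) (.nd (.lf 0xb) (.lf 0))) (.nd (.nd (.lf 0x7) (.lf 0xa)) (.nd (.lf 0x7) (.lf 0)))) (.nd (.nd (.nd (.lf 0x8) (.lf 0xa)) (.nd (.lf 0xa) (.lf 0))) (.nd (.nd (.lf 0xa) (.lf 0x9)) (.nd (.lf 0xa) (.lf 0))))))) (.nd (.nd (.nd (.nd (.nd (.nd (.lf 0xa) (.lf 0xa)) (.nd (.lf 0xc) (.lf 0))) (.nd (.nd (.lf 0xa) (.lf 0xb)) (.nd (.lf 0xb) (.lf 0)))) (.nd (.nd (.nd (.lf 0xd) (.lf 0x9)) (.nd (.lf 0x9) (.lf 0))) (.nd (.nd (.lf 0xd) (.lf 0x8)) (.nd (.lf 0xa) (.lf 0))))) (.nd (.nd (.nd (.nd (.lf 0x8) (.lf 0xa)) (.nd (.lf 0x6) (.lf 0))) (.nd (.nd (.lf 0xa) (.lf 0xa)) (.nd (.lf 0x7) (.lf 0)))) (.nd (.nd (.nd (.lf 0xb) (.lf 0xa)) (.nd (.lf 0x9) (.lf 0))) (.nd (.nd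 (.lf 0x7) (.lf 0x8)) (.nd (.lf 0x9) (.lf 0)))))) (.nd (.nd (.nd (.nd (.nd (.lf 0xb) (.lf 0xa)) (.nd (.lf 0xa) (.lf 0))) (.nd (.nd (.lf 0x8) (.lf 0xc)) (.nd (.lf 0xb) (.lf 0)))) (.nd (.nd (.nd (.lf 0x9) (.lf 0x8)) (.nd (.lf 0xa) (.lf 0))) (.nd (.nd (.lf 0x2) (.lf 0x9)) (.nd (.lf 0x9) (.lf 0))))) (.nd (.nd (.nd (.nd (.lf 0x7) (.lf 0x6)) (.nd (.lf 0x8) (.lf 0))) (.nd (.nd (.lf 0x8) (.lf 0x9)) (.nd (.lf 0x5) (.lf 0)))) (.nd (.nd (.nd (.lf 0x9) (.lf 0xa)) (.nd (.lf 0x8) (.lf 0))) (.nd (.nd (.lf 0x9) (.lf 0x7)) (.nd (.lf 0x7) (.lf 0))))))))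
def depT_nbbbbbb : Tr := (.nd (.nd (.nd (.nd (.nd (.nd (.nd (.lf 0x8) (.lf 0x9)) (.nd (.lf 0xb) (.lf 0))) (.nd (.nd (.lf 0x9) (.lf 0x9)) (.nd (.lf 0xb) (.lf 0)))) (.nd (.nd (.nd (.lf 0xa) (.lf 0xb)) (.nd (.lf 0x8) (.lf 0))) (.nd (.nd (.lf 0x7) (.lf 0x7)) (.nd (.lf 0xb) (.lf 0))))) (.nd (.nd (.nd (.nd (.lf 0xa) (.lf 0x8)) (.nd (.lf 0x9) (.lf 0))) (.nd (.nd (.lf 0xb) (.lf 0xc)) (.nd (.lf 0x7) (.lf 0)))) (.nd (.nd (.nd (.lf 0xb) (.lf 0xb)) (.nd (.lf 0x9) (.lf 0))) (.nd (.nd (.lf 0x9) (.lf 0xc)) (.nd (.lf 0x6) (.lf 0)))))) (.nd (.nd (.nd (.nd (.nd (.lf 0x2) (.lf 0x6)) (.nd (.lf 0xa) (.lf 0))) (.nd (.nd (.lf 0xa) (.lf 0x8)) (.nd (.lf 0x9) (.lf 0)))) (.nd (.nd (.nd (.lf 0xb) (.lf 0xc)) (.nd (.lf 0xa) (.lf 0))) (.nd (.nd (.lf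 0x7) (.lf 0xa)) (.nd (.lf 0xd) (.lf 0))))) (.nd (.nd (.nd (.nd (.lf 0xb) (.lf 0xb)) (.nd (.lf 0xb) (.lf 0))) (.nd (.nd (.lf 0x8) (.lf 0xb)) (.nd (.lf 0x8) (.lf 0)))) (.nd (.nd (.nd (.lf 0x6) (.lf 0x9)) (.nd (.lf 0xd) (.lf 0))) (.nd (.nd (.lf 0x9) (.lf 0x8)) (.nd (.lf 0x9) (.lf 0))))))) (.nd (.nd (.nd (.nd (.nd (.nd (.lf 0x9) (.lf 0x6)) (.nd (.lf 0x2) (.lf 0))) (.nd (.nd (.lf 0x9) (.lf 0xa)) (.nd (.lf 0x4) (.lf 0)))) (.nd (.nd (.nd (.lf 0x7) (.lf 0xc)) (.nd (.lf 0x9) (.lf 0))) (.nd (.nd (.lf 0xb) (.lf 0xc)) (.nd (.lf 0xc) (.lf 0))))) (.nd (.nd (.nd (.nd (.lf 0x9) (.lf 0x4)) (.nd (.lf 0x9) (.lf 0))) (.nd (.nd (.lf 0xa) (.lf 0x7)) (.nd (.lf 0xa) (.lf 0)))) (.nd (.nd (.nd (.lf 0xa) (.lf 0x9)) (.nd (.lf 0xc) (.lf 0))) (.nd (.nd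 (.lf 0x9) (.lf 0x9)) (.nd (.lf 0xa) (.lf 0)))))) (.nd (.nd (.nd (.nd (.nd (.lf 0x8) (.lf 0x8)) (.nd (.lf 0xa) (.lf 0))) (.nd (.nd (.lf 0x5) (.lf 0x6)) (.nd (.lf 0x8) (.lf 0)))) (.nd (.nd (.nd (.lf 0xc) (.lf 0xa)) (.nd (.lf 0x8) (.lf 0))) (.nd (.nd (.lf 0x8) (.lf 0xb)) (.nd (.lf 0x9) (.lf 0))))) (.nd (.nd (.nd (.nd (.lf 0xa) (.lf 0xc)) (.nd (.lf 0xb) (.lf 0))) (.nd (.nd (.lf 0x8) (.lf 0xa)) (.nd (.lf 0x8) (.lf 0)))) (.nd (.nd (.nd (.lf 0xa) (.lf 0xb)) (.nd (.lf 0xb) (.lf 0))) (.nd (.nd (.lf 0x4) (.lf 0x7)) (.nd (.lf 0xb) (.lf 0))))))))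
def depT : Tr := (.nd (.nd (.nd (.nd (.nd (.nd depT_naaaaaa depT_naaaaab) (.nd depT_naaaaba depT_naaaabb)) (.nd (.nd depT_naaabaa depT_naaabab) (.nd depT_naaabba depT_naaabbb))) (.nd (.nd (.nd depT_naabaaa depT_naabaab) (.nd depT_naababa depT_naababb)) (.nd (.nd depT_naabbaa depT_naabbab) (.nd depT_naabbba depT_naabbbb)))) (.nd (.nd (.nd (.nd depT_nabaaaa depT_nabaaab) (.nd depT_nabaaba depT_nabaabb)) (.nd (.nd depT_nababaa depT_nababab) (.nd depT_nababba depT_nababbb))) (.nd (.nd (.nd depT_nabbaaa depT_nabbaab) (.nd depT_nabbaba depT_nabbabb)) (.nd (.nd depT_nabbbaa depT_nabbbab) (.nd depT_nabbbba depT_nabbbbb))))) (.nd (.nd (.nd (.nd (.nd depT_nbaaaaa depT_nbaaaab) (.nd depT_nbaaaba depT_nbaaabb)) (.nd (.nd depT_nbaabaa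 depT_nbaabab) (.nd depT_nbaabba depT_nbaabbb))) (.nd (.nd (.nd depT_nbabaaa depT_nbabaab) (.nd depT_nbababa depT_nbababb)) (.nd (.nd depT_nbabbaa depT_nbabbab) (.nd depT_nbabbba depT_nbabbbb)))) (.nd (.nd (.nd (.nd depT_nbbaaaa depT_nbbaaab) (.nd depT_nbbaaba depT_nbbaabb)) (.nd (.nd depT_nbbabaa depT_nbbabab) (.nd depT_nbbabba depT_nbbabbb))) (.nd (.nd (.nd depT_nbbbaaa depT_nbbbaab) (.nd depT_nbbbaba depT_nbbbabb)) (.nd (.nd depT_nbbbbaa depT_nbbbbab) (.nd depT_nbbbbba depT_nbbbbbb))))))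
def parHT_naaaaaa : Tr := (.nd (.nd (.nd (.nd (.nd (.nd (.nd (.lf 0x0) (.lf 0x20f7)) (.nd (.lf 0x1447) (.lf 0x323))) (.nd (.nd (.lf 0x30c0) (.lf 0x144b)) (.nd (.lf 0x2ce1) (.lf 0)))) (.nd (.nd (.nd (.lf 0x2609) (.lf 0x30e0)) (.nd (.lf 0x2e1c) (.lf 0))) (.nd (.nd (.lf 0x2675) (.lf 0x2d93)) (.nd (.lf 0x36f1) (.lf 0))))) (.nd (.nd (.nd (.nd (.lf 0x23e4) (.lf 0x1210)) (.nd (.lf 0x2710) (.lf 0))) (.nd (.nd (.lf 0x25d1) (.lf 0x2779)) (.nd (.lf 0x1792) (.lf 0)))) (.nd (.nd (.nd (.lf 0x1030) (.lf 0xb98)) (.nd (.lf 0x302) (.lf 0))) (.nd (.nd (.lf 0xea2) (.lf 0x9b)) (.nd (.lf 0x35e2) (.lf 0)))))) (.nd (.nd (.nd (.nd (.nd (.lf 0x9c9) (.lf 0x17cb)) (.nd (.lf 0x37f9) (.lf 0))) (.nd (.nd (.lf 0x29e5) (.lf 0x2501)) (.nd (.lf 0x2f4f) (.lf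 0)))) (.nd (.nd (.nd (.lf 0x2fa0) (.lf 0x37e1)) (.nd (.lf 0x3746) (.lf 0))) (.nd (.nd (.lf 0xa06) (.lf 0x20b5)) (.nd (.lf 0x2bf5) (.lf 0))))) (.nd (.nd (.nd (.nd (.lf 0x35c5) (.lf 0x357b)) (.nd (.lf 0x2995) (.lf 0))) (.nd (.nd (.lf 0x1a6) (.lf 0xf44)) (.nd (.lf 0x62) (.lf 0)))) (.nd (.nd (.nd (.lf 0x2c) (.lf 0x50a)) (.nd (.lf 0x620) (.lf 0))) (.nd (.nd (.lf 0x8c8) (.lf 0x8c)) (.nd (.lf 0x2067) (.lf 0))))))) (.nd (.nd (.nd (.nd (.nd (.nd (.lf 0x2dca) (.lf 0xa8a)) (.nd (.lf 0x2924) (.lf 0))) (.nd (.nd (.lf 0x2bd1) (.lf 0x28de)) (.nd (.lf 0x33db) (.lf 0)))) (.nd (.nd (.nd (.lf 0xbec) (.lf 0x202e)) (.nd (.lf 0xaef) (.lf 0))) (.nd (.nd (.lf 0x34) (.lf 0x1017)) (.nd (.lf 0x57f) (.lf 0))))) (.nd (.nd (.nd (.nd (.lf 0x11a0) (.lf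 0x65)) (.nd (.lf 0x2ba0) (.lf 0))) (.nd (.nd (.lf 0x7cb) (.lf 0x1234)) (.nd (.lf 0x471) (.lf 0)))) (.nd (.nd (.nd (.lf 0x14a2) (.lf 0x1c1)) (.nd (.lf 0x2fe8) (.lf 0))) (.nd (.nd (.lf 0x257) (.lf 0x2d95)) (.nd (.lf 0x23cc) (.lf 0)))))) (.nd (.nd (.nd (.nd (.nd (.lf 0xea6) (.lf 0xec3)) (.nd (.lf 0x24d7) (.lf 0))) (.nd (.nd (.lf 0x94e) (.lf 0x230e)) (.nd (.lf 0x3135) (.lf 0)))) (.nd (.nd (.nd (.lf 0x2364) (.lf 0xe17)) (.nd (.lf 0x169c) (.lf 0))) (.nd (.nd (.lf 0x2438) (.lf 0x1580)) (.nd (.lf 0x2bf0) (.lf 0))))) (.nd (.nd (.nd (.nd (.lf 0x1258) (.lf 0x26a0)) (.nd (.lf 0x9d4) (.lf 0))) (.nd (.nd (.lf 0x2a72) (.lf 0xe35)) (.nd (.lf 0x2002) (.lf 0)))) (.nd (.nd (.nd (.lf 0xc9c) (.lf 0x2b4d)) (.nd (.lf 0x3652) (.lf 0))) (.nd (.nd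 (.lf 0x322b) (.lf 0x1cf)) (.nd (.lf 0x137f) (.lf 0))))))))
def parHT_naaaaab : Tr := (.nd (.nd (.nd (.nd (.nd (.nd (.nd (.lf 0xfae) (.lf 0x2d79)) (.nd (.lf 0x271b) (.lf 0))) (.nd (.nd (.lf 0x52d) (.lf 0x14b7)) (.nd (.lf 0x8cc) (.lf 0)))) (.nd (.nd (.nd (.lf 0x606) (.lf 0x2864)) (.nd (.lf 0x864) (.lf 0))) (.nd (.nd (.lf 0x1d3) (.lf 0x73f)) (.nd (.lf 0x2587) (.lf 0))))) (.nd (.nd (.nd (.nd (.lf 0x1112) (.lf 0x88d)) (.nd (.lf 0xbb3) (.lf 0))) (.nd (.nd (.lf 0x1341) (.lf 0x218c)) (.nd (.lf 0x618) (.lf 0)))) (.nd (.nd (.nd (.lf 0x2bf3) (.lf 0xe87)) (.nd (.lf 0x1659) (.lf 0))) (.nd (.nd (.lf 0xab3) (.lf 0xb6b)) (.nd (.lf 0x201c) (.lf 0)))))) (.nd (.nd (.nd (.nd (.nd (.lf 0x270b) (.lf 0x27ce)) (.nd (.lf 0x16c8) (.lf 0))) (.nd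 (.nd (.lf 0xfa8) (.lf 0x1bb)) (.nd (.lf 0x985) (.lf 0)))) (.nd (.nd (.nd (.lf 0x1247) (.lf 0x718)) (.nd (.lf 0x2387) (.lf 0))) (.nd (.nd (.lf 0x3704) (.lf 0x4b)) (.nd (.lf 0xd3e) (.lf 0))))) (.nd (.nd (.nd (.nd (.lf 0x325d) (.lf 0xf3b)) (.nd (.lf 0x2c07) (.lf 0))) (.nd (.nd (.lf 0x82) (.lf 0x85c)) (.nd (.lf 0x2e07) (.lf 0)))) (.nd (.nd (.nd (.lf 0x3154) (.lf 0xab5)) (.nd (.lf 0x124a) (.lf 0))) (.nd (.nd (.lf 0x25d) (.lf 0x2862)) (.nd (.lf 0x2f4a) (.lf 0))))))) (.nd (.nd (.nd (.nd (.nd (.nd (.lf 0x269c) (.lf 0xc7)) (.nd (.lf 0xb93) (.lf 0))) (.nd (.nd (.lf 0x32f3) (.lf 0x684)) (.nd (.lf 0x3537) (.lf 0)))) (.nd (.nd (.nd (.lf 0x32ed) (.lf 0x3278)) (.nd (.lf 0x28b1) (.lf 0))) (.nd (.nd (.lf 0x9aa) (.lf 0xd04)) (.nd (.lf 0x33ba)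 (.lf 0))))) (.nd (.nd (.nd (.nd (.lf 0x35c0) (.lf 0x12fe)) (.nd (.lf 0x2420) (.lf 0))) (.nd (.nd (.lf 0x1f6) (.lf 0x8a4)) (.nd (.lf 0x535) (.lf 0)))) (.nd (.nd (.nd (.lf 0x2f91) (.lf 0x130e)) (.nd (.lf 0x2fac) (.lf 0))) (.nd (.nd (.lf 0x2453) (.lf 0x2f7b)) (.nd (.lf 0x2278) (.lf 0)))))) (.nd (.nd (.nd (.nd (.nd (.lf 0x12f3) (.lf 0x2113)) (.nd (.lf 0x1682) (.lf 0))) (.nd (.nd (.lf 0x1401) (.lf 0x145)) (.nd (.lf 0x31a4) (.lf 0)))) (.nd (.nd (.nd (.lf 0x9a7) (.lf 0x3025)) (.nd (.lf 0x2b68) (.lf 0))) (.nd (.nd (.lf 0x31d) (.lf 0x183)) (.nd (.lf 0x2963) (.lf 0))))) (.nd (.nd (.nd (.nd (.lf 0x1748) (.lf 0x49e)) (.nd (.lf 0x2a06) (.lf 0))) (.nd (.nd (.lf 0x1f8) (.lf 0x29ad)) (.nd (.lf 0x14ae) (.lf 0)))) (.nd (.nd (.nd (.lf 0x1048)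 (.lf 0xd48)) (.nd (.lf 0x5d8) (.lf 0))) (.nd (.nd (.lf 0xcd8) (.lf 0x556)) (.nd (.lf 0x364c) (.lf 0))))))))
def parHT_naaaaba : Tr := (.nd (.nd (.nd (.nd (.nd (.nd (.nd (.lf 0x254c) (.lf 0x2c50)) (.nd (.lf 0xdba) (.lf 0))) (.nd (.nd (.lf 0xb0f) (.lf 0x21ec)) (.nd (.lf 0x12a1) (.lf 0)))) (.nd (.nd (.nd (.lf 0x161c) (.lf 0x23c3)) (.nd (.lf 0xafb) (.lf 0))) (.nd (.nd (.lf 0x32f0) (.lf 0x29cc)) (.nd (.lf 0x28e3) (.lf 0))))) (.nd (.nd (.nd (.nd (.lf 0x2053) (.lf 0x22c)) (.nd (.lf 0x143f) (.lf 0))) (.nd (.nd (.lf 0x32dd) (.lf 0x9fd)) (.nd (.lf 0x15d3) (.lf 0)))) (.nd (.nd (.nd (.lf 0x22e7) (.lf 0x35f7)) (.nd (.lf 0x2751) (.lf 0))) (.nd (.nd (.lf 0x77e) (.lf 0x2659)) (.nd (.lf 0x265e) (.lf 0)))))) (.nd (.nd (.nd (.nd (.nd (.lf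 0x2703) (.lf 0xab7)) (.nd (.lf 0x1603) (.lf 0))) (.nd (.nd (.lf 0x2b88) (.lf 0x2c04)) (.nd (.lf 0xc6d) (.lf 0)))) (.nd (.nd (.nd (.lf 0x20) (.lf 0x16db)) (.nd (.lf 0x2e43) (.lf 0))) (.nd (.nd (.lf 0x2229) (.lf 0x6da)) (.nd (.lf 0x21d3) (.lf 0))))) (.nd (.nd (.nd (.nd (.lf 0x37f0) (.lf 0x31d0)) (.nd (.lf 0x11c2) (.lf 0))) (.nd (.nd (.lf 0x2829) (.lf 0xbb8)) (.nd (.lf 0x239b) (.lf 0)))) (.nd (.nd (.nd (.lf 0x1a8) (.lf 0x30f6)) (.nd (.lf 0x666) (.lf 0))) (.nd (.nd (.lf 0x357c) (.lf 0xf41)) (.nd (.lf 0x435) (.lf 0))))))) (.nd (.nd (.nd (.nd (.nd (.nd (.lf 0xd7b) (.lf 0x2d57)) (.nd (.lf 0x2bcc) (.lf 0))) (.nd (.nd (.lf 0x1243) (.lf 0x109f)) (.nd (.lf 0x25c6) (.lf 0)))) (.nd (.nd (.nd (.lf 0x30c6) (.lf 0x31b3)) (.nd (.lf 0x2819)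 (.lf 0))) (.nd (.nd (.lf 0x10bf) (.lf 0x253d)) (.nd (.lf 0x3604) (.lf 0))))) (.nd (.nd (.nd (.nd (.lf 0x2826) (.lf 0x206f)) (.nd (.lf 0xf9e) (.lf 0))) (.nd (.nd (.lf 0x2039) (.lf 0x3140)) (.nd (.lf 0x1342) (.lf 0)))) (.nd (.nd (.nd (.lf 0x2ac2) (.lf 0x2ab8)) (.nd (.lf 0xfe) (.lf 0))) (.nd (.nd (.lf 0x239d) (.lf 0x172e)) (.nd (.lf 0x2b0a) (.lf 0)))))) (.nd (.nd (.nd (.nd (.nd (.lf 0x2db1) (.lf 0x26a6)) (.nd (.lf 0x2e1b) (.lf 0))) (.nd (.nd (.lf 0x21bb) (.lf 0x68a)) (.nd (.lf 0xb9a) (.lf 0)))) (.nd (.nd (.nd (.lf 0x2639) (.lf 0x2edc)) (.nd (.lf 0x125d) (.lf 0))) (.nd (.nd (.lf 0x2f54) (.lf 0x1198)) (.nd (.lf 0x1174) (.lf 0))))) (.nd (.nd (.nd (.nd (.lf 0x32da) (.lf 0x867)) (.nd (.lf 0x13a1) (.lf 0))) (.nd (.nd (.lf 0x106a)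 (.lf 0x1542)) (.nd (.lf 0x411) (.lf 0)))) (.nd (.nd (.nd (.lf 0x2220) (.lf 0x1563)) (.nd (.lf 0xa10) (.lf 0))) (.nd (.nd (.lf 0xe7e) (.lf 0x2378)) (.nd (.lf 0x14b6) (.lf 0))))))))
def parHT_naaaabb : Tr := (.nd (.nd (.nd (.nd (.nd (.nd (.nd (.lf 0x228f) (.lf 0xac6)) (.nd (.lf 0xae3) (.lf 0))) (.nd (.nd (.lf 0x1314) (.lf 0x2ffa)) (.nd (.lf 0xfa1) (.lf 0)))) (.nd (.nd (.nd (.lf 0x2d75) (.lf 0x275f)) (.nd (.lf 0x79f) (.lf 0))) (.nd (.nd (.lf 0x1a0) (.lf 0xe14)) (.nd (.lf 0x29cb) (.lf 0))))) (.nd (.nd (.nd (.nd (.lf 0x3594) (.lf 0x241b)) (.nd (.lf 0x2726) (.lf 0))) (.nd (.nd (.lf 0x2b89) (.lf 0x2adf)) (.nd (.lf 0x16ee) (.lf 0)))) (.nd (.nd (.nd (.lf 0x2d60) (.lf 0xa4a)) (.nd (.lf 0x12f8) (.lf 0))) (.nd (.nd (.lf 0x12d4) (.lf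 0x27ab)) (.nd (.lf 0x112b) (.lf 0)))))) (.nd (.nd (.nd (.nd (.nd (.lf 0x761) (.lf 0x2481)) (.nd (.lf 0x105a) (.lf 0))) (.nd (.nd (.lf 0x29da) (.lf 0x296)) (.nd (.lf 0xbc3) (.lf 0)))) (.nd (.nd (.nd (.lf 0xcad) (.lf 0x2e92)) (.nd (.lf 0x2fd1) (.lf 0))) (.nd (.nd (.lf 0x7bc) (.lf 0x936)) (.nd (.lf 0x213c) (.lf 0))))) (.nd (.nd (.nd (.nd (.lf 0x2a26) (.lf 0x101c)) (.nd (.lf 0x2282) (.lf 0))) (.nd (.nd (.lf 0x21e4) (.lf 0x883)) (.nd (.lf 0x1159) (.lf 0)))) (.nd (.nd (.nd (.lf 0x30b8) (.lf 0x850)) (.nd (.lf 0x2ee8) (.lf 0))) (.nd (.nd (.lf 0xbf8) (.lf 0x2d98)) (.nd (.lf 0x106) (.lf 0))))))) (.nd (.nd (.nd (.nd (.nd (.nd (.lf 0x10eb) (.lf 0x88f)) (.nd (.lf 0x7aa) (.lf 0))) (.nd (.nd (.lf 0x67c) (.lf 0x1661)) (.nd (.lf 0xcd6)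 (.lf 0)))) (.nd (.nd (.nd (.lf 0x1b1) (.lf 0x285d)) (.nd (.lf 0xb48) (.lf 0))) (.nd (.nd (.lf 0x2345) (.lf 0x11be)) (.nd (.lf 0x3098) (.lf 0))))) (.nd (.nd (.nd (.nd (.lf 0x2529) (.lf 0xdcc)) (.nd (.lf 0x21cb) (.lf 0))) (.nd (.nd (.lf 0x2ddf) (.lf 0x14f3)) (.nd (.lf 0x2060) (.lf 0)))) (.nd (.nd (.nd (.lf 0x9f6) (.lf 0x4f8)) (.nd (.lf 0xe49) (.lf 0))) (.nd (.nd (.lf 0x140b) (.lf 0x2d92)) (.nd (.lf 0x31be) (.lf 0)))))) (.nd (.nd (.nd (.nd (.nd (.lf 0x1db) (.lf 0x7d5)) (.nd (.lf 0x92a) (.lf 0))) (.nd (.nd (.lf 0x2dd6) (.lf 0x228a)) (.nd (.lf 0x1622) (.lf 0)))) (.nd (.nd (.nd (.lf 0x580) (.lf 0x1696)) (.nd (.lf 0x682) (.lf 0))) (.nd (.nd (.lf 0x30cc) (.lf 0x69c)) (.nd (.lf 0x15a9) (.lf 0))))) (.nd (.nd (.nd (.nd (.lf 0x6cc)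 (.lf 0x14a8)) (.nd (.lf 0x766) (.lf 0))) (.nd (.nd (.lf 0x15d2) (.lf 0x1113)) (.nd (.lf 0x3202) (.lf 0)))) (.nd (.nd (.nd (.lf 0x17a9) (.lf 0x29ac)) (.nd (.lf 0x25f1) (.lf 0))) (.nd (.nd (.lf 0x25fc) (.lf 0x2869)) (.nd (.lf 0x13ea) (.lf 0))))))))
def parHT_naaabaa : Tr := (.nd (.nd (.nd (.nd (.nd (.nd (.nd (.lf 0x2f9b) (.lf 0xf50)) (.nd (.lf 0x3230) (.lf 0x24c8))) (.nd (.nd (.lf 0x15c0) (.lf 0x175c)) (.nd (.lf 0x3541) (.lf 0)))) (.nd (.nd (.nd (.lf 0x1084) (.lf 0x31d5)) (.nd (.lf 0x6ca) (.lf 0))) (.nd (.nd (.lf 0x8d6) (.lf 0x65b)) (.nd (.lf 0x35ab) (.lf 0))))) (.nd (.nd (.nd (.nd (.lf 0x173b) (.lf 0x5f4)) (.nd (.lf 0x2c77) (.lf 0))) (.nd (.nd (.lf 0xbab) (.lf 0x22bd)) (.nd (.lf 0x359) (.lf 0)))) (.nd (.nd (.nd (.lf 0x17ef)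 (.lf 0x5c3)) (.nd (.lf 0x352e) (.lf 0))) (.nd (.nd (.lf 0x1fc) (.lf 0xffe)) (.nd (.lf 0x2ede) (.lf 0)))))) (.nd (.nd (.nd (.nd (.nd (.lf 0x325b) (.lf 0xcb9)) (.nd (.lf 0x10c) (.lf 0))) (.nd (.nd (.lf 0x110f) (.lf 0x1708)) (.nd (.lf 0xe25) (.lf 0)))) (.nd (.nd (.nd (.lf 0x3fa) (.lf 0xa5c)) (.nd (.lf 0x1630) (.lf 0))) (.nd (.nd (.lf 0x2ffe) (.lf 0x120b)) (.nd (.lf 0x2510) (.lf 0))))) (.nd (.nd (.nd (.nd (.lf 0x2f3f) (.lf 0x1482)) (.nd (.lf 0x9) (.lf 0))) (.nd (.nd (.lf 0x11b7) (.lf 0x3649)) (.nd (.lf 0x149e) (.lf 0)))) (.nd (.nd (.nd (.lf 0x958) (.lf 0x2dac)) (.nd (.lf 0x2fb7) (.lf 0))) (.nd (.nd (.lf 0x3363) (.lf 0x16fc)) (.nd (.lf 0x2b2d) (.lf 0))))))) (.nd (.nd (.nd (.nd (.nd (.nd (.lf 0x944) (.lf 0x209a)) (.nd (.lf 0x15f1)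 (.lf 0))) (.nd (.nd (.lf 0x229b) (.lf 0x36d9)) (.nd (.lf 0x1149) (.lf 0)))) (.nd (.nd (.nd (.lf 0x30f9) (.lf 0x36b)) (.nd (.lf 0x25f5) (.lf 0))) (.nd (.nd (.lf 0x34af) (.lf 0x2462)) (.nd (.lf 0x36fc) (.lf 0))))) (.nd (.nd (.nd (.nd (.lf 0x2da6) (.lf 0x33d6)) (.nd (.lf 0x3561) (.lf 0))) (.nd (.nd (.lf 0x7b5) (.lf 0x3598)) (.nd (.lf 0x942) (.lf 0)))) (.nd (.nd (.nd (.lf 0x720) (.lf 0x2bfc)) (.nd (.lf 0xd50) (.lf 0))) (.nd (.nd (.lf 0x1607) (.lf 0x1006)) (.nd (.lf 0x608) (.lf 0)))))) (.nd (.nd (.nd (.nd (.nd (.lf 0x98e) (.lf 0x25c7)) (.nd (.lf 0x1242) (.lf 0))) (.nd (.nd (.lf 0x234) (.lf 0x369d)) (.nd (.lf 0x1466) (.lf 0)))) (.nd (.nd (.nd (.lf 0x15f0) (.lf 0x32c4)) (.nd (.lf 0x31db) (.lf 0))) (.nd (.nd (.lf 0x22cb) (.lf 0x485))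 (.nd (.lf 0x122b) (.lf 0))))) (.nd (.nd (.nd (.nd (.lf 0x30d3) (.lf 0x3433)) (.nd (.lf 0x8aa) (.lf 0))) (.nd (.nd (.lf 0xf96) (.lf 0x531)) (.nd (.lf 0x2be6) (.lf 0)))) (.nd (.nd (.nd (.lf 0x2d4d) (.lf 0x2013)) (.nd (.lf 0x22a8) (.lf 0))) (.nd (.nd (.lf 0x3245) (.lf 0x2005)) (.nd (.lf 0x578) (.lf 0))))))))
def parHT_naaabab : Tr := (.nd (.nd (.nd (.nd (.nd (.nd (.nd (.lf 0x31fd) (.lf 0x164a)) (.nd (.lf 0x3275) (.lf 0))) (.nd (.nd (.lf 0x3072) (.lf 0x14ce)) (.nd (.lf 0x27eb) (.lf 0)))) (.nd (.nd (.nd (.lf 0xf53) (.lf 0x361b)) (.nd (.lf 0x2825) (.lf 0))) (.nd (.nd (.lf 0xcbc) (.lf 0x36df)) (.nd (.lf 0x30c9) (.lf 0))))) (.nd (.nd (.nd (.nd (.lf 0xbd6) (.lf 0x11a2)) (.nd (.lf 0x2cb7) (.lf 0))) (.nd (.nd (.lf 0x87e) (.lf 0x2fcf))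 (.nd (.lf 0x4e9) (.lf 0)))) (.nd (.nd (.nd (.lf 0x2c80) (.lf 0xb87)) (.nd (.lf 0xf82) (.lf 0))) (.nd (.nd (.lf 0x3612) (.lf 0x26f3)) (.nd (.lf 0x22b9) (.lf 0)))))) (.nd (.nd (.nd (.nd (.nd (.lf 0xca8) (.lf 0x2ff9)) (.nd (.lf 0x21f2) (.lf 0))) (.nd (.nd (.lf 0x2a84) (.lf 0x2634)) (.nd (.lf 0x21df) (.lf 0)))) (.nd (.nd (.nd (.lf 0x263f) (.lf 0x9b0)) (.nd (.lf 0x26e7) (.lf 0))) (.nd (.nd (.lf 0x2787) (.lf 0x7b1)) (.nd (.lf 0x2bdd) (.lf 0))))) (.nd (.nd (.nd (.nd (.lf 0x1192) (.lf 0x3697)) (.nd (.lf 0x1134) (.lf 0))) (.nd (.nd (.lf 0x2047) (.lf 0x1712)) (.nd (.lf 0x2c38) (.lf 0)))) (.nd (.nd (.nd (.lf 0x277f) (.lf 0x754)) (.nd (.lf 0x3364) (.lf 0))) (.nd (.nd (.lf 0xc9f) (.lf 0x39f)) (.nd (.lf 0x9a2) (.lf 0))))))) (.nd (.nd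 (.nd (.nd (.nd (.nd (.lf 0x47e) (.lf 0x795)) (.nd (.lf 0x2dcc) (.lf 0))) (.nd (.nd (.lf 0x117a) (.lf 0x359d)) (.nd (.lf 0x3009) (.lf 0)))) (.nd (.nd (.nd (.lf 0x352a) (.lf 0x206)) (.nd (.lf 0x327a) (.lf 0))) (.nd (.nd (.lf 0x33e5) (.lf 0x1261)) (.nd (.lf 0x70f) (.lf 0))))) (.nd (.nd (.nd (.nd (.lf 0x23f0) (.lf 0x1500)) (.nd (.lf 0xd72) (.lf 0))) (.nd (.nd (.lf 0xc59) (.lf 0x374f)) (.nd (.lf 0x2db6) (.lf 0)))) (.nd (.nd (.nd (.lf 0x2cd6) (.lf 0x2357)) (.nd (.lf 0x299e) (.lf 0))) (.nd (.nd (.lf 0x10b5) (.lf 0x2fcd)) (.nd (.lf 0x17ce) (.lf 0)))))) (.nd (.nd (.nd (.nd (.nd (.lf 0x2cc8) (.lf 0x10d2)) (.nd (.lf 0x3657) (.lf 0))) (.nd (.nd (.lf 0x1252) (.lf 0x3d0)) (.nd (.lf 0xe81) (.lf 0)))) (.nd (.nd (.nd (.lf 0x2dd3) (.lf 0x501))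 (.nd (.lf 0x830) (.lf 0))) (.nd (.nd (.lf 0xb83) (.lf 0x29eb)) (.nd (.lf 0x37ae) (.lf 0))))) (.nd (.nd (.nd (.nd (.lf 0x2b25) (.lf 0x37fe)) (.nd (.lf 0xa7f) (.lf 0))) (.nd (.nd (.lf 0x2ff6) (.lf 0x35d9)) (.nd (.lf 0xbdb) (.lf 0)))) (.nd (.nd (.nd (.lf 0x2f02) (.lf 0x3035)) (.nd (.lf 0x30ba) (.lf 0))) (.nd (.nd (.lf 0x350f) (.lf 0x14b0)) (.nd (.lf 0xb0) (.lf 0))))))))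
def parHT_naaabba : Tr := (.nd (.nd (.nd (.nd (.nd (.nd (.nd (.lf 0x2fa9) (.lf 0x130a)) (.nd (.lf 0x2d66) (.lf 0))) (.nd (.nd (.lf 0x1306) (.lf 0x2932)) (.nd (.lf 0x16f8) (.lf 0)))) (.nd (.nd (.nd (.lf 0x324c) (.lf 0x2fc3)) (.nd (.lf 0x15f6) (.lf 0))) (.nd (.nd (.lf 0x2c02) (.lf 0x2ec3)) (.nd (.lf 0x2d68) (.lf 0))))) (.nd (.nd (.nd (.nd (.lf 0x37d4) (.lf 0x2cff)) (.nd (.lf 0x2cf7) (.lf 0))) (.nd (.nd (.lf 0xa02) (.lf 0x338c)) (.nd (.lf 0x5ad) (.lf 0)))) (.nd (.nd (.nd (.lf 0x143c) (.lf 0x11a5)) (.nd (.lf 0x159c) (.lf 0))) (.nd (.nd (.lf 0x17d7) (.lf 0x33c5)) (.nd (.lf 0xdf5) (.lf 0)))))) (.nd (.nd (.nd (.nd (.nd (.lf 0x23bf) (.lf 0xaa6)) (.nd (.lf 0x2a4c) (.lf 0))) (.nd (.nd (.lf 0x22fb) (.lf 0x311c)) (.nd (.lf 0x22c7)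 (.lf 0)))) (.nd (.nd (.nd (.lf 0x30d5) (.lf 0x1050)) (.nd (.lf 0xa67) (.lf 0))) (.nd (.nd (.lf 0x3b6) (.lf 0x2c37)) (.nd (.lf 0x222) (.lf 0))))) (.nd (.nd (.nd (.nd (.lf 0x28a) (.lf 0x1425)) (.nd (.lf 0x2622) (.lf 0))) (.nd (.nd (.lf 0x30a9) (.lf 0x2ca5)) (.nd (.lf 0x762) (.lf 0)))) (.nd (.nd (.nd (.lf 0x3720) (.lf 0x3610)) (.nd (.lf 0x134b) (.lf 0))) (.nd (.nd (.lf 0xdf1) (.lf 0x2fed)) (.nd (.lf 0xbe9) (.lf 0))))))) (.nd (.nd (.nd (.nd (.nd (.nd (.lf 0x142c) (.lf 0x24ac)) (.nd (.lf 0x3495) (.lf 0))) (.nd (.nd (.lf 0x2bbe) (.lf 0x1327)) (.nd (.lf 0x2a5e) (.lf 0)))) (.nd (.nd (.nd (.lf 0x2fcc) (.lf 0x2b5d)) (.nd (.lf 0x62f) (.lf 0))) (.nd (.nd (.lf 0x426) (.lf 0x45e)) (.nd (.lf 0x36c2) (.lf 0))))) (.nd (.nd (.nd (.nd (.lf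 0x24f8) (.lf 0x697)) (.nd (.lf 0xe8a) (.lf 0))) (.nd (.nd (.lf 0x343f) (.lf 0xadc)) (.nd (.lf 0x30a1) (.lf 0)))) (.nd (.nd (.nd (.lf 0x8ad) (.lf 0x32d8)) (.nd (.lf 0x11cc) (.lf 0))) (.nd (.nd (.lf 0x976) (.lf 0x26f7)) (.nd (.lf 0x2732) (.lf 0)))))) (.nd (.nd (.nd (.nd (.nd (.lf 0x216) (.lf 0x201e)) (.nd (.lf 0x7c2) (.lf 0))) (.nd (.nd (.lf 0x307b) (.lf 0x1773)) (.nd (.lf 0x9b1) (.lf 0)))) (.nd (.nd (.nd (.lf 0x9b4) (.lf 0x8a1)) (.nd (.lf 0x2a75) (.lf 0))) (.nd (.nd (.lf 0x2f70) (.lf 0x224a)) (.nd (.lf 0x2fe) (.lf 0))))) (.nd (.nd (.nd (.nd (.lf 0x2cd9) (.lf 0x2f8b)) (.nd (.lf 0x2f28) (.lf 0))) (.nd (.nd (.lf 0x1767) (.lf 0x28d4)) (.nd (.lf 0x530) (.lf 0)))) (.nd (.nd (.nd (.lf 0x72d) (.lf 0xf62)) (.nd (.lf 0x2a46) (.lf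 0))) (.nd (.nd (.lf 0x1516) (.lf 0x9b2)) (.nd (.lf 0x2308) (.lf 0))))))))
def parHT_naaabbb : Tr := (.nd (.nd (.nd (.nd (.nd (.nd (.nd (.lf 0x2267) (.lf 0x1180)) (.nd (.lf 0x71) (.lf 0))) (.nd (.nd (.lf 0xaf4) (.lf 0xc54)) (.nd (.lf 0x201b) (.lf 0)))) (.nd (.nd (.nd (.lf 0x90e) (.lf 0xa4d)) (.nd (.lf 0x9be) (.lf 0))) (.nd (.nd (.lf 0xfc8) (.lf 0x3603)) (.nd (.lf 0x6f5) (.lf 0))))) (.nd (.nd (.nd (.nd (.lf 0x35) (.lf 0xd03)) (.nd (.lf 0xf3e) (.lf 0))) (.nd (.nd (.lf 0x337c) (.lf 0x1d4)) (.nd (.lf 0x2e2f) (.lf 0)))) (.nd (.nd (.nd (.lf 0x3259) (.lf 0xb91)) (.nd (.lf 0x156) (.lf 0))) (.nd (.nd (.lf 0x29db) (.lf 0x2dee)) (.nd (.lf 0x2d06) (.lf 0)))))) (.nd (.nd (.nd (.nd (.nd (.lf 0x2d96) (.lf 0x1266)) (.nd (.lf 0x36db) (.lf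 0))) (.nd (.nd (.lf 0x58) (.lf 0x167a)) (.nd (.lf 0x3043) (.lf 0)))) (.nd (.nd (.nd (.lf 0x2a68) (.lf 0x1469)) (.nd (.lf 0x10b0) (.lf 0))) (.nd (.nd (.lf 0x237b) (.lf 0x20c1)) (.nd (.lf 0x15ba) (.lf 0))))) (.nd (.nd (.nd (.nd (.lf 0x31fc) (.lf 0x33eb)) (.nd (.lf 0x1490) (.lf 0))) (.nd (.nd (.lf 0x170f) (.lf 0x29d8)) (.nd (.lf 0x34e7) (.lf 0)))) (.nd (.nd (.nd (.lf 0x3613) (.lf 0x327c)) (.nd (.lf 0x282) (.lf 0))) (.nd (.nd (.lf 0xb04) (.lf 0x33bd)) (.nd (.lf 0x8f2) (.lf 0))))))) (.nd (.nd (.nd (.nd (.nd (.nd (.lf 0x22cd) (.lf 0x10d3)) (.nd (.lf 0x2ce4) (.lf 0))) (.nd (.nd (.lf 0x2012) (.lf 0x35bb)) (.nd (.lf 0x2027) (.lf 0)))) (.nd (.nd (.nd (.lf 0x2491) (.lf 0xec5)) (.nd (.lf 0x429) (.lf 0))) (.nd (.nd (.lf 0x321a) (.lf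 0x1135)) (.nd (.lf 0x200f) (.lf 0))))) (.nd (.nd (.nd (.nd (.lf 0xb26) (.lf 0x290a)) (.nd (.lf 0x36a1) (.lf 0))) (.nd (.nd (.lf 0x14d) (.lf 0x472)) (.nd (.lf 0x30a7) (.lf 0)))) (.nd (.nd (.nd (.lf 0x31d4) (.lf 0x2ed2)) (.nd (.lf 0x16d5) (.lf 0))) (.nd (.nd (.lf 0x502) (.lf 0x983)) (.nd (.lf 0x2d3a) (.lf 0)))))) (.nd (.nd (.nd (.nd (.nd (.lf 0x8e6) (.lf 0x33e1)) (.nd (.lf 0x112d) (.lf 0))) (.nd (.nd (.lf 0x146e) (.lf 0x23a6)) (.nd (.lf 0xcb7) (.lf 0)))) (.nd (.nd (.nd (.lf 0x3633) (.lf 0x6ea)) (.nd (.lf 0x24ca) (.lf 0))) (.nd (.nd (.lf 0x619) (.lf 0x3c3)) (.nd (.lf 0x70e) (.lf 0))))) (.nd (.nd (.nd (.nd (.lf 0x31ab) (.lf 0x29aa)) (.nd (.lf 0x3553) (.lf 0))) (.nd (.nd (.lf 0x829) (.lf 0x34c6)) (.nd (.lf 0x25b) (.lf 0))))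 (.nd (.nd (.nd (.lf 0x302b) (.lf 0x2a96)) (.nd (.lf 0x15af) (.lf 0))) (.nd (.nd (.lf 0x2b6a) (.lf 0x2b77)) (.nd (.lf 0x2982) (.lf 0))))))))
def parHT_naabaaa : Tr := (.nd (.nd (.nd (.nd (.nd (.nd (.nd (.lf 0x0) (.lf 0x2c55)) (.nd (.lf 0x11eb) (.lf 0x366c))) (.nd (.nd (.lf 0x272a) (.lf 0x213)) (.nd (.lf 0xaea) (.lf 0)))) (.nd (.nd (.nd (.lf 0x3762) (.lf 0x3469)) (.nd (.lf 0x2430) (.lf 0))) (.nd (.nd (.lf 0xad4) (.lf 0x273c)) (.nd (.lf 0x34f8) (.lf 0))))) (.nd (.nd (.nd (.nd (.lf 0x1a7) (.lf 0x2fab)) (.nd (.lf 0x2010) (.lf 0))) (.nd (.nd (.lf 0x2bd5) (.lf 0x3520)) (.nd (.lf 0x3503) (.lf 0)))) (.nd (.nd (.nd (.lf 0x21aa) (.lf 0x2b19)) (.nd (.lf 0x838) (.lf 0))) (.nd (.nd (.lf 0x303) (.lf 0x4)) (.nd (.lf 0x2d36) (.lf 0))))))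 (.nd (.nd (.nd (.nd (.nd (.lf 0xad0) (.lf 0x93a)) (.nd (.lf 0x74) (.lf 0))) (.nd (.nd (.lf 0x121c) (.lf 0x16d4)) (.nd (.lf 0xd89) (.lf 0)))) (.nd (.nd (.nd (.lf 0x529) (.lf 0x3479)) (.nd (.lf 0x20bf) (.lf 0))) (.nd (.nd (.lf 0xd00) (.lf 0x322a)) (.nd (.lf 0x36f5) (.lf 0))))) (.nd (.nd (.nd (.nd (.lf 0x202) (.lf 0x28cf)) (.nd (.lf 0x23ec) (.lf 0))) (.nd (.nd (.lf 0x12ec) (.lf 0x31e1)) (.nd (.lf 0x16b0) (.lf 0)))) (.nd (.nd (.nd (.lf 0x12bc) (.lf 0x3e)) (.nd (.lf 0x33ee) (.lf 0))) (.nd (.nd (.lf 0x42d) (.lf 0x7a4)) (.nd (.lf 0x5af) (.lf 0))))))) (.nd (.nd (.nd (.nd (.nd (.nd (.lf 0x27cf) (.lf 0x288)) (.nd (.lf 0x2dbd) (.lf 0))) (.nd (.nd (.lf 0x139d) (.lf 0x2a35)) (.nd (.lf 0x2de2) (.lf 0)))) (.nd (.nd (.nd (.lf 0x334e) (.lf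 0x1315)) (.nd (.lf 0xb46) (.lf 0))) (.nd (.nd (.lf 0x2c97) (.lf 0x3da)) (.nd (.lf 0x4fb) (.lf 0))))) (.nd (.nd (.nd (.nd (.lf 0x2b95) (.lf 0x29f7)) (.nd (.lf 0x1591) (.lf 0))) (.nd (.nd (.lf 0x2521) (.lf 0x2c01)) (.nd (.lf 0x66d) (.lf 0)))) (.nd (.nd (.nd (.lf 0xf63) (.lf 0x1657)) (.nd (.lf 0x2815) (.lf 0))) (.nd (.nd (.lf 0x2fa4) (.lf 0x858)) (.nd (.lf 0x921) (.lf 0)))))) (.nd (.nd (.nd (.nd (.nd (.lf 0x2c56) (.lf 0x34e6)) (.nd (.lf 0x9b7) (.lf 0))) (.nd (.nd (.lf 0x10f0) (.lf 0x1e7)) (.nd (.lf 0x27ba) (.lf 0)))) (.nd (.nd (.nd (.lf 0x31b6) (.lf 0x7df)) (.nd (.lf 0x2032) (.lf 0))) (.nd (.nd (.lf 0xa45) (.lf 0x2b5e)) (.nd (.lf 0x2bf6) (.lf 0))))) (.nd (.nd (.nd (.nd (.lf 0x25f8) (.lf 0x22b2)) (.nd (.lf 0xa4c) (.lf 0)))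 (.nd (.nd (.lf 0x2185) (.lf 0x8de)) (.nd (.lf 0x24a8) (.lf 0)))) (.nd (.nd (.nd (.lf 0x7c4) (.lf 0x2cb2)) (.nd (.lf 0x2162) (.lf 0))) (.nd (.nd (.lf 0xab9) (.lf 0x14fb)) (.nd (.lf 0x24fe) (.lf 0))))))))
def parHT_naabaab : Tr := (.nd (.nd (.nd (.nd (.nd (.nd (.nd (.lf 0x751) (.lf 0x109a)) (.nd (.lf 0x8b7) (.lf 0))) (.nd (.nd (.lf 0x2c5c) (.lf 0x138c)) (.nd (.lf 0x2583) (.lf 0)))) (.nd (.nd (.nd (.lf 0x21e9) (.lf 0x9ad)) (.nd (.lf 0x2874) (.lf 0))) (.nd (.nd (.lf 0x2e04) (.lf 0x34b5)) (.nd (.lf 0x3046) (.lf 0))))) (.nd (.nd (.nd (.nd (.lf 0x30e7) (.lf 0x367a)) (.nd (.lf 0x2728) (.lf 0))) (.nd (.nd (.lf 0xe99) (.lf 0x36a8)) (.nd (.lf 0x299) (.lf 0)))) (.nd (.nd (.nd (.lf 0x326f) (.lf 0x36dc)) (.nd (.lf 0x2103) (.lf 0))) (.nd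 (.nd (.lf 0x21f) (.lf 0x3084)) (.nd (.lf 0x9e6) (.lf 0)))))) (.nd (.nd (.nd (.nd (.nd (.lf 0x3203) (.lf 0x35c2)) (.nd (.lf 0x15fb) (.lf 0))) (.nd (.nd (.lf 0x1346) (.lf 0x33dd)) (.nd (.lf 0x1497) (.lf 0)))) (.nd (.nd (.nd (.lf 0x1734) (.lf 0x219)) (.nd (.lf 0x709) (.lf 0))) (.nd (.nd (.lf 0x174e) (.lf 0x2bca)) (.nd (.lf 0x3682) (.lf 0))))) (.nd (.nd (.nd (.nd (.lf 0x1664) (.lf 0x2ebb)) (.nd (.lf 0x2c92) (.lf 0))) (.nd (.nd (.lf 0x246c) (.lf 0x323b)) (.nd (.lf 0x2b1) (.lf 0)))) (.nd (.nd (.nd (.lf 0x2139) (.lf 0xa57)) (.nd (.lf 0x206e) (.lf 0))) (.nd (.nd (.lf 0x323d) (.lf 0x5b7)) (.nd (.lf 0x495) (.lf 0))))))) (.nd (.nd (.nd (.nd (.nd (.nd (.lf 0x4c3) (.lf 0x665)) (.nd (.lf 0x343a) (.lf 0))) (.nd (.nd (.lf 0x8b6) (.lf 0x3454))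 (.nd (.lf 0x3685) (.lf 0)))) (.nd (.nd (.nd (.lf 0x2857) (.lf 0x2049)) (.nd (.lf 0x2da) (.lf 0))) (.nd (.nd (.lf 0x2120) (.lf 0xb66)) (.nd (.lf 0x1557) (.lf 0))))) (.nd (.nd (.nd (.nd (.lf 0x258a) (.lf 0x32b0)) (.nd (.lf 0x737) (.lf 0))) (.nd (.nd (.lf 0x21fc) (.lf 0x2545)) (.nd (.lf 0x3ea) (.lf 0)))) (.nd (.nd (.nd (.lf 0x13cf) (.lf 0x564)) (.nd (.lf 0x231b) (.lf 0))) (.nd (.nd (.lf 0xfef) (.lf 0x268e)) (.nd (.lf 0x3465) (.lf 0)))))) (.nd (.nd (.nd (.nd (.nd (.lf 0x3806) (.lf 0xaaa)) (.nd (.lf 0xb08) (.lf 0))) (.nd (.nd (.lf 0x17f6) (.lf 0x32d9)) (.nd (.lf 0x2e82) (.lf 0)))) (.nd (.nd (.nd (.lf 0x171b) (.lf 0x37e)) (.nd (.lf 0x13ba) (.lf 0))) (.nd (.nd (.lf 0x2401) (.lf 0x76b)) (.nd (.lf 0x3471) (.lf 0))))) (.nd (.nd (.nd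 (.nd (.lf 0x35d2) (.lf 0x371e)) (.nd (.lf 0x14ed) (.lf 0))) (.nd (.nd (.lf 0x351a) (.lf 0x3367)) (.nd (.lf 0x2b4c) (.lf 0)))) (.nd (.nd (.nd (.lf 0x1291) (.lf 0x2a1a)) (.nd (.lf 0x1259) (.lf 0))) (.nd (.nd (.lf 0xdc0) (.lf 0x2ebd)) (.nd (.lf 0x26fe) (.lf 0))))))))
def parHT_naababa : Tr := (.nd (.nd (.nd (.nd (.nd (.nd (.nd (.lf 0x3567) (.lf 0xbe3)) (.nd (.lf 0x2527) (.lf 0))) (.nd (.nd (.lf 0x20ec) (.lf 0x23d1)) (.nd (.lf 0x32a1) (.lf 0)))) (.nd (.nd (.nd (.lf 0x1d0) (.lf 0x3eb)) (.nd (.lf 0xca1) (.lf 0))) (.nd (.nd (.lf 0x1686) (.lf 0x262f)) (.nd (.lf 0xe22) (.lf 0))))) (.nd (.nd (.nd (.nd (.lf 0x3734) (.lf 0x30dd)) (.nd (.lf 0x13eb) (.lf 0))) (.nd (.nd (.lf 0x52e) (.lf 0x159b)) (.nd (.lf 0x284a) (.lf 0)))) (.nd (.nd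 (.nd (.lf 0x118c) (.lf 0x23f9)) (.nd (.lf 0x25d0) (.lf 0))) (.nd (.nd (.lf 0x328c) (.lf 0x3764)) (.nd (.lf 0x347) (.lf 0)))))) (.nd (.nd (.nd (.nd (.nd (.lf 0x3147) (.lf 0x25e4)) (.nd (.lf 0x896) (.lf 0))) (.nd (.nd (.lf 0x22c4) (.lf 0x5df)) (.nd (.lf 0x2540) (.lf 0)))) (.nd (.nd (.nd (.lf 0x2939) (.lf 0x3141)) (.nd (.lf 0x1431) (.lf 0))) (.nd (.nd (.lf 0x2af8) (.lf 0x255)) (.nd (.lf 0xe15) (.lf 0))))) (.nd (.nd (.nd (.nd (.lf 0x2c16) (.lf 0x1157)) (.nd (.lf 0x28b8) (.lf 0))) (.nd (.nd (.lf 0x24ab) (.lf 0x1380)) (.nd (.lf 0x331d) (.lf 0)))) (.nd (.nd (.nd (.lf 0x2dcb) (.lf 0x370c)) (.nd (.lf 0x1331) (.lf 0))) (.nd (.nd (.lf 0xe02) (.lf 0x2d4e)) (.nd (.lf 0x3138) (.lf 0))))))) (.nd (.nd (.nd (.nd (.nd (.nd (.lf 0x17b5) (.lf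 0x395)) (.nd (.lf 0x3181) (.lf 0))) (.nd (.nd (.lf 0x12c7) (.lf 0x144d)) (.nd (.lf 0xcac) (.lf 0)))) (.nd (.nd (.nd (.lf 0x601) (.lf 0x35cd)) (.nd (.lf 0x2250) (.lf 0))) (.nd (.nd (.lf 0x1330) (.lf 0x23a9)) (.nd (.lf 0x652) (.lf 0))))) (.nd (.nd (.nd (.nd (.lf 0x47) (.lf 0x17df)) (.nd (.lf 0xeb9) (.lf 0))) (.nd (.nd (.lf 0x36fb) (.lf 0x1052)) (.nd (.lf 0x355d) (.lf 0)))) (.nd (.nd (.nd (.lf 0x24ce) (.lf 0x1692)) (.nd (.lf 0x14ee) (.lf 0))) (.nd (.nd (.lf 0x260c) (.lf 0x256c)) (.nd (.lf 0x8db) (.lf 0)))))) (.nd (.nd (.nd (.nd (.nd (.lf 0x46b) (.lf 0x76a)) (.nd (.lf 0x2b96) (.lf 0))) (.nd (.nd (.lf 0x5d1) (.lf 0x2d28)) (.nd (.lf 0x23f3) (.lf 0)))) (.nd (.nd (.nd (.lf 0x3343) (.lf 0x32d1)) (.nd (.lf 0x2c51) (.lf 0))) (.nd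 (.nd (.lf 0x210c) (.lf 0x234c)) (.nd (.lf 0x29bb) (.lf 0))))) (.nd (.nd (.nd (.nd (.lf 0xc66) (.lf 0x3272)) (.nd (.lf 0x31a3) (.lf 0))) (.nd (.nd (.lf 0x21d8) (.lf 0x3194)) (.nd (.lf 0x2684) (.lf 0)))) (.nd (.nd (.nd (.lf 0x58a) (.lf 0x14aa)) (.nd (.lf 0x1441) (.lf 0))) (.nd (.nd (.lf 0x331e) (.lf 0x34ff)) (.nd (.lf 0x171d) (.lf 0))))))))
def parHT_naababb : Tr := (.nd (.nd (.nd (.nd (.nd (.nd (.nd (.lf 0xe0) (.lf 0x2536)) (.nd (.lf 0x2577) (.lf 0))) (.nd (.nd (.lf 0x2a5a) (.lf 0xa68)) (.nd (.lf 0x2272) (.lf 0)))) (.nd (.nd (.nd (.lf 0x1429) (.lf 0x29f5)) (.nd (.lf 0x28e1) (.lf 0))) (.nd (.nd (.lf 0x15a) (.lf 0x377f)) (.nd (.lf 0xb28) (.lf 0))))) (.nd (.nd (.nd (.nd (.lf 0xa09) (.lf 0x2ecd)) (.nd (.lf 0x961) (.lf 0))) (.nd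 (.nd (.lf 0x3351) (.lf 0x29a1)) (.nd (.lf 0x464) (.lf 0)))) (.nd (.nd (.nd (.lf 0x37aa) (.lf 0x2f57)) (.nd (.lf 0x3538) (.lf 0))) (.nd (.nd (.lf 0xe5d) (.lf 0x2793)) (.nd (.lf 0x1747) (.lf 0)))))) (.nd (.nd (.nd (.nd (.nd (.lf 0xc0a) (.lf 0x4c4)) (.nd (.lf 0xa3f) (.lf 0))) (.nd (.nd (.lf 0x5ff) (.lf 0x16f5)) (.nd (.lf 0x379a) (.lf 0)))) (.nd (.nd (.nd (.lf 0x2a6) (.lf 0xa9c)) (.nd (.lf 0x2e6b) (.lf 0))) (.nd (.nd (.lf 0x2beb) (.lf 0x24b)) (.nd (.lf 0x2d19) (.lf 0))))) (.nd (.nd (.nd (.nd (.lf 0x2733) (.lf 0xf1e)) (.nd (.lf 0x179f) (.lf 0))) (.nd (.nd (.lf 0x10a2) (.lf 0x14ab)) (.nd (.lf 0x36c3) (.lf 0)))) (.nd (.nd (.nd (.lf 0xf7d) (.lf 0x27f1)) (.nd (.lf 0x2abe) (.lf 0))) (.nd (.nd (.lf 0x28be) (.lf 0x205c)) (.nd (.lf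 0x20e3) (.lf 0))))))) (.nd (.nd (.nd (.nd (.nd (.nd (.lf 0x30cd) (.lf 0x31)) (.nd (.lf 0x251b) (.lf 0))) (.nd (.nd (.lf 0xf7f) (.lf 0x1660)) (.nd (.lf 0x2e68) (.lf 0)))) (.nd (.nd (.nd (.lf 0xf66) (.lf 0x2d88)) (.nd (.lf 0xe0a) (.lf 0))) (.nd (.nd (.lf 0x3161) (.lf 0x1750)) (.nd (.lf 0x419) (.lf 0))))) (.nd (.nd (.nd (.nd (.lf 0x353d) (.lf 0x3459)) (.nd (.lf 0x11d) (.lf 0))) (.nd (.nd (.lf 0x3a6) (.lf 0xbb1)) (.nd (.lf 0x203a) (.lf 0)))) (.nd (.nd (.nd (.lf 0x203) (.lf 0x577)) (.nd (.lf 0x2f4c) (.lf 0))) (.nd (.nd (.lf 0x1549) (.lf 0x692)) (.nd (.lf 0x356f) (.lf 0)))))) (.nd (.nd (.nd (.nd (.nd (.lf 0x290e) (.lf 0x29a6)) (.nd (.lf 0x2c7e) (.lf 0))) (.nd (.nd (.lf 0x2801) (.lf 0x2575)) (.nd (.lf 0x3642) (.lf 0)))) (.nd (.nd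 (.nd (.lf 0x297d) (.lf 0xfd)) (.nd (.lf 0x1026) (.lf 0))) (.nd (.nd (.lf 0x21b9) (.lf 0x149f)) (.nd (.lf 0x2881) (.lf 0))))) (.nd (.nd (.nd (.nd (.lf 0x119b) (.lf 0x167d)) (.nd (.lf 0x2814) (.lf 0))) (.nd (.nd (.lf 0x888) (.lf 0x4dd)) (.nd (.lf 0x2b11) (.lf 0)))) (.nd (.nd (.nd (.lf 0x32f8) (.lf 0x140d)) (.nd (.lf 0xf8f) (.lf 0))) (.nd (.nd (.lf 0xf8e) (.lf 0x173c)) (.nd (.lf 0x15a6) (.lf 0))))))))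
def parHT_naabbaa : Tr := (.nd (.nd (.nd (.nd (.nd (.nd (.nd (.lf 0x26a) (.lf 0xa5d)) (.nd (.lf 0x16a2) (.lf 0))) (.nd (.nd (.lf 0x969) (.lf 0x26f1)) (.nd (.lf 0xce3) (.lf 0)))) (.nd (.nd (.nd (.lf 0x993) (.lf 0x153)) (.nd (.lf 0x2785) (.lf 0))) (.nd (.nd (.lf 0x2af4) (.lf 0x17cc)) (.nd (.lf 0x176c) (.lf 0))))) (.nd (.nd (.nd (.nd (.lf 0x184) (.lf 0x211b)) (.nd (.lf 0xa2f) (.lf 0))) (.nd (.nd (.lf 0x3416) (.lf 0x2e2a)) (.nd (.lf 0x70c) (.lf 0)))) (.nd (.nd (.nd (.lf 0x13af) (.lf 0x214f)) (.nd (.lf 0xf1a) (.lf 0))) (.nd (.nd (.lf 0x237e) (.lf 0x1503)) (.nd (.lf 0x37a6) (.lf 0)))))) (.nd (.nd (.nd (.nd (.nd (.lf 0x26bc) (.lf 0x373c)) (.nd (.lf 0x872) (.lf 0))) (.nd (.nd (.lf 0x2630) (.lf 0xc40)) (.nd (.lf 0x2ca9) (.lf 0))))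 (.nd (.nd (.nd (.lf 0xee6) (.lf 0x2302)) (.nd (.lf 0x24a7) (.lf 0))) (.nd (.nd (.lf 0xddc) (.lf 0x533)) (.nd (.lf 0xbe2) (.lf 0))))) (.nd (.nd (.nd (.nd (.lf 0x125) (.lf 0x28c6)) (.nd (.lf 0x2473) (.lf 0))) (.nd (.nd (.lf 0x2cf2) (.lf 0x13dc)) (.nd (.lf 0x1ed) (.lf 0)))) (.nd (.nd (.nd (.lf 0x149) (.lf 0x131a)) (.nd (.lf 0x3165) (.lf 0))) (.nd (.nd (.lf 0xb79) (.lf 0x13a0)) (.nd (.lf 0xf03) (.lf 0))))))) (.nd (.nd (.nd (.nd (.nd (.nd (.lf 0x11a3) (.lf 0x37b4)) (.nd (.lf 0x3248) (.lf 0))) (.nd (.nd (.lf 0x1364) (.lf 0x2f43)) (.nd (.lf 0x2084) (.lf 0)))) (.nd (.nd (.nd (.lf 0x10ed) (.lf 0x2b05)) (.nd (.lf 0x6a5) (.lf 0))) (.nd (.nd (.lf 0x48f) (.lf 0x2835)) (.nd (.lf 0x330a) (.lf 0))))) (.nd (.nd (.nd (.nd (.lf 0xdcf) (.lf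 0x319c)) (.nd (.lf 0x2ef1) (.lf 0))) (.nd (.nd (.lf 0x5c2) (.lf 0x526)) (.nd (.lf 0x20ff) (.lf 0)))) (.nd (.nd (.nd (.lf 0x1720) (.lf 0x39b)) (.nd (.lf 0x2be1) (.lf 0))) (.nd (.nd (.lf 0x5f0) (.lf 0x327d)) (.nd (.lf 0x2c11) (.lf 0)))))) (.nd (.nd (.nd (.nd (.nd (.lf 0x14f4) (.lf 0x3ad)) (.nd (.lf 0x2e8c) (.lf 0))) (.nd (.nd (.lf 0xbdc) (.lf 0x3f)) (.nd (.lf 0x30a3) (.lf 0)))) (.nd (.nd (.nd (.lf 0x15cd) (.lf 0x950)) (.nd (.lf 0x1458) (.lf 0))) (.nd (.nd (.lf 0x1333) (.lf 0x2a64)) (.nd (.lf 0x15aa) (.lf 0))))) (.nd (.nd (.nd (.nd (.lf 0x1589) (.lf 0x47b)) (.nd (.lf 0x14ca) (.lf 0))) (.nd (.nd (.lf 0x36c7) (.lf 0x83a)) (.nd (.lf 0x248a) (.lf 0)))) (.nd (.nd (.nd (.lf 0x3f9) (.lf 0xc1b)) (.nd (.lf 0xf51) (.lf 0))) (.nd (.nd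 (.lf 0x344a) (.lf 0x2f4)) (.nd (.lf 0x3047) (.lf 0))))))))
def parHT_naabbab : Tr := (.nd (.nd (.nd (.nd (.nd (.nd (.nd (.lf 0x2a91) (.lf 0x9a1)) (.nd (.lf 0x2354) (.lf 0))) (.nd (.nd (.lf 0x2c0) (.lf 0x2f30)) (.nd (.lf 0x11b1) (.lf 0)))) (.nd (.nd (.nd (.lf 0x1f9) (.lf 0x148f)) (.nd (.lf 0x1013) (.lf 0))) (.nd (.nd (.lf 0x169) (.lf 0x10f9)) (.nd (.lf 0x2948) (.lf 0))))) (.nd (.nd (.nd (.nd (.lf 0x103c) (.lf 0x2bb1)) (.nd (.lf 0x353a) (.lf 0))) (.nd (.nd (.lf 0x2f0d) (.lf 0x113d)) (.nd (.lf 0x215f) (.lf 0)))) (.nd (.nd (.nd (.lf 0x2d86) (.lf 0x301c)) (.nd (.lf 0xd02) (.lf 0))) (.nd (.nd (.lf 0x281f) (.lf 0x2c2c)) (.nd (.lf 0x2184) (.lf 0)))))) (.nd (.nd (.nd (.nd (.nd (.lf 0x3131) (.lf 0x741)) (.nd (.lf 0x910) (.lf 0)))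 (.nd (.nd (.lf 0x92e) (.lf 0x4d8)) (.nd (.lf 0x3069) (.lf 0)))) (.nd (.nd (.nd (.lf 0x3379) (.lf 0x266f)) (.nd (.lf 0x10fb) (.lf 0))) (.nd (.nd (.lf 0x37bf) (.lf 0x5d9)) (.nd (.lf 0x3279) (.lf 0))))) (.nd (.nd (.nd (.nd (.lf 0x2e5b) (.lf 0x6c0)) (.nd (.lf 0x23e5) (.lf 0))) (.nd (.nd (.lf 0x33d) (.lf 0x307a)) (.nd (.lf 0x2c9c) (.lf 0)))) (.nd (.nd (.nd (.lf 0x28cc) (.lf 0x6d3)) (.nd (.lf 0x31ea) (.lf 0))) (.nd (.nd (.lf 0x2c4f) (.lf 0x823)) (.nd (.lf 0x549) (.lf 0))))))) (.nd (.nd (.nd (.nd (.nd (.nd (.lf 0x1287) (.lf 0xaa3)) (.nd (.lf 0x2de6) (.lf 0))) (.nd (.nd (.lf 0x1334) (.lf 0x257f)) (.nd (.lf 0xf9d) (.lf 0)))) (.nd (.nd (.nd (.lf 0x5) (.lf 0x2cf8)) (.nd (.lf 0x2252) (.lf 0))) (.nd (.nd (.lf 0x56e) (.lf 0xb68)) (.nd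 (.lf 0x359b) (.lf 0))))) (.nd (.nd (.nd (.nd (.lf 0x23f) (.lf 0x340f)) (.nd (.lf 0xc2e) (.lf 0))) (.nd (.nd (.lf 0xee5) (.lf 0x3392)) (.nd (.lf 0xe1c) (.lf 0)))) (.nd (.nd (.nd (.lf 0x37e9) (.lf 0x2c66)) (.nd (.lf 0x1769) (.lf 0))) (.nd (.nd (.lf 0x262) (.lf 0xefe)) (.nd (.lf 0x878) (.lf 0)))))) (.nd (.nd (.nd (.nd (.nd (.lf 0x2568) (.lf 0x22a6)) (.nd (.lf 0x2196) (.lf 0))) (.nd (.nd (.lf 0x1043) (.lf 0x3369)) (.nd (.lf 0x13f8) (.lf 0)))) (.nd (.nd (.nd (.lf 0x51f) (.lf 0xa87)) (.nd (.lf 0xa25) (.lf 0))) (.nd (.nd (.lf 0x2355) (.lf 0x241d)) (.nd (.lf 0x2f71) (.lf 0))))) (.nd (.nd (.nd (.nd (.lf 0x371) (.lf 0x9d6)) (.nd (.lf 0x1139) (.lf 0))) (.nd (.nd (.lf 0x150b) (.lf 0x2c85)) (.nd (.lf 0x2c7b) (.lf 0)))) (.nd (.nd (.nd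 (.lf 0x22aa) (.lf 0x29b1)) (.nd (.lf 0x3423) (.lf 0))) (.nd (.nd (.lf 0x796) (.lf 0x2314)) (.nd (.lf 0x2808) (.lf 0))))))))
def parHT_naabbba : Tr := (.nd (.nd (.nd (.nd (.nd (.nd (.nd (.lf 0x247b) (.lf 0x4ef)) (.nd (.lf 0x24b7) (.lf 0))) (.nd (.nd (.lf 0xfe4) (.lf 0x138a)) (.nd (.lf 0x1286) (.lf 0)))) (.nd (.nd (.nd (.lf 0x2dc4) (.lf 0x66c)) (.nd (.lf 0x979) (.lf 0))) (.nd (.nd (.lf 0x23f2) (.lf 0x3c8)) (.nd (.lf 0x140e) (.lf 0))))) (.nd (.nd (.nd (.nd (.lf 0x16be) (.lf 0x1279)) (.nd (.lf 0x106b) (.lf 0))) (.nd (.nd (.lf 0x5fa) (.lf 0x2a0f)) (.nd (.lf 0x154b) (.lf 0)))) (.nd (.nd (.nd (.lf 0x2951) (.lf 0x316d)) (.nd (.lf 0x124e) (.lf 0))) (.nd (.nd (.lf 0x2484) (.lf 0x207)) (.nd (.lf 0x12dd) (.lf 0)))))) (.nd (.nd (.nd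 (.nd (.nd (.lf 0x1710) (.lf 0x817)) (.nd (.lf 0x8cb) (.lf 0))) (.nd (.nd (.lf 0x343d) (.lf 0x262e)) (.nd (.lf 0x90) (.lf 0)))) (.nd (.nd (.nd (.lf 0xdc9) (.lf 0x122d)) (.nd (.lf 0x26b3) (.lf 0))) (.nd (.nd (.lf 0x922) (.lf 0x3292)) (.nd (.lf 0x164) (.lf 0))))) (.nd (.nd (.nd (.nd (.lf 0x26f5) (.lf 0x27c5)) (.nd (.lf 0x14a9) (.lf 0))) (.nd (.nd (.lf 0x3306) (.lf 0x1612)) (.nd (.lf 0x2788) (.lf 0)))) (.nd (.nd (.nd (.lf 0x449) (.lf 0x3410)) (.nd (.lf 0x787) (.lf 0))) (.nd (.nd (.lf 0x2f20) (.lf 0x2004)) (.nd (.lf 0x53a) (.lf 0))))))) (.nd (.nd (.nd (.nd (.nd (.nd (.lf 0x11cd) (.lf 0x1295)) (.nd (.lf 0x2a11) (.lf 0))) (.nd (.nd (.lf 0x27f9) (.lf 0x2d46)) (.nd (.lf 0x66) (.lf 0)))) (.nd (.nd (.nd (.lf 0x500) (.lf 0xd96)) (.nd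 (.lf 0x357) (.lf 0))) (.nd (.nd (.lf 0x4be) (.lf 0x3592)) (.nd (.lf 0x2774) (.lf 0))))) (.nd (.nd (.nd (.nd (.lf 0x26e9) (.lf 0x2887)) (.nd (.lf 0x2d53) (.lf 0))) (.nd (.nd (.lf 0x25aa) (.lf 0x874)) (.nd (.lf 0x25e5) (.lf 0)))) (.nd (.nd (.nd (.lf 0x32fc) (.lf 0xcff)) (.nd (.lf 0x2062) (.lf 0))) (.nd (.nd (.lf 0x2a36) (.lf 0x27ee)) (.nd (.lf 0x1445) (.lf 0)))))) (.nd (.nd (.nd (.nd (.nd (.lf 0x28e2) (.lf 0x298a)) (.nd (.lf 0x31dd) (.lf 0))) (.nd (.nd (.lf 0x148a) (.lf 0x20a0)) (.nd (.lf 0x25d8) (.lf 0)))) (.nd (.nd (.nd (.lf 0x1b) (.lf 0x21a9)) (.nd (.lf 0x1375) (.lf 0))) (.nd (.nd (.lf 0x3059) (.lf 0x22e5)) (.nd (.lf 0x21c1) (.lf 0))))) (.nd (.nd (.nd (.nd (.lf 0x3091) (.lf 0x36da)) (.nd (.lf 0xdee) (.lf 0))) (.nd (.nd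 (.lf 0x2256) (.lf 0x15f7)) (.nd (.lf 0x14f0) (.lf 0)))) (.nd (.nd (.nd (.lf 0xe46) (.lf 0x889)) (.nd (.lf 0x355b) (.lf 0))) (.nd (.nd (.lf 0x4d0) (.lf 0xe19)) (.nd (.lf 0x2101) (.lf 0))))))))
def parHT_naabbbb : Tr := (.nd (.nd (.nd (.nd (.nd (.nd (.nd (.lf 0x2078) (.lf 0x2187)) (.nd (.lf 0xab6) (.lf 0))) (.nd (.nd (.lf 0x2a88) (.lf 0x25d2)) (.nd (.lf 0x2e2d) (.lf 0)))) (.nd (.nd (.nd (.lf 0x2fbc) (.lf 0x2714)) (.nd (.lf 0x20be) (.lf 0))) (.nd (.nd (.lf 0x342f) (.lf 0x16a8)) (.nd (.lf 0x20a7) (.lf 0))))) (.nd (.nd (.nd (.nd (.lf 0x3296) (.lf 0x7f2)) (.nd (.lf 0x229) (.lf 0))) (.nd (.nd (.lf 0x1168) (.lf 0x2150)) (.nd (.lf 0x2392) (.lf 0)))) (.nd (.nd (.nd (.lf 0x2479) (.lf 0x29de)) (.nd (.lf 0x20ae) (.lf 0))) (.nd (.nd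 (.lf 0x2efb) (.lf 0xae1)) (.nd (.lf 0x792) (.lf 0)))))) (.nd (.nd (.nd (.nd (.nd (.lf 0x21ef) (.lf 0x805)) (.nd (.lf 0x2422) (.lf 0))) (.nd (.nd (.lf 0xb31) (.lf 0x334c)) (.nd (.lf 0x92f) (.lf 0)))) (.nd (.nd (.nd (.lf 0x244c) (.lf 0x2b31)) (.nd (.lf 0x28cb) (.lf 0))) (.nd (.nd (.lf 0x29f9) (.lf 0x3af)) (.nd (.lf 0x909) (.lf 0))))) (.nd (.nd (.nd (.nd (.lf 0xe80) (.lf 0x23b1)) (.nd (.lf 0x1cc) (.lf 0))) (.nd (.nd (.lf 0xfe2) (.lf 0x12e0)) (.nd (.lf 0x10ec) (.lf 0)))) (.nd (.nd (.nd (.lf 0x562) (.lf 0x2585)) (.nd (.lf 0xde9) (.lf 0))) (.nd (.nd (.lf 0xcc5) (.lf 0x2da0)) (.nd (.lf 0x133e) (.lf 0))))))) (.nd (.nd (.nd (.nd (.nd (.nd (.lf 0x2f53) (.lf 0x3622)) (.nd (.lf 0x66f) (.lf 0))) (.nd (.nd (.lf 0x33b5) (.lf 0x2164))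 (.nd (.lf 0x3076) (.lf 0)))) (.nd (.nd (.nd (.lf 0x30f7) (.lf 0x11e7)) (.nd (.lf 0x9ce) (.lf 0))) (.nd (.nd (.lf 0x2ee7) (.lf 0x347e)) (.nd (.lf 0x24f6) (.lf 0))))) (.nd (.nd (.nd (.nd (.lf 0x2297) (.lf 0x3d8)) (.nd (.lf 0x36f3) (.lf 0))) (.nd (.nd (.lf 0x160f) (.lf 0x281d)) (.nd (.lf 0x2598) (.lf 0)))) (.nd (.nd (.nd (.lf 0x132) (.lf 0x29d3)) (.nd (.lf 0x3796) (.lf 0))) (.nd (.nd (.lf 0x996) (.lf 0x291a)) (.nd (.lf 0x4a4) (.lf 0)))))) (.nd (.nd (.nd (.nd (.nd (.lf 0x1511) (.lf 0xd4b)) (.nd (.lf 0x2371) (.lf 0))) (.nd (.nd (.lf 0x2aea) (.lf 0x2bbd)) (.nd (.lf 0x205b) (.lf 0)))) (.nd (.nd (.nd (.lf 0x3f5) (.lf 0xca)) (.nd (.lf 0x119c) (.lf 0))) (.nd (.nd (.lf 0x2194) (.lf 0x2ea0)) (.nd (.lf 0x29a9) (.lf 0))))) (.nd (.nd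 (.nd (.nd (.lf 0x2caa) (.lf 0xa89)) (.nd (.lf 0x2f) (.lf 0))) (.nd (.nd (.lf 0x2d87) (.lf 0x363)) (.nd (.lf 0xf17) (.lf 0)))) (.nd (.nd (.nd (.lf 0x414) (.lf 0x3779)) (.nd (.lf 0x326d) (.lf 0))) (.nd (.nd (.lf 0x3738) (.lf 0x2d0c)) (.nd (.lf 0x378f) (.lf 0))))))))
def parHT_nabaaaa : Tr := (.nd (.nd (.nd (.nd (.nd (.nd (.nd (.lf 0x0) (.lf 0xe7a)) (.nd (.lf 0x30d6) (.lf 0xfb1))) (.nd (.nd (.lf 0x1658) (.lf 0x2af2)) (.nd (.lf 0x2cc6) (.lf 0)))) (.nd (.nd (.nd (.lf 0xf22) (.lf 0xa1)) (.nd (.lf 0x5b8) (.lf 0))) (.nd (.nd (.lf 0x2910) (.lf 0x14cf)) (.nd (.lf 0xa75) (.lf 0))))) (.nd (.nd (.nd (.nd (.lf 0xcb2) (.lf 0x282b)) (.nd (.lf 0x3d4) (.lf 0))) (.nd (.nd (.lf 0x30c5) (.lf 0xb89)) (.nd (.lf 0xeaf) (.lf 0)))) (.nd (.nd (.nd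 (.lf 0x13fd) (.lf 0x2071)) (.nd (.lf 0x5aa) (.lf 0))) (.nd (.nd (.lf 0x2c18) (.lf 0x3452)) (.nd (.lf 0x27a4) (.lf 0)))))) (.nd (.nd (.nd (.nd (.nd (.lf 0x362f) (.lf 0x2414)) (.nd (.lf 0xd4d) (.lf 0))) (.nd (.nd (.lf 0x31d3) (.lf 0x8e5)) (.nd (.lf 0x2d0f) (.lf 0)))) (.nd (.nd (.nd (.lf 0x13c0) (.lf 0x30ec)) (.nd (.lf 0x2c2d) (.lf 0))) (.nd (.nd (.lf 0x2ddc) (.lf 0x126)) (.nd (.lf 0x230b) (.lf 0))))) (.nd (.nd (.nd (.nd (.lf 0x35e5) (.lf 0xf99)) (.nd (.lf 0x6f7) (.lf 0))) (.nd (.nd (.lf 0x17a8) (.lf 0x362b)) (.nd (.lf 0xaed) (.lf 0)))) (.nd (.nd (.nd (.lf 0xb4d) (.lf 0x1073)) (.nd (.lf 0x221e) (.lf 0))) (.nd (.nd (.lf 0x35c4) (.lf 0x1b3)) (.nd (.lf 0x34c3) (.lf 0))))))) (.nd (.nd (.nd (.nd (.nd (.nd (.lf 0x2af) (.lf 0x2248))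 (.nd (.lf 0x9dc) (.lf 0))) (.nd (.nd (.lf 0xf65) (.lf 0x415)) (.nd (.lf 0x2ad2) (.lf 0)))) (.nd (.nd (.nd (.lf 0xc81) (.lf 0x837)) (.nd (.lf 0xef4) (.lf 0))) (.nd (.nd (.lf 0x264c) (.lf 0x37c3)) (.nd (.lf 0x2ca8) (.lf 0))))) (.nd (.nd (.nd (.nd (.lf 0x166b) (.lf 0x107a)) (.nd (.lf 0x37a9) (.lf 0))) (.nd (.nd (.lf 0xde) (.lf 0x2ae1)) (.nd (.lf 0x26d) (.lf 0)))) (.nd (.nd (.nd (.lf 0x2fb9) (.lf 0x2739)) (.nd (.lf 0xcc6) (.lf 0))) (.nd (.nd (.lf 0xe6f) (.lf 0x2986)) (.nd (.lf 0x300c) (.lf 0)))))) (.nd (.nd (.nd (.nd (.nd (.lf 0x2928) (.lf 0x13ab)) (.nd (.lf 0x163e) (.lf 0))) (.nd (.nd (.lf 0x9c) (.lf 0x12d1)) (.nd (.lf 0x248f) (.lf 0)))) (.nd (.nd (.nd (.lf 0x34f3) (.lf 0x8d4)) (.nd (.lf 0x6c8) (.lf 0))) (.nd (.nd (.lf 0x8f9)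 (.lf 0x436)) (.nd (.lf 0xf7b) (.lf 0))))) (.nd (.nd (.nd (.nd (.lf 0x1671) (.lf 0x2578)) (.nd (.lf 0x56) (.lf 0))) (.nd (.nd (.lf 0x362c) (.lf 0x1304)) (.nd (.lf 0x2f59) (.lf 0)))) (.nd (.nd (.nd (.lf 0x15b6) (.lf 0x2df9)) (.nd (.lf 0x6c6) (.lf 0))) (.nd (.nd (.lf 0x2a9f) (.lf 0x24d9)) (.nd (.lf 0x352b) (.lf 0))))))))
def parHT_nabaaab : Tr := (.nd (.nd (.nd (.nd (.nd (.nd (.nd (.lf 0x3412) (.lf 0xf74)) (.nd (.lf 0x8d8) (.lf 0))) (.nd (.nd (.lf 0x2b34) (.lf 0x2eb9)) (.nd (.lf 0x2ad) (.lf 0)))) (.nd (.nd (.nd (.lf 0x2544) (.lf 0x2068)) (.nd (.lf 0x290) (.lf 0))) (.nd (.nd (.lf 0x2c54) (.lf 0x6e4)) (.nd (.lf 0x2d3e) (.lf 0))))) (.nd (.nd (.nd (.nd (.lf 0xd27) (.lf 0x2a97)) (.nd (.lf 0x2936) (.lf 0))) (.nd (.nd (.lf 0x33ae)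 (.lf 0x316)) (.nd (.lf 0x1124) (.lf 0)))) (.nd (.nd (.nd (.lf 0x3569) (.lf 0x21fd)) (.nd (.lf 0x170e) (.lf 0))) (.nd (.nd (.lf 0x2d1a) (.lf 0x209)) (.nd (.lf 0xaa) (.lf 0)))))) (.nd (.nd (.nd (.nd (.nd (.lf 0xd6a) (.lf 0xaf1)) (.nd (.lf 0x960) (.lf 0))) (.nd (.nd (.lf 0x1517) (.lf 0x2d02)) (.nd (.lf 0x622) (.lf 0)))) (.nd (.nd (.nd (.lf 0x2391) (.lf 0xeda)) (.nd (.lf 0x358d) (.lf 0))) (.nd (.nd (.lf 0x59) (.lf 0x373a)) (.nd (.lf 0x2dbf) (.lf 0))))) (.nd (.nd (.nd (.nd (.lf 0x3247) (.lf 0x955)) (.nd (.lf 0x27ef) (.lf 0))) (.nd (.nd (.lf 0x4d6) (.lf 0x716)) (.nd (.lf 0xb33) (.lf 0)))) (.nd (.nd (.nd (.lf 0x29ae) (.lf 0xe96)) (.nd (.lf 0xc11) (.lf 0))) (.nd (.nd (.lf 0x240f) (.lf 0x36bc)) (.nd (.lf 0x3cc) (.lf 0))))))) (.nd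 (.nd (.nd (.nd (.nd (.nd (.lf 0x299d) (.lf 0x21a0)) (.nd (.lf 0x732) (.lf 0))) (.nd (.nd (.lf 0x16b4) (.lf 0x3022)) (.nd (.lf 0x2839) (.lf 0)))) (.nd (.nd (.nd (.lf 0xd70) (.lf 0x642)) (.nd (.lf 0x879) (.lf 0))) (.nd (.nd (.lf 0x4e2) (.lf 0x2f80)) (.nd (.lf 0x2080) (.lf 0))))) (.nd (.nd (.nd (.nd (.lf 0x110a) (.lf 0x2dcd)) (.nd (.lf 0x6d5) (.lf 0))) (.nd (.nd (.lf 0x2c36) (.lf 0x16dc)) (.nd (.lf 0x1339) (.lf 0)))) (.nd (.nd (.nd (.lf 0x21b2) (.lf 0xd10)) (.nd (.lf 0x590) (.lf 0))) (.nd (.nd (.lf 0x1362) (.lf 0x2e96)) (.nd (.lf 0x2fec) (.lf 0)))))) (.nd (.nd (.nd (.nd (.nd (.lf 0x2712) (.lf 0x14ff)) (.nd (.lf 0x2a4f) (.lf 0))) (.nd (.nd (.lf 0x8b0) (.lf 0x1468)) (.nd (.lf 0x177a) (.lf 0)))) (.nd (.nd (.nd (.lf 0xe32) (.lf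 0x262b)) (.nd (.lf 0x2987) (.lf 0))) (.nd (.nd (.lf 0x269f) (.lf 0xc46)) (.nd (.lf 0x565) (.lf 0))))) (.nd (.nd (.nd (.nd (.lf 0x2339) (.lf 0x198)) (.nd (.lf 0x97b) (.lf 0))) (.nd (.nd (.lf 0x3139) (.lf 0xc96)) (.nd (.lf 0x363c) (.lf 0)))) (.nd (.nd (.nd (.lf 0x370a) (.lf 0x15e1)) (.nd (.lf 0x2a3c) (.lf 0))) (.nd (.nd (.lf 0x295a) (.lf 0x3715)) (.nd (.lf 0x226c) (.lf 0))))))))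
def parHT_nabaaba : Tr := (.nd (.nd (.nd (.nd (.nd (.nd (.nd (.lf 0x2fe2) (.lf 0x2aa)) (.nd (.lf 0x12ca) (.lf 0))) (.nd (.nd (.lf 0x6b) (.lf 0x2538)) (.nd (.lf 0x310b) (.lf 0)))) (.nd (.nd (.nd (.lf 0x24f) (.lf 0x306d)) (.nd (.lf 0x140c) (.lf 0))) (.nd (.nd (.lf 0x1186) (.lf 0x2fa7)) (.nd (.lf 0x249) (.lf 0))))) (.nd (.nd (.nd (.nd (.lf 0x2de4) (.lf 0x2063)) (.nd (.lf 0x223a) (.lf 0))) (.nd (.nd (.lf 0x267c) (.lf 0x3a9)) (.nd (.lf 0x158f) (.lf 0)))) (.nd (.nd (.nd (.lf 0x125e) (.lf 0x16d9)) (.nd (.lf 0x9fe) (.lf 0))) (.nd (.nd (.lf 0x17c3) (.lf 0x23b6)) (.nd (.lf 0x2968) (.lf 0)))))) (.nd (.nd (.nd (.nd (.nd (.lf 0x22a5) (.lf 0x630)) (.nd (.lf 0x402) (.lf 0))) (.nd (.nd (.lf 0xa97) (.lf 0x17bb)) (.nd (.lf 0x3494) (.lf 0))))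 (.nd (.nd (.nd (.lf 0xc5d) (.lf 0x3312)) (.nd (.lf 0x2d4b) (.lf 0))) (.nd (.nd (.lf 0x3577) (.lf 0x2260)) (.nd (.lf 0x2b5) (.lf 0))))) (.nd (.nd (.nd (.nd (.lf 0xb09) (.lf 0x2cac)) (.nd (.lf 0xdc4) (.lf 0))) (.nd (.nd (.lf 0x201) (.lf 0x26ff)) (.nd (.lf 0x34ae) (.lf 0)))) (.nd (.nd (.nd (.lf 0x27d8) (.lf 0x3451)) (.nd (.lf 0x4a1) (.lf 0))) (.nd (.nd (.lf 0x649) (.lf 0x3026)) (.nd (.lf 0x44c) (.lf 0))))))) (.nd (.nd (.nd (.nd (.nd (.nd (.lf 0x2b57) (.lf 0x35e6)) (.nd (.lf 0x31a7) (.lf 0))) (.nd (.nd (.lf 0x17af) (.lf 0x2610)) (.nd (.lf 0x3687) (.lf 0)))) (.nd (.nd (.nd (.lf 0x10f3) (.lf 0x35e4)) (.nd (.lf 0xc04) (.lf 0))) (.nd (.nd (.lf 0x178) (.lf 0x2c43)) (.nd (.lf 0x346b) (.lf 0))))) (.nd (.nd (.nd (.nd (.lf 0x314e) (.lf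 0xc5)) (.nd (.lf 0x2e18) (.lf 0))) (.nd (.nd (.lf 0x260d) (.lf 0x21e5)) (.nd (.lf 0x28f) (.lf 0)))) (.nd (.nd (.nd (.lf 0x10dd) (.lf 0x124f)) (.nd (.lf 0x3a7) (.lf 0))) (.nd (.nd (.lf 0x35e7) (.lf 0x11b6)) (.nd (.lf 0x339e) (.lf 0)))))) (.nd (.nd (.nd (.nd (.nd (.lf 0x3616) (.lf 0x115e)) (.nd (.lf 0x7b) (.lf 0))) (.nd (.nd (.lf 0xfe1) (.lf 0x3597)) (.nd (.lf 0x1207) (.lf 0)))) (.nd (.nd (.nd (.lf 0x2b76) (.lf 0x35f3)) (.nd (.lf 0x2742) (.lf 0))) (.nd (.nd (.lf 0x2001) (.lf 0x2119)) (.nd (.lf 0x17c) (.lf 0))))) (.nd (.nd (.nd (.nd (.lf 0x126f) (.lf 0x23a7)) (.nd (.lf 0xf9) (.lf 0))) (.nd (.nd (.lf 0x20f1) (.lf 0x641)) (.nd (.lf 0x58c) (.lf 0)))) (.nd (.nd (.nd (.lf 0xe82) (.lf 0x22b4)) (.nd (.lf 0x1756) (.lf 0))) (.nd (.nd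 (.lf 0x1033) (.lf 0x30e1)) (.nd (.lf 0x2330) (.lf 0))))))))
def parHT_nabaabb : Tr := (.nd (.nd (.nd (.nd (.nd (.nd (.nd (.lf 0x2a2) (.lf 0x2160)) (.nd (.lf 0x7ab) (.lf 0))) (.nd (.nd (.lf 0x3626) (.lf 0x683)) (.nd (.lf 0x3439) (.lf 0)))) (.nd (.nd (.nd (.lf 0x2971) (.lf 0x2958)) (.nd (.lf 0x31bb) (.lf 0))) (.nd (.nd (.lf 0xa7) (.lf 0xcd7)) (.nd (.lf 0x1611) (.lf 0))))) (.nd (.nd (.nd (.nd (.lf 0xfec) (.lf 0x469)) (.nd (.lf 0x31f5) (.lf 0))) (.nd (.nd (.lf 0x121) (.lf 0x2db)) (.nd (.lf 0x103e) (.lf 0)))) (.nd (.nd (.nd (.lf 0x4aa) (.lf 0x2afc)) (.nd (.lf 0x238d) (.lf 0))) (.nd (.nd (.lf 0xe86) (.lf 0x1e8)) (.nd (.lf 0x15f2) (.lf 0)))))) (.nd (.nd (.nd (.nd (.nd (.lf 0x36) (.lf 0x2919)) (.nd (.lf 0x2243) (.lf 0))) (.nd (.nd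 (.lf 0xc1a) (.lf 0x358a)) (.nd (.lf 0x27ea) (.lf 0)))) (.nd (.nd (.nd (.lf 0x1779) (.lf 0x235e)) (.nd (.lf 0xd5b) (.lf 0))) (.nd (.nd (.lf 0x9dd) (.lf 0x290b)) (.nd (.lf 0x378a) (.lf 0))))) (.nd (.nd (.nd (.nd (.lf 0x20fe) (.lf 0xabe)) (.nd (.lf 0xdfa) (.lf 0))) (.nd (.nd (.lf 0x2b26) (.lf 0x35ec)) (.nd (.lf 0xfb9) (.lf 0)))) (.nd (.nd (.nd (.lf 0x10a6) (.lf 0x587)) (.nd (.lf 0x41f) (.lf 0))) (.nd (.nd (.lf 0x2ce6) (.lf 0x7b9)) (.nd (.lf 0x118) (.lf 0))))))) (.nd (.nd (.nd (.nd (.nd (.nd (.lf 0x13a4) (.lf 0x28fe)) (.nd (.lf 0xdf3) (.lf 0))) (.nd (.nd (.lf 0xbd0) (.lf 0x22ac)) (.nd (.lf 0x3201) (.lf 0)))) (.nd (.nd (.nd (.lf 0xf07) (.lf 0x170)) (.nd (.lf 0xaa1) (.lf 0))) (.nd (.nd (.lf 0x2c4) (.lf 0x2233)) (.nd (.lf 0xc20)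 (.lf 0))))) (.nd (.nd (.nd (.nd (.lf 0x22d9) (.lf 0x51d)) (.nd (.lf 0x249d) (.lf 0))) (.nd (.nd (.lf 0x24d2) (.lf 0xcd3)) (.nd (.lf 0x4a9) (.lf 0)))) (.nd (.nd (.nd (.lf 0x2676) (.lf 0x2931)) (.nd (.lf 0xbad) (.lf 0))) (.nd (.nd (.lf 0x204a) (.lf 0x2245)) (.nd (.lf 0xe8c) (.lf 0)))))) (.nd (.nd (.nd (.nd (.nd (.lf 0xaf5) (.lf 0xe5e)) (.nd (.lf 0x144e) (.lf 0))) (.nd (.nd (.lf 0x2c44) (.lf 0x2aca)) (.nd (.lf 0xff) (.lf 0)))) (.nd (.nd (.nd (.lf 0x3185) (.lf 0x1316)) (.nd (.lf 0x19c) (.lf 0))) (.nd (.nd (.lf 0x2611) (.lf 0x10a3)) (.nd (.lf 0x3591) (.lf 0))))) (.nd (.nd (.nd (.nd (.lf 0xc7f) (.lf 0x3a4)) (.nd (.lf 0x373f) (.lf 0))) (.nd (.nd (.lf 0xae4) (.lf 0x91e)) (.nd (.lf 0xc71) (.lf 0)))) (.nd (.nd (.nd (.lf 0x164c) (.lf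 0x212c)) (.nd (.lf 0x360d) (.lf 0))) (.nd (.nd (.lf 0x12e5) (.lf 0xece)) (.nd (.lf 0x214d) (.lf 0))))))))
def parHT_nababaa : Tr := (.nd (.nd (.nd (.nd (.nd (.nd (.nd (.lf 0x0) (.lf 0x2c3d)) (.nd (.lf 0xa8b) (.lf 0x2944))) (.nd (.nd (.lf 0x1275) (.lf 0xee3)) (.nd (.lf 0x51e) (.lf 0)))) (.nd (.nd (.nd (.lf 0x1379) (.lf 0x2905)) (.nd (.lf 0x8f6) (.lf 0))) (.nd (.nd (.lf 0x3298) (.lf 0xe5a)) (.nd (.lf 0x3517) (.lf 0))))) (.nd (.nd (.nd (.nd (.lf 0xc27) (.lf 0x818)) (.nd (.lf 0x17a2) (.lf 0))) (.nd (.nd (.lf 0x965) (.lf 0x20f0)) (.nd (.lf 0x12b8) (.lf 0)))) (.nd (.nd (.nd (.lf 0x32b4) (.lf 0x3c4)) (.nd (.lf 0x2069) (.lf 0))) (.nd (.nd (.lf 0xb41) (.lf 0x2470)) (.nd (.lf 0x37d5) (.lf 0)))))) (.nd (.nd (.nd (.nd (.nd (.lf 0x236b)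 (.lf 0x16de)) (.nd (.lf 0xd09) (.lf 0))) (.nd (.nd (.lf 0x360f) (.lf 0x160)) (.nd (.lf 0x625) (.lf 0)))) (.nd (.nd (.nd (.lf 0x27e4) (.lf 0x27f)) (.nd (.lf 0x77d) (.lf 0))) (.nd (.nd (.lf 0x1239) (.lf 0x37a5)) (.nd (.lf 0x1141) (.lf 0))))) (.nd (.nd (.nd (.nd (.lf 0xf9b) (.lf 0x15e2)) (.nd (.lf 0x22ad) (.lf 0))) (.nd (.nd (.lf 0x1434) (.lf 0x37f4)) (.nd (.lf 0xed3) (.lf 0)))) (.nd (.nd (.nd (.lf 0x2c6b) (.lf 0x21c)) (.nd (.lf 0x351e) (.lf 0))) (.nd (.nd (.lf 0x134e) (.lf 0x2e87)) (.nd (.lf 0x939) (.lf 0))))))) (.nd (.nd (.nd (.nd (.nd (.nd (.lf 0xac) (.lf 0x28eb)) (.nd (.lf 0x17e1) (.lf 0))) (.nd (.nd (.lf 0x22b1) (.lf 0xa6)) (.nd (.lf 0x2c5a) (.lf 0)))) (.nd (.nd (.nd (.lf 0x3282) (.lf 0x45c)) (.nd (.lf 0x12f4) (.lf 0)))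 (.nd (.nd (.lf 0x2461) (.lf 0x28f9)) (.nd (.lf 0x3238) (.lf 0))))) (.nd (.nd (.nd (.nd (.lf 0x963) (.lf 0xb75)) (.nd (.lf 0x2cdf) (.lf 0))) (.nd (.nd (.lf 0x253) (.lf 0x35e3)) (.nd (.lf 0x2b08) (.lf 0)))) (.nd (.nd (.nd (.lf 0x660) (.lf 0x2669)) (.nd (.lf 0x11a9) (.lf 0))) (.nd (.nd (.lf 0x14d2) (.lf 0x303c)) (.nd (.lf 0x3ae) (.lf 0)))))) (.nd (.nd (.nd (.nd (.nd (.lf 0x3499) (.lf 0x1424)) (.nd (.lf 0x2b12) (.lf 0))) (.nd (.nd (.lf 0x3137) (.lf 0x139c)) (.nd (.lf 0xa3c) (.lf 0)))) (.nd (.nd (.nd (.lf 0x4b3) (.lf 0x917)) (.nd (.lf 0x2111) (.lf 0))) (.nd (.nd (.lf 0xa4e) (.lf 0xbe4)) (.nd (.lf 0x278e) (.lf 0))))) (.nd (.nd (.nd (.nd (.lf 0x2767) (.lf 0x30e3)) (.nd (.lf 0x2fb2) (.lf 0))) (.nd (.nd (.lf 0x306f) (.lf 0x2bd7))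 (.nd (.lf 0x203f) (.lf 0)))) (.nd (.nd (.nd (.lf 0x2083) (.lf 0x17e8)) (.nd (.lf 0x3056) (.lf 0))) (.nd (.nd (.lf 0xeb4) (.lf 0x25c5)) (.nd (.lf 0x3257) (.lf 0))))))))
def parHT_nababab : Tr := (.nd (.nd (.nd (.nd (.nd (.nd (.nd (.lf 0x3767) (.lf 0x3ff)) (.nd (.lf 0x3418) (.lf 0))) (.nd (.nd (.lf 0x132c) (.lf 0x32a3)) (.nd (.lf 0x11d4) (.lf 0)))) (.nd (.nd (.nd (.lf 0x243f) (.lf 0x26d2)) (.nd (.lf 0x13b3) (.lf 0))) (.nd (.nd (.lf 0x491) (.lf 0x1277)) (.nd (.lf 0x99d) (.lf 0))))) (.nd (.nd (.nd (.nd (.lf 0x6c) (.lf 0x36f4)) (.nd (.lf 0x8bd) (.lf 0))) (.nd (.nd (.lf 0x223d) (.lf 0x2fb1)) (.nd (.lf 0x2959) (.lf 0)))) (.nd (.nd (.nd (.lf 0x13ef) (.lf 0x117e)) (.nd (.lf 0xd4c) (.lf 0))) (.nd (.nd (.lf 0x2b8f) (.lf 0x849)) (.nd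 (.lf 0x7d2) (.lf 0)))))) (.nd (.nd (.nd (.nd (.nd (.lf 0x0) (.lf 0x15ea)) (.nd (.lf 0x790) (.lf 0))) (.nd (.nd (.lf 0x14de) (.lf 0x23ed)) (.nd (.lf 0xd3a) (.lf 0)))) (.nd (.nd (.nd (.lf 0x537) (.lf 0x1398)) (.nd (.lf 0x80) (.lf 0))) (.nd (.nd (.lf 0x2f1d) (.lf 0x318e)) (.nd (.lf 0x5be) (.lf 0))))) (.nd (.nd (.nd (.nd (.lf 0x2e9f) (.lf 0xcbe)) (.nd (.lf 0x2aa0) (.lf 0))) (.nd (.nd (.lf 0x2637) (.lf 0x1670)) (.nd (.lf 0x62a) (.lf 0)))) (.nd (.nd (.nd (.lf 0x13f7) (.lf 0x3360)) (.nd (.lf 0x274e) (.lf 0))) (.nd (.nd (.lf 0x24bc) (.lf 0x640)) (.nd (.lf 0x1320) (.lf 0))))))) (.nd (.nd (.nd (.nd (.nd (.nd (.lf 0x28c) (.lf 0x1449)) (.nd (.lf 0xf84) (.lf 0))) (.nd (.nd (.lf 0x3778) (.lf 0xdc6)) (.nd (.lf 0x339b) (.lf 0)))) (.nd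 (.nd (.nd (.lf 0x2900) (.lf 0x2b02)) (.nd (.lf 0x50e) (.lf 0))) (.nd (.nd (.lf 0x207c) (.lf 0x1489)) (.nd (.lf 0x3083) (.lf 0))))) (.nd (.nd (.nd (.nd (.lf 0x368c) (.lf 0x3438)) (.nd (.lf 0x26fd) (.lf 0))) (.nd (.nd (.lf 0x2aad) (.lf 0x2c15)) (.nd (.lf 0x46a) (.lf 0)))) (.nd (.nd (.nd (.lf 0xebc) (.lf 0xc02)) (.nd (.lf 0x17a) (.lf 0))) (.nd (.nd (.lf 0x10ca) (.lf 0xdb)) (.nd (.lf 0x3744) (.lf 0)))))) (.nd (.nd (.nd (.nd (.nd (.lf 0x2409) (.lf 0x4c7)) (.nd (.lf 0x129a) (.lf 0))) (.nd (.nd (.lf 0x26bb) (.lf 0x2974)) (.nd (.lf 0xb9d) (.lf 0)))) (.nd (.nd (.nd (.lf 0x2c7) (.lf 0x145d)) (.nd (.lf 0xf7) (.lf 0))) (.nd (.nd (.lf 0x13a2) (.lf 0x17a6)) (.nd (.lf 0x3804) (.lf 0))))) (.nd (.nd (.nd (.nd (.lf 0x3402) (.lf 0xf36)) (.nd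 (.lf 0x101d) (.lf 0))) (.nd (.nd (.lf 0xb0a) (.lf 0x10cb)) (.nd (.lf 0x34f9) (.lf 0)))) (.nd (.nd (.nd (.lf 0x6f9) (.lf 0x169d)) (.nd (.lf 0x9a5) (.lf 0))) (.nd (.nd (.lf 0x23ba) (.lf 0x3207)) (.nd (.lf 0x24b5) (.lf 0))))))))
def parHT_nababba : Tr := (.nd (.nd (.nd (.nd (.nd (.nd (.nd (.lf 0x38e) (.lf 0x2ba4)) (.nd (.lf 0x478) (.lf 0))) (.nd (.nd (.lf 0x7b8) (.lf 0x2303)) (.nd (.lf 0x24fb) (.lf 0)))) (.nd (.nd (.nd (.lf 0x22fd) (.lf 0x340b)) (.nd (.lf 0x27a0) (.lf 0))) (.nd (.nd (.lf 0x2cb5) (.lf 0xdae)) (.nd (.lf 0xdf7) (.lf 0))))) (.nd (.nd (.nd (.nd (.lf 0xcaf) (.lf 0x108)) (.nd (.lf 0x256e) (.lf 0))) (.nd (.nd (.lf 0xfbf) (.lf 0x17f9)) (.nd (.lf 0x2a2f) (.lf 0)))) (.nd (.nd (.nd (.lf 0x36ce) (.lf 0x2bb6)) (.nd (.lf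 0x37f) (.lf 0))) (.nd (.nd (.lf 0x851) (.lf 0x260e)) (.nd (.lf 0x4ce) (.lf 0)))))) (.nd (.nd (.nd (.nd (.nd (.lf 0x2ff5) (.lf 0xffd)) (.nd (.lf 0x2762) (.lf 0))) (.nd (.nd (.lf 0x8ed) (.lf 0x740)) (.nd (.lf 0x1363) (.lf 0)))) (.nd (.nd (.nd (.lf 0x16a3) (.lf 0x5eb)) (.nd (.lf 0x15bd) (.lf 0))) (.nd (.nd (.lf 0xce9) (.lf 0x7af)) (.nd (.lf 0x29a5) (.lf 0))))) (.nd (.nd (.nd (.nd (.lf 0x29e9) (.lf 0xaf3)) (.nd (.lf 0x377d) (.lf 0))) (.nd (.nd (.lf 0x4bc) (.lf 0x12ed)) (.nd (.lf 0x2449) (.lf 0)))) (.nd (.nd (.nd (.lf 0x142d) (.lf 0x8eb)) (.nd (.lf 0x2731) (.lf 0))) (.nd (.nd (.lf 0x4a7) (.lf 0x243e)) (.nd (.lf 0x596) (.lf 0))))))) (.nd (.nd (.nd (.nd (.nd (.nd (.lf 0x1061) (.lf 0x2aa3)) (.nd (.lf 0x971) (.lf 0))) (.nd (.nd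 (.lf 0x2916) (.lf 0x2a27)) (.nd (.lf 0x2215) (.lf 0)))) (.nd (.nd (.nd (.lf 0x127e) (.lf 0x34dd)) (.nd (.lf 0x23dc) (.lf 0))) (.nd (.nd (.lf 0x13bb) (.lf 0x25fd)) (.nd (.lf 0x15f3) (.lf 0))))) (.nd (.nd (.nd (.nd (.lf 0x14da) (.lf 0xdbc)) (.nd (.lf 0x1680) (.lf 0))) (.nd (.nd (.lf 0x120e) (.lf 0x4fe)) (.nd (.lf 0x148d) (.lf 0)))) (.nd (.nd (.nd (.lf 0x2296) (.lf 0x17ae)) (.nd (.lf 0x13be) (.lf 0))) (.nd (.nd (.lf 0x3551) (.lf 0x1246)) (.nd (.lf 0x365a) (.lf 0)))))) (.nd (.nd (.nd (.nd (.nd (.lf 0x1407) (.lf 0xcc7)) (.nd (.lf 0x2b66) (.lf 0))) (.nd (.nd (.lf 0xb2c) (.lf 0x344d)) (.nd (.lf 0x1070) (.lf 0)))) (.nd (.nd (.nd (.lf 0x15cb) (.lf 0x15fd)) (.nd (.lf 0x17b3) (.lf 0))) (.nd (.nd (.lf 0x2615) (.lf 0x3731)) (.nd (.lf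 0x3234) (.lf 0))))) (.nd (.nd (.nd (.nd (.lf 0x115a) (.lf 0xf32)) (.nd (.lf 0x2612) (.lf 0))) (.nd (.nd (.lf 0x266a) (.lf 0x114c)) (.nd (.lf 0x71f) (.lf 0)))) (.nd (.nd (.nd (.lf 0x2325) (.lf 0x138d)) (.nd (.lf 0x8a7) (.lf 0))) (.nd (.nd (.lf 0x131d) (.lf 0x339)) (.nd (.lf 0x28fd) (.lf 0))))))))
def parHT_nababbb : Tr := (.nd (.nd (.nd (.nd (.nd (.nd (.nd (.lf 0x3545) (.lf 0xd85)) (.nd (.lf 0x212b) (.lf 0))) (.nd (.nd (.lf 0x2d94) (.lf 0x32a2)) (.nd (.lf 0x30a6) (.lf 0)))) (.nd (.nd (.nd (.lf 0x2264) (.lf 0x2e03)) (.nd (.lf 0x2038) (.lf 0))) (.nd (.nd (.lf 0x28ff) (.lf 0x84b)) (.nd (.lf 0x1107) (.lf 0))))) (.nd (.nd (.nd (.nd (.lf 0x27df) (.lf 0x220e)) (.nd (.lf 0x2b64) (.lf 0))) (.nd (.nd (.lf 0x34a6) (.lf 0x1452)) (.nd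 (.lf 0x2f29) (.lf 0)))) (.nd (.nd (.nd (.lf 0x2fbf) (.lf 0x1480)) (.nd (.lf 0x6a8) (.lf 0))) (.nd (.nd (.lf 0xb3f) (.lf 0xfc1)) (.nd (.lf 0x1513) (.lf 0)))))) (.nd (.nd (.nd (.nd (.nd (.lf 0x11d9) (.lf 0x2ffd)) (.nd (.lf 0x310) (.lf 0))) (.nd (.nd (.lf 0x352c) (.lf 0x2d6f)) (.nd (.lf 0x29b4) (.lf 0)))) (.nd (.nd (.nd (.lf 0x2f27) (.lf 0x382)) (.nd (.lf 0x3329) (.lf 0))) (.nd (.nd (.lf 0x3300) (.lf 0x2bd)) (.nd (.lf 0x26fc) (.lf 0))))) (.nd (.nd (.nd (.nd (.lf 0x239f) (.lf 0x35a)) (.nd (.lf 0x298c) (.lf 0))) (.nd (.nd (.lf 0xd7a) (.lf 0x3171)) (.nd (.lf 0x28b0) (.lf 0)))) (.nd (.nd (.nd (.lf 0x3287) (.lf 0x203e)) (.nd (.lf 0x2cec) (.lf 0))) (.nd (.nd (.lf 0x755) (.lf 0x3174)) (.nd (.lf 0xcc3) (.lf 0))))))) (.nd (.nd (.nd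 (.nd (.nd (.nd (.lf 0x22ae) (.lf 0x60d)) (.nd (.lf 0x278) (.lf 0))) (.nd (.nd (.lf 0x2962) (.lf 0x114a)) (.nd (.lf 0x16b7) (.lf 0)))) (.nd (.nd (.nd (.lf 0xd16) (.lf 0x2)) (.nd (.lf 0x23b3) (.lf 0))) (.nd (.nd (.lf 0x7a8) (.lf 0x17c5)) (.nd (.lf 0x12b7) (.lf 0))))) (.nd (.nd (.nd (.nd (.lf 0xecd) (.lf 0x33b1)) (.nd (.lf 0x2bc3) (.lf 0))) (.nd (.nd (.lf 0x261a) (.lf 0x127c)) (.nd (.lf 0x316e) (.lf 0)))) (.nd (.nd (.nd (.lf 0x131e) (.lf 0x351f)) (.nd (.lf 0x1421) (.lf 0))) (.nd (.nd (.lf 0x6d1) (.lf 0x26fb)) (.nd (.lf 0x28b7) (.lf 0)))))) (.nd (.nd (.nd (.nd (.nd (.lf 0x2249) (.lf 0x34fa)) (.nd (.lf 0x5d2) (.lf 0))) (.nd (.nd (.lf 0xff1) (.lf 0x31b7)) (.nd (.lf 0x22f5) (.lf 0)))) (.nd (.nd (.nd (.lf 0x3648) (.lf 0x1138))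 (.nd (.lf 0x1592) (.lf 0))) (.nd (.nd (.lf 0x31fe) (.lf 0x3263)) (.nd (.lf 0x22f3) (.lf 0))))) (.nd (.nd (.nd (.nd (.lf 0x118e) (.lf 0x2656)) (.nd (.lf 0x2b45) (.lf 0))) (.nd (.nd (.lf 0x15da) (.lf 0x354c)) (.nd (.lf 0x1) (.lf 0)))) (.nd (.nd (.nd (.lf 0x200d) (.lf 0x2a8a)) (.nd (.lf 0xb2b) (.lf 0))) (.nd (.nd (.lf 0x16d8) (.lf 0x2c1c)) (.nd (.lf 0x3667) (.lf 0))))))))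
def parHT_nabbaaa : Tr := (.nd (.nd (.nd (.nd (.nd (.nd (.nd (.lf 0x229f) (.lf 0x2eda)) (.nd (.lf 0x29a7) (.lf 0x3ba))) (.nd (.nd (.lf 0xe23) (.lf 0x2c34)) (.nd (.lf 0x156b) (.lf 0)))) (.nd (.nd (.nd (.lf 0x49) (.lf 0x9e1)) (.nd (.lf 0x13da) (.lf 0))) (.nd (.nd (.lf 0x3fb) (.lf 0x2fc6)) (.nd (.lf 0x3d6) (.lf 0))))) (.nd (.nd (.nd (.nd (.lf 0x222d) (.lf 0x2c8d)) (.nd (.lf 0x166a) (.lf 0))) (.nd (.nd (.lf 0x185) (.lf 0x292e)) (.nd (.lf 0x2805) (.lf 0)))) (.nd (.nd (.nd (.lf 0x2ea5) (.lf 0x717)) (.nd (.lf 0x26ca) (.lf 0))) (.nd (.nd (.lf 0xfee) (.lf 0x2c76)) (.nd (.lf 0x27c3) (.lf 0)))))) (.nd (.nd (.nd (.nd (.nd (.lf 0x14e9) (.lf 0x22b3)) (.nd (.lf 0x20d1) (.lf 0))) (.nd (.nd (.lf 0x372a) (.lf 0x2353)) (.nd (.lf 0x998) (.lf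 0)))) (.nd (.nd (.nd (.lf 0x210d) (.lf 0x1697)) (.nd (.lf 0x1040) (.lf 0))) (.nd (.nd (.lf 0x1255) (.lf 0x9f5)) (.nd (.lf 0x2922) (.lf 0))))) (.nd (.nd (.nd (.nd (.lf 0xf3d) (.lf 0x2f2a)) (.nd (.lf 0x224b) (.lf 0))) (.nd (.nd (.lf 0xa6c) (.lf 0x12db)) (.nd (.lf 0x2cae) (.lf 0)))) (.nd (.nd (.nd (.lf 0x29fa) (.lf 0x2283)) (.nd (.lf 0x16d1) (.lf 0))) (.nd (.nd (.lf 0x3cb) (.lf 0xe1d)) (.nd (.lf 0x2087) (.lf 0))))))) (.nd (.nd (.nd (.nd (.nd (.nd (.lf 0x21b0) (.lf 0x467)) (.nd (.lf 0xb71) (.lf 0))) (.nd (.nd (.lf 0xdbb) (.lf 0x29e3)) (.nd (.lf 0x21bf) (.lf 0)))) (.nd (.nd (.nd (.lf 0x16cb) (.lf 0x143e)) (.nd (.lf 0x3332) (.lf 0))) (.nd (.nd (.lf 0x16d0) (.lf 0x2d20)) (.nd (.lf 0x139) (.lf 0))))) (.nd (.nd (.nd (.nd (.lf 0x1352)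 (.lf 0x2503)) (.nd (.lf 0x3100) (.lf 0))) (.nd (.nd (.lf 0x13d2) (.lf 0x16f2)) (.nd (.lf 0xa6a) (.lf 0)))) (.nd (.nd (.nd (.lf 0x23d4) (.lf 0x20e0)) (.nd (.lf 0x29c7) (.lf 0))) (.nd (.nd (.lf 0x240d) (.lf 0x33c1)) (.nd (.lf 0x26b7) (.lf 0)))))) (.nd (.nd (.nd (.nd (.nd (.lf 0x2f7e) (.lf 0xcb6)) (.nd (.lf 0x371d) (.lf 0))) (.nd (.nd (.lf 0x132a) (.lf 0x2124)) (.nd (.lf 0x221c) (.lf 0)))) (.nd (.nd (.nd (.lf 0x28a1) (.lf 0x3079)) (.nd (.lf 0x1191) (.lf 0))) (.nd (.nd (.lf 0x2aa5) (.lf 0x2df5)) (.nd (.lf 0xa81) (.lf 0))))) (.nd (.nd (.nd (.nd (.lf 0x52b) (.lf 0x225)) (.nd (.lf 0xc33) (.lf 0))) (.nd (.nd (.lf 0x631) (.lf 0x3089)) (.nd (.lf 0x230) (.lf 0)))) (.nd (.nd (.nd (.lf 0xd21) (.lf 0x2e9)) (.nd (.lf 0x211f) (.lf 0)))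 (.nd (.nd (.lf 0x1560) (.lf 0xfcc)) (.nd (.lf 0xc18) (.lf 0))))))))
def parHT_nabbaab : Tr := (.nd (.nd (.nd (.nd (.nd (.nd (.nd (.lf 0x2cc2) (.lf 0x2784)) (.nd (.lf 0x37fb) (.lf 0))) (.nd (.nd (.lf 0x34c9) (.lf 0x2d9a)) (.nd (.lf 0x22c0) (.lf 0)))) (.nd (.nd (.nd (.lf 0x24aa) (.lf 0x2fa6)) (.nd (.lf 0x1540) (.lf 0))) (.nd (.nd (.lf 0x941) (.lf 0xe85)) (.nd (.lf 0x34f7) (.lf 0))))) (.nd (.nd (.nd (.nd (.lf 0x827) (.lf 0x3086)) (.nd (.lf 0x34ab) (.lf 0))) (.nd (.nd (.lf 0x2e5) (.lf 0x1737)) (.nd (.lf 0x248) (.lf 0)))) (.nd (.nd (.nd (.lf 0x1541) (.lf 0x36ac)) (.nd (.lf 0xdaa) (.lf 0))) (.nd (.nd (.lf 0x293b) (.lf 0x3490)) (.nd (.lf 0x121d) (.lf 0)))))) (.nd (.nd (.nd (.nd (.nd (.lf 0x251) (.lf 0x2535)) (.nd (.lf 0x25e2)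 (.lf 0))) (.nd (.nd (.lf 0x433) (.lf 0xed9)) (.nd (.lf 0x16f0) (.lf 0)))) (.nd (.nd (.nd (.lf 0x9a3) (.lf 0x2d7)) (.nd (.lf 0x355c) (.lf 0))) (.nd (.nd (.lf 0x29b2) (.lf 0x330f)) (.nd (.lf 0x25ae) (.lf 0))))) (.nd (.nd (.nd (.nd (.lf 0x156d) (.lf 0x2b8b)) (.nd (.lf 0x722) (.lf 0))) (.nd (.nd (.lf 0x945) (.lf 0x229e)) (.nd (.lf 0x22d7) (.lf 0)))) (.nd (.nd (.nd (.lf 0x27b4) (.lf 0x27cc)) (.nd (.lf 0x36ff) (.lf 0))) (.nd (.nd (.lf 0x2c29) (.lf 0x2b16)) (.nd (.lf 0x4c8) (.lf 0))))))) (.nd (.nd (.nd (.nd (.nd (.nd (.lf 0x36ae) (.lf 0xf0d)) (.nd (.lf 0xf20) (.lf 0))) (.nd (.nd (.lf 0x465) (.lf 0x2a40)) (.nd (.lf 0x243a) (.lf 0)))) (.nd (.nd (.nd (.lf 0x10d6) (.lf 0x285)) (.nd (.lf 0x29b7) (.lf 0))) (.nd (.nd (.lf 0x1137) (.lf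 0x14c9)) (.nd (.lf 0x5e5) (.lf 0))))) (.nd (.nd (.nd (.nd (.lf 0x111a) (.lf 0x1e4)) (.nd (.lf 0xd68) (.lf 0))) (.nd (.nd (.lf 0x136b) (.lf 0x2e19)) (.nd (.lf 0x90f) (.lf 0)))) (.nd (.nd (.nd (.lf 0x361a) (.lf 0xfa4)) (.nd (.lf 0x37b1) (.lf 0))) (.nd (.nd (.lf 0x1759) (.lf 0xa6f)) (.nd (.lf 0xfc5) (.lf 0)))))) (.nd (.nd (.nd (.nd (.nd (.lf 0xa73) (.lf 0x206a)) (.nd (.lf 0xdcd) (.lf 0))) (.nd (.nd (.lf 0x2fea) (.lf 0x2ad6)) (.nd (.lf 0x14b8) (.lf 0)))) (.nd (.nd (.nd (.lf 0x1794) (.lf 0x13fc)) (.nd (.lf 0x2d8b) (.lf 0))) (.nd (.nd (.lf 0x20aa) (.lf 0xe38)) (.nd (.lf 0x2b80) (.lf 0))))) (.nd (.nd (.nd (.nd (.lf 0x34a2) (.lf 0x6cf)) (.nd (.lf 0x833) (.lf 0))) (.nd (.nd (.lf 0x6f) (.lf 0x29fd)) (.nd (.lf 0x2210) (.lf 0)))) (.nd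 (.nd (.nd (.lf 0x3df) (.lf 0x3751)) (.nd (.lf 0x33cf) (.lf 0))) (.nd (.nd (.lf 0x73b) (.lf 0x3281)) (.nd (.lf 0x36ab) (.lf 0))))))))
def parHT_nabbaba : Tr := (.nd (.nd (.nd (.nd (.nd (.nd (.nd (.lf 0x20ef) (.lf 0x21dd)) (.nd (.lf 0x1781) (.lf 0))) (.nd (.nd (.lf 0x2abd) (.lf 0x21c0)) (.nd (.lf 0x30bf) (.lf 0)))) (.nd (.nd (.nd (.lf 0xca6) (.lf 0x36d7)) (.nd (.lf 0x605) (.lf 0))) (.nd (.nd (.lf 0x2026) (.lf 0xbe5)) (.nd (.lf 0xbbb) (.lf 0))))) (.nd (.nd (.nd (.nd (.lf 0x1156) (.lf 0x1619)) (.nd (.lf 0xd84) (.lf 0))) (.nd (.nd (.lf 0x2fdf) (.lf 0x31c7)) (.nd (.lf 0x771) (.lf 0)))) (.nd (.nd (.nd (.lf 0x2650) (.lf 0x2592)) (.nd (.lf 0x3e5) (.lf 0))) (.nd (.nd (.lf 0x2f56) (.lf 0x2797)) (.nd (.lf 0x24b2) (.lf 0)))))) (.nd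 (.nd (.nd (.nd (.nd (.lf 0x15c2) (.lf 0x2e84)) (.nd (.lf 0x10a9) (.lf 0))) (.nd (.nd (.lf 0xbde) (.lf 0x270a)) (.nd (.lf 0x372e) (.lf 0)))) (.nd (.nd (.nd (.lf 0x37af) (.lf 0x28f0)) (.nd (.lf 0x1ab) (.lf 0))) (.nd (.nd (.lf 0x2170) (.lf 0x22e0)) (.nd (.lf 0x37a1) (.lf 0))))) (.nd (.nd (.nd (.nd (.lf 0xad8) (.lf 0x1bd)) (.nd (.lf 0x2b93) (.lf 0))) (.nd (.nd (.lf 0x27e5) (.lf 0x25a0)) (.nd (.lf 0x1570) (.lf 0)))) (.nd (.nd (.nd (.lf 0xa29) (.lf 0x36a6)) (.nd (.lf 0xc65) (.lf 0))) (.nd (.nd (.lf 0x1245) (.lf 0x2aa1)) (.nd (.lf 0x36d2) (.lf 0))))))) (.nd (.nd (.nd (.nd (.nd (.nd (.lf 0x2bac) (.lf 0x2095)) (.nd (.lf 0xb05) (.lf 0))) (.nd (.nd (.lf 0xf1d) (.lf 0x377e)) (.nd (.lf 0x24a9) (.lf 0)))) (.nd (.nd (.nd (.lf 0x17a1)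 (.lf 0x26c6)) (.nd (.lf 0x2a73) (.lf 0))) (.nd (.nd (.lf 0x2a2c) (.lf 0x6cd)) (.nd (.lf 0x22eb) (.lf 0))))) (.nd (.nd (.nd (.nd (.lf 0x23e) (.lf 0x29f3)) (.nd (.lf 0x2954) (.lf 0))) (.nd (.nd (.lf 0x604) (.lf 0x2064)) (.nd (.lf 0xe03) (.lf 0)))) (.nd (.nd (.nd (.lf 0x14f7) (.lf 0x1728)) (.nd (.lf 0x221d) (.lf 0))) (.nd (.nd (.lf 0x33af) (.lf 0x32e0)) (.nd (.lf 0x2a23) (.lf 0)))))) (.nd (.nd (.nd (.nd (.nd (.lf 0x63a) (.lf 0x568)) (.nd (.lf 0x2d24) (.lf 0))) (.nd (.nd (.lf 0x2bc2) (.lf 0x26)) (.nd (.lf 0x2537) (.lf 0)))) (.nd (.nd (.nd (.lf 0x147) (.lf 0x1072)) (.nd (.lf 0x2a4e) (.lf 0))) (.nd (.nd (.lf 0xbed) (.lf 0x12da)) (.nd (.lf 0x289e) (.lf 0))))) (.nd (.nd (.nd (.nd (.lf 0x345a) (.lf 0x8ce)) (.nd (.lf 0x351d) (.lf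 0))) (.nd (.nd (.lf 0x288e) (.lf 0xbff)) (.nd (.lf 0xcfe) (.lf 0)))) (.nd (.nd (.nd (.lf 0x26b1) (.lf 0x3534)) (.nd (.lf 0x3f4) (.lf 0))) (.nd (.nd (.lf 0x3518) (.lf 0x29c4)) (.nd (.lf 0x1643) (.lf 0))))))))
def parHT_nabbabb : Tr := (.nd (.nd (.nd (.nd (.nd (.nd (.nd (.lf 0x210) (.lf 0x9bb)) (.nd (.lf 0x258c) (.lf 0))) (.nd (.nd (.lf 0x873) (.lf 0x2c28)) (.nd (.lf 0x3113) (.lf 0)))) (.nd (.nd (.nd (.lf 0x36b3) (.lf 0x1537)) (.nd (.lf 0x57b) (.lf 0))) (.nd (.nd (.lf 0x82f) (.lf 0x10e7)) (.nd (.lf 0x1079) (.lf 0))))) (.nd (.nd (.nd (.nd (.lf 0x2fdd) (.lf 0x33e)) (.nd (.lf 0x7bd) (.lf 0))) (.nd (.nd (.lf 0x517) (.lf 0x246f)) (.nd (.lf 0x11fb) (.lf 0)))) (.nd (.nd (.nd (.lf 0x30c3) (.lf 0x430)) (.nd (.lf 0x7de) (.lf 0))) (.nd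 (.nd (.lf 0x21d9) (.lf 0x3711)) (.nd (.lf 0x21f7) (.lf 0)))))) (.nd (.nd (.nd (.nd (.nd (.lf 0x3428) (.lf 0x21cc)) (.nd (.lf 0x60e) (.lf 0))) (.nd (.nd (.lf 0x746) (.lf 0xe11)) (.nd (.lf 0x3214) (.lf 0)))) (.nd (.nd (.nd (.lf 0x2998) (.lf 0x222c)) (.nd (.lf 0x686) (.lf 0))) (.nd (.nd (.lf 0x16bd) (.lf 0x2ae2)) (.nd (.lf 0x208f) (.lf 0))))) (.nd (.nd (.nd (.nd (.lf 0xf3f) (.lf 0x2493)) (.nd (.lf 0x37c1) (.lf 0))) (.nd (.nd (.lf 0x3352) (.lf 0x1218)) (.nd (.lf 0x2f93) (.lf 0)))) (.nd (.nd (.nd (.lf 0xd5f) (.lf 0xe90)) (.nd (.lf 0x3150) (.lf 0))) (.nd (.nd (.lf 0x1313) (.lf 0x2009)) (.nd (.lf 0x346e) (.lf 0))))))) (.nd (.nd (.nd (.nd (.nd (.nd (.lf 0x316f) (.lf 0xef3)) (.nd (.lf 0x6e8) (.lf 0))) (.nd (.nd (.lf 0x1402) (.lf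 0xaf)) (.nd (.lf 0x2279) (.lf 0)))) (.nd (.nd (.nd (.lf 0x2023) (.lf 0x1529)) (.nd (.lf 0x89) (.lf 0))) (.nd (.nd (.lf 0x45a) (.lf 0x336c)) (.nd (.lf 0x2d16) (.lf 0))))) (.nd (.nd (.nd (.nd (.lf 0x2e27) (.lf 0x7ed)) (.nd (.lf 0x127a) (.lf 0))) (.nd (.nd (.lf 0x515) (.lf 0x3797)) (.nd (.lf 0x4a0) (.lf 0)))) (.nd (.nd (.nd (.lf 0x2e55) (.lf 0x1399)) (.nd (.lf 0x2aee) (.lf 0))) (.nd (.nd (.lf 0x2d8c) (.lf 0x25f4)) (.nd (.lf 0x32ac) (.lf 0)))))) (.nd (.nd (.nd (.nd (.nd (.lf 0x268f) (.lf 0x29d0)) (.nd (.lf 0xa91) (.lf 0))) (.nd (.nd (.lf 0x89d) (.lf 0x1417)) (.nd (.lf 0xc78) (.lf 0)))) (.nd (.nd (.nd (.lf 0x1788) (.lf 0x133c)) (.nd (.lf 0xdda) (.lf 0))) (.nd (.nd (.lf 0x2e5d) (.lf 0x173)) (.nd (.lf 0x283d) (.lf 0))))) (.nd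 (.nd (.nd (.nd (.lf 0x543) (.lf 0x218a)) (.nd (.lf 0x2eb6) (.lf 0))) (.nd (.nd (.lf 0x2ad0) (.lf 0x5bc)) (.nd (.lf 0x201d) (.lf 0)))) (.nd (.nd (.nd (.lf 0x2cb6) (.lf 0x2ed0)) (.nd (.lf 0x2ddb) (.lf 0))) (.nd (.nd (.lf 0x30a8) (.lf 0x2fc8)) (.nd (.lf 0x3254) (.lf 0))))))))
def parHT_nabbbaa : Tr := (.nd (.nd (.nd (.nd (.nd (.nd (.nd (.lf 0x2431) (.lf 0x125b)) (.nd (.lf 0x293a) (.lf 0))) (.nd (.nd (.lf 0x30a4) (.lf 0x13c7)) (.nd (.lf 0x2cca) (.lf 0)))) (.nd (.nd (.nd (.lf 0x358e) (.lf 0x35b6)) (.nd (.lf 0x2147) (.lf 0))) (.nd (.nd (.lf 0x1771) (.lf 0x1069)) (.nd (.lf 0x23cb) (.lf 0))))) (.nd (.nd (.nd (.nd (.lf 0x520) (.lf 0x21bd)) (.nd (.lf 0x2942) (.lf 0))) (.nd (.nd (.lf 0x16c5) (.lf 0x175b)) (.nd (.lf 0x2311) (.lf 0))))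 (.nd (.nd (.nd (.lf 0x34be) (.lf 0xae6)) (.nd (.lf 0x321f) (.lf 0))) (.nd (.nd (.lf 0x915) (.lf 0x29c9)) (.nd (.lf 0x72b) (.lf 0)))))) (.nd (.nd (.nd (.nd (.nd (.lf 0x11b) (.lf 0x1629)) (.nd (.lf 0x3512) (.lf 0))) (.nd (.nd (.lf 0x2ed6) (.lf 0x20fa)) (.nd (.lf 0x175) (.lf 0)))) (.nd (.nd (.nd (.lf 0x300d) (.lf 0xd92)) (.nd (.lf 0x3000) (.lf 0))) (.nd (.nd (.lf 0x2294) (.lf 0x3219)) (.nd (.lf 0xceb) (.lf 0))))) (.nd (.nd (.nd (.nd (.lf 0x2a95) (.lf 0x1598)) (.nd (.lf 0x7b7) (.lf 0))) (.nd (.nd (.lf 0xca5) (.lf 0x47a)) (.nd (.lf 0x16ed) (.lf 0)))) (.nd (.nd (.nd (.lf 0x2549) (.lf 0x18b)) (.nd (.lf 0x30db) (.lf 0))) (.nd (.nd (.lf 0x2183) (.lf 0x869)) (.nd (.lf 0x3458) (.lf 0))))))) (.nd (.nd (.nd (.nd (.nd (.nd (.lf 0x3536)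 (.lf 0x220a)) (.nd (.lf 0x349e) (.lf 0))) (.nd (.nd (.lf 0x2727) (.lf 0x37d7)) (.nd (.lf 0x2562) (.lf 0)))) (.nd (.nd (.nd (.lf 0x26a3) (.lf 0x1329)) (.nd (.lf 0x2202) (.lf 0))) (.nd (.nd (.lf 0x1302) (.lf 0x25bf)) (.nd (.lf 0x32bd) (.lf 0))))) (.nd (.nd (.nd (.nd (.lf 0xe4f) (.lf 0x2e0d)) (.nd (.lf 0x2652) (.lf 0))) (.nd (.nd (.lf 0x2be0) (.lf 0x177c)) (.nd (.lf 0xcaa) (.lf 0)))) (.nd (.nd (.nd (.lf 0xa63) (.lf 0x903)) (.nd (.lf 0x245a) (.lf 0))) (.nd (.nd (.lf 0xfa0) (.lf 0x1384)) (.nd (.lf 0x1783) (.lf 0)))))) (.nd (.nd (.nd (.nd (.nd (.lf 0x2a28) (.lf 0x2983)) (.nd (.lf 0x1556) (.lf 0))) (.nd (.nd (.lf 0x27b7) (.lf 0x11f3)) (.nd (.lf 0x2c4e) (.lf 0)))) (.nd (.nd (.nd (.lf 0x7d3) (.lf 0x251e)) (.nd (.lf 0x1604) (.lf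 0))) (.nd (.nd (.lf 0x36d3) (.lf 0x1726)) (.nd (.lf 0xa13) (.lf 0))))) (.nd (.nd (.nd (.nd (.lf 0x250b) (.lf 0x3227)) (.nd (.lf 0x3785) (.lf 0))) (.nd (.nd (.lf 0x3508) (.lf 0x367c)) (.nd (.lf 0x2c2) (.lf 0)))) (.nd (.nd (.nd (.lf 0x61c) (.lf 0x2846)) (.nd (.lf 0x12e9) (.lf 0))) (.nd (.nd (.lf 0x11c0) (.lf 0x3706)) (.nd (.lf 0x73d) (.lf 0))))))))
def parHT_nabbbab : Tr := (.nd (.nd (.nd (.nd (.nd (.nd (.nd (.lf 0x28d5) (.lf 0x326)) (.nd (.lf 0x2ff8) (.lf 0))) (.nd (.nd (.lf 0x3393) (.lf 0x3686)) (.nd (.lf 0x2ee6) (.lf 0)))) (.nd (.nd (.nd (.lf 0x19b) (.lf 0x31ba)) (.nd (.lf 0x320c) (.lf 0))) (.nd (.nd (.lf 0x2a50) (.lf 0x134)) (.nd (.lf 0xd55) (.lf 0))))) (.nd (.nd (.nd (.nd (.lf 0xe24) (.lf 0x25e0)) (.nd (.lf 0x387) (.lf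 0))) (.nd (.nd (.lf 0x24df) (.lf 0xbdd)) (.nd (.lf 0x1579) (.lf 0)))) (.nd (.nd (.nd (.lf 0x24e2) (.lf 0x26d1)) (.nd (.lf 0x122c) (.lf 0))) (.nd (.nd (.lf 0x2adc) (.lf 0xc97)) (.nd (.lf 0x632) (.lf 0)))))) (.nd (.nd (.nd (.nd (.nd (.lf 0x28d8) (.lf 0x6be)) (.nd (.lf 0x2097) (.lf 0))) (.nd (.nd (.lf 0x2e38) (.lf 0x645)) (.nd (.lf 0x2697) (.lf 0)))) (.nd (.nd (.nd (.lf 0x2ae5) (.lf 0x2605)) (.nd (.lf 0x2285) (.lf 0))) (.nd (.nd (.lf 0x3524) (.lf 0x2482)) (.nd (.lf 0x3236) (.lf 0))))) (.nd (.nd (.nd (.nd (.lf 0x26be) (.lf 0x1142)) (.nd (.lf 0x2028) (.lf 0))) (.nd (.nd (.lf 0x28da) (.lf 0x2691)) (.nd (.lf 0x71d) (.lf 0)))) (.nd (.nd (.nd (.lf 0x2137) (.lf 0x114e)) (.nd (.lf 0xc4d) (.lf 0))) (.nd (.nd (.lf 0x15dc) (.lf 0x2594))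 (.nd (.lf 0x63f) (.lf 0))))))) (.nd (.nd (.nd (.nd (.nd (.nd (.lf 0x17cf) (.lf 0x2d0b)) (.nd (.lf 0x78e) (.lf 0))) (.nd (.nd (.lf 0x82a) (.lf 0x56f)) (.nd (.lf 0x2e02) (.lf 0)))) (.nd (.nd (.nd (.lf 0x2b75) (.lf 0x95c)) (.nd (.lf 0x248d) (.lf 0))) (.nd (.nd (.lf 0x24e6) (.lf 0x25df)) (.nd (.lf 0x14f5) (.lf 0))))) (.nd (.nd (.nd (.nd (.lf 0x10af) (.lf 0xe09)) (.nd (.lf 0x25f3) (.lf 0))) (.nd (.nd (.lf 0x3286) (.lf 0xc55)) (.nd (.lf 0x292a) (.lf 0)))) (.nd (.nd (.nd (.lf 0x2daf) (.lf 0x20b7)) (.nd (.lf 0x228b) (.lf 0))) (.nd (.nd (.lf 0x32a0) (.lf 0x24ae)) (.nd (.lf 0x334a) (.lf 0)))))) (.nd (.nd (.nd (.nd (.nd (.lf 0x32d4) (.lf 0xa82)) (.nd (.lf 0xc7b) (.lf 0))) (.nd (.nd (.lf 0x30f4) (.lf 0xa12)) (.nd (.lf 0x11d2) (.lf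 0)))) (.nd (.nd (.nd (.lf 0x27be) (.lf 0x2860)) (.nd (.lf 0x297) (.lf 0))) (.nd (.nd (.lf 0x2bdb) (.lf 0x136e)) (.nd (.lf 0x288a) (.lf 0))))) (.nd (.nd (.nd (.nd (.lf 0x862) (.lf 0x2298)) (.nd (.lf 0x6af) (.lf 0))) (.nd (.nd (.lf 0xd34) (.lf 0x273f)) (.nd (.lf 0x365b) (.lf 0)))) (.nd (.nd (.nd (.lf 0x33be) (.lf 0x2d42)) (.nd (.lf 0x26e6) (.lf 0))) (.nd (.nd (.lf 0x2eb4) (.lf 0x360b)) (.nd (.lf 0xc2) (.lf 0))))))))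
def parHT_nabbbba : Tr := (.nd (.nd (.nd (.nd (.nd (.nd (.nd (.lf 0x2e6) (.lf 0x2e33)) (.nd (.lf 0x27c) (.lf 0))) (.nd (.nd (.lf 0x1758) (.lf 0x30fe)) (.nd (.lf 0x78c) (.lf 0)))) (.nd (.nd (.nd (.lf 0x2fae) (.lf 0x329b)) (.nd (.lf 0x2e32) (.lf 0))) (.nd (.nd (.lf 0x287b) (.lf 0x15e9)) (.nd (.lf 0x2d69) (.lf 0))))) (.nd (.nd (.nd (.nd (.lf 0xbc5) (.lf 0x3802)) (.nd (.lf 0x1080) (.lf 0))) (.nd (.nd (.lf 0x233) (.lf 0x17fe)) (.nd (.lf 0x786) (.lf 0)))) (.nd (.nd (.nd (.lf 0x2165) (.lf 0x2645)) (.nd (.lf 0x1324) (.lf 0))) (.nd (.nd (.lf 0xf13) (.lf 0x32f4)) (.nd (.lf 0x1392) (.lf 0)))))) (.nd (.nd (.nd (.nd (.nd (.lf 0x2b83) (.lf 0x797)) (.nd (.lf 0x3707) (.lf 0))) (.nd (.nd (.lf 0xe4) (.lf 0x2c5e)) (.nd (.lf 0x33b4) (.lf 0))))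 (.nd (.nd (.nd (.lf 0x378) (.lf 0x22bb)) (.nd (.lf 0x3425) (.lf 0))) (.nd (.nd (.lf 0x2913) (.lf 0x736)) (.nd (.lf 0x2e76) (.lf 0))))) (.nd (.nd (.nd (.nd (.lf 0x15ec) (.lf 0x2c6e)) (.nd (.lf 0x6df) (.lf 0))) (.nd (.nd (.lf 0x75c) (.lf 0x93c)) (.nd (.lf 0x3205) (.lf 0)))) (.nd (.nd (.nd (.lf 0x2bee) (.lf 0x56b)) (.nd (.lf 0x28c4) (.lf 0))) (.nd (.nd (.lf 0x231c) (.lf 0x7e7)) (.nd (.lf 0x1238) (.lf 0))))))) (.nd (.nd (.nd (.nd (.nd (.nd (.lf 0x10a8) (.lf 0xb60)) (.nd (.lf 0x11b2) (.lf 0))) (.nd (.nd (.lf 0x962) (.lf 0xf4c)) (.nd (.lf 0x2ae0) (.lf 0)))) (.nd (.nd (.nd (.lf 0x19a) (.lf 0x16ba)) (.nd (.lf 0x31cf) (.lf 0))) (.nd (.nd (.lf 0x1a2) (.lf 0x2761)) (.nd (.lf 0x2f0e) (.lf 0))))) (.nd (.nd (.nd (.nd (.lf 0x29d) (.lf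 0x1175)) (.nd (.lf 0x259b) (.lf 0))) (.nd (.nd (.lf 0x542) (.lf 0x1628)) (.nd (.lf 0x2db4) (.lf 0)))) (.nd (.nd (.nd (.lf 0x2025) (.lf 0x916)) (.nd (.lf 0x3783) (.lf 0))) (.nd (.nd (.lf 0x2274) (.lf 0x1369)) (.nd (.lf 0x635) (.lf 0)))))) (.nd (.nd (.nd (.nd (.nd (.lf 0x919) (.lf 0x8fb)) (.nd (.lf 0x2eed) (.lf 0))) (.nd (.nd (.lf 0x2290) (.lf 0x16e3)) (.nd (.lf 0x24ee) (.lf 0)))) (.nd (.nd (.nd (.lf 0x2628) (.lf 0x34c7)) (.nd (.lf 0x802) (.lf 0))) (.nd (.nd (.lf 0x1031) (.lf 0x3531)) (.nd (.lf 0x2b63) (.lf 0))))) (.nd (.nd (.nd (.nd (.lf 0x2332) (.lf 0x29a2)) (.nd (.lf 0x2b4) (.lf 0))) (.nd (.nd (.lf 0x22f2) (.lf 0x871)) (.nd (.lf 0x2f17) (.lf 0)))) (.nd (.nd (.nd (.lf 0x15a4) (.lf 0x31b2)) (.nd (.lf 0x10d5) (.lf 0))) (.nd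 (.nd (.lf 0x1224) (.lf 0x5f3)) (.nd (.lf 0x17f1) (.lf 0))))))))
def parHT_nabbbbb : Tr := (.nd (.nd (.nd (.nd (.nd (.nd (.nd (.lf 0xefb) (.lf 0x2ae7)) (.nd (.lf 0x1173) (.lf 0))) (.nd (.nd (.lf 0xc6c) (.lf 0x2ea8)) (.nd (.lf 0x1321) (.lf 0)))) (.nd (.nd (.nd (.lf 0x3170) (.lf 0x1433)) (.nd (.lf 0x338) (.lf 0))) (.nd (.nd (.lf 0x1620) (.lf 0x247)) (.nd (.lf 0xcfb) (.lf 0))))) (.nd (.nd (.nd (.nd (.lf 0x33d9) (.lf 0x8c1)) (.nd (.lf 0x774) (.lf 0))) (.nd (.nd (.lf 0x2ec8) (.lf 0x3621)) (.nd (.lf 0x521) (.lf 0)))) (.nd (.nd (.nd (.lf 0x2e49) (.lf 0x2133)) (.nd (.lf 0x3276) (.lf 0))) (.nd (.nd (.lf 0x2e5a) (.lf 0x3533)) (.nd (.lf 0x1ba) (.lf 0)))))) (.nd (.nd (.nd (.nd (.nd (.lf 0x3033) (.lf 0x637)) (.nd (.lf 0x35f6) (.lf 0)))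 (.nd (.nd (.lf 0x31f9) (.lf 0x77b)) (.nd (.lf 0x2cf) (.lf 0)))) (.nd (.nd (.nd (.lf 0x13c1) (.lf 0xf8d)) (.nd (.lf 0x27f2) (.lf 0))) (.nd (.nd (.lf 0x2a52) (.lf 0x8ca)) (.nd (.lf 0xe5c) (.lf 0))))) (.nd (.nd (.nd (.nd (.lf 0x1527) (.lf 0xfc6)) (.nd (.lf 0xfe9) (.lf 0))) (.nd (.nd (.lf 0x2191) (.lf 0xf58)) (.nd (.lf 0x151a) (.lf 0)))) (.nd (.nd (.nd (.lf 0x16bf) (.lf 0x27f0)) (.nd (.lf 0xbcf) (.lf 0))) (.nd (.nd (.lf 0x17b9) (.lf 0xe2c)) (.nd (.lf 0xbd1) (.lf 0))))))) (.nd (.nd (.nd (.nd (.nd (.nd (.lf 0x2477) (.lf 0x7f9)) (.nd (.lf 0xcd9) (.lf 0))) (.nd (.nd (.lf 0x1117) (.lf 0x928)) (.nd (.lf 0x35d3) (.lf 0)))) (.nd (.nd (.nd (.lf 0xb62) (.lf 0x2d09)) (.nd (.lf 0x130c) (.lf 0))) (.nd (.nd (.lf 0x26c2) (.lf 0x1601)) (.nd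 (.lf 0x102c) (.lf 0))))) (.nd (.nd (.nd (.nd (.lf 0xef) (.lf 0x256)) (.nd (.lf 0x21ba) (.lf 0))) (.nd (.nd (.lf 0x26b6) (.lf 0x32cc)) (.nd (.lf 0x1021) (.lf 0)))) (.nd (.nd (.nd (.lf 0x2e24) (.lf 0x1609)) (.nd (.lf 0x2369) (.lf 0))) (.nd (.nd (.lf 0x3506) (.lf 0x2c9)) (.nd (.lf 0x335) (.lf 0)))))) (.nd (.nd (.nd (.nd (.nd (.lf 0x127d) (.lf 0x9d1)) (.nd (.lf 0x2a2b) (.lf 0))) (.nd (.nd (.lf 0x23ee) (.lf 0x3136)) (.nd (.lf 0x24e4) (.lf 0)))) (.nd (.nd (.nd (.lf 0xbea) (.lf 0x747)) (.nd (.lf 0xdb2) (.lf 0))) (.nd (.nd (.lf 0x3791) (.lf 0x2dfe)) (.nd (.lf 0x17d1) (.lf 0))))) (.nd (.nd (.nd (.nd (.lf 0x10bc) (.lf 0x222e)) (.nd (.lf 0x210a) (.lf 0))) (.nd (.nd (.lf 0x162b) (.lf 0x31fb)) (.nd (.lf 0x2d3f) (.lf 0)))) (.nd (.nd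 (.nd (.lf 0x2b43) (.lf 0xc0e)) (.nd (.lf 0x35c9) (.lf 0))) (.nd (.nd (.lf 0xf2b) (.lf 0x2821)) (.nd (.lf 0x133d) (.lf 0))))))))
def parHT_nbaaaaa : Tr := (.nd (.nd (.nd (.nd (.nd (.nd (.nd (.lf 0x0) (.lf 0x1494)) (.nd (.lf 0x3045) (.lf 0x28a7))) (.nd (.nd (.lf 0x3696) (.lf 0x2c2e)) (.nd (.lf 0x1572) (.lf 0)))) (.nd (.nd (.nd (.lf 0x6a6) (.lf 0x221b)) (.nd (.lf 0xbd) (.lf 0))) (.nd (.nd (.lf 0x163c) (.lf 0x1148)) (.nd (.lf 0x26f2) (.lf 0))))) (.nd (.nd (.nd (.nd (.lf 0xd57) (.lf 0x5c)) (.nd (.lf 0x2434) (.lf 0))) (.nd (.nd (.lf 0x831) (.lf 0x27)) (.nd (.lf 0x2289) (.lf 0)))) (.nd (.nd (.nd (.lf 0x79b) (.lf 0x2530)) (.nd (.lf 0x3528) (.lf 0))) (.nd (.nd (.lf 0x1132) (.lf 0x2a76)) (.nd (.lf 0x28) (.lf 0)))))) (.nd (.nd (.nd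 (.nd (.nd (.lf 0x24d1) (.lf 0x315e)) (.nd (.lf 0x3040) (.lf 0))) (.nd (.nd (.lf 0x8f7) (.lf 0xf7e)) (.nd (.lf 0x11a4) (.lf 0)))) (.nd (.nd (.nd (.lf 0x2247) (.lf 0x2222)) (.nd (.lf 0x14ac) (.lf 0))) (.nd (.nd (.lf 0x2927) (.lf 0x27aa)) (.nd (.lf 0x375e) (.lf 0))))) (.nd (.nd (.nd (.nd (.lf 0xa24) (.lf 0x1270)) (.nd (.lf 0x12c8) (.lf 0))) (.nd (.nd (.lf 0x2f61) (.lf 0x2eca)) (.nd (.lf 0x253f) (.lf 0)))) (.nd (.nd (.nd (.lf 0x701) (.lf 0xc4e)) (.nd (.lf 0x2a85) (.lf 0))) (.nd (.nd (.lf 0x336b) (.lf 0x1a5)) (.nd (.lf 0x16cf) (.lf 0))))))) (.nd (.nd (.nd (.nd (.nd (.nd (.lf 0x4f9) (.lf 0x320e)) (.nd (.lf 0x21c6) (.lf 0))) (.nd (.nd (.lf 0x1672) (.lf 0x1251)) (.nd (.lf 0x33a7) (.lf 0)))) (.nd (.nd (.nd (.lf 0xc0c) (.lf 0x69d))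 (.nd (.lf 0x2291) (.lf 0))) (.nd (.nd (.lf 0x267a) (.lf 0x2ade)) (.nd (.lf 0x2338) (.lf 0))))) (.nd (.nd (.nd (.nd (.lf 0x12c) (.lf 0x11d8)) (.nd (.lf 0xf60) (.lf 0))) (.nd (.nd (.lf 0x282f) (.lf 0x3048)) (.nd (.lf 0x3b4) (.lf 0)))) (.nd (.nd (.nd (.lf 0x2396) (.lf 0x2b41)) (.nd (.lf 0x11c7) (.lf 0))) (.nd (.nd (.lf 0x9c8) (.lf 0x12a9)) (.nd (.lf 0x29d5) (.lf 0)))))) (.nd (.nd (.nd (.nd (.nd (.lf 0x33cb) (.lf 0x366e)) (.nd (.lf 0x135c) (.lf 0))) (.nd (.nd (.lf 0x2e9a) (.lf 0x277a)) (.nd (.lf 0x1676) (.lf 0)))) (.nd (.nd (.nd (.lf 0x24dd) (.lf 0x35fd)) (.nd (.lf 0x14b4) (.lf 0))) (.nd (.nd (.lf 0x78d) (.lf 0x12c6)) (.nd (.lf 0x2288) (.lf 0))))) (.nd (.nd (.nd (.nd (.lf 0xb4f) (.lf 0x241f)) (.nd (.lf 0x8f1) (.lf 0))) (.nd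 (.nd (.lf 0x2619) (.lf 0xfb2)) (.nd (.lf 0x2d5b) (.lf 0)))) (.nd (.nd (.nd (.lf 0x31f8) (.lf 0x272b)) (.nd (.lf 0x643) (.lf 0))) (.nd (.nd (.lf 0x2845) (.lf 0x226d)) (.nd (.lf 0x245c) (.lf 0))))))))
def parHT_nbaaaab : Tr := (.nd (.nd (.nd (.nd (.nd (.nd (.nd (.lf 0x2471) (.lf 0x317f)) (.nd (.lf 0xea8) (.lf 0))) (.nd (.nd (.lf 0x3273) (.lf 0xa74)) (.nd (.lf 0x9a9) (.lf 0)))) (.nd (.nd (.nd (.lf 0x1081) (.lf 0x23bc)) (.nd (.lf 0x14cb) (.lf 0))) (.nd (.nd (.lf 0x1213) (.lf 0x338a)) (.nd (.lf 0x2af1) (.lf 0))))) (.nd (.nd (.nd (.nd (.lf 0x6ad) (.lf 0x210b)) (.nd (.lf 0x3058) (.lf 0))) (.nd (.nd (.lf 0x27d1) (.lf 0x2b52)) (.nd (.lf 0x4cf) (.lf 0)))) (.nd (.nd (.nd (.lf 0x2e2) (.lf 0x2868)) (.nd (.lf 0xfb) (.lf 0))) (.nd (.nd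 (.lf 0x1802) (.lf 0x2be5)) (.nd (.lf 0x401) (.lf 0)))))) (.nd (.nd (.nd (.nd (.nd (.lf 0x2716) (.lf 0x3346)) (.nd (.lf 0xf06) (.lf 0))) (.nd (.nd (.lf 0x26f9) (.lf 0x3f7)) (.nd (.lf 0x4d) (.lf 0)))) (.nd (.nd (.nd (.lf 0x62d) (.lf 0x305c)) (.nd (.lf 0x179c) (.lf 0))) (.nd (.nd (.lf 0x109e) (.lf 0x2660)) (.nd (.lf 0x2f07) (.lf 0))))) (.nd (.nd (.nd (.nd (.lf 0x2b8c) (.lf 0x1694)) (.nd (.lf 0x13e3) (.lf 0))) (.nd (.nd (.lf 0x251a) (.lf 0x2a71)) (.nd (.lf 0x3143) (.lf 0)))) (.nd (.nd (.nd (.lf 0x2375) (.lf 0x200a)) (.nd (.lf 0xa52) (.lf 0))) (.nd (.nd (.lf 0x2be) (.lf 0x26ab)) (.nd (.lf 0x828) (.lf 0))))))) (.nd (.nd (.nd (.nd (.nd (.nd (.lf 0x5b1) (.lf 0x2a86)) (.nd (.lf 0x32e9) (.lf 0))) (.nd (.nd (.lf 0x17c1) (.lf 0x357e))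 (.nd (.lf 0x153b) (.lf 0)))) (.nd (.nd (.nd (.lf 0x1558) (.lf 0x2aa9)) (.nd (.lf 0x5ca) (.lf 0))) (.nd (.nd (.lf 0x1202) (.lf 0x346d)) (.nd (.lf 0xb88) (.lf 0))))) (.nd (.nd (.nd (.nd (.lf 0x91) (.lf 0x321d)) (.nd (.lf 0x6b7) (.lf 0))) (.nd (.nd (.lf 0x1435) (.lf 0x5a7)) (.nd (.lf 0x3709) (.lf 0)))) (.nd (.nd (.nd (.lf 0x32be) (.lf 0xef9)) (.nd (.lf 0x2e22) (.lf 0))) (.nd (.nd (.lf 0x33fd) (.lf 0x21c8)) (.nd (.lf 0xdb8) (.lf 0)))))) (.nd (.nd (.nd (.nd (.nd (.lf 0x2651) (.lf 0x964)) (.nd (.lf 0x3198) (.lf 0))) (.nd (.nd (.lf 0x2623) (.lf 0x2ec5)) (.nd (.lf 0x2837) (.lf 0)))) (.nd (.nd (.nd (.lf 0x2cad) (.lf 0x27dc)) (.nd (.lf 0x3283) (.lf 0))) (.nd (.nd (.lf 0x2275) (.lf 0x2908)) (.nd (.lf 0x256d) (.lf 0))))) (.nd (.nd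 (.nd (.nd (.lf 0x2e88) (.lf 0x2f68)) (.nd (.lf 0x819) (.lf 0))) (.nd (.nd (.lf 0x26ea) (.lf 0x289f)) (.nd (.lf 0x71e) (.lf 0)))) (.nd (.nd (.nd (.lf 0x180) (.lf 0x84e)) (.nd (.lf 0x2770) (.lf 0))) (.nd (.nd (.lf 0x2ceb) (.lf 0x20c7)) (.nd (.lf 0x2d23) (.lf 0))))))))
def parHT_nbaaaba : Tr := (.nd (.nd (.nd (.nd (.nd (.nd (.nd (.lf 0x20a1) (.lf 0x347c)) (.nd (.lf 0x3355) (.lf 0))) (.nd (.nd (.lf 0x65d) (.lf 0x30ed)) (.nd (.lf 0x2b98) (.lf 0)))) (.nd (.nd (.nd (.lf 0x72) (.lf 0x1056)) (.nd (.lf 0x2bc6) (.lf 0))) (.nd (.nd (.lf 0x3239) (.lf 0x77a)) (.nd (.lf 0x2207) (.lf 0))))) (.nd (.nd (.nd (.nd (.lf 0xccb) (.lf 0x1638)) (.nd (.lf 0x32d2) (.lf 0))) (.nd (.nd (.lf 0xf0c) (.lf 0x877)) (.nd (.lf 0xdab) (.lf 0)))) (.nd (.nd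 (.nd (.lf 0xf0e) (.lf 0x2758)) (.nd (.lf 0x23fe) (.lf 0))) (.nd (.nd (.lf 0x21db) (.lf 0x2903)) (.nd (.lf 0x147e) (.lf 0)))))) (.nd (.nd (.nd (.nd (.nd (.lf 0xf09) (.lf 0x15c3)) (.nd (.lf 0x25b0) (.lf 0))) (.nd (.nd (.lf 0x2cc3) (.lf 0xfa7)) (.nd (.lf 0x223e) (.lf 0)))) (.nd (.nd (.nd (.lf 0x2b2b) (.lf 0x1446)) (.nd (.lf 0xf26) (.lf 0))) (.nd (.nd (.lf 0x23ae) (.lf 0x8a8)) (.nd (.lf 0x83) (.lf 0))))) (.nd (.nd (.nd (.nd (.lf 0x1683) (.lf 0x2e56)) (.nd (.lf 0x33b2) (.lf 0))) (.nd (.nd (.lf 0x2395) (.lf 0x28b6)) (.nd (.lf 0x13df) (.lf 0)))) (.nd (.nd (.nd (.lf 0x112e) (.lf 0x2020)) (.nd (.lf 0x2307) (.lf 0))) (.nd (.nd (.lf 0x331c) (.lf 0x3142)) (.nd (.lf 0x26e4) (.lf 0))))))) (.nd (.nd (.nd (.nd (.nd (.nd (.lf 0x159) (.lf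 0x92b)) (.nd (.lf 0x284) (.lf 0))) (.nd (.nd (.lf 0x235d) (.lf 0x1456)) (.nd (.lf 0x218f) (.lf 0)))) (.nd (.nd (.nd (.lf 0x2052) (.lf 0x6bb)) (.nd (.lf 0x12bb) (.lf 0))) (.nd (.nd (.lf 0x8da) (.lf 0xbe0)) (.nd (.lf 0x2cbf) (.lf 0))))) (.nd (.nd (.nd (.nd (.lf 0x312e) (.lf 0x34f0)) (.nd (.lf 0x6f8) (.lf 0))) (.nd (.nd (.lf 0xa39) (.lf 0x2d18)) (.nd (.lf 0x2dc1) (.lf 0)))) (.nd (.nd (.nd (.lf 0x160d) (.lf 0x298e)) (.nd (.lf 0x1098) (.lf 0))) (.nd (.nd (.lf 0x20b1) (.lf 0x31f2)) (.nd (.lf 0x29af) (.lf 0)))))) (.nd (.nd (.nd (.nd (.nd (.lf 0x14c2) (.lf 0x3456)) (.nd (.lf 0x794) (.lf 0))) (.nd (.nd (.lf 0x3118) (.lf 0xfcf)) (.nd (.lf 0x12d5) (.lf 0)))) (.nd (.nd (.nd (.lf 0x2142) (.lf 0x33b6)) (.nd (.lf 0x2859) (.lf 0))) (.nd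 (.nd (.lf 0xcc8) (.lf 0x3717)) (.nd (.lf 0x208e) (.lf 0))))) (.nd (.nd (.nd (.nd (.lf 0x26aa) (.lf 0xbd8)) (.nd (.lf 0x1423) (.lf 0))) (.nd (.nd (.lf 0xd88) (.lf 0x2afd)) (.nd (.lf 0x246b) (.lf 0)))) (.nd (.nd (.nd (.lf 0x2082) (.lf 0x10c4)) (.nd (.lf 0x81d) (.lf 0))) (.nd (.nd (.lf 0x1ec) (.lf 0x13b6)) (.nd (.lf 0x318d) (.lf 0))))))))
def parHT_nbaaabb : Tr := (.nd (.nd (.nd (.nd (.nd (.nd (.nd (.lf 0x2517) (.lf 0xc56)) (.nd (.lf 0x224e) (.lf 0))) (.nd (.nd (.lf 0x1128) (.lf 0x10be)) (.nd (.lf 0x2a6a) (.lf 0)))) (.nd (.nd (.nd (.lf 0xb73) (.lf 0x14b3)) (.nd (.lf 0x1104) (.lf 0))) (.nd (.nd (.lf 0x765) (.lf 0x34b8)) (.nd (.lf 0x98a) (.lf 0))))) (.nd (.nd (.nd (.nd (.lf 0x286b) (.lf 0x20af)) (.nd (.lf 0x168f) (.lf 0))) (.nd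 (.nd (.lf 0x814) (.lf 0x276b)) (.nd (.lf 0x12fa) (.lf 0)))) (.nd (.nd (.nd (.lf 0x288b) (.lf 0x1476)) (.nd (.lf 0xb29) (.lf 0))) (.nd (.nd (.lf 0x26a5) (.lf 0x4ae)) (.nd (.lf 0x21f4) (.lf 0)))))) (.nd (.nd (.nd (.nd (.nd (.lf 0xa6d) (.lf 0x312a)) (.nd (.lf 0xfd4) (.lf 0))) (.nd (.nd (.lf 0x16f4) (.lf 0x132b)) (.nd (.lf 0x2856) (.lf 0)))) (.nd (.nd (.nd (.lf 0x727) (.lf 0x2346)) (.nd (.lf 0xcc0) (.lf 0))) (.nd (.nd (.lf 0x793) (.lf 0x1663)) (.nd (.lf 0x367b) (.lf 0))))) (.nd (.nd (.nd (.nd (.lf 0xda6) (.lf 0x738)) (.nd (.lf 0x266c) (.lf 0))) (.nd (.nd (.lf 0x27a7) (.lf 0x3052)) (.nd (.lf 0xb3d) (.lf 0)))) (.nd (.nd (.nd (.lf 0x2eeb) (.lf 0x178c)) (.nd (.lf 0x29a3) (.lf 0))) (.nd (.nd (.lf 0x122a) (.lf 0x2b3b)) (.nd (.lf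 0x6ff) (.lf 0))))))) (.nd (.nd (.nd (.nd (.nd (.nd (.lf 0x2ac5) (.lf 0x2b8)) (.nd (.lf 0x1169) (.lf 0))) (.nd (.nd (.lf 0xa8) (.lf 0x10b2)) (.nd (.lf 0x257a) (.lf 0)))) (.nd (.nd (.nd (.lf 0x17b7) (.lf 0x3721)) (.nd (.lf 0x58e) (.lf 0))) (.nd (.nd (.lf 0x2dfa) (.lf 0x211d)) (.nd (.lf 0x35e8) (.lf 0))))) (.nd (.nd (.nd (.nd (.lf 0x1231) (.lf 0x3d2)) (.nd (.lf 0x1eb) (.lf 0))) (.nd (.nd (.lf 0x3632) (.lf 0x1618)) (.nd (.lf 0x27d3) (.lf 0)))) (.nd (.nd (.nd (.lf 0x37c8) (.lf 0x31b0)) (.nd (.lf 0x2a5d) (.lf 0))) (.nd (.nd (.lf 0x176a) (.lf 0xe9a)) (.nd (.lf 0x236e) (.lf 0)))))) (.nd (.nd (.nd (.nd (.nd (.lf 0x2b48) (.lf 0x2cbb)) (.nd (.lf 0x28e4) (.lf 0))) (.nd (.nd (.lf 0x2636) (.lf 0x74f)) (.nd (.lf 0x254) (.lf 0)))) (.nd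 (.nd (.nd (.lf 0x305d) (.lf 0x35df)) (.nd (.lf 0x7d8) (.lf 0))) (.nd (.nd (.lf 0xc26) (.lf 0x687)) (.nd (.lf 0xc70) (.lf 0))))) (.nd (.nd (.nd (.nd (.lf 0x2bd0) (.lf 0x302e)) (.nd (.lf 0x241c) (.lf 0))) (.nd (.nd (.lf 0x2f2f) (.lf 0x1416)) (.nd (.lf 0x1551) (.lf 0)))) (.nd (.nd (.nd (.lf 0x36d0) (.lf 0x27b0)) (.nd (.lf 0x1554) (.lf 0))) (.nd (.nd (.lf 0x10df) (.lf 0x9db)) (.nd (.lf 0xd75) (.lf 0))))))))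
def parHT_nbaabaa : Tr := (.nd (.nd (.nd (.nd (.nd (.nd (.nd (.lf 0x2a) (.lf 0x2a03)) (.nd (.lf 0x3579) (.lf 0x33f3))) (.nd (.nd (.lf 0x1046) (.lf 0x7db)) (.nd (.lf 0x923) (.lf 0)))) (.nd (.nd (.nd (.lf 0x10c6) (.lf 0x1606)) (.nd (.lf 0x2251) (.lf 0))) (.nd (.nd (.lf 0x4e1) (.lf 0x3ef)) (.nd (.lf 0x1042) (.lf 0))))) (.nd (.nd (.nd (.nd (.lf 0x33a8) (.lf 0x2f1c)) (.nd (.lf 0xd47) (.lf 0))) (.nd (.nd (.lf 0x310a) (.lf 0x243)) (.nd (.lf 0x2d27) (.lf 0)))) (.nd (.nd (.nd (.lf 0x1097) (.lf 0x141c)) (.nd (.lf 0x516) (.lf 0))) (.nd (.nd (.lf 0x10f5) (.lf 0xd36)) (.nd (.lf 0x365e) (.lf 0)))))) (.nd (.nd (.nd (.nd (.nd (.lf 0x7ea) (.lf 0x12ad)) (.nd (.lf 0x36c5) (.lf 0))) (.nd (.nd (.lf 0x17c7) (.lf 0x967)) (.nd (.lf 0x35c8) (.lf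 0)))) (.nd (.nd (.nd (.lf 0x2ef2) (.lf 0xcb0)) (.nd (.lf 0x11df) (.lf 0))) (.nd (.nd (.lf 0x13bf) (.lf 0x1264)) (.nd (.lf 0x36ef) (.lf 0))))) (.nd (.nd (.nd (.nd (.lf 0x215e) (.lf 0xf34)) (.nd (.lf 0x3650) (.lf 0))) (.nd (.nd (.lf 0x2790) (.lf 0x3327)) (.nd (.lf 0xff5) (.lf 0)))) (.nd (.nd (.nd (.lf 0x2765) (.lf 0x1111)) (.nd (.lf 0x3080) (.lf 0))) (.nd (.nd (.lf 0x270d) (.lf 0x2cd8)) (.nd (.lf 0x2945) (.lf 0))))))) (.nd (.nd (.nd (.nd (.nd (.nd (.lf 0x17bf) (.lf 0x1776)) (.nd (.lf 0xa1f) (.lf 0))) (.nd (.nd (.lf 0x13cd) (.lf 0x33cd)) (.nd (.lf 0x2319) (.lf 0)))) (.nd (.nd (.nd (.lf 0x34c1) (.lf 0x15be)) (.nd (.lf 0xf24) (.lf 0))) (.nd (.nd (.lf 0x21a7) (.lf 0x5c6)) (.nd (.lf 0x2ada) (.lf 0))))) (.nd (.nd (.nd (.nd (.lf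 0x2188) (.lf 0x234e)) (.nd (.lf 0x1d5) (.lf 0))) (.nd (.nd (.lf 0xd5d) (.lf 0x2de7)) (.nd (.lf 0xfbc) (.lf 0)))) (.nd (.nd (.nd (.lf 0x93d) (.lf 0x2a5c)) (.nd (.lf 0x371a) (.lf 0))) (.nd (.nd (.lf 0xac2) (.lf 0x350c)) (.nd (.lf 0x25da) (.lf 0)))))) (.nd (.nd (.nd (.nd (.nd (.lf 0x2acf) (.lf 0x3130)) (.nd (.lf 0x2b3e) (.lf 0))) (.nd (.nd (.lf 0x207f) (.lf 0xff2)) (.nd (.lf 0x41) (.lf 0)))) (.nd (.nd (.nd (.lf 0x1704) (.lf 0x2f72)) (.nd (.lf 0x5e2) (.lf 0))) (.nd (.nd (.lf 0x156c) (.lf 0x2106)) (.nd (.lf 0x2293) (.lf 0))))) (.nd (.nd (.nd (.nd (.lf 0xf75) (.lf 0x139a)) (.nd (.lf 0xeb6) (.lf 0))) (.nd (.nd (.lf 0x27e7) (.lf 0x2d97)) (.nd (.lf 0x2ccc) (.lf 0)))) (.nd (.nd (.nd (.lf 0x142e) (.lf 0x2994)) (.nd (.lf 0x2500) (.lf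 0))) (.nd (.nd (.lf 0x9fa) (.lf 0x2658)) (.nd (.lf 0x3483) (.lf 0))))))))
def parHT_nbaabab : Tr := (.nd (.nd (.nd (.nd (.nd (.nd (.nd (.lf 0xf29) (.lf 0x31d8)) (.nd (.lf 0xfc3) (.lf 0))) (.nd (.nd (.lf 0x16e1) (.lf 0x3775)) (.nd (.lf 0xc4b) (.lf 0)))) (.nd (.nd (.nd (.lf 0x191) (.lf 0x21f8)) (.nd (.lf 0x17e0) (.lf 0))) (.nd (.nd (.lf 0x2da2) (.lf 0x2c8e)) (.nd (.lf 0x290c) (.lf 0))))) (.nd (.nd (.nd (.nd (.lf 0x11fd) (.lf 0x2bcb)) (.nd (.lf 0x100c) (.lf 0))) (.nd (.nd (.lf 0x27da) (.lf 0x15ef)) (.nd (.lf 0x2d04) (.lf 0)))) (.nd (.nd (.nd (.lf 0x114f) (.lf 0x252e)) (.nd (.lf 0x2946) (.lf 0))) (.nd (.nd (.lf 0x2a0c) (.lf 0x37ba)) (.nd (.lf 0x25e6) (.lf 0)))))) (.nd (.nd (.nd (.nd (.nd (.lf 0x3341) (.lf 0x1b6)) (.nd (.lf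 0xafa) (.lf 0))) (.nd (.nd (.lf 0x35ef) (.lf 0x2679)) (.nd (.lf 0x723) (.lf 0)))) (.nd (.nd (.nd (.lf 0x3436) (.lf 0x16e6)) (.nd (.lf 0xb1b) (.lf 0))) (.nd (.nd (.lf 0x14b2) (.lf 0x3728)) (.nd (.lf 0x31af) (.lf 0))))) (.nd (.nd (.nd (.nd (.lf 0xbdf) (.lf 0x3548)) (.nd (.lf 0x28f5) (.lf 0))) (.nd (.nd (.lf 0x222a) (.lf 0xbe)) (.nd (.lf 0x29ef) (.lf 0)))) (.nd (.nd (.nd (.lf 0x2f9e) (.lf 0x2ac9)) (.nd (.lf 0x1654) (.lf 0))) (.nd (.nd (.lf 0x2768) (.lf 0x1706)) (.nd (.lf 0x3270) (.lf 0))))))) (.nd (.nd (.nd (.nd (.nd (.nd (.lf 0x3549) (.lf 0x23d)) (.nd (.lf 0x2253) (.lf 0))) (.nd (.nd (.lf 0x3464) (.lf 0x11cf)) (.nd (.lf 0xd94) (.lf 0)))) (.nd (.nd (.nd (.lf 0x2cf5) (.lf 0x30e5)) (.nd (.lf 0x881) (.lf 0))) (.nd (.nd (.lf 0x282e)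 (.lf 0x296f)) (.nd (.lf 0xda2) (.lf 0))))) (.nd (.nd (.nd (.nd (.lf 0x313c) (.lf 0x22a0)) (.nd (.lf 0x585) (.lf 0))) (.nd (.nd (.lf 0x2fa2) (.lf 0x2a0d)) (.nd (.lf 0x2d7e) (.lf 0)))) (.nd (.nd (.nd (.lf 0x28c7) (.lf 0xa2c)) (.nd (.lf 0x174f) (.lf 0))) (.nd (.nd (.lf 0x1626) (.lf 0x370d)) (.nd (.lf 0x5a9) (.lf 0)))))) (.nd (.nd (.nd (.nd (.nd (.lf 0x268) (.lf 0x2967)) (.nd (.lf 0xcf0) (.lf 0))) (.nd (.nd (.lf 0x3467) (.lf 0x272c)) (.nd (.lf 0x1568) (.lf 0)))) (.nd (.nd (.nd (.lf 0x2718) (.lf 0x78a)) (.nd (.lf 0x3473) (.lf 0))) (.nd (.nd (.lf 0x9b9) (.lf 0x65a)) (.nd (.lf 0xd0f) (.lf 0))))) (.nd (.nd (.nd (.nd (.lf 0x2909) (.lf 0x285c)) (.nd (.lf 0x2c6d) (.lf 0))) (.nd (.nd (.lf 0x9d2) (.lf 0x1573)) (.nd (.lf 0x46f) (.lf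 0)))) (.nd (.nd (.nd (.lf 0xad3) (.lf 0x225c)) (.nd (.lf 0x9d7) (.lf 0))) (.nd (.nd (.lf 0x10c5) (.lf 0x95f)) (.nd (.lf 0x1057) (.lf 0))))))))
def parHT_nbaabba : Tr := (.nd (.nd (.nd (.nd (.nd (.nd (.nd (.lf 0x34d2) (.lf 0x6d4)) (.nd (.lf 0xdaf) (.lf 0))) (.nd (.nd (.lf 0x544) (.lf 0x2ccb)) (.nd (.lf 0x2122) (.lf 0)))) (.nd (.nd (.nd (.lf 0x5ab) (.lf 0xfdf)) (.nd (.lf 0xa7d) (.lf 0))) (.nd (.nd (.lf 0x36e) (.lf 0x15fc)) (.nd (.lf 0x54b) (.lf 0))))) (.nd (.nd (.nd (.nd (.lf 0x2f21) (.lf 0x3628)) (.nd (.lf 0x90c) (.lf 0))) (.nd (.nd (.lf 0x80a) (.lf 0x19f)) (.nd (.lf 0x2574) (.lf 0)))) (.nd (.nd (.nd (.lf 0x24c1) (.lf 0x3356)) (.nd (.lf 0x27a8) (.lf 0))) (.nd (.nd (.lf 0x311d) (.lf 0x1aa)) (.nd (.lf 0x28af) (.lf 0))))))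 (.nd (.nd (.nd (.nd (.nd (.lf 0x5f) (.lf 0x2e85)) (.nd (.lf 0x2e46) (.lf 0))) (.nd (.nd (.lf 0xa7b) (.lf 0x2818)) (.nd (.lf 0x37d9) (.lf 0)))) (.nd (.nd (.nd (.lf 0x21ab) (.lf 0xaf8)) (.nd (.lf 0x24c5) (.lf 0))) (.nd (.nd (.lf 0x2442) (.lf 0xb76)) (.nd (.lf 0x37da) (.lf 0))))) (.nd (.nd (.nd (.nd (.lf 0x3187) (.lf 0x11b0)) (.nd (.lf 0x2d6a) (.lf 0))) (.nd (.nd (.lf 0x2ae4) (.lf 0x3305)) (.nd (.lf 0x32d7) (.lf 0)))) (.nd (.nd (.nd (.lf 0x2301) (.lf 0x2244)) (.nd (.lf 0xb30) (.lf 0))) (.nd (.nd (.lf 0x5f5) (.lf 0x322f)) (.nd (.lf 0x326c) (.lf 0))))))) (.nd (.nd (.nd (.nd (.nd (.nd (.lf 0x2d5f) (.lf 0x157b)) (.nd (.lf 0x3441) (.lf 0))) (.nd (.nd (.lf 0xf98) (.lf 0x2898)) (.nd (.lf 0x6e6) (.lf 0)))) (.nd (.nd (.nd (.lf 0x2513)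 (.lf 0x323e)) (.nd (.lf 0x119f) (.lf 0))) (.nd (.nd (.lf 0x96b) (.lf 0x2752)) (.nd (.lf 0x3666) (.lf 0))))) (.nd (.nd (.nd (.nd (.lf 0x2dce) (.lf 0x162)) (.nd (.lf 0x257c) (.lf 0))) (.nd (.nd (.lf 0x33da) (.lf 0x3223)) (.nd (.lf 0x1037) (.lf 0)))) (.nd (.nd (.nd (.lf 0x6a7) (.lf 0x2295)) (.nd (.lf 0x31a8) (.lf 0))) (.nd (.nd (.lf 0x337b) (.lf 0x289d)) (.nd (.lf 0x14a7) (.lf 0)))))) (.nd (.nd (.nd (.nd (.nd (.lf 0x367e) (.lf 0x496)) (.nd (.lf 0x287f) (.lf 0))) (.nd (.nd (.lf 0x379d) (.lf 0x33fe)) (.nd (.lf 0x2261) (.lf 0)))) (.nd (.nd (.nd (.lf 0x4f5) (.lf 0x35ae)) (.nd (.lf 0x3117) (.lf 0))) (.nd (.nd (.lf 0x2ac3) (.lf 0x16dd)) (.nd (.lf 0x2e75) (.lf 0))))) (.nd (.nd (.nd (.nd (.lf 0x250e) (.lf 0x949)) (.nd (.lf 0x3407)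 (.lf 0))) (.nd (.nd (.lf 0x302c) (.lf 0x53)) (.nd (.lf 0xa0c) (.lf 0)))) (.nd (.nd (.nd (.lf 0x273d) (.lf 0x375a)) (.nd (.lf 0x23a4) (.lf 0))) (.nd (.nd (.lf 0x13e6) (.lf 0xfc)) (.nd (.lf 0x1185) (.lf 0))))))))
def parHT_nbaabbb : Tr := (.nd (.nd (.nd (.nd (.nd (.nd (.nd (.lf 0x26a7) (.lf 0x2f65)) (.nd (.lf 0x2877) (.lf 0))) (.nd (.nd (.lf 0x25fb) (.lf 0x3c9)) (.nd (.lf 0x11de) (.lf 0)))) (.nd (.nd (.nd (.lf 0x8a) (.lf 0x305a)) (.nd (.lf 0x3723) (.lf 0))) (.nd (.nd (.lf 0xa03) (.lf 0x70a)) (.nd (.lf 0x2f09) (.lf 0))))) (.nd (.nd (.nd (.nd (.lf 0x2467) (.lf 0x3042)) (.nd (.lf 0x115b) (.lf 0))) (.nd (.nd (.lf 0x34b9) (.lf 0x4e)) (.nd (.lf 0x3586) (.lf 0)))) (.nd (.nd (.nd (.lf 0x87f) (.lf 0x176e)) (.nd (.lf 0xb92) (.lf 0)))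 (.nd (.nd (.lf 0x25a7) (.lf 0x23ff)) (.nd (.lf 0x35be) (.lf 0)))))) (.nd (.nd (.nd (.nd (.nd (.lf 0x16d7) (.lf 0x141)) (.nd (.lf 0x3266) (.lf 0))) (.nd (.nd (.lf 0x528) (.lf 0x10d0)) (.nd (.lf 0xa26) (.lf 0)))) (.nd (.nd (.nd (.lf 0x2d2d) (.lf 0x897)) (.nd (.lf 0x770) (.lf 0))) (.nd (.nd (.lf 0x3750) (.lf 0x9cf)) (.nd (.lf 0x3192) (.lf 0))))) (.nd (.nd (.nd (.nd (.lf 0x2230) (.lf 0x10de)) (.nd (.lf 0xa11) (.lf 0))) (.nd (.nd (.lf 0x22e9) (.lf 0x2c65)) (.nd (.lf 0x298f) (.lf 0)))) (.nd (.nd (.nd (.lf 0xbae) (.lf 0x2225)) (.nd (.lf 0xa50) (.lf 0))) (.nd (.nd (.lf 0x20ab) (.lf 0x946)) (.nd (.lf 0xc43) (.lf 0))))))) (.nd (.nd (.nd (.nd (.nd (.nd (.lf 0x15ab) (.lf 0x657)) (.nd (.lf 0xf2f) (.lf 0))) (.nd (.nd (.lf 0x22e8) (.lf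 0x231f)) (.nd (.lf 0x3542) (.lf 0)))) (.nd (.nd (.nd (.lf 0x1796) (.lf 0x332a)) (.nd (.lf 0x2495) (.lf 0))) (.nd (.nd (.lf 0x9ec) (.lf 0x32bc)) (.nd (.lf 0x36ed) (.lf 0))))) (.nd (.nd (.nd (.nd (.lf 0x2bfa) (.lf 0x2700)) (.nd (.lf 0x1732) (.lf 0))) (.nd (.nd (.lf 0x281e) (.lf 0x1536)) (.nd (.lf 0x107b) (.lf 0)))) (.nd (.nd (.nd (.lf 0x278b) (.lf 0x2e5c)) (.nd (.lf 0x3316) (.lf 0))) (.nd (.nd (.lf 0x21c4) (.lf 0x14ad)) (.nd (.lf 0x17be) (.lf 0)))))) (.nd (.nd (.nd (.nd (.nd (.lf 0x23d6) (.lf 0x17d8)) (.nd (.lf 0x8c5) (.lf 0))) (.nd (.nd (.lf 0x135e) (.lf 0x28fb)) (.nd (.lf 0x24ef) (.lf 0)))) (.nd (.nd (.nd (.lf 0x1508) (.lf 0x31ad)) (.nd (.lf 0x2363) (.lf 0))) (.nd (.nd (.lf 0xc82) (.lf 0x131f)) (.nd (.lf 0x380b) (.lf 0)))))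 (.nd (.nd (.nd (.nd (.lf 0x111) (.lf 0x59f)) (.nd (.lf 0x2d14) (.lf 0))) (.nd (.nd (.lf 0x1455) (.lf 0x2f84)) (.nd (.lf 0x1454) (.lf 0)))) (.nd (.nd (.nd (.lf 0x2687) (.lf 0x9f4)) (.nd (.lf 0x2923) (.lf 0))) (.nd (.nd (.lf 0xb59) (.lf 0x739)) (.nd (.lf 0x22c2) (.lf 0))))))))
def parHT_nbabaaa : Tr := (.nd (.nd (.nd (.nd (.nd (.nd (.nd (.lf 0x0) (.lf 0x2661)) (.nd (.lf 0x3605) (.lf 0x2760))) (.nd (.nd (.lf 0x2f77) (.lf 0x141b)) (.nd (.lf 0x1116) (.lf 0)))) (.nd (.nd (.nd (.lf 0x14bb) (.lf 0x218b)) (.nd (.lf 0x2209) (.lf 0))) (.nd (.nd (.lf 0x2033) (.lf 0x10a)) (.nd (.lf 0x34e1) (.lf 0))))) (.nd (.nd (.nd (.nd (.lf 0x219f) (.lf 0x644)) (.nd (.lf 0xbc6) (.lf 0))) (.nd (.nd (.lf 0x26ac) (.lf 0x267d)) (.nd (.lf 0x9e3) (.lf 0))))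 (.nd (.nd (.nd (.lf 0x300e) (.lf 0x27b5)) (.nd (.lf 0x57c) (.lf 0))) (.nd (.nd (.lf 0x151d) (.lf 0x45)) (.nd (.lf 0x31a6) (.lf 0)))))) (.nd (.nd (.nd (.nd (.nd (.lf 0x24a3) (.lf 0x298)) (.nd (.lf 0x18) (.lf 0))) (.nd (.nd (.lf 0x1c0) (.lf 0x2e4e)) (.nd (.lf 0x3394) (.lf 0)))) (.nd (.nd (.nd (.lf 0x2cc5) (.lf 0x10f1)) (.nd (.lf 0x29fe) (.lf 0))) (.nd (.nd (.lf 0x2048) (.lf 0x2454)) (.nd (.lf 0x610) (.lf 0))))) (.nd (.nd (.nd (.nd (.lf 0x1025) (.lf 0x2cbc)) (.nd (.lf 0x30f3) (.lf 0))) (.nd (.nd (.lf 0x2644) (.lf 0x2fca)) (.nd (.lf 0xbfa) (.lf 0)))) (.nd (.nd (.nd (.lf 0x157) (.lf 0x1357)) (.nd (.lf 0x3164) (.lf 0))) (.nd (.nd (.lf 0x10f7) (.lf 0x880)) (.nd (.lf 0x8b8) (.lf 0))))))) (.nd (.nd (.nd (.nd (.nd (.nd (.lf 0x254a)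 (.lf 0xb95)) (.nd (.lf 0x259a) (.lf 0))) (.nd (.nd (.lf 0x220) (.lf 0x2b46)) (.nd (.lf 0x15c6) (.lf 0)))) (.nd (.nd (.nd (.lf 0x1054) (.lf 0xb57)) (.nd (.lf 0x14f8) (.lf 0))) (.nd (.nd (.lf 0xc76) (.lf 0x519)) (.nd (.lf 0x1595) (.lf 0))))) (.nd (.nd (.nd (.nd (.lf 0x15ae) (.lf 0x33a1)) (.nd (.lf 0x2fe7) (.lf 0))) (.nd (.nd (.lf 0xe8) (.lf 0x31ca)) (.nd (.lf 0x29ce) (.lf 0)))) (.nd (.nd (.nd (.lf 0x31d2) (.lf 0x2d2a)) (.nd (.lf 0x4ea) (.lf 0))) (.nd (.nd (.lf 0x30ee) (.lf 0xc7a)) (.nd (.lf 0x30b5) (.lf 0)))))) (.nd (.nd (.nd (.nd (.nd (.lf 0x2c87) (.lf 0x361f)) (.nd (.lf 0xa) (.lf 0))) (.nd (.nd (.lf 0x3349) (.lf 0x752)) (.nd (.lf 0x1058) (.lf 0)))) (.nd (.nd (.nd (.lf 0x20c4) (.lf 0x37f1)) (.nd (.lf 0x2f51) (.lf 0))) (.nd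 (.nd (.lf 0x37a2) (.lf 0x2c49)) (.nd (.lf 0x898) (.lf 0))))) (.nd (.nd (.nd (.nd (.lf 0x2b35) (.lf 0x2059)) (.nd (.lf 0xadd) (.lf 0))) (.nd (.nd (.lf 0x2b86) (.lf 0x1752)) (.nd (.lf 0x264b) (.lf 0)))) (.nd (.nd (.nd (.lf 0xc72) (.lf 0x121f)) (.nd (.lf 0x33ad) (.lf 0))) (.nd (.nd (.lf 0x4ac) (.lf 0x2e90)) (.nd (.lf 0x2d26) (.lf 0))))))))
def parHT_nbabaab : Tr := (.nd (.nd (.nd (.nd (.nd (.nd (.nd (.lf 0x293f) (.lf 0x87a)) (.nd (.lf 0x96d) (.lf 0))) (.nd (.nd (.lf 0xc7c) (.lf 0x758)) (.nd (.lf 0xa60) (.lf 0)))) (.nd (.nd (.nd (.lf 0x1044) (.lf 0x36bb)) (.nd (.lf 0x23df) (.lf 0))) (.nd (.nd (.lf 0x120f) (.lf 0x7ef)) (.nd (.lf 0x2a13) (.lf 0))))) (.nd (.nd (.nd (.nd (.lf 0x257d) (.lf 0x28c9)) (.nd (.lf 0x3637) (.lf 0))) (.nd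 (.nd (.lf 0x1716) (.lf 0x2bc5)) (.nd (.lf 0x155b) (.lf 0)))) (.nd (.nd (.nd (.lf 0x16c3) (.lf 0xabd)) (.nd (.lf 0x17d4) (.lf 0))) (.nd (.nd (.lf 0x2a59) (.lf 0x3403)) (.nd (.lf 0x142f) (.lf 0)))))) (.nd (.nd (.nd (.nd (.nd (.lf 0x69f) (.lf 0x2892)) (.nd (.lf 0xdf0) (.lf 0))) (.nd (.nd (.lf 0x2b0d) (.lf 0x12ff)) (.nd (.lf 0x234a) (.lf 0)))) (.nd (.nd (.nd (.lf 0x212f) (.lf 0x29e6)) (.nd (.lf 0x35fb) (.lf 0))) (.nd (.nd (.lf 0x27bd) (.lf 0x1122)) (.nd (.lf 0x289a) (.lf 0))))) (.nd (.nd (.nd (.nd (.lf 0x161f) (.lf 0x10e1)) (.nd (.lf 0x18f) (.lf 0))) (.nd (.nd (.lf 0x3547) (.lf 0x10ae)) (.nd (.lf 0x1574) (.lf 0)))) (.nd (.nd (.nd (.lf 0x2aa4) (.lf 0x6dd)) (.nd (.lf 0x2d56) (.lf 0))) (.nd (.nd (.lf 0x203d) (.lf 0x27f5)) (.nd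 (.lf 0x324f) (.lf 0))))))) (.nd (.nd (.nd (.nd (.nd (.nd (.lf 0x310f) (.lf 0x2509)) (.nd (.lf 0x16b1) (.lf 0))) (.nd (.nd (.lf 0x2556) (.lf 0xb70)) (.nd (.lf 0xa4f) (.lf 0)))) (.nd (.nd (.nd (.lf 0x1262) (.lf 0xc45)) (.nd (.lf 0xc88) (.lf 0))) (.nd (.nd (.lf 0x2cd) (.lf 0x2bea)) (.nd (.lf 0x162c) (.lf 0))))) (.nd (.nd (.nd (.nd (.lf 0x1131) (.lf 0x37be)) (.nd (.lf 0x2e8d) (.lf 0))) (.nd (.nd (.lf 0x2b49) (.lf 0x30b2)) (.nd (.lf 0x13f4) (.lf 0)))) (.nd (.nd (.nd (.lf 0x368f) (.lf 0x29c5)) (.nd (.lf 0x2f6b) (.lf 0))) (.nd (.nd (.lf 0xfbe) (.lf 0x2de0)) (.nd (.lf 0x104a) (.lf 0)))))) (.nd (.nd (.nd (.nd (.nd (.lf 0xeab) (.lf 0x25a6)) (.nd (.lf 0x57d) (.lf 0))) (.nd (.nd (.lf 0x233d) (.lf 0x20ac)) (.nd (.lf 0x26b0) (.lf 0))))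 (.nd (.nd (.nd (.lf 0x592) (.lf 0x28d9)) (.nd (.lf 0x31ac) (.lf 0))) (.nd (.nd (.lf 0x2ac) (.lf 0x1383)) (.nd (.lf 0x315b) (.lf 0))))) (.nd (.nd (.nd (.nd (.lf 0x335e) (.lf 0x68f)) (.nd (.lf 0x2bf8) (.lf 0))) (.nd (.nd (.lf 0x61a) (.lf 0x216e)) (.nd (.lf 0xe4d) (.lf 0)))) (.nd (.nd (.nd (.lf 0xcd0) (.lf 0x2b9f)) (.nd (.lf 0xf67) (.lf 0))) (.nd (.nd (.lf 0xcc1) (.lf 0x15fa)) (.nd (.lf 0x328f) (.lf 0))))))))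
def parHT_nbababa : Tr := (.nd (.nd (.nd (.nd (.nd (.nd (.nd (.lf 0x7a2) (.lf 0x2406)) (.nd (.lf 0x33c6) (.lf 0))) (.nd (.nd (.lf 0xe89) (.lf 0xd06)) (.nd (.lf 0x2a8e) (.lf 0)))) (.nd (.nd (.nd (.lf 0x8ff) (.lf 0xc52)) (.nd (.lf 0x3435) (.lf 0))) (.nd (.nd (.lf 0xe3d) (.lf 0x15c9)) (.nd (.lf 0xff9) (.lf 0))))) (.nd (.nd (.nd (.nd (.lf 0x2735) (.lf 0x2fa8)) (.nd (.lf 0x31e3) (.lf 0))) (.nd (.nd (.lf 0x305) (.lf 0x31a0)) (.nd (.lf 0x146d) (.lf 0)))) (.nd (.nd (.nd (.lf 0x4ed) (.lf 0x1605)) (.nd (.lf 0x780) (.lf 0))) (.nd (.nd (.lf 0x14db) (.lf 0x1196)) (.nd (.lf 0x20b0) (.lf 0)))))) (.nd (.nd (.nd (.nd (.nd (.lf 0x1311) (.lf 0x204f)) (.nd (.lf 0x11fc) (.lf 0))) (.nd (.nd (.lf 0x207d) (.lf 0x882)) (.nd (.lf 0xde0) (.lf 0))))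 (.nd (.nd (.nd (.lf 0x2c9f) (.lf 0x5fd)) (.nd (.lf 0x286e) (.lf 0))) (.nd (.nd (.lf 0x7c3) (.lf 0x24b6)) (.nd (.lf 0x296b) (.lf 0))))) (.nd (.nd (.nd (.nd (.lf 0x1522) (.lf 0x2b03)) (.nd (.lf 0x30ff) (.lf 0))) (.nd (.nd (.lf 0x2df) (.lf 0x29d6)) (.nd (.lf 0x2565) (.lf 0)))) (.nd (.nd (.nd (.lf 0x321c) (.lf 0xd53)) (.nd (.lf 0x3665) (.lf 0))) (.nd (.nd (.lf 0x54c) (.lf 0x2e23)) (.nd (.lf 0x3291) (.lf 0))))))) (.nd (.nd (.nd (.nd (.nd (.nd (.lf 0x34f5) (.lf 0x1755)) (.nd (.lf 0x22b0) (.lf 0))) (.nd (.nd (.lf 0x2eec) (.lf 0x2368)) (.nd (.lf 0x628) (.lf 0)))) (.nd (.nd (.nd (.lf 0x215d) (.lf 0x2d17)) (.nd (.lf 0x68b) (.lf 0))) (.nd (.nd (.lf 0x1b9) (.lf 0x23d8)) (.nd (.lf 0xb03) (.lf 0))))) (.nd (.nd (.nd (.nd (.lf 0x97a) (.lf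 0x4b1)) (.nd (.lf 0x15e7) (.lf 0))) (.nd (.nd (.lf 0x1206) (.lf 0x24c4)) (.nd (.lf 0x2802) (.lf 0)))) (.nd (.nd (.nd (.lf 0x2c57) (.lf 0x243d)) (.nd (.lf 0x129b) (.lf 0))) (.nd (.nd (.lf 0xca9) (.lf 0x8c6)) (.nd (.lf 0x37e8) (.lf 0)))))) (.nd (.nd (.nd (.nd (.nd (.lf 0x11f4) (.lf 0x29f6)) (.nd (.lf 0x3274) (.lf 0))) (.nd (.nd (.lf 0x27c0) (.lf 0x2a24)) (.nd (.lf 0x172) (.lf 0)))) (.nd (.nd (.nd (.lf 0x14e7) (.lf 0xc0d)) (.nd (.lf 0x3190) (.lf 0))) (.nd (.nd (.lf 0x1665) (.lf 0x32c0)) (.nd (.lf 0x3639) (.lf 0))))) (.nd (.nd (.nd (.nd (.lf 0x2e86) (.lf 0xef6)) (.nd (.lf 0x14bf) (.lf 0))) (.nd (.nd (.lf 0x157c) (.lf 0x1337)) (.nd (.lf 0x5db) (.lf 0)))) (.nd (.nd (.nd (.lf 0x162d) (.lf 0x25be)) (.nd (.lf 0x2435) (.lf 0))) (.nd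 (.nd (.lf 0xa9f) (.lf 0x369c)) (.nd (.lf 0x38d) (.lf 0))))))))
def parHT_nbababb : Tr := (.nd (.nd (.nd (.nd (.nd (.nd (.nd (.lf 0xb9b) (.lf 0x154e)) (.nd (.lf 0xa33) (.lf 0))) (.nd (.nd (.lf 0x35fc) (.lf 0x319f)) (.nd (.lf 0xc2f) (.lf 0)))) (.nd (.nd (.nd (.lf 0x2b71) (.lf 0x2c9d)) (.nd (.lf 0x2e7) (.lf 0))) (.nd (.nd (.lf 0x12fb) (.lf 0x37fa)) (.nd (.lf 0x1150) (.lf 0))))) (.nd (.nd (.nd (.nd (.lf 0x2365) (.lf 0x2ed9)) (.nd (.lf 0x220c) (.lf 0))) (.nd (.nd (.lf 0x2a7b) (.lf 0x218e)) (.nd (.lf 0x20e1) (.lf 0)))) (.nd (.nd (.nd (.lf 0x106c) (.lf 0x2173)) (.nd (.lf 0x37d8) (.lf 0))) (.nd (.nd (.lf 0x3ec) (.lf 0x34cb)) (.nd (.lf 0x2076) (.lf 0)))))) (.nd (.nd (.nd (.nd (.nd (.lf 0xe56) (.lf 0x15d0)) (.nd (.lf 0x2d89) (.lf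 0))) (.nd (.nd (.lf 0x27af) (.lf 0x5fc)) (.nd (.lf 0xd66) (.lf 0)))) (.nd (.nd (.nd (.lf 0x2faf) (.lf 0x23c7)) (.nd (.lf 0x2f22) (.lf 0))) (.nd (.nd (.lf 0xd8) (.lf 0x2b55)) (.nd (.lf 0x212a) (.lf 0))))) (.nd (.nd (.nd (.nd (.lf 0x37ac) (.lf 0x219b)) (.nd (.lf 0x35af) (.lf 0))) (.nd (.nd (.lf 0x745) (.lf 0x2c8b)) (.nd (.lf 0x55d) (.lf 0)))) (.nd (.nd (.nd (.lf 0x1204) (.lf 0x454)) (.nd (.lf 0x148) (.lf 0))) (.nd (.nd (.lf 0x242d) (.lf 0x129d)) (.nd (.lf 0x2fd8) (.lf 0))))))) (.nd (.nd (.nd (.nd (.nd (.nd (.lf 0x3673) (.lf 0x2e9e)) (.nd (.lf 0x3580) (.lf 0))) (.nd (.nd (.lf 0x3331) (.lf 0x207e)) (.nd (.lf 0x10ac) (.lf 0)))) (.nd (.nd (.nd (.lf 0xe6b) (.lf 0x34ca)) (.nd (.lf 0x28a4) (.lf 0))) (.nd (.nd (.lf 0xd0c) (.lf 0x2c67))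 (.nd (.lf 0x3218) (.lf 0))))) (.nd (.nd (.nd (.nd (.lf 0x35bd) (.lf 0x1c5)) (.nd (.lf 0x33fa) (.lf 0))) (.nd (.nd (.lf 0xbb6) (.lf 0x2707)) (.nd (.lf 0x3792) (.lf 0)))) (.nd (.nd (.nd (.lf 0x553) (.lf 0x36f8)) (.nd (.lf 0xa4) (.lf 0))) (.nd (.nd (.lf 0x2db3) (.lf 0x992)) (.nd (.lf 0x11bb) (.lf 0)))))) (.nd (.nd (.nd (.nd (.nd (.lf 0x22c5) (.lf 0x35a9)) (.nd (.lf 0x1394) (.lf 0))) (.nd (.nd (.lf 0xc84) (.lf 0x2653)) (.nd (.lf 0x3431) (.lf 0)))) (.nd (.nd (.nd (.lf 0x2c0d) (.lf 0x2149)) (.nd (.lf 0x1e3) (.lf 0))) (.nd (.nd (.lf 0x2f88) (.lf 0x1272)) (.nd (.lf 0x3008) (.lf 0))))) (.nd (.nd (.nd (.nd (.lf 0x2795) (.lf 0x34f4)) (.nd (.lf 0x3466) (.lf 0))) (.nd (.nd (.lf 0x31b1) (.lf 0x271f)) (.nd (.lf 0x11f2) (.lf 0)))) (.nd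 (.nd (.nd (.lf 0x11c4) (.lf 0x2589)) (.nd (.lf 0xe78) (.lf 0))) (.nd (.nd (.lf 0xc8e) (.lf 0x23a3)) (.nd (.lf 0x81a) (.lf 0))))))))
def parHT_nbabbaa : Tr := (.nd (.nd (.nd (.nd (.nd (.nd (.nd (.lf 0x33e3) (.lf 0x29b9)) (.nd (.lf 0x6e1) (.lf 0))) (.nd (.nd (.lf 0xea) (.lf 0xfea)) (.nd (.lf 0x15a2) (.lf 0)))) (.nd (.nd (.nd (.lf 0x3bf) (.lf 0x2fb)) (.nd (.lf 0x356a) (.lf 0))) (.nd (.nd (.lf 0xf88) (.lf 0x2499)) (.nd (.lf 0xddf) (.lf 0))))) (.nd (.nd (.nd (.nd (.lf 0x312c) (.lf 0x2841)) (.nd (.lf 0x247a) (.lf 0))) (.nd (.nd (.lf 0x3736) (.lf 0xec8)) (.nd (.lf 0x35eb) (.lf 0)))) (.nd (.nd (.nd (.lf 0x26a9) (.lf 0x138b)) (.nd (.lf 0x3390) (.lf 0))) (.nd (.nd (.lf 0xa3) (.lf 0x2543)) (.nd (.lf 0x8f5) (.lf 0)))))) (.nd (.nd (.nd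 (.nd (.nd (.lf 0x3502) (.lf 0x498)) (.nd (.lf 0x524) (.lf 0))) (.nd (.nd (.lf 0x2317) (.lf 0x16a1)) (.nd (.lf 0x1418) (.lf 0)))) (.nd (.nd (.nd (.lf 0x638) (.lf 0x172c)) (.nd (.lf 0x2e78) (.lf 0))) (.nd (.nd (.lf 0x2f76) (.lf 0x3f2)) (.nd (.lf 0x2c27) (.lf 0))))) (.nd (.nd (.nd (.nd (.lf 0x5e) (.lf 0x64c)) (.nd (.lf 0x276d) (.lf 0))) (.nd (.nd (.lf 0x2df0) (.lf 0x3196)) (.nd (.lf 0x2c70) (.lf 0)))) (.nd (.nd (.nd (.lf 0x254b) (.lf 0x2763)) (.nd (.lf 0x3039) (.lf 0))) (.nd (.nd (.lf 0x235b) (.lf 0x2476)) (.nd (.lf 0x1130) (.lf 0))))))) (.nd (.nd (.nd (.nd (.nd (.nd (.lf 0xd97) (.lf 0x7c5)) (.nd (.lf 0xcf2) (.lf 0))) (.nd (.nd (.lf 0x2f74) (.lf 0x28a3)) (.nd (.lf 0xf4f) (.lf 0)))) (.nd (.nd (.nd (.lf 0x392) (.lf 0x29cf))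 (.nd (.lf 0x671) (.lf 0))) (.nd (.nd (.lf 0x2f58) (.lf 0x12df)) (.nd (.lf 0x16ae) (.lf 0))))) (.nd (.nd (.nd (.nd (.lf 0xaa0) (.lf 0x20a3)) (.nd (.lf 0x1784) (.lf 0))) (.nd (.nd (.lf 0x3800) (.lf 0x239a)) (.nd (.lf 0x7da) (.lf 0)))) (.nd (.nd (.nd (.lf 0x2be3) (.lf 0x143b)) (.nd (.lf 0x1214) (.lf 0))) (.nd (.nd (.lf 0x55a) (.lf 0x2c94)) (.nd (.lf 0x2c1e) (.lf 0)))))) (.nd (.nd (.nd (.nd (.nd (.lf 0x4fa) (.lf 0x11b5)) (.nd (.lf 0x5c0) (.lf 0))) (.nd (.nd (.lf 0x705) (.lf 0xd42)) (.nd (.lf 0x8b) (.lf 0)))) (.nd (.nd (.nd (.lf 0x25ab) (.lf 0x1209)) (.nd (.lf 0x23c2) (.lf 0))) (.nd (.nd (.lf 0x36a5) (.lf 0xc8c)) (.nd (.lf 0x2831) (.lf 0))))) (.nd (.nd (.nd (.nd (.lf 0x6ab) (.lf 0x12f0)) (.nd (.lf 0x481) (.lf 0))) (.nd (.nd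 (.lf 0x87d) (.lf 0xe8d)) (.nd (.lf 0x2d29) (.lf 0)))) (.nd (.nd (.nd (.lf 0x856) (.lf 0xc5e)) (.nd (.lf 0x2bf) (.lf 0))) (.nd (.nd (.lf 0x37dc) (.lf 0x125a)) (.nd (.lf 0x2f18) (.lf 0))))))))
def parHT_nbabbab : Tr := (.nd (.nd (.nd (.nd (.nd (.nd (.nd (.lf 0x16e4) (.lf 0x29a8)) (.nd (.lf 0x319e) (.lf 0))) (.nd (.nd (.lf 0x2070) (.lf 0x2880)) (.nd (.lf 0x2daa) (.lf 0)))) (.nd (.nd (.nd (.lf 0x35db) (.lf 0x1467)) (.nd (.lf 0x2b1e) (.lf 0))) (.nd (.nd (.lf 0xd2c) (.lf 0x2360)) (.nd (.lf 0x34bd) (.lf 0))))) (.nd (.nd (.nd (.nd (.lf 0x2e1a) (.lf 0x271a)) (.nd (.lf 0x3758) (.lf 0))) (.nd (.nd (.lf 0x37f6) (.lf 0xd43)) (.nd (.lf 0x33a2) (.lf 0)))) (.nd (.nd (.nd (.lf 0xc3c) (.lf 0xcf6)) (.nd (.lf 0x10f) (.lf 0))) (.nd (.nd (.lf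 0x236c) (.lf 0xcee)) (.nd (.lf 0x32b9) (.lf 0)))))) (.nd (.nd (.nd (.nd (.nd (.lf 0xb9c) (.lf 0x3302)) (.nd (.lf 0x59b) (.lf 0))) (.nd (.nd (.lf 0x2a4a) (.lf 0x731)) (.nd (.lf 0xe33) (.lf 0)))) (.nd (.nd (.nd (.lf 0x2d50) (.lf 0x2e8b)) (.nd (.lf 0x2686) (.lf 0))) (.nd (.nd (.lf 0x92d) (.lf 0x14d7)) (.nd (.lf 0x5bf) (.lf 0))))) (.nd (.nd (.nd (.nd (.lf 0x1f) (.lf 0x1d9)) (.nd (.lf 0x17fa) (.lf 0))) (.nd (.nd (.lf 0x7ff) (.lf 0x431)) (.nd (.lf 0x154) (.lf 0)))) (.nd (.nd (.nd (.lf 0x763) (.lf 0x1344)) (.nd (.lf 0x2852) (.lf 0))) (.nd (.nd (.lf 0x6fd) (.lf 0x37c2)) (.nd (.lf 0x275e) (.lf 0))))))) (.nd (.nd (.nd (.nd (.nd (.nd (.lf 0x2474) (.lf 0xcf1)) (.nd (.lf 0x23af) (.lf 0))) (.nd (.nd (.lf 0x25d7) (.lf 0x12d2)) (.nd (.lf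 0xe65) (.lf 0)))) (.nd (.nd (.nd (.lf 0xb0d) (.lf 0x1360)) (.nd (.lf 0x23f8) (.lf 0))) (.nd (.nd (.lf 0x33fb) (.lf 0xadb)) (.nd (.lf 0x228d) (.lf 0))))) (.nd (.nd (.nd (.nd (.lf 0x271c) (.lf 0x149d)) (.nd (.lf 0x1760) (.lf 0))) (.nd (.nd (.lf 0xaf7) (.lf 0x1028)) (.nd (.lf 0x2066) (.lf 0)))) (.nd (.nd (.nd (.lf 0x172f) (.lf 0x25f0)) (.nd (.lf 0x3602) (.lf 0))) (.nd (.nd (.lf 0x169a) (.lf 0x122)) (.nd (.lf 0x25eb) (.lf 0)))))) (.nd (.nd (.nd (.nd (.nd (.lf 0xd0b) (.lf 0x333e)) (.nd (.lf 0x81f) (.lf 0))) (.nd (.nd (.lf 0x27d7) (.lf 0x2db2)) (.nd (.lf 0x270c) (.lf 0)))) (.nd (.nd (.nd (.lf 0x2d48) (.lf 0x2664)) (.nd (.lf 0x15d) (.lf 0))) (.nd (.nd (.lf 0x6f2) (.lf 0x3560)) (.nd (.lf 0x2ef0) (.lf 0))))) (.nd (.nd (.nd (.nd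 (.lf 0x17e7) (.lf 0x86c)) (.nd (.lf 0x12cd) (.lf 0))) (.nd (.nd (.lf 0x137c) (.lf 0xf9c)) (.nd (.lf 0x16bb) (.lf 0)))) (.nd (.nd (.nd (.lf 0x32c7) (.lf 0x270f)) (.nd (.lf 0x656) (.lf 0))) (.nd (.nd (.lf 0x1501) (.lf 0x2f12)) (.nd (.lf 0x12d7) (.lf 0))))))))
def parHT_nbabbba : Tr := (.nd (.nd (.nd (.nd (.nd (.nd (.nd (.lf 0xb21) (.lf 0x73c)) (.nd (.lf 0x28fc) (.lf 0))) (.nd (.nd (.lf 0x2b56) (.lf 0x29be)) (.nd (.lf 0x9d5) (.lf 0)))) (.nd (.nd (.nd (.lf 0x242c) (.lf 0x2643)) (.nd (.lf 0x407) (.lf 0))) (.nd (.nd (.lf 0x8e1) (.lf 0x3157)) (.nd (.lf 0x2bae) (.lf 0))))) (.nd (.nd (.nd (.nd (.lf 0x2af9) (.lf 0x753)) (.nd (.lf 0x2f7f) (.lf 0))) (.nd (.nd (.lf 0x296a) (.lf 0x269d)) (.nd (.lf 0xb56) (.lf 0)))) (.nd (.nd (.nd (.lf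 0xf) (.lf 0x6d2)) (.nd (.lf 0x4a5) (.lf 0))) (.nd (.nd (.lf 0x22fe) (.lf 0x703)) (.nd (.lf 0xee9) (.lf 0)))))) (.nd (.nd (.nd (.nd (.nd (.lf 0x63) (.lf 0x13ec)) (.nd (.lf 0x2851) (.lf 0))) (.nd (.nd (.lf 0x25e1) (.lf 0x2614)) (.nd (.lf 0x3097) (.lf 0)))) (.nd (.nd (.nd (.lf 0x1731) (.lf 0x2794)) (.nd (.lf 0xba1) (.lf 0))) (.nd (.nd (.lf 0x37b3) (.lf 0xb45)) (.nd (.lf 0x2c71) (.lf 0))))) (.nd (.nd (.nd (.nd (.lf 0x2366) (.lf 0x95e)) (.nd (.lf 0x4df) (.lf 0))) (.nd (.nd (.lf 0x534) (.lf 0x1281)) (.nd (.lf 0x34b1) (.lf 0)))) (.nd (.nd (.nd (.lf 0xd8e) (.lf 0x2ba7)) (.nd (.lf 0x2bbc) (.lf 0))) (.nd (.nd (.lf 0x86) (.lf 0x2723)) (.nd (.lf 0x2c59) (.lf 0))))))) (.nd (.nd (.nd (.nd (.nd (.nd (.lf 0x258b) (.lf 0x28c8)) (.nd (.lf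 0x2722) (.lf 0))) (.nd (.nd (.lf 0xb2a) (.lf 0x24f5)) (.nd (.lf 0x27a9) (.lf 0)))) (.nd (.nd (.nd (.lf 0x440) (.lf 0x2a7)) (.nd (.lf 0x41e) (.lf 0))) (.nd (.nd (.lf 0x2696) (.lf 0x894)) (.nd (.lf 0x2a93) (.lf 0))))) (.nd (.nd (.nd (.nd (.lf 0x11f) (.lf 0x16f1)) (.nd (.lf 0xd24) (.lf 0))) (.nd (.nd (.lf 0x12a0) (.lf 0x2254)) (.nd (.lf 0x2e65) (.lf 0)))) (.nd (.nd (.nd (.lf 0xd63) (.lf 0x816)) (.nd (.lf 0x331a) (.lf 0))) (.nd (.nd (.lf 0x96) (.lf 0x3630)) (.nd (.lf 0x735) (.lf 0)))))) (.nd (.nd (.nd (.nd (.nd (.lf 0x117f) (.lf 0x25fe)) (.nd (.lf 0x276e) (.lf 0))) (.nd (.nd (.lf 0x31e8) (.lf 0xf21)) (.nd (.lf 0x12f7) (.lf 0)))) (.nd (.nd (.nd (.lf 0x2559) (.lf 0x201f)) (.nd (.lf 0x67e) (.lf 0))) (.nd (.nd (.lf 0x2a69) (.lf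 0xdc8)) (.nd (.lf 0x2b0b) (.lf 0))))) (.nd (.nd (.nd (.nd (.lf 0x2c47) (.lf 0x725)) (.nd (.lf 0x2c4c) (.lf 0))) (.nd (.nd (.lf 0xc08) (.lf 0x133a)) (.nd (.lf 0x37ee) (.lf 0)))) (.nd (.nd (.nd (.lf 0x35b7) (.lf 0x1170)) (.nd (.lf 0x2ad4) (.lf 0))) (.nd (.nd (.lf 0x3337) (.lf 0x5e0)) (.nd (.lf 0x2281) (.lf 0))))))))
def parHT_nbabbbb : Tr := (.nd (.nd (.nd (.nd (.nd (.nd (.nd (.lf 0x1100) (.lf 0xeff)) (.nd (.lf 0x2e14) (.lf 0))) (.nd (.nd (.lf 0x344e) (.lf 0x1e)) (.nd (.lf 0xe79) (.lf 0)))) (.nd (.nd (.nd (.lf 0x99e) (.lf 0x389)) (.nd (.lf 0x17d3) (.lf 0))) (.nd (.nd (.lf 0x30d4) (.lf 0x83b)) (.nd (.lf 0x36e3) (.lf 0))))) (.nd (.nd (.nd (.nd (.lf 0x22d8) (.lf 0x3755)) (.nd (.lf 0x3093) (.lf 0))) (.nd (.nd (.lf 0x169f) (.lf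 0x306b)) (.nd (.lf 0x784) (.lf 0)))) (.nd (.nd (.nd (.lf 0x306c) (.lf 0x589)) (.nd (.lf 0x33f8) (.lf 0))) (.nd (.nd (.lf 0x14a0) (.lf 0x2c21)) (.nd (.lf 0xf12) (.lf 0)))))) (.nd (.nd (.nd (.nd (.nd (.lf 0x113c) (.lf 0x2a5b)) (.nd (.lf 0xbe6) (.lf 0))) (.nd (.nd (.lf 0x3158) (.lf 0x2ff1)) (.nd (.lf 0x37ff) (.lf 0)))) (.nd (.nd (.nd (.lf 0x5b2) (.lf 0x156f)) (.nd (.lf 0x570) (.lf 0))) (.nd (.nd (.lf 0x2ba1) (.lf 0xf1c)) (.nd (.lf 0x204d) (.lf 0))))) (.nd (.nd (.nd (.nd (.lf 0x2e95) (.lf 0x1c)) (.nd (.lf 0x116f) (.lf 0))) (.nd (.nd (.lf 0x273b) (.lf 0xde7)) (.nd (.lf 0x302f) (.lf 0)))) (.nd (.nd (.nd (.lf 0x3395) (.lf 0x35a3)) (.nd (.lf 0x60) (.lf 0))) (.nd (.nd (.lf 0x6a0) (.lf 0xbf3)) (.nd (.lf 0x9e) (.lf 0))))))) (.nd (.nd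 (.nd (.nd (.nd (.nd (.lf 0x2548) (.lf 0x2e39)) (.nd (.lf 0x2b4e) (.lf 0))) (.nd (.nd (.lf 0x106f) (.lf 0x2b3f)) (.nd (.lf 0x3385) (.lf 0)))) (.nd (.nd (.nd (.lf 0x2f98) (.lf 0x28f7)) (.nd (.lf 0x174c) (.lf 0))) (.nd (.nd (.lf 0xa5f) (.lf 0x5f8)) (.nd (.lf 0x262d) (.lf 0))))) (.nd (.nd (.nd (.nd (.lf 0x15d9) (.lf 0x28e8)) (.nd (.lf 0x1487) (.lf 0))) (.nd (.nd (.lf 0x12e) (.lf 0x2f66)) (.nd (.lf 0x3660) (.lf 0)))) (.nd (.nd (.nd (.lf 0x20db) (.lf 0xc8b)) (.nd (.lf 0x352d) (.lf 0))) (.nd (.nd (.lf 0xed8) (.lf 0x16c6)) (.nd (.lf 0x734) (.lf 0)))))) (.nd (.nd (.nd (.nd (.nd (.lf 0x3572) (.lf 0x2f90)) (.nd (.lf 0x905) (.lf 0))) (.nd (.nd (.lf 0x35f4) (.lf 0x2593)) (.nd (.lf 0xa9) (.lf 0)))) (.nd (.nd (.nd (.lf 0xa08) (.lf 0x2b70))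 (.nd (.lf 0x27ec) (.lf 0))) (.nd (.nd (.lf 0x3175) (.lf 0x25cb)) (.nd (.lf 0xb80) (.lf 0))))) (.nd (.nd (.nd (.nd (.lf 0xb63) (.lf 0x2eaf)) (.nd (.lf 0x52) (.lf 0))) (.nd (.nd (.lf 0xc49) (.lf 0x1229)) (.nd (.lf 0x267e) (.lf 0)))) (.nd (.nd (.nd (.lf 0xef7) (.lf 0x8cd)) (.nd (.lf 0xc57) (.lf 0))) (.nd (.nd (.lf 0x35aa) (.lf 0x28ca)) (.nd (.lf 0x3294) (.lf 0))))))))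
def parHT_nbbaaaa : Tr := (.nd (.nd (.nd (.nd (.nd (.nd (.nd (.lf 0x0) (.lf 0x1029)) (.nd (.lf 0xbfe) (.lf 0xd1d))) (.nd (.nd (.lf 0x123b) (.lf 0x2ec1)) (.nd (.lf 0xc35) (.lf 0)))) (.nd (.nd (.nd (.lf 0x29d4) (.lf 0x3104)) (.nd (.lf 0x2d70) (.lf 0))) (.nd (.nd (.lf 0xa48) (.lf 0x30e9)) (.nd (.lf 0x3574) (.lf 0))))) (.nd (.nd (.nd (.nd (.lf 0xac5) (.lf 0x162a)) (.nd (.lf 0x16ef) (.lf 0))) (.nd (.nd (.lf 0x3246) (.lf 0x279)) (.nd (.lf 0xcc2) (.lf 0)))) (.nd (.nd (.nd (.lf 0x2f13) (.lf 0xe12)) (.nd (.lf 0x3060) (.lf 0))) (.nd (.nd (.lf 0x1451) (.lf 0x35fe)) (.nd (.lf 0x3365) (.lf 0)))))) (.nd (.nd (.nd (.nd (.nd (.lf 0x2a1b) (.lf 0x266)) (.nd (.lf 0x728) (.lf 0))) (.nd (.nd (.lf 0xdd6) (.lf 0xdf9)) (.nd (.lf 0x2bc4) (.lf 0))))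 (.nd (.nd (.nd (.lf 0xabf) (.lf 0xa40)) (.nd (.lf 0x31c9) (.lf 0))) (.nd (.nd (.lf 0x267) (.lf 0xefd)) (.nd (.lf 0xf85) (.lf 0))))) (.nd (.nd (.nd (.nd (.lf 0x3013) (.lf 0x2c62)) (.nd (.lf 0x2ae6) (.lf 0))) (.nd (.nd (.lf 0xb6f) (.lf 0x1693)) (.nd (.lf 0x12f2) (.lf 0)))) (.nd (.nd (.nd (.lf 0x2d21) (.lf 0x2711)) (.nd (.lf 0x6b1) (.lf 0))) (.nd (.nd (.lf 0x11f7) (.lf 0x72e)) (.nd (.lf 0x89a) (.lf 0))))))) (.nd (.nd (.nd (.nd (.nd (.nd (.lf 0x3bc) (.lf 0x3319)) (.nd (.lf 0x3e3) (.lf 0))) (.nd (.nd (.lf 0x17e) (.lf 0xe39)) (.nd (.lf 0x7b4) (.lf 0)))) (.nd (.nd (.nd (.lf 0x28f4) (.lf 0xdd3)) (.nd (.lf 0x1639) (.lf 0))) (.nd (.nd (.lf 0x152e) (.lf 0x3134)) (.nd (.lf 0xc4c) (.lf 0))))) (.nd (.nd (.nd (.nd (.lf 0x13d7) (.lf 0xd33))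 (.nd (.lf 0x7cc) (.lf 0))) (.nd (.nd (.lf 0x31c2) (.lf 0x28b3)) (.nd (.lf 0x259) (.lf 0)))) (.nd (.nd (.nd (.lf 0x34b3) (.lf 0x4a3)) (.nd (.lf 0x3342) (.lf 0))) (.nd (.nd (.lf 0x379) (.lf 0xc8)) (.nd (.lf 0xd7d) (.lf 0)))))) (.nd (.nd (.nd (.nd (.nd (.lf 0x1158) (.lf 0x21eb)) (.nd (.lf 0xf70) (.lf 0))) (.nd (.nd (.lf 0x27c8) (.lf 0x2aa6)) (.nd (.lf 0xbf) (.lf 0)))) (.nd (.nd (.nd (.lf 0x11f9) (.lf 0x2acc)) (.nd (.lf 0x1280) (.lf 0))) (.nd (.nd (.lf 0x204e) (.lf 0x37db)) (.nd (.lf 0x2eb7) (.lf 0))))) (.nd (.nd (.nd (.nd (.lf 0x2b79) (.lf 0x344b)) (.nd (.lf 0xf80) (.lf 0))) (.nd (.nd (.lf 0x2bda) (.lf 0x313f)) (.nd (.lf 0x4eb) (.lf 0)))) (.nd (.nd (.nd (.lf 0x70) (.lf 0x20cf)) (.nd (.lf 0x280b) (.lf 0))) (.nd (.nd (.lf 0xd1a)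 (.lf 0x920)) (.nd (.lf 0x2107) (.lf 0))))))))
def parHT_nbbaaab : Tr := (.nd (.nd (.nd (.nd (.nd (.nd (.nd (.lf 0x2adb) (.lf 0x370)) (.nd (.lf 0x25b2) (.lf 0))) (.nd (.nd (.lf 0x2914) (.lf 0x2524)) (.nd (.lf 0xecc) (.lf 0)))) (.nd (.nd (.nd (.lf 0x36fd) (.lf 0x2901)) (.nd (.lf 0x7d1) (.lf 0))) (.nd (.nd (.lf 0x8b5) (.lf 0x23fc)) (.nd (.lf 0x303f) (.lf 0))))) (.nd (.nd (.nd (.nd (.lf 0xfb0) (.lf 0x1684)) (.nd (.lf 0x2fe0) (.lf 0))) (.nd (.nd (.lf 0x2f36) (.lf 0x2169)) (.nd (.lf 0x29bd) (.lf 0)))) (.nd (.nd (.nd (.lf 0x33f5) (.lf 0x1bc)) (.nd (.lf 0x87c) (.lf 0))) (.nd (.nd (.lf 0x20e8) (.lf 0x1359)) (.nd (.lf 0x35e0) (.lf 0)))))) (.nd (.nd (.nd (.nd (.nd (.lf 0x2978) (.lf 0x312b)) (.nd (.lf 0x364a) (.lf 0))) (.nd (.nd (.lf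 0x2579) (.lf 0x37d2)) (.nd (.lf 0x3555) (.lf 0)))) (.nd (.nd (.nd (.lf 0x69e) (.lf 0x6fa)) (.nd (.lf 0x3028) (.lf 0))) (.nd (.nd (.lf 0x281a) (.lf 0x3683)) (.nd (.lf 0x1409) (.lf 0))))) (.nd (.nd (.nd (.nd (.lf 0x2c7c) (.lf 0x22c3)) (.nd (.lf 0x21cd) (.lf 0))) (.nd (.nd (.lf 0x1197) (.lf 0x2889)) (.nd (.lf 0x35c) (.lf 0)))) (.nd (.nd (.nd (.lf 0x91a) (.lf 0x2613)) (.nd (.lf 0x3400) (.lf 0))) (.nd (.nd (.lf 0x35ac) (.lf 0x37c9)) (.nd (.lf 0xb0b) (.lf 0))))))) (.nd (.nd (.nd (.nd (.nd (.nd (.lf 0x25bc) (.lf 0xe3c)) (.nd (.lf 0x445) (.lf 0))) (.nd (.nd (.lf 0x2f75) (.lf 0x338f)) (.nd (.lf 0x5de) (.lf 0)))) (.nd (.nd (.nd (.lf 0x37c7) (.lf 0x30af)) (.nd (.lf 0x2fbe) (.lf 0))) (.nd (.nd (.lf 0x27de) (.lf 0x990)) (.nd (.lf 0x1201)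 (.lf 0))))) (.nd (.nd (.nd (.nd (.lf 0x2618) (.lf 0x97d)) (.nd (.lf 0x12b0) (.lf 0))) (.nd (.nd (.lf 0xdc5) (.lf 0x24ea)) (.nd (.lf 0x2678) (.lf 0)))) (.nd (.nd (.nd (.lf 0x8a3) (.lf 0x466)) (.nd (.lf 0x7a5) (.lf 0))) (.nd (.nd (.lf 0xdfb) (.lf 0x26db)) (.nd (.lf 0x2b81) (.lf 0)))))) (.nd (.nd (.nd (.nd (.nd (.lf 0x6eb) (.lf 0x2976)) (.nd (.lf 0x333d) (.lf 0))) (.nd (.nd (.lf 0x118b) (.lf 0x38a)) (.nd (.lf 0x2992) (.lf 0)))) (.nd (.nd (.nd (.lf 0x335a) (.lf 0x1093)) (.nd (.lf 0x29e1) (.lf 0))) (.nd (.nd (.lf 0x886) (.lf 0x11ab)) (.nd (.lf 0xdce) (.lf 0))))) (.nd (.nd (.nd (.nd (.lf 0xc69) (.lf 0x3564)) (.nd (.lf 0x180b) (.lf 0))) (.nd (.nd (.lf 0x2cfc) (.lf 0x8d3)) (.nd (.lf 0x2f2c) (.lf 0)))) (.nd (.nd (.nd (.lf 0xa15)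 (.lf 0x2478)) (.nd (.lf 0x2c35) (.lf 0))) (.nd (.nd (.lf 0x36a3) (.lf 0x1317)) (.nd (.lf 0x1267) (.lf 0))))))))
def parHT_nbbaaba : Tr := (.nd (.nd (.nd (.nd (.nd (.nd (.nd (.lf 0x2de) (.lf 0x252a)) (.nd (.lf 0xa27) (.lf 0))) (.nd (.nd (.lf 0x288f) (.lf 0x3148)) (.nd (.lf 0x514) (.lf 0)))) (.nd (.nd (.nd (.lf 0x2b06) (.lf 0x2b20)) (.nd (.lf 0x11ca) (.lf 0))) (.nd (.nd (.lf 0x839) (.lf 0x371c)) (.nd (.lf 0x4b4) (.lf 0))))) (.nd (.nd (.nd (.nd (.lf 0x35cc) (.lf 0x295)) (.nd (.lf 0x372f) (.lf 0))) (.nd (.nd (.lf 0x262a) (.lf 0x2dc0)) (.nd (.lf 0xbcc) (.lf 0)))) (.nd (.nd (.nd (.lf 0x847) (.lf 0x3081)) (.nd (.lf 0x242a) (.lf 0))) (.nd (.nd (.lf 0x23bb) (.lf 0xe95)) (.nd (.lf 0x202a) (.lf 0)))))) (.nd (.nd (.nd (.nd (.nd (.lf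 0xea3) (.lf 0x3251)) (.nd (.lf 0x2ae) (.lf 0))) (.nd (.nd (.lf 0x948) (.lf 0x226e)) (.nd (.lf 0x27c1) (.lf 0)))) (.nd (.nd (.nd (.lf 0x1062) (.lf 0xb11)) (.nd (.lf 0xfba) (.lf 0))) (.nd (.nd (.lf 0x86b) (.lf 0x9cc)) (.nd (.lf 0x1370) (.lf 0))))) (.nd (.nd (.nd (.nd (.lf 0x2921) (.lf 0x365c)) (.nd (.lf 0x2f2) (.lf 0))) (.nd (.nd (.lf 0x2ec2) (.lf 0xd1c)) (.nd (.lf 0xda5) (.lf 0)))) (.nd (.nd (.nd (.lf 0x98c) (.lf 0x21f1)) (.nd (.lf 0x33c0) (.lf 0))) (.nd (.nd (.lf 0x30a0) (.lf 0x397)) (.nd (.lf 0xb7c) (.lf 0))))))) (.nd (.nd (.nd (.nd (.nd (.nd (.lf 0x1230) (.lf 0xedf)) (.nd (.lf 0xda8) (.lf 0))) (.nd (.nd (.lf 0x3434) (.lf 0x2e06)) (.nd (.lf 0x2570) (.lf 0)))) (.nd (.nd (.nd (.lf 0x28aa) (.lf 0xd3d)) (.nd (.lf 0x3627) (.lf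 0))) (.nd (.nd (.lf 0x3253) (.lf 0x2cd2)) (.nd (.lf 0x101) (.lf 0))))) (.nd (.nd (.nd (.nd (.lf 0x227f) (.lf 0x37d6)) (.nd (.lf 0x21b7) (.lf 0))) (.nd (.nd (.lf 0x545) (.lf 0x144)) (.nd (.lf 0x2d5d) (.lf 0)))) (.nd (.nd (.nd (.lf 0x9c6) (.lf 0x280e)) (.nd (.lf 0x2e48) (.lf 0))) (.nd (.nd (.lf 0x336a) (.lf 0xf18)) (.nd (.lf 0x277e) (.lf 0)))))) (.nd (.nd (.nd (.nd (.nd (.lf 0x315a) (.lf 0x3c2)) (.nd (.lf 0x21a6) (.lf 0))) (.nd (.nd (.lf 0x154d) (.lf 0x427)) (.nd (.lf 0x27d2) (.lf 0)))) (.nd (.nd (.nd (.lf 0x28b) (.lf 0x28c3)) (.nd (.lf 0x27c9) (.lf 0))) (.nd (.nd (.lf 0x12fd) (.lf 0x8b1)) (.nd (.lf 0x353b) (.lf 0))))) (.nd (.nd (.nd (.nd (.lf 0xa72) (.lf 0x9c4)) (.nd (.lf 0x3f8) (.lf 0))) (.nd (.nd (.lf 0x14ba) (.lf 0x1f7))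 (.nd (.lf 0x67a) (.lf 0)))) (.nd (.nd (.nd (.lf 0x351b) (.lf 0xbbe)) (.nd (.lf 0x2d7c) (.lf 0))) (.nd (.nd (.lf 0x2bcf) (.lf 0x8b9)) (.nd (.lf 0x313) (.lf 0))))))))
def parHT_nbbaabb : Tr := (.nd (.nd (.nd (.nd (.nd (.nd (.nd (.lf 0x287a) (.lf 0x2d3b)) (.nd (.lf 0x785) (.lf 0))) (.nd (.nd (.lf 0x157e) (.lf 0x20b)) (.nd (.lf 0x2734) (.lf 0)))) (.nd (.nd (.nd (.lf 0x37d) (.lf 0x25ea)) (.nd (.lf 0x31c0) (.lf 0))) (.nd (.nd (.lf 0x26e1) (.lf 0xcf5)) (.nd (.lf 0x8bb) (.lf 0))))) (.nd (.nd (.nd (.nd (.lf 0x2460) (.lf 0x30b9)) (.nd (.lf 0x2e16) (.lf 0))) (.nd (.nd (.lf 0x332b) (.lf 0x101b)) (.nd (.lf 0x307e) (.lf 0)))) (.nd (.nd (.nd (.lf 0x22a2) (.lf 0x3115)) (.nd (.lf 0x2590) (.lf 0))) (.nd (.nd (.lf 0x13db) (.lf 0x311)) (.nd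 (.lf 0x193) (.lf 0)))))) (.nd (.nd (.nd (.nd (.nd (.lf 0x26c9) (.lf 0x2a80)) (.nd (.lf 0x2a41) (.lf 0))) (.nd (.nd (.lf 0x237d) (.lf 0x24f3)) (.nd (.lf 0x2984) (.lf 0)))) (.nd (.nd (.nd (.lf 0x2b42) (.lf 0x2552)) (.nd (.lf 0xd11) (.lf 0))) (.nd (.nd (.lf 0xf8a) (.lf 0x14e6)) (.nd (.lf 0x617) (.lf 0))))) (.nd (.nd (.nd (.nd (.lf 0x3209) (.lf 0x248b)) (.nd (.lf 0x4c0) (.lf 0))) (.nd (.nd (.lf 0x175a) (.lf 0x102f)) (.nd (.lf 0x477) (.lf 0)))) (.nd (.nd (.nd (.lf 0x109) (.lf 0x7ce)) (.nd (.lf 0xf57) (.lf 0))) (.nd (.nd (.lf 0x236) (.lf 0x2029)) (.nd (.lf 0x375b) (.lf 0))))))) (.nd (.nd (.nd (.nd (.nd (.nd (.lf 0x3) (.lf 0x28b5)) (.nd (.lf 0x2419) (.lf 0))) (.nd (.nd (.lf 0x2255) (.lf 0x322d)) (.nd (.lf 0x227c) (.lf 0)))) (.nd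 (.nd (.nd (.lf 0x394) (.lf 0x2519)) (.nd (.lf 0xb8e) (.lf 0))) (.nd (.nd (.lf 0x38c) (.lf 0x3478)) (.nd (.lf 0x49a) (.lf 0))))) (.nd (.nd (.nd (.nd (.lf 0x11ac) (.lf 0x612)) (.nd (.lf 0x30d2) (.lf 0))) (.nd (.nd (.lf 0x339a) (.lf 0x3359)) (.nd (.lf 0x211a) (.lf 0)))) (.nd (.nd (.nd (.lf 0x3421) (.lf 0x2c1b)) (.nd (.lf 0x37ef) (.lf 0))) (.nd (.nd (.lf 0x93f) (.lf 0x1459)) (.nd (.lf 0x2975) (.lf 0)))))) (.nd (.nd (.nd (.nd (.nd (.lf 0x3310) (.lf 0x332)) (.nd (.lf 0x3b9) (.lf 0))) (.nd (.nd (.lf 0x2dae) (.lf 0xc1c)) (.nd (.lf 0x251f) (.lf 0)))) (.nd (.nd (.nd (.lf 0xb74) (.lf 0x575)) (.nd (.lf 0x155c) (.lf 0))) (.nd (.nd (.lf 0x30d0) (.lf 0x2822)) (.nd (.lf 0x2e3d) (.lf 0))))) (.nd (.nd (.nd (.nd (.lf 0xa38) (.lf 0x2965))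 (.nd (.lf 0x900) (.lf 0))) (.nd (.nd (.lf 0x821) (.lf 0x35d0)) (.nd (.lf 0x22e) (.lf 0)))) (.nd (.nd (.nd (.lf 0x32ae) (.lf 0x7eb)) (.nd (.lf 0x10ff) (.lf 0))) (.nd (.nd (.lf 0x23d0) (.lf 0x9eb)) (.nd (.lf 0x2ea3) (.lf 0))))))))
def parHT_nbbabaa : Tr := (.nd (.nd (.nd (.nd (.nd (.nd (.nd (.lf 0x212) (.lf 0xade)) (.nd (.lf 0xaa5) (.lf 0x3375))) (.nd (.nd (.lf 0x369f) (.lf 0x9d0)) (.nd (.lf 0x2c00) (.lf 0)))) (.nd (.nd (.nd (.lf 0x10a0) (.lf 0x32ef)) (.nd (.lf 0x324a) (.lf 0))) (.nd (.nd (.lf 0x135d) (.lf 0x279a)) (.nd (.lf 0x2413) (.lf 0))))) (.nd (.nd (.nd (.nd (.lf 0x168b) (.lf 0x17b0)) (.nd (.lf 0x844) (.lf 0))) (.nd (.nd (.lf 0x74d) (.lf 0x611)) (.nd (.lf 0x2f79) (.lf 0)))) (.nd (.nd (.nd (.lf 0xe4a) (.lf 0xd95)) (.nd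 (.lf 0x2746) (.lf 0))) (.nd (.nd (.lf 0x3f6) (.lf 0x3162)) (.nd (.lf 0x1c2) (.lf 0)))))) (.nd (.nd (.nd (.nd (.nd (.lf 0x9e2) (.lf 0x120a)) (.nd (.lf 0x2411) (.lf 0))) (.nd (.nd (.lf 0x3bb) (.lf 0x3391)) (.nd (.lf 0x2a98) (.lf 0)))) (.nd (.nd (.nd (.lf 0x65e) (.lf 0x27bf)) (.nd (.lf 0x108c) (.lf 0))) (.nd (.nd (.lf 0xd79) (.lf 0x32ad)) (.nd (.lf 0x2b59) (.lf 0))))) (.nd (.nd (.nd (.nd (.lf 0x102b) (.lf 0x11a6)) (.nd (.lf 0x2dc8) (.lf 0))) (.nd (.nd (.lf 0x204b) (.lf 0xd93)) (.nd (.lf 0x37cb) (.lf 0)))) (.nd (.nd (.nd (.lf 0x4c) (.lf 0x17d6)) (.nd (.lf 0x2090) (.lf 0))) (.nd (.nd (.lf 0x2466) (.lf 0x2563)) (.nd (.lf 0xfab) (.lf 0))))))) (.nd (.nd (.nd (.nd (.nd (.nd (.lf 0x21a2) (.lf 0x294f)) (.nd (.lf 0x2b5b) (.lf 0)))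 (.nd (.nd (.lf 0x15bb) (.lf 0x177f)) (.nd (.lf 0xeea) (.lf 0)))) (.nd (.nd (.nd (.lf 0x2702) (.lf 0xc36)) (.nd (.lf 0x32a7) (.lf 0))) (.nd (.nd (.lf 0xa5e) (.lf 0x2d58)) (.nd (.lf 0x23ad) (.lf 0))))) (.nd (.nd (.nd (.nd (.lf 0x215b) (.lf 0x518)) (.nd (.lf 0x2b58) (.lf 0))) (.nd (.nd (.lf 0x26ae) (.lf 0x20fb)) (.nd (.lf 0x1008) (.lf 0)))) (.nd (.nd (.nd (.lf 0x1d1) (.lf 0x2d3d)) (.nd (.lf 0x368e) (.lf 0))) (.nd (.nd (.lf 0x13d5) (.lf 0x31e2)) (.nd (.lf 0x36e7) (.lf 0)))))) (.nd (.nd (.nd (.nd (.nd (.lf 0xd41) (.lf 0x226)) (.nd (.lf 0x1a4) (.lf 0))) (.nd (.nd (.lf 0x368a) (.lf 0x20cc)) (.nd (.lf 0x31cd) (.lf 0)))) (.nd (.nd (.nd (.lf 0x2b29) (.lf 0x2607)) (.nd (.lf 0x332e) (.lf 0))) (.nd (.nd (.lf 0x369b) (.lf 0x19e)) (.nd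 (.lf 0x37b) (.lf 0))))) (.nd (.nd (.nd (.nd (.lf 0x2ab3) (.lf 0x2cdc)) (.nd (.lf 0x2d03) (.lf 0))) (.nd (.nd (.lf 0x1687) (.lf 0xef0)) (.nd (.lf 0x29f8) (.lf 0)))) (.nd (.nd (.nd (.lf 0x139f) (.lf 0xdd)) (.nd (.lf 0x2e99) (.lf 0))) (.nd (.nd (.lf 0x2452) (.lf 0x2671)) (.nd (.lf 0x3062) (.lf 0))))))))
def parHT_nbbabab : Tr := (.nd (.nd (.nd (.nd (.nd (.nd (.nd (.lf 0x331) (.lf 0x2e0)) (.nd (.lf 0x1617) (.lf 0))) (.nd (.nd (.lf 0x2016) (.lf 0x3527)) (.nd (.lf 0x1193) (.lf 0)))) (.nd (.nd (.nd (.lf 0xc16) (.lf 0x1365)) (.nd (.lf 0x293e) (.lf 0))) (.nd (.nd (.lf 0x2e77) (.lf 0x31b)) (.nd (.lf 0x137b) (.lf 0))))) (.nd (.nd (.nd (.nd (.lf 0x28bd) (.lf 0xd8b)) (.nd (.lf 0xe77) (.lf 0))) (.nd (.nd (.lf 0x284e) (.lf 0x1fb)) (.nd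 (.lf 0x2c19) (.lf 0)))) (.nd (.nd (.nd (.lf 0x2e60) (.lf 0xf0f)) (.nd (.lf 0x2d72) (.lf 0))) (.nd (.nd (.lf 0x11f8) (.lf 0xa2a)) (.nd (.lf 0x21d0) (.lf 0)))))) (.nd (.nd (.nd (.nd (.nd (.lf 0x2888) (.lf 0x551)) (.nd (.lf 0x613) (.lf 0))) (.nd (.nd (.lf 0xb19) (.lf 0x279b)) (.nd (.lf 0x2c3e) (.lf 0)))) (.nd (.nd (.nd (.lf 0x36de) (.lf 0xc21)) (.nd (.lf 0x17d) (.lf 0))) (.nd (.nd (.lf 0xa84) (.lf 0x2eb2)) (.nd (.lf 0xd13) (.lf 0))))) (.nd (.nd (.nd (.nd (.lf 0x30d1) (.lf 0xb2d)) (.nd (.lf 0x307c) (.lf 0))) (.nd (.nd (.lf 0x13cb) (.lf 0x237a)) (.nd (.lf 0x93e) (.lf 0)))) (.nd (.nd (.nd (.lf 0x142) (.lf 0x1274)) (.nd (.lf 0x187) (.lf 0))) (.nd (.nd (.lf 0x547) (.lf 0xfb8)) (.nd (.lf 0x166c) (.lf 0))))))) (.nd (.nd (.nd (.nd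 (.nd (.nd (.lf 0x2c79) (.lf 0x10e9)) (.nd (.lf 0xe92) (.lf 0))) (.nd (.nd (.lf 0x233e) (.lf 0x21b)) (.nd (.lf 0x27e9) (.lf 0)))) (.nd (.nd (.nd (.lf 0x14f9) (.lf 0x409)) (.nd (.lf 0x17d0) (.lf 0))) (.nd (.nd (.lf 0x767) (.lf 0x2a82)) (.nd (.lf 0x2d9f) (.lf 0))))) (.nd (.nd (.nd (.nd (.lf 0x22de) (.lf 0xd18)) (.nd (.lf 0x25d5) (.lf 0))) (.nd (.nd (.lf 0x27d6) (.lf 0x579)) (.nd (.lf 0x1575) (.lf 0)))) (.nd (.nd (.nd (.lf 0x5cb) (.lf 0x161a)) (.nd (.lf 0x1524) (.lf 0))) (.nd (.nd (.lf 0x2eea) (.lf 0x340c)) (.nd (.lf 0x2d7f) (.lf 0)))))) (.nd (.nd (.nd (.nd (.nd (.lf 0x30da) (.lf 0x26c)) (.nd (.lf 0x2add) (.lf 0))) (.nd (.nd (.lf 0xee7) (.lf 0xa2d)) (.nd (.lf 0xc0b) (.lf 0)))) (.nd (.nd (.nd (.lf 0x2f78) (.lf 0x250c)) (.nd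 (.lf 0x2823) (.lf 0))) (.nd (.nd (.lf 0x14bd) (.lf 0x2640)) (.nd (.lf 0x16e) (.lf 0))))) (.nd (.nd (.nd (.nd (.lf 0xc7e) (.lf 0xd77)) (.nd (.lf 0x2d85) (.lf 0))) (.nd (.nd (.lf 0x1356) (.lf 0xec)) (.nd (.lf 0x2b1d) (.lf 0)))) (.nd (.nd (.nd (.lf 0x11a8) (.lf 0x27ad)) (.nd (.lf 0x28ad) (.lf 0))) (.nd (.nd (.lf 0xb1) (.lf 0x159f)) (.nd (.lf 0x2be9) (.lf 0))))))))
def parHT_nbbabba : Tr := (.nd (.nd (.nd (.nd (.nd (.nd (.nd (.lf 0x1775) (.lf 0x26d4)) (.nd (.lf 0x27a1) (.lf 0))) (.nd (.nd (.lf 0x899) (.lf 0x15c8)) (.nd (.lf 0x181) (.lf 0)))) (.nd (.nd (.nd (.lf 0x241e) (.lf 0xf8b)) (.nd (.lf 0x259c) (.lf 0))) (.nd (.nd (.lf 0x2e21) (.lf 0x952)) (.nd (.lf 0x3794) (.lf 0))))) (.nd (.nd (.nd (.nd (.lf 0x121b) (.lf 0x44f)) (.nd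 (.lf 0x2a8f) (.lf 0))) (.nd (.nd (.lf 0x3145) (.lf 0xc53)) (.nd (.lf 0x2713) (.lf 0)))) (.nd (.nd (.nd (.lf 0x1305) (.lf 0x3368)) (.nd (.lf 0x114) (.lf 0))) (.nd (.nd (.lf 0x2685) (.lf 0x2c60)) (.nd (.lf 0xef2) (.lf 0)))))) (.nd (.nd (.nd (.nd (.nd (.lf 0xbb4) (.lf 0x2017)) (.nd (.lf 0x2870) (.lf 0))) (.nd (.nd (.lf 0x2126) (.lf 0x13b0)) (.nd (.lf 0x1256) (.lf 0)))) (.nd (.nd (.nd (.lf 0xa8d) (.lf 0x7c8)) (.nd (.lf 0x2c09) (.lf 0))) (.nd (.nd (.lf 0x103d) (.lf 0x31da)) (.nd (.lf 0xc8a) (.lf 0))))) (.nd (.nd (.nd (.nd (.lf 0xd) (.lf 0x14c3)) (.nd (.lf 0x20bd) (.lf 0))) (.nd (.nd (.lf 0x1553) (.lf 0x2ef3)) (.nd (.lf 0x3016) (.lf 0)))) (.nd (.nd (.nd (.lf 0x2516) (.lf 0x11fa)) (.nd (.lf 0x369a) (.lf 0))) (.nd (.nd (.lf 0xb06)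 (.lf 0xa1c)) (.nd (.lf 0xd23) (.lf 0))))))) (.nd (.nd (.nd (.nd (.nd (.nd (.lf 0x4c1) (.lf 0x25ee)) (.nd (.lf 0x3595) (.lf 0))) (.nd (.nd (.lf 0x2f5b) (.lf 0x16ac)) (.nd (.lf 0x37ce) (.lf 0)))) (.nd (.nd (.nd (.lf 0x1105) (.lf 0x371f)) (.nd (.lf 0x1635) (.lf 0))) (.nd (.nd (.lf 0xd83) (.lf 0x56c)) (.nd (.lf 0x659) (.lf 0))))) (.nd (.nd (.nd (.nd (.lf 0x2c25) (.lf 0x2b7c)) (.nd (.lf 0x13dd) (.lf 0))) (.nd (.nd (.lf 0x29b) (.lf 0x1464)) (.nd (.lf 0x3129) (.lf 0)))) (.nd (.nd (.nd (.lf 0x1448) (.lf 0x4ca)) (.nd (.lf 0x1368) (.lf 0))) (.nd (.nd (.lf 0x108f) (.lf 0x712)) (.nd (.lf 0x2b61) (.lf 0)))))) (.nd (.nd (.nd (.nd (.nd (.lf 0x36b0) (.lf 0x1599)) (.nd (.lf 0x6b3) (.lf 0))) (.nd (.nd (.lf 0x2ebe) (.lf 0x2553)) (.nd (.lf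 0x23c0) (.lf 0)))) (.nd (.nd (.nd (.lf 0x6e) (.lf 0x2c4b)) (.nd (.lf 0x2cc) (.lf 0))) (.nd (.nd (.lf 0x1778) (.lf 0x162f)) (.nd (.lf 0x1df) (.lf 0))))) (.nd (.nd (.nd (.nd (.lf 0x3676) (.lf 0x2a1f)) (.nd (.lf 0x1123) (.lf 0))) (.nd (.nd (.lf 0x2c8c) (.lf 0x2a9a)) (.nd (.lf 0x2e11) (.lf 0)))) (.nd (.nd (.nd (.lf 0x27b9) (.lf 0x17ff)) (.nd (.lf 0x3516) (.lf 0))) (.nd (.nd (.lf 0x2867) (.lf 0x10e3)) (.nd (.lf 0x3096) (.lf 0))))))))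
def parHT_nbbabbb : Tr := (.nd (.nd (.nd (.nd (.nd (.nd (.nd (.lf 0xe5f) (.lf 0x76c)) (.nd (.lf 0x316b) (.lf 0))) (.nd (.nd (.lf 0x25e) (.lf 0x1f2)) (.nd (.lf 0x2179) (.lf 0)))) (.nd (.nd (.nd (.lf 0x3071) (.lf 0x2991)) (.nd (.lf 0x2bb8) (.lf 0))) (.nd (.nd (.lf 0xdfe) (.lf 0x32e8)) (.nd (.lf 0x2ea7) (.lf 0))))) (.nd (.nd (.nd (.nd (.lf 0x3486) (.lf 0x147b)) (.nd (.lf 0x9a6) (.lf 0))) (.nd (.nd (.lf 0x4c5) (.lf 0x25e3)) (.nd (.lf 0x2aef) (.lf 0)))) (.nd (.nd (.nd (.lf 0x2977) (.lf 0x3763)) (.nd (.lf 0x5e6) (.lf 0))) (.nd (.nd (.lf 0x986) (.lf 0x1296)) (.nd (.lf 0x27bc) (.lf 0)))))) (.nd (.nd (.nd (.nd (.nd (.lf 0x354) (.lf 0x2fa3)) (.nd (.lf 0x300f) (.lf 0))) (.nd (.nd (.lf 0x297e) (.lf 0x165b)) (.nd (.lf 0x26f6) (.lf 0))))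 (.nd (.nd (.nd (.lf 0x2ae3) (.lf 0x14e1)) (.nd (.lf 0x20e) (.lf 0))) (.nd (.nd (.lf 0x370f) (.lf 0x778)) (.nd (.lf 0x331b) (.lf 0))))) (.nd (.nd (.nd (.nd (.lf 0x30f5) (.lf 0x27c2)) (.nd (.lf 0xe76) (.lf 0))) (.nd (.nd (.lf 0x9c1) (.lf 0x2af5)) (.nd (.lf 0x32cd) (.lf 0)))) (.nd (.nd (.nd (.lf 0xf35) (.lf 0x2a70)) (.nd (.lf 0x2695) (.lf 0))) (.nd (.nd (.lf 0x14d9) (.lf 0x351)) (.nd (.lf 0x1067) (.lf 0))))))) (.nd (.nd (.nd (.nd (.nd (.nd (.lf 0x209e) (.lf 0x2259)) (.nd (.lf 0x55c) (.lf 0))) (.nd (.nd (.lf 0x348a) (.lf 0x857)) (.nd (.lf 0x9e9) (.lf 0)))) (.nd (.nd (.nd (.lf 0xbbd) (.lf 0x3210)) (.nd (.lf 0xf93) (.lf 0))) (.nd (.nd (.lf 0x2ea4) (.lf 0x214e)) (.nd (.lf 0xa0e) (.lf 0))))) (.nd (.nd (.nd (.nd (.lf 0x22bf) (.lf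 0x13a9)) (.nd (.lf 0x11f5) (.lf 0))) (.nd (.nd (.lf 0x2cd0) (.lf 0xce1)) (.nd (.lf 0x34cf) (.lf 0)))) (.nd (.nd (.nd (.lf 0x2bc1) (.lf 0x966)) (.nd (.lf 0x2ac8) (.lf 0))) (.nd (.nd (.lf 0x30ca) (.lf 0x349d)) (.nd (.lf 0x6a3) (.lf 0)))))) (.nd (.nd (.nd (.nd (.nd (.lf 0x2bb3) (.lf 0x2343)) (.nd (.lf 0x3450) (.lf 0))) (.nd (.nd (.lf 0x21a8) (.lf 0x3445)) (.nd (.lf 0x2ecb) (.lf 0)))) (.nd (.nd (.nd (.lf 0x2a08) (.lf 0x2c0e)) (.nd (.lf 0x2408) (.lf 0))) (.nd (.nd (.lf 0x2a18) (.lf 0x37b9)) (.nd (.lf 0x21c5) (.lf 0))))) (.nd (.nd (.nd (.nd (.lf 0x43f) (.lf 0x29d7)) (.nd (.lf 0x13f0) (.lf 0))) (.nd (.nd (.lf 0x2a57) (.lf 0x806)) (.nd (.lf 0x100f) (.lf 0)))) (.nd (.nd (.nd (.lf 0x452) (.lf 0x1300)) (.nd (.lf 0x10a1) (.lf 0)))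 (.nd (.nd (.lf 0xcbd) (.lf 0x3424)) (.nd (.lf 0x32e4) (.lf 0))))))))
def parHT_nbbbaaa : Tr := (.nd (.nd (.nd (.nd (.nd (.nd (.nd (.lf 0x12eb) (.lf 0x4cd)) (.nd (.lf 0x27fd) (.lf 0xca2))) (.nd (.nd (.lf 0x2224) (.lf 0x2f08)) (.nd (.lf 0x1219) (.lf 0)))) (.nd (.nd (.nd (.lf 0x2d47) (.lf 0x2796)) (.nd (.lf 0x2386) (.lf 0))) (.nd (.nd (.lf 0x6aa) (.lf 0x21d4)) (.nd (.lf 0xf30) (.lf 0))))) (.nd (.nd (.nd (.nd (.lf 0xc51) (.lf 0x1023)) (.nd (.lf 0x2372) (.lf 0))) (.nd (.nd (.lf 0x2050) (.lf 0x2fd2)) (.nd (.lf 0x37f7) (.lf 0)))) (.nd (.nd (.nd (.lf 0x3322) (.lf 0xd12)) (.nd (.lf 0x3099) (.lf 0))) (.nd (.nd (.lf 0x35d) (.lf 0x2c33)) (.nd (.lf 0x1502) (.lf 0)))))) (.nd (.nd (.nd (.nd (.nd (.lf 0x13fe) (.lf 0xd7c)) (.nd (.lf 0x1652)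 (.lf 0))) (.nd (.nd (.lf 0x5a8) (.lf 0x2bd9)) (.nd (.lf 0x20f9) (.lf 0)))) (.nd (.nd (.nd (.lf 0x1003) (.lf 0x982)) (.nd (.lf 0x34c2) (.lf 0))) (.nd (.nd (.lf 0x27ff) (.lf 0x2f1e)) (.nd (.lf 0x1060) (.lf 0))))) (.nd (.nd (.nd (.nd (.lf 0xea0) (.lf 0x651)) (.nd (.lf 0x696) (.lf 0))) (.nd (.nd (.lf 0x6f3) (.lf 0x31b5)) (.nd (.lf 0x9d) (.lf 0)))) (.nd (.nd (.nd (.lf 0x26df) (.lf 0x2008)) (.nd (.lf 0x2c0c) (.lf 0))) (.nd (.nd (.lf 0x2bb4) (.lf 0x374b)) (.nd (.lf 0x3776) (.lf 0))))))) (.nd (.nd (.nd (.nd (.nd (.nd (.lf 0x64d) (.lf 0x21e2)) (.nd (.lf 0x21ad) (.lf 0))) (.nd (.nd (.lf 0x3781) (.lf 0x1509)) (.nd (.lf 0x3c1) (.lf 0)))) (.nd (.nd (.nd (.lf 0xf91) (.lf 0x3599)) (.nd (.lf 0x41d) (.lf 0))) (.nd (.nd (.lf 0xe18) (.lf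 0x1188)) (.nd (.lf 0x2ba3) (.lf 0))))) (.nd (.nd (.nd (.nd (.lf 0x35bc) (.lf 0x2031)) (.nd (.lf 0x24b0) (.lf 0))) (.nd (.nd (.lf 0x2941) (.lf 0x256f)) (.nd (.lf 0x2e4a) (.lf 0)))) (.nd (.nd (.nd (.lf 0x33b3) (.lf 0x23b5)) (.nd (.lf 0x977) (.lf 0))) (.nd (.nd (.lf 0x2c3a) (.lf 0x3563)) (.nd (.lf 0x2aae) (.lf 0)))))) (.nd (.nd (.nd (.nd (.nd (.lf 0x25c0) (.lf 0x244b)) (.nd (.lf 0x2134) (.lf 0))) (.nd (.nd (.lf 0x2bde) (.lf 0x287e)) (.nd (.lf 0x2e64) (.lf 0)))) (.nd (.nd (.nd (.lf 0x1298) (.lf 0x3229)) (.nd (.lf 0x283b) (.lf 0))) (.nd (.nd (.lf 0x2a3) (.lf 0x2d9e)) (.nd (.lf 0x650) (.lf 0))))) (.nd (.nd (.nd (.nd (.lf 0x1655) (.lf 0x2175)) (.nd (.lf 0x10db) (.lf 0))) (.nd (.nd (.lf 0x3442) (.lf 0x13b1)) (.nd (.lf 0x930) (.lf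 0)))) (.nd (.nd (.nd (.lf 0x2ecf) (.lf 0x23c1)) (.nd (.lf 0x121a) (.lf 0))) (.nd (.nd (.lf 0x1491) (.lf 0x64)) (.nd (.lf 0x265) (.lf 0))))))))
def parHT_nbbbaab : Tr := (.nd (.nd (.nd (.nd (.nd (.nd (.nd (.lf 0x2efd) (.lf 0x116b)) (.nd (.lf 0x2c69) (.lf 0))) (.nd (.nd (.lf 0x3354) (.lf 0x2024)) (.nd (.lf 0x52a) (.lf 0)))) (.nd (.nd (.nd (.lf 0x2158) (.lf 0x34ee)) (.nd (.lf 0x10) (.lf 0))) (.nd (.nd (.lf 0x324d) (.lf 0x8a6)) (.nd (.lf 0x76f) (.lf 0))))) (.nd (.nd (.nd (.nd (.lf 0xee8) (.lf 0x2ef7)) (.nd (.lf 0x2df6) (.lf 0))) (.nd (.nd (.lf 0x1506) (.lf 0x30ce)) (.nd (.lf 0x12b) (.lf 0)))) (.nd (.nd (.nd (.lf 0x34d8) (.lf 0x21b6)) (.nd (.lf 0x2d43) (.lf 0))) (.nd (.nd (.lf 0xe1a) (.lf 0x13ed)) (.nd (.lf 0xf7c) (.lf 0))))))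 (.nd (.nd (.nd (.nd (.nd (.lf 0x20dd) (.lf 0x34bb)) (.nd (.lf 0x277) (.lf 0))) (.nd (.nd (.lf 0x34b0) (.lf 0x32bb)) (.nd (.lf 0x5b9) (.lf 0)))) (.nd (.nd (.nd (.lf 0x327b) (.lf 0x16a9)) (.nd (.lf 0x2334) (.lf 0))) (.nd (.nd (.lf 0x41b) (.lf 0x398)) (.nd (.lf 0x20a) (.lf 0))))) (.nd (.nd (.nd (.nd (.lf 0x3f0) (.lf 0x513)) (.nd (.lf 0x22c9) (.lf 0))) (.nd (.nd (.lf 0xd3b) (.lf 0x12e4)) (.nd (.lf 0x2e0e) (.lf 0)))) (.nd (.nd (.nd (.lf 0x7c6) (.lf 0x801)) (.nd (.lf 0x2198) (.lf 0))) (.nd (.nd (.lf 0xe84) (.lf 0x46c)) (.nd (.lf 0x298b) (.lf 0))))))) (.nd (.nd (.nd (.nd (.nd (.nd (.lf 0x215a) (.lf 0x1001)) (.nd (.lf 0x160e) (.lf 0))) (.nd (.nd (.lf 0x8fc) (.lf 0x2bc7)) (.nd (.lf 0x5c4) (.lf 0)))) (.nd (.nd (.nd (.lf 0xebb) (.lf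 0x2a02)) (.nd (.lf 0x2dab) (.lf 0))) (.nd (.nd (.lf 0x2c6c) (.lf 0xed0)) (.nd (.lf 0x1722) (.lf 0))))) (.nd (.nd (.nd (.nd (.lf 0x2412) (.lf 0x2ad5)) (.nd (.lf 0x1390) (.lf 0))) (.nd (.nd (.lf 0x9f7) (.lf 0x122e)) (.nd (.lf 0x4d2) (.lf 0)))) (.nd (.nd (.nd (.lf 0x17c0) (.lf 0x31de)) (.nd (.lf 0x3690) (.lf 0))) (.nd (.nd (.lf 0x2c78) (.lf 0x3021)) (.nd (.lf 0x23eb) (.lf 0)))))) (.nd (.nd (.nd (.nd (.nd (.lf 0x3544) (.lf 0x2c7f)) (.nd (.lf 0xf42) (.lf 0))) (.nd (.nd (.lf 0x331f) (.lf 0x653)) (.nd (.lf 0xa88) (.lf 0)))) (.nd (.nd (.nd (.lf 0x4b5) (.lf 0x439)) (.nd (.lf 0x12a6) (.lf 0))) (.nd (.nd (.lf 0xe1b) (.lf 0x33dc)) (.nd (.lf 0x34a) (.lf 0))))) (.nd (.nd (.nd (.nd (.lf 0xf28) (.lf 0x647)) (.nd (.lf 0x21f6) (.lf 0)))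 (.nd (.nd (.lf 0xd6f) (.lf 0xb5d)) (.nd (.lf 0x210f) (.lf 0)))) (.nd (.nd (.nd (.lf 0x5d5) (.lf 0x16d6)) (.nd (.lf 0x12c0) (.lf 0))) (.nd (.nd (.lf 0x3233) (.lf 0x11d3)) (.nd (.lf 0x23c8) (.lf 0))))))))
def parHT_nbbbaba : Tr := (.nd (.nd (.nd (.nd (.nd (.nd (.nd (.lf 0x227b) (.lf 0x28d3)) (.nd (.lf 0x16df) (.lf 0))) (.nd (.nd (.lf 0xcb) (.lf 0x17da)) (.nd (.lf 0x408) (.lf 0)))) (.nd (.nd (.nd (.lf 0x28e9) (.lf 0x1809)) (.nd (.lf 0x30b0) (.lf 0))) (.nd (.nd (.lf 0x272d) (.lf 0xad6)) (.nd (.lf 0x6f1) (.lf 0))))) (.nd (.nd (.nd (.nd (.lf 0x33ed) (.lf 0x25a4)) (.nd (.lf 0x499) (.lf 0))) (.nd (.nd (.lf 0xa2b) (.lf 0x4f3)) (.nd (.lf 0x6f6) (.lf 0)))) (.nd (.nd (.nd (.lf 0x265d) (.lf 0x281)) (.nd (.lf 0x222b) (.lf 0))) (.nd (.nd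 (.lf 0x527) (.lf 0x2604)) (.nd (.lf 0xab4) (.lf 0)))))) (.nd (.nd (.nd (.nd (.nd (.lf 0x27b6) (.lf 0xfd9)) (.nd (.lf 0x2e0f) (.lf 0))) (.nd (.nd (.lf 0x39e) (.lf 0x20d7)) (.nd (.lf 0x8f) (.lf 0)))) (.nd (.nd (.nd (.lf 0x2be2) (.lf 0x2309)) (.nd (.lf 0x171f) (.lf 0))) (.nd (.nd (.lf 0x172b) (.lf 0x177e)) (.nd (.lf 0x35b1) (.lf 0))))) (.nd (.nd (.nd (.nd (.lf 0xaac) (.lf 0x2ce3)) (.nd (.lf 0x86e) (.lf 0))) (.nd (.nd (.lf 0x303e) (.lf 0x10e2)) (.nd (.lf 0xc2d) (.lf 0)))) (.nd (.nd (.nd (.lf 0x130d) (.lf 0x30fa)) (.nd (.lf 0x1634) (.lf 0))) (.nd (.nd (.lf 0x2e8) (.lf 0x29e4)) (.nd (.lf 0x13d1) (.lf 0))))))) (.nd (.nd (.nd (.nd (.nd (.nd (.lf 0x8a0) (.lf 0x377a)) (.nd (.lf 0x1241) (.lf 0))) (.nd (.nd (.lf 0x1765) (.lf 0xd69))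 (.nd (.lf 0x2f44) (.lf 0)))) (.nd (.nd (.nd (.lf 0x228) (.lf 0x107e)) (.nd (.lf 0x15b3) (.lf 0))) (.nd (.nd (.lf 0x2641) (.lf 0x3e7)) (.nd (.lf 0x45b) (.lf 0))))) (.nd (.nd (.nd (.nd (.lf 0x540) (.lf 0x158e)) (.nd (.lf 0x2447) (.lf 0))) (.nd (.nd (.lf 0x4a) (.lf 0x1597)) (.nd (.lf 0xe29) (.lf 0)))) (.nd (.nd (.nd (.lf 0x29) (.lf 0x1642)) (.nd (.lf 0x2a33) (.lf 0))) (.nd (.nd (.lf 0x2c74) (.lf 0xacd)) (.nd (.lf 0x107) (.lf 0)))))) (.nd (.nd (.nd (.nd (.nd (.lf 0x3057) (.lf 0x1729)) (.nd (.lf 0x3732) (.lf 0))) (.nd (.nd (.lf 0x2212) (.lf 0xf2c)) (.nd (.lf 0x2c6) (.lf 0)))) (.nd (.nd (.nd (.lf 0xbee) (.lf 0x808)) (.nd (.lf 0x133b) (.lf 0))) (.nd (.nd (.lf 0x296d) (.lf 0x17f)) (.nd (.lf 0x2bd2) (.lf 0))))) (.nd (.nd (.nd (.nd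 (.lf 0x2c73) (.lf 0x23ce)) (.nd (.lf 0xbd9) (.lf 0))) (.nd (.nd (.lf 0x14d5) (.lf 0x3213)) (.nd (.lf 0x9a0) (.lf 0)))) (.nd (.nd (.nd (.lf 0x31cc) (.lf 0x26f0)) (.nd (.lf 0xde3) (.lf 0))) (.nd (.nd (.lf 0x13fa) (.lf 0x9a)) (.nd (.lf 0x20b3) (.lf 0))))))))
def parHT_nbbbabb : Tr := (.nd (.nd (.nd (.nd (.nd (.nd (.nd (.lf 0x5d7) (.lf 0x136a)) (.nd (.lf 0x319) (.lf 0))) (.nd (.nd (.lf 0xfa) (.lf 0x27a3)) (.nd (.lf 0x240a) (.lf 0)))) (.nd (.nd (.nd (.lf 0x6e9) (.lf 0x36c0)) (.nd (.lf 0x2e4f) (.lf 0))) (.nd (.nd (.lf 0x10cf) (.lf 0x3006)) (.nd (.lf 0x588) (.lf 0))))) (.nd (.nd (.nd (.nd (.lf 0x292f) (.lf 0xe8b)) (.nd (.lf 0x2e9c) (.lf 0))) (.nd (.nd (.lf 0x14b9) (.lf 0x1154)) (.nd (.lf 0x2110) (.lf 0)))) (.nd (.nd (.nd (.lf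 0x2135) (.lf 0x1735)) (.nd (.lf 0x374e) (.lf 0))) (.nd (.nd (.lf 0x10f6) (.lf 0x6b8)) (.nd (.lf 0x280f) (.lf 0)))))) (.nd (.nd (.nd (.nd (.nd (.lf 0x13d6) (.lf 0x3752)) (.nd (.lf 0x2e79) (.lf 0))) (.nd (.nd (.lf 0x2ecc) (.lf 0x2705)) (.nd (.lf 0x2347) (.lf 0)))) (.nd (.nd (.nd (.lf 0x349) (.lf 0x2f5a)) (.nd (.lf 0xc95) (.lf 0))) (.nd (.nd (.lf 0x17a7) (.lf 0x26da)) (.nd (.lf 0x3311) (.lf 0))))) (.nd (.nd (.nd (.nd (.lf 0x14d8) (.lf 0x1582)) (.nd (.lf 0x1621) (.lf 0))) (.nd (.nd (.lf 0x781) (.lf 0xfe8)) (.nd (.lf 0x2aa8) (.lf 0)))) (.nd (.nd (.nd (.lf 0xbd2) (.lf 0x1715)) (.nd (.lf 0x2b69) (.lf 0))) (.nd (.nd (.lf 0x259f) (.lf 0x1474)) (.nd (.lf 0xe68) (.lf 0))))))) (.nd (.nd (.nd (.nd (.nd (.nd (.lf 0xa44) (.lf 0x170b))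 (.nd (.lf 0x2523) (.lf 0))) (.nd (.nd (.lf 0x2a39) (.lf 0x23f6)) (.nd (.lf 0x1610) (.lf 0)))) (.nd (.nd (.nd (.lf 0x219c) (.lf 0x2990)) (.nd (.lf 0x2f03) (.lf 0))) (.nd (.nd (.lf 0x2783) (.lf 0x50c)) (.nd (.lf 0x391) (.lf 0))))) (.nd (.nd (.nd (.nd (.lf 0x6e0) (.lf 0x2e66)) (.nd (.lf 0x1288) (.lf 0))) (.nd (.nd (.lf 0x5ed) (.lf 0x11a7)) (.nd (.lf 0x3635) (.lf 0)))) (.nd (.nd (.nd (.lf 0x2855) (.lf 0x2666)) (.nd (.lf 0x2e59) (.lf 0))) (.nd (.nd (.lf 0x309b) (.lf 0xd26)) (.nd (.lf 0x270) (.lf 0)))))) (.nd (.nd (.nd (.nd (.nd (.lf 0x6c2) (.lf 0x835)) (.nd (.lf 0x188) (.lf 0))) (.nd (.nd (.lf 0x2d77) (.lf 0x669)) (.nd (.lf 0x17e6) (.lf 0)))) (.nd (.nd (.nd (.lf 0xa70) (.lf 0xd5c)) (.nd (.lf 0x1276) (.lf 0))) (.nd (.nd (.lf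 0x1410) (.lf 0x24e0)) (.nd (.lf 0x1538) (.lf 0))))) (.nd (.nd (.nd (.nd (.lf 0x1145) (.lf 0x1800)) (.nd (.lf 0x2d13) (.lf 0))) (.nd (.nd (.lf 0x906) (.lf 0x32c1)) (.nd (.lf 0x138e) (.lf 0)))) (.nd (.nd (.nd (.lf 0x354a) (.lf 0x2d1c)) (.nd (.lf 0x82b) (.lf 0))) (.nd (.nd (.lf 0x17dd) (.lf 0x2657)) (.nd (.lf 0xf0b) (.lf 0))))))))
def parHT_nbbbbaa : Tr := (.nd (.nd (.nd (.nd (.nd (.nd (.nd (.lf 0xa9a) (.lf 0x1283)) (.nd (.lf 0x24a) (.lf 0))) (.nd (.nd (.lf 0x2895) (.lf 0x54a)) (.nd (.lf 0x17bc) (.lf 0)))) (.nd (.nd (.nd (.lf 0x21fa) (.lf 0xcb5)) (.nd (.lf 0x124b) (.lf 0))) (.nd (.nd (.lf 0x36d) (.lf 0x26d5)) (.nd (.lf 0xb5b) (.lf 0))))) (.nd (.nd (.nd (.nd (.lf 0x379c) (.lf 0x35cb)) (.nd (.lf 0xb3b) (.lf 0))) (.nd (.nd (.lf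 0xe4c) (.lf 0x2866)) (.nd (.lf 0x32e5) (.lf 0)))) (.nd (.nd (.nd (.lf 0x2e05) (.lf 0x354b)) (.nd (.lf 0x2335) (.lf 0))) (.nd (.nd (.lf 0x2b9a) (.lf 0x8d9)) (.nd (.lf 0x356c) (.lf 0)))))) (.nd (.nd (.nd (.nd (.nd (.lf 0x2201) (.lf 0x6c4)) (.nd (.lf 0x2234) (.lf 0))) (.nd (.nd (.lf 0x2737) (.lf 0x301d)) (.nd (.lf 0x32fd) (.lf 0)))) (.nd (.nd (.nd (.lf 0x2dfd) (.lf 0x9ef)) (.nd (.lf 0x2485) (.lf 0))) (.nd (.nd (.lf 0xaf9) (.lf 0x3361)) (.nd (.lf 0xe27) (.lf 0))))) (.nd (.nd (.nd (.nd (.lf 0x2003) (.lf 0x2d5a)) (.nd (.lf 0x24d6) (.lf 0))) (.nd (.nd (.lf 0x1764) (.lf 0x20ea)) (.nd (.lf 0xd65) (.lf 0)))) (.nd (.nd (.nd (.lf 0x3146) (.lf 0x773)) (.nd (.lf 0x13e1) (.lf 0))) (.nd (.nd (.lf 0x165) (.lf 0x1012)) (.nd (.lf 0x574) (.lf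 0))))))) (.nd (.nd (.nd (.nd (.nd (.nd (.lf 0x3540) (.lf 0xba2)) (.nd (.lf 0x24a2) (.lf 0))) (.nd (.nd (.lf 0x29e2) (.lf 0x1465)) (.nd (.lf 0x2f4e) (.lf 0)))) (.nd (.nd (.nd (.lf 0x361c) (.lf 0xfe0)) (.nd (.lf 0x126b) (.lf 0))) (.nd (.nd (.lf 0x2e5e) (.lf 0x7f7)) (.nd (.lf 0x36e6) (.lf 0))))) (.nd (.nd (.nd (.nd (.lf 0x37a) (.lf 0xdf4)) (.nd (.lf 0xf1) (.lf 0))) (.nd (.nd (.lf 0xa05) (.lf 0x20a6)) (.nd (.lf 0x3382) (.lf 0)))) (.nd (.nd (.nd (.lf 0x2844) (.lf 0x8f8)) (.nd (.lf 0x2e09) (.lf 0))) (.nd (.nd (.lf 0x1282) (.lf 0x2a10)) (.nd (.lf 0x33) (.lf 0)))))) (.nd (.nd (.nd (.nd (.nd (.lf 0x249b) (.lf 0xa18)) (.nd (.lf 0x2d00) (.lf 0))) (.nd (.nd (.lf 0x24dc) (.lf 0x3664)) (.nd (.lf 0x442) (.lf 0)))) (.nd (.nd (.nd (.lf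 0x35e9) (.lf 0x2cb1)) (.nd (.lf 0x22e6) (.lf 0))) (.nd (.nd (.lf 0x308e) (.lf 0xe9b)) (.nd (.lf 0x295e) (.lf 0))))) (.nd (.nd (.nd (.nd (.lf 0x308c) (.lf 0x552)) (.nd (.lf 0xdd8) (.lf 0))) (.nd (.nd (.lf 0x260a) (.lf 0xd45)) (.nd (.lf 0x9da) (.lf 0)))) (.nd (.nd (.nd (.lf 0x115c) (.lf 0x12)) (.nd (.lf 0x14f6) (.lf 0))) (.nd (.nd (.lf 0x2d83) (.lf 0x27cb)) (.nd (.lf 0xc4) (.lf 0))))))))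
def parHT_nbbbbab : Tr := (.nd (.nd (.nd (.nd (.nd (.nd (.nd (.lf 0x1fd) (.lf 0x3d)) (.nd (.lf 0xb86) (.lf 0))) (.nd (.nd (.lf 0x3641) (.lf 0x2625)) (.nd (.lf 0x702) (.lf 0)))) (.nd (.nd (.nd (.lf 0x8cf) (.lf 0xd82)) (.nd (.lf 0x2e35) (.lf 0))) (.nd (.nd (.lf 0x23c4) (.lf 0x2a2a)) (.nd (.lf 0xb25) (.lf 0))))) (.nd (.nd (.nd (.nd (.lf 0x320f) (.lf 0x35d7)) (.nd (.lf 0x2a4d) (.lf 0))) (.nd (.nd (.lf 0x2037) (.lf 0xd17)) (.nd (.lf 0xc9a) (.lf 0)))) (.nd (.nd (.nd (.lf 0x28c1) (.lf 0x354d)) (.nd (.lf 0x2a42) (.lf 0))) (.nd (.nd (.lf 0x621) (.lf 0xce2)) (.nd (.lf 0xd7e) (.lf 0)))))) (.nd (.nd (.nd (.nd (.nd (.lf 0xd4e) (.lf 0x2465)) (.nd (.lf 0x33f4) (.lf 0))) (.nd (.nd (.lf 0x20c) (.lf 0x166e)) (.nd (.lf 0x2125) (.lf 0))))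 (.nd (.nd (.nd (.lf 0x3191) (.lf 0x368)) (.nd (.lf 0x296e) (.lf 0))) (.nd (.nd (.lf 0x1063) (.lf 0x146a)) (.nd (.lf 0x2eb) (.lf 0))))) (.nd (.nd (.nd (.nd (.lf 0x2304) (.lf 0x2e80)) (.nd (.lf 0x2806) (.lf 0))) (.nd (.nd (.lf 0x2a9c) (.lf 0x272e)) (.nd (.lf 0xae0) (.lf 0)))) (.nd (.nd (.nd (.lf 0x36dd) (.lf 0x17db)) (.nd (.lf 0x2257) (.lf 0))) (.nd (.nd (.lf 0x3123) (.lf 0x4a8)) (.nd (.lf 0x209d) (.lf 0))))))) (.nd (.nd (.nd (.nd (.nd (.nd (.lf 0x17c8) (.lf 0x2cb)) (.nd (.lf 0x283e) (.lf 0))) (.nd (.nd (.lf 0x1000) (.lf 0x16c7)) (.nd (.lf 0x994) (.lf 0)))) (.nd (.nd (.nd (.lf 0x12f) (.lf 0x2469)) (.nd (.lf 0x24f4) (.lf 0))) (.nd (.nd (.lf 0x12a2) (.lf 0x3593)) (.nd (.lf 0x6d8) (.lf 0))))) (.nd (.nd (.nd (.nd (.lf 0x2baf)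 (.lf 0x69)) (.nd (.lf 0x2c5) (.lf 0))) (.nd (.nd (.lf 0x7d) (.lf 0x2f14)) (.nd (.lf 0x63b) (.lf 0)))) (.nd (.nd (.nd (.lf 0x29df) (.lf 0x2b07)) (.nd (.lf 0x2b21) (.lf 0))) (.nd (.nd (.lf 0x2389) (.lf 0x904)) (.nd (.lf 0x2fef) (.lf 0)))))) (.nd (.nd (.nd (.nd (.nd (.lf 0x93b) (.lf 0x9cd)) (.nd (.lf 0x2180) (.lf 0))) (.nd (.nd (.lf 0x37c5) (.lf 0x53f)) (.nd (.lf 0x1164) (.lf 0)))) (.nd (.nd (.nd (.lf 0x5ee) (.lf 0x101e)) (.nd (.lf 0x30eb) (.lf 0))) (.nd (.nd (.lf 0x2367) (.lf 0xf56)) (.nd (.lf 0x15cc) (.lf 0))))) (.nd (.nd (.nd (.nd (.lf 0x26bf) (.lf 0x171e)) (.nd (.lf 0x22df) (.lf 0))) (.nd (.nd (.lf 0x7b2) (.lf 0x17b1)) (.nd (.lf 0x2ee) (.lf 0)))) (.nd (.nd (.nd (.lf 0xeed) (.lf 0x2a6f)) (.nd (.lf 0x25de) (.lf 0))) (.nd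 (.nd (.lf 0xd87) (.lf 0xf14)) (.nd (.lf 0x136c) (.lf 0))))))))
def parHT_nbbbbba : Tr := (.nd (.nd (.nd (.nd (.nd (.nd (.nd (.lf 0x3334) (.lf 0x12bd)) (.nd (.lf 0x23fa) (.lf 0))) (.nd (.nd (.lf 0x31b4) (.lf 0x3484)) (.nd (.lf 0x30f1) (.lf 0)))) (.nd (.nd (.nd (.lf 0x6ee) (.lf 0x76)) (.nd (.lf 0xbe1) (.lf 0))) (.nd (.nd (.lf 0xded) (.lf 0x3771)) (.nd (.lf 0x2551) (.lf 0))))) (.nd (.nd (.nd (.nd (.lf 0x51b) (.lf 0x25b1)) (.nd (.lf 0xb16) (.lf 0))) (.nd (.nd (.lf 0x286d) (.lf 0x335c)) (.nd (.lf 0x843) (.lf 0)))) (.nd (.nd (.nd (.lf 0x2827) (.lf 0xbac)) (.nd (.lf 0x21bc) (.lf 0))) (.nd (.nd (.lf 0x997) (.lf 0x28bb)) (.nd (.lf 0x3325) (.lf 0)))))) (.nd (.nd (.nd (.nd (.nd (.lf 0x2673) (.lf 0x170c)) (.nd (.lf 0x2d4c) (.lf 0)))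 (.nd (.nd (.lf 0x17) (.lf 0xb61)) (.nd (.lf 0x2fba) (.lf 0)))) (.nd (.nd (.nd (.lf 0x627) (.lf 0x3724)) (.nd (.lf 0x1561) (.lf 0))) (.nd (.nd (.lf 0x170d) (.lf 0x2f67)) (.nd (.lf 0x104d) (.lf 0))))) (.nd (.nd (.nd (.nd (.lf 0x31c4) (.lf 0x75f)) (.nd (.lf 0x24cc) (.lf 0))) (.nd (.nd (.lf 0x31df) (.lf 0x35da)) (.nd (.lf 0x2440) (.lf 0)))) (.nd (.nd (.nd (.lf 0x12b3) (.lf 0xa79)) (.nd (.lf 0x676) (.lf 0))) (.nd (.nd (.lf 0x316a) (.lf 0x1625)) (.nd (.lf 0x7e5) (.lf 0))))))) (.nd (.nd (.nd (.nd (.nd (.nd (.lf 0xdbe) (.lf 0x20e2)) (.nd (.lf 0x11dd) (.lf 0))) (.nd (.nd (.lf 0x2fc1) (.lf 0x24fa)) (.nd (.lf 0x3807) (.lf 0)))) (.nd (.nd (.nd (.lf 0x10fa) (.lf 0x2764)) (.nd (.lf 0x17de) (.lf 0))) (.nd (.nd (.lf 0xc23) (.lf 0xb1d))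 (.nd (.lf 0x22be) (.lf 0))))) (.nd (.nd (.nd (.nd (.lf 0x3529) (.lf 0x2157)) (.nd (.lf 0xa23) (.lf 0))) (.nd (.nd (.lf 0x2ef5) (.lf 0x3c0)) (.nd (.lf 0x2539) (.lf 0)))) (.nd (.nd (.nd (.lf 0x252) (.lf 0x17ca)) (.nd (.lf 0x78b) (.lf 0))) (.nd (.nd (.lf 0x127b) (.lf 0x119a)) (.nd (.lf 0x257b) (.lf 0)))))) (.nd (.nd (.nd (.nd (.nd (.lf 0x9f0) (.lf 0xc41)) (.nd (.lf 0x329a) (.lf 0))) (.nd (.nd (.lf 0x24e) (.lf 0x2b3c)) (.nd (.lf 0x2bb2) (.lf 0)))) (.nd (.nd (.nd (.lf 0x2e89) (.lf 0x5a4)) (.nd (.lf 0x37ca) (.lf 0))) (.nd (.nd (.lf 0x2073) (.lf 0x3773)) (.nd (.lf 0x88e) (.lf 0))))) (.nd (.nd (.nd (.nd (.lf 0x25c2) (.lf 0x339c)) (.nd (.lf 0x224f) (.lf 0))) (.nd (.nd (.lf 0x17e9) (.lf 0x2a31)) (.nd (.lf 0x1e2) (.lf 0)))) (.nd (.nd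 (.nd (.lf 0x194) (.lf 0x2973)) (.nd (.lf 0xbc1) (.lf 0))) (.nd (.nd (.lf 0x3197) (.lf 0x2ff2)) (.nd (.lf 0x1804) (.lf 0))))))))
def parHT_nbbbbbb : Tr := (.nd (.nd (.nd (.nd (.nd (.nd (.nd (.lf 0x367d) (.lf 0x113f)) (.nd (.lf 0x39) (.lf 0))) (.nd (.nd (.lf 0x852) (.lf 0x2df7)) (.nd (.lf 0x89f) (.lf 0)))) (.nd (.nd (.nd (.lf 0x3050) (.lf 0x245b)) (.nd (.lf 0x208d) (.lf 0))) (.nd (.nd (.lf 0x277d) (.lf 0xd0d)) (.nd (.lf 0x3321) (.lf 0))))) (.nd (.nd (.nd (.nd (.lf 0x5e1) (.lf 0x5dc)) (.nd (.lf 0x2564) (.lf 0))) (.nd (.nd (.lf 0x43d) (.lf 0x2de5)) (.nd (.lf 0xcfc) (.lf 0)))) (.nd (.nd (.nd (.lf 0x362e) (.lf 0x1328)) (.nd (.lf 0x13c2) (.lf 0))) (.nd (.nd (.lf 0xc2a) (.lf 0x336d)) (.nd (.lf 0x8be) (.lf 0)))))) (.nd (.nd (.nd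 (.nd (.nd (.lf 0x73) (.lf 0x5b)) (.nd (.lf 0x33b0) (.lf 0))) (.nd (.nd (.lf 0x3713) (.lf 0x2858)) (.nd (.lf 0x3041) (.lf 0)))) (.nd (.nd (.nd (.lf 0x70b) (.lf 0x3d5)) (.nd (.lf 0x318c) (.lf 0))) (.nd (.nd (.lf 0x2d63) (.lf 0x2a4b)) (.nd (.lf 0x33d7) (.lf 0))))) (.nd (.nd (.nd (.nd (.lf 0x492) (.lf 0x2617)) (.nd (.lf 0x450) (.lf 0))) (.nd (.nd (.lf 0x366a) (.lf 0x359f)) (.nd (.lf 0x294) (.lf 0)))) (.nd (.nd (.nd (.lf 0x11e2) (.lf 0x26e0)) (.nd (.lf 0x35f5) (.lf 0))) (.nd (.nd (.lf 0x2dba) (.lf 0xcc)) (.nd (.lf 0x11ae) (.lf 0))))))) (.nd (.nd (.nd (.nd (.nd (.nd (.lf 0xb64) (.lf 0x3112)) (.nd (.lf 0x28c5) (.lf 0))) (.nd (.nd (.lf 0x3429) (.lf 0x583)) (.nd (.lf 0x33a0) (.lf 0)))) (.nd (.nd (.nd (.lf 0x9c5) (.lf 0x3353)) (.nd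 (.lf 0x2626) (.lf 0))) (.nd (.nd (.lf 0x119d) (.lf 0x2602)) (.nd (.lf 0x2141) (.lf 0))))) (.nd (.nd (.nd (.nd (.lf 0xf71) (.lf 0x27b1)) (.nd (.lf 0x2456) (.lf 0))) (.nd (.nd (.lf 0xa85) (.lf 0x1083)) (.nd (.lf 0x379f) (.lf 0)))) (.nd (.nd (.nd (.lf 0x2b3) (.lf 0x634)) (.nd (.lf 0x3809) (.lf 0))) (.nd (.nd (.lf 0x2993) (.lf 0x25d9)) (.nd (.lf 0x23c9) (.lf 0)))))) (.nd (.nd (.nd (.nd (.nd (.lf 0xd9f) (.lf 0xd4a)) (.nd (.lf 0x12f5) (.lf 0))) (.nd (.nd (.lf 0x32a6) (.lf 0x9af)) (.nd (.lf 0x317e) (.lf 0)))) (.nd (.nd (.nd (.lf 0x3193) (.lf 0x36c6)) (.nd (.lf 0x3032) (.lf 0))) (.nd (.nd (.lf 0x1762) (.lf 0xc67)) (.nd (.lf 0x17f4) (.lf 0))))) (.nd (.nd (.nd (.nd (.lf 0x536) (.lf 0x2824)) (.nd (.lf 0x2934) (.lf 0))) (.nd (.nd (.lf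 0x71a) (.lf 0x14ea)) (.nd (.lf 0x36f2) (.lf 0)))) (.nd (.nd (.nd (.lf 0x3277) (.lf 0x2688)) (.nd (.lf 0x2ef6) (.lf 0))) (.nd (.nd (.lf 0x3684) (.lf 0x24fc)) (.nd (.lf 0x373b) (.lf 0))))))))
def parHT : Tr := (.nd (.nd (.nd (.nd (.nd (.nd parHT_naaaaaa parHT_naaaaab) (.nd parHT_naaaaba parHT_naaaabb)) (.nd (.nd parHT_naaabaa parHT_naaabab) (.nd parHT_naaabba parHT_naaabbb))) (.nd (.nd (.nd parHT_naabaaa parHT_naabaab) (.nd parHT_naababa parHT_naababb)) (.nd (.nd parHT_naabbaa parHT_naabbab) (.nd parHT_naabbba parHT_naabbbb)))) (.nd (.nd (.nd (.nd parHT_nabaaaa parHT_nabaaab) (.nd parHT_nabaaba parHT_nabaabb)) (.nd (.nd parHT_nababaa parHT_nababab) (.nd parHT_nababba parHT_nababbb))) (.nd (.nd (.nd parHT_nabbaaa parHT_nabbaab)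 (.nd parHT_nabbaba parHT_nabbabb)) (.nd (.nd parHT_nabbbaa parHT_nabbbab) (.nd parHT_nabbbba parHT_nabbbbb))))) (.nd (.nd (.nd (.nd (.nd parHT_nbaaaaa parHT_nbaaaab) (.nd parHT_nbaaaba parHT_nbaaabb)) (.nd (.nd parHT_nbaabaa parHT_nbaabab) (.nd parHT_nbaabba parHT_nbaabbb))) (.nd (.nd (.nd parHT_nbabaaa parHT_nbabaab) (.nd parHT_nbababa parHT_nbababb)) (.nd (.nd parHT_nbabbaa parHT_nbabbab) (.nd parHT_nbabbba parHT_nbabbbb)))) (.nd (.nd (.nd (.nd parHT_nbbaaaa parHT_nbbaaab) (.nd parHT_nbbaaba parHT_nbbaabb)) (.nd (.nd parHT_nbbabaa parHT_nbbabab) (.nd parHT_nbbabba parHT_nbbabbb))) (.nd (.nd (.nd parHT_nbbbaaa parHT_nbbbaab) (.nd parHT_nbbbaba parHT_nbbbabb)) (.nd (.nd parHT_nbbbbaa parHT_nbbbbab) (.nd parHT_nbbbbba parHT_nbbbbbb))))))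
def linePT_n : Tr := (.nd (.nd (.nd (.nd (.nd (.nd (.nd (.lf 0x201) (.lf 0x20000004000000000000)) (.nd (.lf 0x4000100000) (.lf 0))) (.nd (.nd (.lf 0x80400) (.lf 0)) (.nd (.lf 0x40000000040000000) (.lf 0)))) (.nd (.nd (.nd (.lf 0x200000000001) (.lf 0)) (.nd (.lf 0x4000000000000100000) (.lf 0))) (.nd (.nd (.lf 0x80000000000400) (.lf 0)) (.nd (.lf 0x80000010000000000) (.lf 0))))) (.nd (.nd (.nd (.nd (.lf 0x8000001) (.lf 0x40001000000000000000)) (.nd (.lf 0x100000000100000) (.lf 0))) (.nd (.nd (.lf 0x2000000400) (.lf 0)) (.nd (.lf 0x2010000000000) (.lf 0)))) (.nd (.nd (.nd (.lf 0x8000000000000001) (.lf 0)) (.nd (.lf 0x1000040000000) (.lf 0))) (.nd (.nd (.lf 0x2000000000000000400) (.lf 0)) (.nd (.lf 0x804000000000000) (.lf 0))))))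 (.nd (.nd (.nd (.nd (.nd (.lf 0x40001) (.lf 0x201000000000000000)) (.nd (.lf 0x800000100000) (.lf 0))) (.nd (.nd (.lf 0x10000400) (.lf 0)) (.nd (.lf 0x8000000000040000000) (.lf 0)))) (.nd (.nd (.nd (.lf 0x40000000000001) (.lf 0)) (.nd (.lf 0x8040000000) (.lf 0))) (.nd (.nd (.lf 0x10000000000000400) (.lf 0)) (.nd (.lf 0x10000000010000000000) (.lf 0))))) (.nd (.nd (.nd (.nd (.lf 0x1000000001) (.lf 0x80400000000000000000)) (.nd (.lf 0x20000000000100000) (.lf 0))) (.nd (.nd (.lf 0x400000000400) (.lf 0)) (.nd (.lf 0x400010000000000) (.lf 0)))) (.nd (.nd (.nd (.lf 0x1000000000000000001) (.lf 0)) (.nd (.lf 0x200000040000000) (.lf 0))) (.nd (.nd (.lf 0x20100000) (.lf 0)) (.nd (.lf 0x100004000000000000) (.lf 0))))))) (.nd (.nd (.nd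 (.nd (.nd (.nd (.lf 0x40000000000000000000001) (.lf 0x4000000000000000000000000004000000000000)) (.nd (.lf 0x800000000000000000000000100000) (.lf 0))) (.nd (.nd (.lf 0x10000000000000000000000400) (.lf 0)) (.nd (.lf 0x8000000000000000000000000000040000000) (.lf 0)))) (.nd (.nd (.nd (.lf 0x40000000000000000000000000000001) (.lf 0)) (.nd (.lf 0x800000000000000000000000000000000100000) (.lf 0))) (.nd (.nd (.lf 0x10000000000000000000000000000000400) (.lf 0)) (.nd (.lf 0x10000000000000000000000000010000000000) (.lf 0))))) (.nd (.nd (.nd (.nd (.lf 0x1000000000000000000000000001) (.lf 0x8000000000000000000000001000000000000000)) (.nd (.lf 0x20000000000000000000000000000100000) (.lf 0))) (.nd (.nd (.lf 0x400000000000000000000000000400)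 (.lf 0)) (.nd (.lf 0x400000000000000000000010000000000) (.lf 0)))) (.nd (.nd (.nd (.lf 0x1000000000000000000000000000000000001) (.lf 0)) (.nd (.lf 0x200000000000000000000000040000000) (.lf 0))) (.nd (.nd (.lf 0x400000000000000000000000000000000000400) (.lf 0)) (.nd (.lf 0x100000000000000000000004000000000000) (.lf 0)))))) (.nd (.nd (.nd (.nd (.nd (.lf 0x8000000000000000000000001) (.lf 0x40000000000000000000001000000000000000)) (.nd (.lf 0x100000000000000000000000000100000) (.lf 0))) (.nd (.nd (.lf 0x2000000000000000000000000400) (.lf 0)) (.nd (.lf 0x1000000000000000000000000000000040000000) (.lf 0)))) (.nd (.nd (.nd (.lf 0x8000000000000000000000000000000001) (.lf 0)) (.nd (.lf 0x1000000000000000000000040000000) (.lf 0)))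 (.nd (.nd (.lf 0x2000000000000000000000000000000000400) (.lf 0)) (.nd (.lf 0x2000000000000000000000000000010000000000) (.lf 0))))) (.nd (.nd (.nd (.nd (.lf 0x200000000000000000000000000001) (.lf 0x10000000000000000000000400000000000000000)) (.nd (.lf 0x4000000000000000000000000000000100000) (.lf 0))) (.nd (.nd (.lf 0x80000000000000000000000000000400) (.lf 0)) (.nd (.lf 0x80000000000000000000000010000000000) (.lf 0)))) (.nd (.nd (.nd (.lf 0x200000000000000000000000000000000000001) (.lf 0)) (.nd (.lf 0x40000000000000000000000000040000000) (.lf 0))) (.nd (.nd (.lf 0x4000000000000000000000100000) (.lf 0)) (.nd (.lf 0x20000000000000000000000004000000000000) (.lf 0))))))))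
def linePT : Tr := linePT_n
def lineXT_n : Tr := (.nd (.nd (.nd (.nd (.nd (.nd (.nd (.lf 0x12020400014090100000130100804090182800400) (.lf 0x48000000000000000100400200048041200001)) (.nd (.lf 0x10000400000040000010140401004010600000000) (.lf 0))) (.nd (.nd (.lf 0x8000001008000000008160401008060000100060) (.lf 0)) (.nd (.lf 0x180400900400006010000002034) (.lf 0)))) (.nd (.nd (.nd (.lf 0x810080000000000000104400404010000100800) (.lf 0)) (.nd (.lf 0xa10040040a01000000e050) (.lf 0))) (.nd (.nd (.lf 0x1000000201000040000120401004020040200000) (.lf 0)) (.nd (.lf 0x200000000000001200101400200200040009001) (.lf 0))))) (.nd (.nd (.nd (.nd (.lf 0x40001020040005038001c04020100c0040804000) (.lf 0x8000200000080000900440001010040400010))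 (.nd (.lf 0x12000480402000000100011010410010000400) (.lf 0))) (.nd (.nd (.lf 0x400010000c0200008100400008010240000080) (.lf 0)) (.nd (.lf 0x44000000100621004000001108000) (.lf 0)))) (.nd (.nd (.nd (.lf 0x4800000100820000000120401004804020100000) (.lf 0)) (.nd (.lf 0x2000400010000400000180002404090000000480) (.lf 0))) (.nd (.nd (.lf 0x6402010c024000004100701900804100100004) (.lf 0)) (.nd (.lf 0x12018000001000480400188481000018042201008) (.lf 0)))))) (.nd (.nd (.nd (.nd (.nd (.lf 0x102000020002000100403010000400114000) (.lf 0x4000000000814000800120400000004080100020)) (.nd (.lf 0x10000000008080001000100001004010400008080) (.lf 0))) (.nd (.nd (.lf 0x810020400000000000104000110010040100000) (.lf 0)) (.nd (.lf 0x24000004000000904900521000020000804800)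 (.lf 0)))) (.nd (.nd (.nd (.lf 0x2000000000080002000110401000010040410000) (.lf 0)) (.nd (.lf 0x108044021000000021049a0020110010000114084) (.lf 0))) (.nd (.nd (.lf 0xc00010000c00000000c120400004020000200020) (.lf 0)) (.nd (.lf 0x140000020100a0110040080000000000c028) (.lf 0))))) (.nd (.nd (.nd (.nd (.lf 0x8002001000000000000100401008010000080400) (.lf 0x400000040200100001402010040100000)) (.nd (.lf 0xc16000000000021004006080100c0000010) (.lf 0))) (.nd (.nd (.lf 0x10010080000010000000990402004010080000004) (.lf 0)) (.nd (.lf 0x10000000200000102000100401000000000a10008) (.lf 0)))) (.nd (.nd (.nd (.lf 0x4840000100100601000824000000800) (.lf 0)) (.nd (.lf 0x2100000000010900421004004000100000) (.lf 0))) (.nd (.nd (.lf 0x80400000080000010001c06010040c0040008000)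 (.lf 0)) (.nd (.lf 0x90000010090400500401400000000400012) (.lf 0))))))) (.nd (.nd (.nd (.nd (.nd (.nd (.lf 0x180100000001004020000c0603000400) (.lf 0x10008040200000100400000052211080400)) (.nd (.lf 0x20000000582412080010000000402) (.lf 0))) (.nd (.nd (.lf 0x6000000c000000000100401008060000100060) (.lf 0)) (.nd (.lf 0x406130401002000000c00030) (.lf 0)))) (.nd (.nd (.nd (.lf 0x48040001000003000100200204048040011000) (.lf 0)) (.nd (.lf 0x50081400000000002100481002010000001010) (.lf 0))) (.nd (.nd (.lf 0x10000000000000000000180401005080040200000) (.lf 0)) (.nd (.lf 0x44000000144400104000220108800) (.lf 0))))) (.nd (.nd (.nd (.nd (.lf 0x40001020040000008001c04020140c0042018000) (.lf 0x80002080002100480004000000000400)) (.nd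 (.lf 0x10002480402000000100011002012000000400) (.lf 0))) (.nd (.nd (.lf 0x1000000000018100600008010641000000) (.lf 0)) (.nd (.lf 0x800000000004200100144401004000220008800) (.lf 0)))) (.nd (.nd (.nd (.lf 0x4000000100820000000104401004800020100000) (.lf 0)) (.nd (.lf 0x10800000010000400010980401004004000000080) (.lf 0))) (.nd (.nd (.lf 0x12000c800000000900400900840120000004) (.lf 0)) (.nd (.lf 0x80000010000402011004c1000008000603008) (.lf 0)))))) (.nd (.nd (.nd (.nd (.nd (.lf 0x2000002000080000800110000410010400110000) (.lf 0x2000000000010000800500400004010000004020)) (.nd (.lf 0x8000000000000000000140400004040440008080) (.lf 0))) (.nd (.nd (.lf 0x10000002000000008000180401050000040040001) (.lf 0)) (.nd (.lf 0x30000000000000000100400004020000c06040)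 (.lf 0)))) (.nd (.nd (.nd (.lf 0x14020000000080500000180101000010102004000) (.lf 0)) (.nd (.lf 0x10804022100000002814124400000810000110884) (.lf 0))) (.nd (.nd (.lf 0x4000100004000100004160400800060041800020) (.lf 0)) (.nd (.lf 0x68100000020141204100641a04000100204028) (.lf 0))))) (.nd (.nd (.nd (.nd (.lf 0x10000041000000000000100400201010042000000) (.lf 0x40040200040200100001004201000200001)) (.nd (.lf 0xa00009048040200000054240140a002090000412) (.lf 0))) (.nd (.nd (.lf 0x10010480000010000000910082004010480000004) (.lf 0)) (.nd (.lf 0x102004180401004000000910000) (.lf 0)))) (.nd (.nd (.nd (.lf 0x20000004030000000100581004030080004000) (.lf 0)) (.nd (.lf 0x4000100000000010900401014004000100004) (.lf 0))) (.nd (.nd (.lf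 0x8241000000000000000141000040020040008201) (.lf 0)) (.nd (.lf 0x800000100c0001100401200000000402018) (.lf 0))))))))
def lineXT : Tr := lineXT_n
def lineYT_n : Tr := (.nd (.nd (.nd (.nd (.nd (.nd (.nd (.lf 0x12000400018090200000050400000080283000000) (.lf 0x50010000402010000000011080052011080400)) (.nd (.lf 0x10402410000042000010442000080000600000402) (.lf 0))) (.nd (.nd (.lf 0x8008001008000000008050040008040040000050) (.lf 0)) (.nd (.lf 0x8000000000000180400040001002000000002030) (.lf 0)))) (.nd (.nd (.nd (.lf 0x848040000000000000004201200008040000800) (.lf 0)) (.nd (.lf 0x800000000000000800004100c00004000c040) (.lf 0))) (.nd (.nd (.lf 0x1200000241201040000021000000221000240001) (.lf 0)) (.nd (.lf 0x4000000000000001100020001104000020108800)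 (.lf 0))))) (.nd (.nd (.nd (.nd (.lf 0x20000004034000d00030100c0000000000) (.lf 0x2000080000080000000110004400010400410)) (.nd (.lf 0x1200000040000448011209048000001) (.lf 0))) (.nd (.nd (.lf 0x600010000c030000c0001010080003008000a0) (.lf 0)) (.nd (.lf 0x8000000040000000001240000000041008001) (.lf 0)))) (.nd (.nd (.nd (.lf 0x6400000080430000000030000002412010080400) (.lf 0)) (.nd (.lf 0x8800420010800400000884403000080000000084) (.lf 0))) (.nd (.nd (.lf 0x6004000d020000004000340804008140000000) (.lf 0)) (.nd (.lf 0x12018000001000480400088080000008002201008) (.lf 0)))))) (.nd (.nd (.nd (.nd (.nd (.lf 0x2000002000000002200010002210010400011000) (.lf 0x4400000000010000800420000004010080000022)) (.nd (.lf 0x11000000008080001001008400000000400008080)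 (.lf 0))) (.nd (.nd (.lf 0x200008000000008000040401010000000040001) (.lf 0)) (.nd (.lf 0x20000004000080806400190004020000806012) (.lf 0)))) (.nd (.nd (.nd (.lf 0x2020000000080002800010100004000100410000) (.lf 0)) (.nd (.lf 0x180004030000000030080824000100000000104c0) (.lf 0))) (.nd (.nd (.lf 0x8000000008000000008010001000010040200000) (.lf 0)) (.nd (.lf 0x140000020100a0100000180400004000c028) (.lf 0))))) (.nd (.nd (.nd (.nd (.lf 0x8004041200000000000008000208000040100000) (.lf 0x100040000040200000000044201000000001)) (.nd (.lf 0x91480000000002400001488002090000412) (.lf 0))) (.nd (.nd (.lf 0x10010080000010000000890002000000080100004) (.lf 0)) (.nd (.lf 0x10000000200000102000000000004000040a10008) (.lf 0)))) (.nd (.nd (.nd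 (.lf 0x4840000100000200004824000100800) (.lf 0)) (.nd (.lf 0x400002400000000012002080000010000000400) (.lf 0))) (.nd (.nd (.lf 0x82410080082000010400c02000400c0000008001) (.lf 0)) (.nd (.lf 0xc00000100c0401000000500010000501018) (.lf 0))))))) (.nd (.nd (.nd (.nd (.nd (.nd (.lf 0x140100000000001028040b0502800000) (.lf 0x1000008040200000000009000048201200001)) (.nd (.lf 0x20000000482012084000000000002) (.lf 0))) (.nd (.nd (.lf 0x50000008000000002008080008040040000040) (.lf 0)) (.nd (.lf 0x406834000006010000c00034) (.lf 0)))) (.nd (.nd (.nd (.lf 0x40000000000003000004601000040000110000) (.lf 0)) (.nd (.lf 0x50081400000000002000080002000040001010) (.lf 0))) (.nd (.nd (.lf 0x10000000040001008000080000001280008240001) (.lf 0))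 (.nd (.lf 0x1000000040040000200040001000200200008001) (.lf 0))))) (.nd (.nd (.nd (.nd (.lf 0x20000000000000d00030100d0002018000) (.lf 0x40000000000800020000a0001010040100000)) (.nd (.lf 0x8002041201000000000448001001040000201) (.lf 0))) (.nd (.nd (.lf 0x2000100002010001c000201008000601000020) (.lf 0)) (.nd (.lf 0x1000000000200000048000000000240008001) (.lf 0)))) (.nd (.nd (.nd (.lf 0x6400000400432010000010000000412080000400) (.lf 0)) (.nd (.lf 0x12000010010000400010080000080010000000480) (.lf 0))) (.nd (.nd (.lf 0x12000c800000000800001904840120100004) (.lf 0)) (.nd (.lf 0x80000010000402010000e0000018040703008) (.lf 0)))))) (.nd (.nd (.nd (.nd (.nd (.lf 0x8000002000080000800040401014000400010000) (.lf 0x2000000000810000800004000000004020104020))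 (.nd (.lf 0xa00000000000000000005000100004040000a080) (.lf 0))) (.nd (.nd (.lf 0x10010022000000000000090000012010000100000) (.lf 0)) (.nd (.lf 0x24000000000000000000001000020000804840) (.lf 0)))) (.nd (.nd (.nd (.lf 0x15020000000080540000080500004000102004000) (.lf 0)) (.nd (.lf 0x184000030000000030180022010000000000180c2) (.lf 0))) (.nd (.nd (.lf 0x4000100004000100004070001804060001c00020) (.lf 0)) (.nd (.lf 0x60120000020101104800220800000100004820) (.lf 0))))) (.nd (.nd (.nd (.nd (.lf 0x10002001000000010000002011000000002080400) (.lf 0x60000000040300000000102010040200800)) (.nd (.lf 0xb0000c060000000000004000060b0100c0000010) (.lf 0))) (.nd (.nd (.lf 0x18000400000000000000840403000000400100004) (.lf 0)) (.nd (.lf 0x142005080000001000040a10000)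 (.lf 0)))) (.nd (.nd (.nd (.lf 0x240000048340000000001a0000824080104800) (.lf 0)) (.nd (.lf 0x10000400000000012002000010010000000410) (.lf 0))) (.nd (.nd (.lf 0x18040000000000000000040401004020000008000) (.lf 0)) (.nd (.lf 0xa00000100c0001000000300010040502018) (.lf 0))))))))
def lineYT : Tr := lineYT_n
def lineAT_n : Tr := (.nd (.nd (.nd (.nd (.nd (.nd (.nd (.lf 0x14f) (.lf 0x178)) (.nd (.lf 0x1f4) (.lf 0))) (.nd (.nd (.lf 0xca) (.lf 0)) (.nd (.lf 0x102) (.lf 0)))) (.nd (.nd (.nd (.lf 0x13f) (.lf 0)) (.nd (.lf 0x119) (.lf 0))) (.nd (.nd (.lf 0x7f) (.lf 0)) (.nd (.lf 0x30a) (.lf 0))))) (.nd (.nd (.nd (.nd (.lf 0x11) (.lf 0x13d)) (.nd (.lf 0x4f) (.lf 0))) (.nd (.nd (.lf 0x86) (.lf 0)) (.nd (.lf 0xca) (.lf 0)))) (.nd (.nd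 (.nd (.lf 0x308) (.lf 0)) (.nd (.lf 0x15b) (.lf 0))) (.nd (.nd (.lf 0x54) (.lf 0)) (.nd (.lf 0x206) (.lf 0)))))) (.nd (.nd (.nd (.nd (.nd (.lf 0x323) (.lf 0x30)) (.nd (.lf 0x1d) (.lf 0))) (.nd (.nd (.lf 0x13d) (.lf 0)) (.nd (.lf 0x33) (.lf 0)))) (.nd (.nd (.nd (.lf 0x7e) (.lf 0)) (.nd (.lf 0x70) (.lf 0))) (.nd (.nd (.lf 0xc8) (.lf 0)) (.nd (.lf 0x7f) (.lf 0))))) (.nd (.nd (.nd (.nd (.lf 0xdc) (.lf 0x140)) (.nd (.lf 0x86) (.lf 0))) (.nd (.nd (.lf 0xd5) (.lf 0)) (.nd (.lf 0x11) (.lf 0)))) (.nd (.nd (.nd (.lf 0x46) (.lf 0)) (.nd (.lf 0x4ac) (.lf 0))) (.nd (.nd (.lf 0xc8) (.lf 0)) (.nd (.lf 0x4f) (.lf 0))))))) (.nd (.nd (.nd (.nd (.nd (.nd (.lf 0x4f) (.lf 0x34d)) (.nd (.lf 0x221) (.lf 0))) (.nd (.nd (.lf 0x33) (.lf 0)) (.nd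 (.lf 0x1d) (.lf 0)))) (.nd (.nd (.nd (.lf 0x183) (.lf 0)) (.nd (.lf 0x24a) (.lf 0))) (.nd (.nd (.lf 0x260) (.lf 0)) (.nd (.lf 0x54) (.lf 0))))) (.nd (.nd (.nd (.nd (.lf 0x7f) (.lf 0x15b)) (.nd (.lf 0x175) (.lf 0))) (.nd (.nd (.lf 0xa2) (.lf 0)) (.nd (.lf 0x33) (.lf 0)))) (.nd (.nd (.nd (.lf 0x33) (.lf 0)) (.nd (.lf 0x3a4) (.lf 0))) (.nd (.nd (.lf 0x203) (.lf 0)) (.nd (.lf 0x86) (.lf 0)))))) (.nd (.nd (.nd (.nd (.nd (.lf 0x96) (.lf 0x196)) (.nd (.lf 0x11) (.lf 0))) (.nd (.nd (.lf 0x27c) (.lf 0)) (.nd (.lf 0x1f4) (.lf 0)))) (.nd (.nd (.nd (.lf 0x119) (.lf 0)) (.nd (.lf 0x30) (.lf 0))) (.nd (.nd (.lf 0x183) (.lf 0)) (.nd (.lf 0x38b) (.lf 0))))) (.nd (.nd (.nd (.nd (.lf 0x25a) (.lf 0x13c)) (.nd (.lf 0xdc) (.lf 0))) (.nd (.nd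 (.lf 0x102) (.lf 0)) (.nd (.lf 0x203) (.lf 0)))) (.nd (.nd (.nd (.lf 0x1d) (.lf 0)) (.nd (.lf 0x54) (.lf 0))) (.nd (.nd (.lf 0x13c) (.lf 0)) (.nd (.lf 0xb2) (.lf 0))))))))
def lineAT : Tr := lineAT_n
def lineBT_n : Tr := (.nd (.nd (.nd (.nd (.nd (.nd (.nd (.lf 0x175) (.lf 0xed6)) (.nd (.lf 0x34d) (.lf 0))) (.nd (.nd (.lf 0x140) (.lf 0)) (.nd (.lf 0x300) (.lf 0)))) (.nd (.nd (.nd (.lf 0x1f2) (.lf 0)) (.nd (.lf 0x183) (.lf 0))) (.nd (.nd (.lf 0x13c) (.lf 0)) (.nd (.lf 0x4ac) (.lf 0))))) (.nd (.nd (.nd (.nd (.lf 0x1f7) (.lf 0x221)) (.nd (.lf 0x178) (.lf 0))) (.nd (.nd (.lf 0x439) (.lf 0)) (.nd (.lf 0x13c) (.lf 0)))) (.nd (.nd (.nd (.lf 0xaf0) (.lf 0)) (.nd (.lf 0x1f8) (.lf 0))) (.nd (.nd (.lf 0x56a) (.lf 0)) (.nd (.lf 0x70a)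 (.lf 0)))))) (.nd (.nd (.nd (.nd (.nd (.lf 0x8b2) (.lf 0xef)) (.nd (.lf 0x260) (.lf 0))) (.nd (.nd (.lf 0x20e) (.lf 0)) (.nd (.lf 0xef) (.lf 0)))) (.nd (.nd (.nd (.lf 0x1f4) (.lf 0)) (.nd (.lf 0x3a8) (.lf 0))) (.nd (.nd (.lf 0x24e) (.lf 0)) (.nd (.lf 0xc8) (.lf 0))))) (.nd (.nd (.nd (.nd (.lf 0x140) (.lf 0x1f3)) (.nd (.lf 0x513) (.lf 0))) (.nd (.nd (.lf 0x299) (.lf 0)) (.nd (.lf 0x183) (.lf 0)))) (.nd (.nd (.nd (.lf 0x25d) (.lf 0)) (.nd (.lf 0xed6) (.lf 0))) (.nd (.nd (.lf 0x30a) (.lf 0)) (.nd (.lf 0x13d) (.lf 0))))))) (.nd (.nd (.nd (.nd (.nd (.nd (.lf 0xef) (.lf 0x42f)) (.nd (.lf 0xba8) (.lf 0))) (.nd (.nd (.lf 0x4af) (.lf 0)) (.nd (.lf 0x96) (.lf 0)))) (.nd (.nd (.nd (.lf 0x356) (.lf 0)) (.nd (.lf 0x25a) (.lf 0))) (.nd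 (.nd (.lf 0x30a) (.lf 0)) (.nd (.lf 0x178) (.lf 0))))) (.nd (.nd (.nd (.nd (.lf 0x86) (.lf 0x8b2)) (.nd (.lf 0x27c) (.lf 0))) (.nd (.nd (.lf 0x181) (.lf 0)) (.nd (.lf 0x2b5) (.lf 0)))) (.nd (.nd (.nd (.lf 0x221) (.lf 0)) (.nd (.lf 0x798) (.lf 0))) (.nd (.nd (.lf 0x356) (.lf 0)) (.nd (.lf 0x140) (.lf 0)))))) (.nd (.nd (.nd (.nd (.nd (.lf 0x1f8) (.lf 0x4a1)) (.nd (.lf 0x439) (.lf 0))) (.nd (.nd (.lf 0x598) (.lf 0)) (.nd (.lf 0x308) (.lf 0)))) (.nd (.nd (.nd (.lf 0x44c) (.lf 0)) (.nd (.lf 0x175) (.lf 0))) (.nd (.nd (.lf 0x1f4) (.lf 0)) (.nd (.lf 0x3a4) (.lf 0))))) (.nd (.nd (.nd (.nd (.lf 0x513) (.lf 0x4af)) (.nd (.lf 0x70a) (.lf 0))) (.nd (.nd (.lf 0x25d) (.lf 0)) (.nd (.lf 0x42e) (.lf 0)))) (.nd (.nd (.nd (.lf 0x299) (.lf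 0)) (.nd (.lf 0x34d) (.lf 0))) (.nd (.nd (.lf 0x38b) (.lf 0)) (.nd (.lf 0x598) (.lf 0))))))))
def lineBT : Tr := lineBT_n
def subSize : List ℕ := [1, 680, 85, 1360, 1360, 2040, 510, 120]
def subRep : List ℕ := [0, 1, 2, 3, 4, 5, 10, 170]
def xCode : ℕ := 0x330ca3f872d28610479574dbb8788dc5d69686ad3
def xI : ℕ := 1236
def xA : ℕ := 53
def xM : ℕ := 145

end H94.J3.D
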