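import Cfsg.Agent.H94.J3.Defs
import Cfsg.Agent.H94.J3.SimpleData

/-! Checks used for primitivity, faithfulness and simplicity. -/

namespace H94.J3

open D

def lab (i : ℕ) : ℕ := labT.get i

/-- Suborbit forest for the stabiliser. -/
def subChk (i : ℕ) : Bool :=
  decide (lab i < 8) &&
    bif depT.get i == 0 then subRep.getD (lab i) 0 == i
    else decide (parHT.get i / 8192 < 2) && decide (parHT.get i % 8192 < 6156) &&
      decide (depT.get (parHT.get i % 8192) < depT.get i) &&
      (lab (parHT.get i % 8192) == lab i) &&
      (mul (P i) (mul (hgen (parHT.get i / 8192)) (P (parHT.get i % 8192))) ==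
        mul (hgen (parHT.get i / 8192)) (P (parHT.get i % 8192)))

def sizeChk : Bool :=
  (List.range 8).all fun t =>
    (List.range' 0 6156).countP (fun i => lab i == t) == subSize.getD t 0

/-- Projector on the line through `e_a + c e_b`, `c = ω` if `cc` and `1` otherwise. -/
def lineCode (a b : ℕ) (cc : Bool) : ℕ :=
  2 ^ (10 * a) + bif cc then 2 ^ (81 + 9 * b + a) else 2 ^ (9 * b + a)

def linePos (a b : ℕ) (cc : Bool) : ℕ :=
  2 * (a * (17 - a) / 2 + (b - a - 1)) + bif cc then 1 else 0

def pairChk (a b : ℕ) (cc : Bool) : Bool :=
  let t := linePos a b cc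
  decide (lineAT.get t < 6156) && decide (lineBT.get t < 6156) &&
    (mul (P (lineAT.get t)) (lineCode a b cc) == lineCode a b cc) &&
    (mul (P (lineBT.get t)) (lineCode a b cc) == lineCode a b cc) &&
    ((mul (lineXT.get t) (P (lineAT.get t) ^^^ eye)) ^^^
      (mul (lineYT.get t) (P (lineBT.get t) ^^^ eye)) == lineCode a b cc ^^^ eye)

def linesChk : Bool :=
  (List.range 9).all fun a => (List.range 9).all fun b =>
    bif decide (a < b) then pairChk a b false && pairChk a b true else true

def pow19 (x : ℕ) : ℕ :=
  let x2 := mul x x
  let x4 := mul x2 x2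
  let x8 := mul x4 x4
  mul (mul (mul x8 x8) x2) x

def isScal (x : ℕ) : Bool := x == eye || x == wScal || x == mul wScal wScal

def xChk : Bool :=
  memChk xCode xI xA xM && isScal (pow19 xCode) && isScal (pow19 (mul (sgen 0) xCode)) &&
    isScal (pow19 (mul (sgen 1) xCode))

/-- The subset sums of suborbit lengths containing the fixed point and dividing 6156. -/
def sumsChk : Bool :=
  (List.range 256).all fun T =>
    let s := ((List.range 8).map fun t => bif T.testBit t then subSize.getD t 0 else 0).sum
    bif T.testBit 0 && (6156 % s == 0) then (T == 1 || T == 255) else true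

set_option maxRecDepth 100000

theorem sub_ok0 : allIn 0 2048 subChk = true := by decide +kernel
theorem sub_ok1 : allIn 2048 2048 subChk = true := by decide +kernel
theorem sub_ok2 : allIn 4096 2060 subChk = true := by decide +kernel
theorem size_ok : sizeChk = true := by decide +kernel
theorem lines_ok : linesChk = true := by decide +kernel
theorem x_ok : xChk = true := by decide +kernel
theorem sums_ok : sumsChk = true := by decide +kernel

theorem sub_spec (i : ℕ) (hi : i < 6156) : subChk i = true := by
  by_cases h0 : i < 2048
  · exact allIn_spec sub_ok0 (Nat.zero_le i) (by omega)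
  by_cases h1 : i < 4096
  · exact allIn_spec sub_ok1 (by omega) (by omega)
  · exact allIn_spec sub_ok2 (by omega) (by omega)

end H94.J3
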