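import Mathlib
import Cfsg.Prelude.Def_Spor_J3
import Cfsg.Prelude.Def_Sporadic
import Cfsg.Agent.H94.J3.Gens
import Cfsg.Agent.H94.J3.SimpleDefs

/-! Centre, faithfulness and simplicity for `3·J₃`. -/

namespace H94.J3

open Cfsg.Spor

section Field4
variable {F : Type*} [Field F] [Fintype F] [CharP F 2] {ω : F}

theorem cases_four (hF : Fintype.card F = 4) (hω : ω ^ 2 + ω + 1 = 0) (c : F) :
    c = 0 ∨ c = 1 ∨ c = ω ∨ c = ω ^ 2 := by
  classical
  have hne : ω ≠ 0 := om_ne_zero hω
  have hne1 : ω ≠ 1 := om_ne_one hω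
  have h2 : ω ^ 2 ≠ 0 := pow_ne_zero 2 hne
  have h21 : ω ^ 2 ≠ 1 := by
    intro h
    refine hne (show ω = 0 from ?_)
    rw [om_sq hω] at h
    linear_combination h
  have h2ω : ω ^ 2 ≠ ω := by
    intro h
    rw [om_sq hω] at h
    exact one_ne_zero (show (1 : F) = 0 by linear_combination h)
  have hs : ({0, 1, ω, ω ^ 2} : Finset F) = Finset.univ := by
    apply Finset.eq_univ_of_card
    rw [hF]
    simp [hne.symm, h2.symm, hne1.symm, h21.symm, h2ω.symm]
  have := Finset.mem_univ c
  rw [← hs] at this
  simpa using this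

end Field4

theorem pair_spec (a b : Fin 9) (h : a < b) (cc : Bool) : pairChk a b cc = true := by
  have h' := lines_ok
  unfold linesChk at h'
  rw [List.all_eq_true] at h'
  have h2 := h' a (List.mem_range.2 a.isLt)
  rw [List.all_eq_true] at h2
  have h3 := h2 b (List.mem_range.2 b.isLt)
  rw [show decide ((a : ℕ) < (b : ℕ)) = true from decide_eq_true h, cond_true, Bool.and_eq_true] at h3
  cases cc
  · exact h3.1
  · exact h3.2

theorem sep_index : ∀ w x : F9, w ≠ x →
    ∃ Z : F9, Z.1 * w.1 + Z.2 * w.2 ≠ Z.1 * x.1 + Z.2 * x.2 := by decide +kernel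

variable {F : Type*} [Field F] [CharP F 2] {ω : F} (hω : ω ^ 2 + ω + 1 = 0)
include hω

theorem omegaPow_ne_zero (n : ZMod 3) : omegaPow F ω n ≠ 0 := pow_ne_zero _ (om_ne_zero hω)

theorem omegaPow_inj {m n : ZMod 3} (h : omegaPow F ω m = omegaPow F ω n) : m = n := by
  have hne : ω ≠ 0 := om_ne_zero hω
  have hne1 : ω ≠ 1 := om_ne_one hω
  have key : ∀ k : ZMod 3, k = 0 ∨ k = 1 ∨ k = 2 := by decide
  have v0 : omegaPow F ω 0 = 1 := pow_zero ω
  have v1 : omegaPow F ω 1 = ω := pow_one ω
  have v2 : omegaPow F ω 2 = ω ^ 2 := rfl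
  have a : ω ^ 2 ≠ 1 := fun h => hne (by rw [om_sq hω] at h; linear_combination h)
  have b : ω ^ 2 ≠ ω := fun h => one_ne_zero (α := F) (by rw [om_sq hω] at h; linear_combination h)
  rcases key m with rfl | rfl | rfl <;> rcases key n with rfl | rfl | rfl <;>
    first
      | rfl
      | (simp only [v0, v1, v2] at h
         first
          | exact absurd h hne1
          | exact absurd h.symm hne1
          | exact absurd h a
          | exact absurd h.symm a
          | exact absurd h b
          | exact absurd h.symm b)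

theorem tm_add (x y : ℕ) : tm ω (x ^^^ y) = tm ω x + tm ω y := by
  ext w z
  simp only [tm_apply, ent, lo, hi, Nat.testBit_and, Nat.testBit_shiftRight, Nat.testBit_xor,
    Matrix.add_apply]
  rw [Bool.and_xor_distrib_right, bcast_xor, bcast_xor]
  ring

omit hω

theorem line_bits : ∀ a b : Fin 9, a < b → ∀ cc : Bool, ∀ i j : Fin 9,
    (lo (lineCode a b cc)).testBit (9 * (i : ℕ) + j) =
        (decide (j = a) && (decide (i = a) || (!cc && decide (i = b)))) ∧
      (hi (lineCode a b cc)).testBit (9 * (i : ℕ) + j) =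
        (decide (j = a) && (cc && decide (i = b))) := by decide +kernel

omit [CharP F 2] in
theorem toMat_line (a b : Fin 9) (h : a < b) (cc : Bool) (i j : Fin 9) :
    toMat ω (lineCode a b cc) i j =
      if j = a then (if i = a then 1 else if i = b then (if cc then ω else 1) else 0) else 0 := by
  obtain ⟨h1, h2⟩ := line_bits a b h cc i j
  simp only [toMat, ent, h1, h2]
  have hab : a ≠ b := ne_of_lt h
  by_cases hj : j = a
  · by_cases hi : i = a
    · subst hi
      cases cc <;> simp [hj, hab, bcast]
    · by_cases hb : i = b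
      · cases cc <;> simp [hj, hi, hb, hab.symm, bcast]
      · cases cc <;> simp [hj, hi, hb, bcast]
  · simp [hj, bcast]

include hω

theorem line_reduce {g : GL F9 F} {a b : Fin 9} (hab : a < b) (cc : Bool)
    (hfix : ∀ i, Maps (projFam ω P 6156) g i i) :
    let c : F := if cc then ω else 1
    let M : Matrix (Fin 9) (Fin 9) F := fun i j => (g : Matrix F9 F9 F) (e9.symm i) (e9.symm j)
    (∀ r, r ≠ a → r ≠ b → M r a + M r b * c = 0) ∧
      M b a + M b b * c + c * (M a a + M a b * c) = 0 := by
  intro c M
  have h := pair_spec a b hab cc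
  simp only [pairChk, Bool.and_eq_true, decide_eq_true_eq] at h
  obtain ⟨⟨⟨⟨hA, hB⟩, hPA⟩, hPB⟩, hXY⟩ := h
  set t := linePos a b cc
  set L := tm ω (lineCode a b cc) with hL
  set gm := (g : Matrix F9 F9 F)
  have fA : tm ω (P (D.lineAT.get t)) * gm * L = gm * L := by
    have := congrArg (fun N => N * L) (hfix ⟨_, hA⟩)
    simp only [projFam, mul_assoc] at this
    rw [hL] at this ⊢
    simp only [← tm_mul hω, eq_of_beq hPA] at this
    rw [mul_assoc]
    exact this
  have fB : tm ω (P (D.lineBT.get t)) * gm * L = gm * L := by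
    have := congrArg (fun N => N * L) (hfix ⟨_, hB⟩)
    simp only [projFam, mul_assoc] at this
    rw [hL] at this ⊢
    simp only [← tm_mul hω, eq_of_beq hPB] at this
    rw [mul_assoc]
    exact this
  have e := congrArg (tm ω) (eq_of_beq hXY)
  simp only [tm_add hω, tm_mul hω, tm_eye, mul_add, mul_one] at e
  have e2 : (L + 1) * (gm * L) = 0 := by
    rw [← e]
    have zA : tm ω (P (D.lineAT.get t)) * (gm * L) = gm * L := by rw [← mul_assoc, fA]
    have zB : tm ω (P (D.lineBT.get t)) * (gm * L) = gm * L := by rw [← mul_assoc, fB]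
    simp only [add_mul, mul_assoc, zA, zB]
    ext w z
    simp [CharTwo.add_self_eq_zero]
  have e3 : toMat ω (lineCode a b cc) * (M * toMat ω (lineCode a b cc))
      + M * toMat ω (lineCode a b cc) = 0 := by
    rw [add_mul, one_mul, hL] at e2
    have hM : gm = M.submatrix e9 e9 := by
      ext w z
      show _ = M (e9 w) (e9 z)
      simp [M, gm]
    rw [hM, tm, Matrix.submatrix_mul_equiv, Matrix.submatrix_mul_equiv] at e2
    ext i j
    simpa using congrFun (congrFun e2 (e9.symm i)) (e9.symm j)
  have col : ∀ i, (M * toMat ω (lineCode a b cc)) i a = M i a + M i b * c := by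
    intro i
    rw [Matrix.mul_apply]
    rw [Finset.sum_eq_add a b (ne_of_lt hab) (fun x _ hx => ?_) (by simp) (by simp)]
    · simp [toMat_line a b hab, (ne_of_lt hab).symm, c]
    · simp [toMat_line a b hab, hx.1, hx.2]
  have row : ∀ r, (toMat ω (lineCode a b cc) * (M * toMat ω (lineCode a b cc))) r a =
      toMat ω (lineCode a b cc) r a * (M a a + M a b * c) := by
    intro r
    rw [Matrix.mul_apply, Finset.sum_eq_single a (fun x _ hx => ?_) (by simp), col]
    simp [toMat_line a b hab, hx]
  refine ⟨fun r hra hrb => ?_, ?_⟩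
  · have := congrFun (congrFun e3 r) a
    rw [Matrix.add_apply, row, col, toMat_line a b hab] at this
    simpa [hra, hrb] using this
  · have := congrFun (congrFun e3 b) a
    rw [Matrix.add_apply, row, col, toMat_line a b hab] at this
    simp only [if_true, if_neg (ne_of_lt hab).symm, Matrix.zero_apply] at this
    linear_combination this

/-- An element fixing all 6156 subspaces is scalar. -/
theorem fix_all_scalar {g : GL F9 F} (hfix : ∀ i, Maps (projFam ω P 6156) g i i) :
    ∃ c : F, (g : Matrix F9 F9 F) = c • (1 : Matrix F9 F9 F) := by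
  let M : Matrix (Fin 9) (Fin 9) F := fun i j => (g : Matrix F9 F9 F) (e9.symm i) (e9.symm j)
  have pair0 : ∀ a b : Fin 9, a < b → ∀ r, r ≠ a → r ≠ b → M r a = 0 ∧ M r b = 0 := by
    intro a b hab r hra hrb
    have h1 := (line_reduce hω hab false hfix).1 r hra hrb
    have h2 := (line_reduce hω hab true hfix).1 r hra hrb
    simp only [Bool.false_eq_true, if_false, mul_one] at h1
    simp only [if_true] at h2
    have hb : M r b * (ω - 1) = 0 := by linear_combination h2 - h1
    have hb' : M r b = 0 :=
      (mul_eq_zero.1 hb).resolve_right (sub_ne_zero.2 (om_ne_one hω))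
    exact ⟨by linear_combination h1 - hb', hb'⟩
  have off : ∀ r x : Fin 9, r ≠ x → M r x = 0 := by
    intro r x hrx
    obtain ⟨y, hyr, hyx⟩ : ∃ y : Fin 9, y ≠ r ∧ y ≠ x := by
      revert hrx
      revert r x
      decide
    rcases lt_or_gt_of_ne hyx with h | h
    · exact (pair0 y x h r hyr.symm hrx).2
    · exact (pair0 x y h r hrx hyr.symm).1
  have diag : ∀ a b : Fin 9, a < b → M b b = M a a := by
    intro a b hab
    have h := (line_reduce hω hab false hfix).2
    simp only [Bool.false_eq_true, if_false, mul_one, one_mul] at h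
    have : M b b + M a a = 0 := by
      linear_combination h - off b a (ne_of_lt hab).symm - off a b (ne_of_lt hab)
    exact CharTwo.add_eq_zero.1 this
  refine ⟨M 0 0, ?_⟩
  ext w z
  rw [Matrix.smul_apply, Matrix.one_apply]
  have hwz : (g : Matrix F9 F9 F) w z = M (e9 w) (e9 z) := by simp [M]
  rw [hwz]
  by_cases h : w = z
  · subst h
    rcases eq_or_lt_of_le (Fin.zero_le (e9 w)) with h0 | h0
    · simp [← h0]
    · simp [diag 0 _ h0]
  · simp [h, off _ _ (fun hh => h (e9.injective hh))]

omit hω

end H94.J3
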