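import Mathlib
import Cfsg.Prelude.Def_Spor_J3
import Cfsg.Prelude.Def_Sporadic
import Cfsg.Agent.H94.J3.Simple

/-! `J₃` is simple of order 50232960; the permutation representation of degree 6156. -/

namespace H94.J3

open Cfsg.Spor

theorem countP_range' (n : ℕ) (f : ℕ → ℕ) (t : ℕ) :
    ((Finset.range n).filter fun i => f i = t).card =
      (List.range' 0 n).countP (fun i => f i == t) := by
  rw [← List.range_eq_range', List.countP_eq_length_filter]
  simp only [Finset.card, Finset.filter, Finset.range, Multiset.range, Multiset.filter_coe,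
    Multiset.coe_card]
  refine congrArg List.length (List.filter_congr fun x _ => ?_)
  by_cases h : f x = t <;> simp [h]

theorem card_filter_map_val (n : ℕ) (B : Finset (Fin n)) (p : ℕ → Bool)
    (h : ∀ i : Fin n, i ∈ B ↔ p i = true) :
    B.card = ((Finset.range n).filter fun i => p i = true).card := by
  rw [← Finset.card_map Fin.valEmbedding]
  congr 1
  ext m
  simp only [Finset.mem_map, Fin.valEmbedding_apply, Finset.mem_filter, Finset.mem_range]
  constructor
  · rintro ⟨i, hi, rfl⟩
    exact ⟨i.isLt, (h i).1 hi⟩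
  · rintro ⟨hm, ht⟩
    exact ⟨⟨m, hm⟩, (h ⟨m, hm⟩).2 ht, rfl⟩

theorem relIndex_dvd_index' {Γ : Type*} [Group Γ] [Finite Γ] (S M : Subgroup Γ) [M.Normal] :
    S.relIndex M ∣ S.index := by
  have hS : S ≤ S ⊔ M := le_sup_left
  have hM : M ≤ S ⊔ M := le_sup_right
  have h1 := Subgroup.relIndex_mul_relIndex ⊥ (S ⊓ M) M bot_le inf_le_right
  have h2 := Subgroup.relIndex_mul_relIndex ⊥ (M ⊓ S) S bot_le inf_le_right
  have h3 := Subgroup.relIndex_mul_relIndex ⊥ S (S ⊔ M) bot_le hS
  have h4 := Subgroup.relIndex_mul_relIndex ⊥ M (S ⊔ M) bot_le hM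
  rw [Subgroup.inf_relIndex_right, Subgroup.relIndex_bot_left, Subgroup.relIndex_bot_left] at h1 h2
  rw [Subgroup.relIndex_bot_left, Subgroup.relIndex_bot_left] at h3 h4
  rw [Subgroup.relIndex_sup_right] at h4
  rw [inf_comm M S] at h2
  have hpos : 0 < Nat.card S := Nat.card_pos
  have he : S.relIndex (S ⊔ M) = S.relIndex M := by
    refine Nat.eq_of_mul_eq_mul_left hpos ?_
    rw [h3, ← h4, ← h1, ← h2]
    ring
  rw [← he]
  exact Subgroup.relIndex_dvd_index_of_le hS

section
variable {F : Type*} [Field F] [Fintype F] [CharP F 2] {ω : F} (hω : ω ^ 2 + ω + 1 = 0)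
  (C : Chain ω)
include hω

theorem scalar_mem (hF : Fintype.card F = 4) {c : F} (hc : c ≠ 0) :
    ∃ g ∈ C.G, (g : Matrix F9 F9 F) = c • (1 : Matrix F9 F9 F) := by
  obtain ⟨g, hg, hr⟩ := C.mem_of_memChk hω small_spec.2.2.2.2
  have hg' : (g : Matrix F9 F9 F) = ω • (1 : Matrix F9 F9 F) := by
    rw [show (g : Matrix F9 F9 F) = _ from hr, tm_wScal hω]
  rcases cases_four hF hω c with h | h | h | h
  · exact absurd h hc
  · exact ⟨1, C.G.one_mem, by simp [h]⟩
  · exact ⟨g, hg, by rw [hg', h]⟩
  · exact ⟨g * g, C.G.mul_mem hg hg, by rw [Units.val_mul, hg', h]; simp [smul_smul, pow_two]⟩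

omit [CharP F 2] hω in
theorem scalar_central {g : GL F9 F} {c : F} (h : (g : Matrix F9 F9 F) = c • (1 : Matrix F9 F9 F))
    (x : GL F9 F) : x * g = g * x := by
  refine Units.ext ?_
  rw [Units.val_mul, Units.val_mul, h]
  simp

theorem central_scalar {z : C.G} (hz : z ∈ Subgroup.center C.G) :
    ∃ c : F, ((z : GL F9 F) : Matrix F9 F9 F) = c • (1 : Matrix F9 F9 F) := by
  set M := ((z : GL F9 F) : Matrix F9 F9 F) with hM
  have comm : ∀ kind < 5, ∀ Z, M * tm ω (genCodeOf kind Z) = tm ω (genCodeOf kind Z) * M := by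
    intro kind hk Z
    obtain ⟨g, hg, hr⟩ := gen_mem hω C kind hk Z
    have := congrArg (fun x : C.G => ((x : GL F9 F) : Matrix F9 F9 F))
      (Subgroup.mem_center_iff.1 hz ⟨g, hg⟩)
    simp only [Subgroup.coe_mul, Units.val_mul] at this
    rw [← show (g : Matrix F9 F9 F) = _ from hr]
    exact this.symm
  have off : ∀ w x, w ≠ x → M w x = 0 := by
    intro w x hwx
    obtain ⟨Z, hZ⟩ := sep_index w x hwx
    have h := congrFun (congrFun (comm 0 (by norm_num) Z) w) x
    rw [tm_A hω, j3A, Matrix.mul_diagonal, Matrix.diagonal_mul] at h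
    have : M w x * (omegaPow F ω (Z.1 * x.1 + Z.2 * x.2) - omegaPow F ω (Z.1 * w.1 + Z.2 * w.2)) = 0 := by
      linear_combination h
    exact (mul_eq_zero.1 this).resolve_right
      (sub_ne_zero.2 fun h' => hZ (omegaPow_inj hω h').symm)
  refine ⟨M 0 0, ?_⟩
  ext w x
  rw [Matrix.smul_apply, Matrix.one_apply]
  by_cases h : w = x
  · subst h
    have h := congrFun (congrFun (comm 2 (by norm_num) w) w) 0
    rw [tm_D hω, Matrix.mul_apply, Matrix.mul_apply,
      Finset.sum_eq_single w (fun b _ hb => ?_) (by simp),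
      Finset.sum_eq_single (0 : F9) (fun b _ hb => ?_) (by simp)] at h
    · simp [j3D, j3Lam] at h
      simp [h]
    · rw [off b 0 hb, mul_zero]
    · rw [off w b (Ne.symm hb), zero_mul]
  · simp [h, off w x h]

theorem card_center (hF : Fintype.card F = 4) : Nat.card (Subgroup.center C.G) = 3 := by
  classical
  have hu : Nat.card Fˣ = 3 := by
    rw [Nat.card_eq_fintype_card, Fintype.card_units, hF]
  refine Eq.trans ?_ hu
  have hmem : ∀ c : Fˣ, ∃ g : C.G, g ∈ Subgroup.center C.G ∧
      ((g : GL F9 F) : Matrix F9 F9 F) = (c : F) • (1 : Matrix F9 F9 F) := by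
    intro c
    obtain ⟨g, hg, he⟩ := scalar_mem hω C hF c.ne_zero
    exact ⟨⟨g, hg⟩, Subgroup.mem_center_iff.2 fun x =>
      Subtype.ext (scalar_central he (x : GL F9 F)), he⟩
  choose f hf1 hf2 using hmem
  refine (Nat.card_congr (Equiv.ofBijective (fun c => (⟨f c, hf1 c⟩ : Subgroup.center C.G))
    ⟨fun c d h => ?_, ?_⟩)).symm
  · have h' : ((f c : GL F9 F) : Matrix F9 F9 F) = ((f d : GL F9 F) : Matrix F9 F9 F) :=
      congrArg (fun x : Subgroup.center C.G => (((x : C.G) : GL F9 F) : Matrix F9 F9 F)) h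
    rw [hf2, hf2] at h'
    have := congrFun (congrFun h' 0) 0
    exact Units.ext (by simpa using this)
  · rintro ⟨z, hz⟩
    obtain ⟨c, hc⟩ := central_scalar hω C hz
    have hc0 : c ≠ 0 := by
      intro h
      rw [h, zero_smul] at hc
      exact Units.ne_zero (z : GL F9 F) hc
    refine ⟨Units.mk0 c hc0, Subtype.ext (Subtype.ext (Units.ext ?_))⟩
    rw [hf2, hc]
    rfl

/-- The permutation representation of degree 6156. -/
noncomputable def rho : C.G →* Equiv.Perm (Fin 6156) := (C.actG hω).hom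

theorem rho_spec (g : C.G) (i : Fin 6156) :
    Maps (projFam ω P 6156) (g : GL F9 F) i (rho hω C g i) := (C.actG hω).img_spec g i

theorem rho_eq {g : C.G} {i j : Fin 6156} (h : Maps (projFam ω P 6156) (g : GL F9 F) i j) :
    rho hω C g i = j := (C.actG hω).img_eq h

theorem rho_u (i : Fin 6156) : rho hω C ⟨C.u i, C.u_mem i⟩ ⟨0, by norm_num⟩ = i :=
  rho_eq hω C (C.u_maps i)

theorem rho_fix_iff (g : C.G) :
    rho hω C g ⟨0, by norm_num⟩ = ⟨0, by norm_num⟩ ↔ (g : GL F9 F) ∈ C.H := by
  refine ⟨fun h => ?_, fun h => rho_eq hω C (C.H_fix hω h)⟩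
  obtain ⟨i, l, hl, he⟩ := C.cover_G hω g.2
  have h2 := (C.H_fix hω hl).mul (C.u_maps i)
  rw [← he] at h2
  have hi : i = ⟨0, by norm_num⟩ := (rho_eq hω C h2).symm.trans h
  rw [he, hi, C.u_zero, one_mul]
  exact hl

theorem rho_ker : (rho hω C).ker = Subgroup.center C.G := by
  ext g
  rw [MonoidHom.mem_ker]
  constructor
  · intro h
    obtain ⟨c, hc⟩ := fix_all_scalar hω (g := (g : GL F9 F)) fun i => by
      have := rho_spec hω C g i
      rwa [h, Equiv.Perm.one_apply] at this
    exact Subgroup.mem_center_iff.2 fun x => Subtype.ext (scalar_central hc (x : GL F9 F))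
  · intro h
    obtain ⟨c, hc⟩ := central_scalar hω C h
    refine Equiv.ext fun i => rho_eq hω C ?_
    show tm ω (P i) * (((g : GL F9 F) : Matrix F9 F9 F) * tm ω (P i)) = _
    rw [hc]
    have := (top_fam hω).2 i
    simp only [projFam] at this
    simp [projFam, this]

theorem transitive (i : Fin 6156) : ∃ g : C.G, rho hω C g ⟨0, by norm_num⟩ = i :=
  ⟨_, rho_u hω C i⟩

theorem card_G' : Nat.card C.G = 150698880 := C.card_G hω

theorem card_subgroup_H : Nat.card (C.H.subgroupOf C.G) = 24480 := by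
  rw [Nat.card_congr (Subgroup.subgroupOfEquivOfLe C.H_le).toEquiv]
  exact C.card_H hω

theorem index_H : (C.H.subgroupOf C.G).index = 6156 := by
  have := (C.H.subgroupOf C.G).card_mul_index
  rw [card_subgroup_H hω C, card_G' hω C] at this
  omega

/-- A normal subgroup containing the centre is the centre or everything. -/
theorem normal_cases (hF : Fintype.card F = 4) (M : Subgroup C.G) [M.Normal]
    (hZ : Subgroup.center C.G ≤ M) : M = Subgroup.center C.G ∨ M = ⊤ := by
  classical
  set z0 : Fin 6156 := ⟨0, by norm_num⟩ with hz0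
  set B : Finset (Fin 6156) := Finset.univ.filter fun i => ∃ n ∈ M, rho hω C n z0 = i with hB
  have memB : ∀ i, i ∈ B ↔ ∃ n ∈ M, rho hω C n z0 = i := fun i => by simp [hB]
  have B_inv : ∀ h : C.G, (h : GL F9 F) ∈ C.H → ∀ i ∈ B, rho hω C h i ∈ B := by
    intro h hh i hi
    obtain ⟨n, hn, rfl⟩ := (memB i).1 hi
    refine (memB _).2 ⟨h * n * h⁻¹, Subgroup.Normal.conj_mem inferInstance n hn h, ?_⟩
    have hf : rho hω C h z0 = z0 := (rho_fix_iff hω C h).2 hh
    have hf' : rho hω C h⁻¹ z0 = z0 := (rho_fix_iff hω C h⁻¹).2 (C.H.inv_mem hh)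
    simp only [map_mul, Equiv.Perm.mul_apply, hf']
  have B_iff : ∀ h : C.G, (h : GL F9 F) ∈ C.H → ∀ i, i ∈ B ↔ rho hω C h i ∈ B := by
    intro h hh i
    refine ⟨B_inv h hh i, fun hi => ?_⟩
    have := B_inv h⁻¹ (C.H.inv_mem hh) _ hi
    simpa [map_inv] using this
  have hsub : ∀ i : Fin 6156, ∃ hr : D.subRep.getD (lab i) 0 < 6156,
      (i ∈ B ↔ (⟨_, hr⟩ : Fin 6156) ∈ B) := by
    intro i
    induction hd : D.depT.get i using Nat.strong_induction_on generalizing i with
    | _ d ih =>
      have hc := sub_spec i i.isLt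
      unfold subChk at hc
      rw [Bool.and_eq_true] at hc
      obtain ⟨-, hc⟩ := hc
      by_cases hd0 : D.depT.get (i : ℕ) = 0
      · rw [show (D.depT.get (i : ℕ) == 0) = true from beq_iff_eq.2 hd0, cond_true, beq_iff_eq] at hc
        refine ⟨by rw [hc]; exact i.isLt, ?_⟩
        rw [show (⟨D.subRep.getD (lab i) 0, by rw [hc]; exact i.isLt⟩ : Fin 6156) = i from Fin.ext hc]
      · rw [show (D.depT.get (i : ℕ) == 0) = false from beq_eq_false_iff_ne.2 hd0, cond_false] at hc
        simp only [Bool.and_eq_true, decide_eq_true_eq] at hc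
        obtain ⟨⟨⟨⟨hk, hq⟩, hdep⟩, hl⟩, hm⟩ := hc
        set k : Fin 2 := ⟨_, hk⟩
        set q : Fin 6156 := ⟨_, hq⟩
        obtain ⟨hr, hiff⟩ := ih _ (hd ▸ hdep) q rfl
        have hmap : rho hω C ⟨C.h k, C.h_mem k⟩ q = i := by
          refine rho_eq hω C ?_
          show tm ω (P i) * (((C.h k : GL F9 F) : Matrix F9 F9 F) * tm ω (P q)) =
            ((C.h k : GL F9 F) : Matrix F9 F9 F) * tm ω (P q)
          rw [show (C.h k : Matrix F9 F9 F) = _ from C.rep_h k, ← tm_mul hω, ← tm_mul hω,
            eq_of_beq hm]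
        have hl' : lab (q : ℕ) = lab (i : ℕ) := eq_of_beq hl
        have hfe := B_iff ⟨C.h k, C.h_mem k⟩ (Subgroup.subset_closure ⟨k, rfl⟩) q
        rw [hmap] at hfe
        refine ⟨by rw [← hl']; exact hr, ?_⟩
        rw [← hfe, hiff]
        simp only [hl']
  -- membership of `B` depends only on the suborbit
  let f : Fin 8 → Bool := fun t =>
    decide (∃ hr : D.subRep.getD t 0 < 6156, (⟨_, hr⟩ : Fin 6156) ∈ B)
  set T : ℕ := Nat.ofBits f with hT
  have hT' : ∀ i : Fin 6156, i ∈ B ↔ T.testBit (lab i) = true := by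
    intro i
    have hlt : lab i < 8 := by
      have hc := sub_spec i i.isLt
      unfold subChk at hc
      rw [Bool.and_eq_true] at hc
      exact of_decide_eq_true hc.1
    obtain ⟨hr, hiff⟩ := hsub i
    rw [hT, Nat.testBit_ofBits_lt f _ hlt, hiff]
    simp only [f, decide_eq_true_eq]
    exact ⟨fun h => ⟨hr, h⟩, fun ⟨_, h⟩ => h⟩
  have hcard : B.card = ((List.range 8).map fun t =>
      bif T.testBit t then D.subSize.getD t 0 else 0).sum := by
    have h1 := card_filter_map_val 6156 B (fun i => T.testBit (lab i)) hT'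
    have hs := size_ok
    unfold sizeChk at hs
    rw [List.all_eq_true] at hs
    have hlab : ∀ i ∈ (Finset.range 6156).filter (fun i => T.testBit (lab i) = true),
        lab i ∈ Finset.range 8 := by
      intro i hi
      have hc := sub_spec i (Finset.mem_range.1 (Finset.mem_filter.1 hi).1)
      unfold subChk at hc
      rw [Bool.and_eq_true] at hc
      exact Finset.mem_range.2 (of_decide_eq_true hc.1)
    rw [h1, Finset.card_eq_sum_card_fiberwise hlab]
    have e : ∀ t ∈ Finset.range 8,
        (((Finset.range 6156).filter fun i => T.testBit (lab i) = true).filter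
          fun i => lab i = t).card = bif T.testBit t then D.subSize.getD t 0 else 0 := by
      intro t ht
      have hcnt : ((Finset.range 6156).filter fun i => lab i = t).card = D.subSize.getD t 0 := by
        rw [← eq_of_beq (hs t (List.mem_range.2 (Finset.mem_range.1 ht)))]
        exact countP_range' _ _ t
      cases hb : T.testBit t
      · rw [cond_false, Finset.card_eq_zero, Finset.filter_eq_empty_iff]
        intro i hi he
        rw [Finset.mem_filter, he, hb] at hi
        simp at hi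
      · rw [cond_true, ← hcnt, Finset.filter_filter]
        exact congrArg Finset.card
          (Finset.filter_congr fun i _ => ⟨fun h => h.2, fun h => ⟨by rw [h, hb], h⟩⟩)
    rw [Finset.sum_congr rfl e]
    rfl
  have hrel : B.card = (C.H.subgroupOf C.G).relIndex M := by
    letI : MulAction M (Fin 6156) := MulAction.compHom (Fin 6156) ((rho hω C).comp M.subtype)
    have horb : MulAction.orbit M z0 = (B : Set (Fin 6156)) := by
      ext i
      rw [Finset.mem_coe, memB, MulAction.mem_orbit_iff]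
      exact ⟨fun ⟨n, hn⟩ => ⟨n, n.2, hn⟩, fun ⟨n, hn, he⟩ => ⟨⟨n, hn⟩, he⟩⟩
    have hst : MulAction.stabilizer M z0 = (C.H.subgroupOf C.G).subgroupOf M := by
      ext n
      rw [MulAction.mem_stabilizer_iff, Subgroup.mem_subgroupOf, Subgroup.mem_subgroupOf]
      exact rho_fix_iff hω C (n : C.G)
    rw [Subgroup.relIndex, ← hst, MulAction.index_stabilizer, horb, Set.ncard_coe_finset]
  have hdvd : B.card ∣ 6156 := by
    rw [hrel]
    exact (relIndex_dvd_index' _ M).trans (by rw [index_H hω C])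
  have h0 : T.testBit 0 = true := by
    have hz : lab 0 = 0 := by decide +kernel
    have := (hT' z0).1 ((memB z0).2 ⟨1, M.one_mem, by simp⟩)
    simpa [hz0, hz] using this
  have hsum := sums_ok
  unfold sumsChk at hsum
  rw [List.all_eq_true] at hsum
  have hT256 : T < 256 := by rw [hT]; exact Nat.ofBits_lt_two_pow f
  have hS := hsum T (List.mem_range.2 hT256)
  simp only at hS
  rw [← hcard, h0, Bool.true_and] at hS
  rw [show (6156 % B.card == 0) = true from beq_iff_eq.2 (Nat.mod_eq_zero_of_dvd hdvd),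
    cond_true, Bool.or_eq_true] at hS
  rcases hS with hS | hS
  · left
    have hT1 : T = 1 := eq_of_beq hS
    have hB1 : B.card = 1 := by rw [hcard, hT1]; decide
    have hB0 : B = {z0} := by
      obtain ⟨a, ha⟩ := Finset.card_eq_one.1 hB1
      have : z0 ∈ B := (memB z0).2 ⟨1, M.one_mem, by simp⟩
      rw [ha, Finset.mem_singleton] at this
      rw [ha, this]
    refine le_antisymm (fun n hn => ?_) hZ
    rw [← rho_ker hω C, MonoidHom.mem_ker]
    refine Equiv.ext fun i => ?_
    obtain ⟨g, rfl⟩ := transitive hω C i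
    have hn' : g⁻¹ * n * g ∈ M := by
      simpa using Subgroup.Normal.conj_mem inferInstance n hn g⁻¹
    have hm : rho hω C (g⁻¹ * n * g) z0 ∈ B := (memB _).2 ⟨_, hn', rfl⟩
    rw [hB0, Finset.mem_singleton, map_mul, map_mul, map_inv, Equiv.Perm.mul_apply,
      Equiv.Perm.mul_apply, Equiv.Perm.inv_eq_iff_eq] at hm
    exact hm
  · right
    have hT2 : T = 255 := eq_of_beq hS
    have hB2 : B.card = 6156 := by rw [hcard, hT2]; decide
    have h19 : 19 ∣ Nat.card M := by
      have : B.card ∣ Nat.card M := by rw [hrel]; exact Subgroup.relIndex_dvd_card _ _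
      rw [hB2] at this
      exact (show (19 : ℕ) ∣ 6156 by norm_num).trans this
    have hQ : ¬ 19 ∣ Nat.card (C.G ⧸ M) := by
      intro h
      have hc := Subgroup.card_eq_card_quotient_mul_card_subgroup M
      rw [card_G' hω C] at hc
      have := Nat.mul_dvd_mul h h19
      rw [← hc] at this
      norm_num at this
    have hcop : ∀ y : C.G, y ^ 19 ∈ M → y ∈ M := by
      intro y hy
      rw [← QuotientGroup.eq_one_iff] at hy ⊢
      rw [QuotientGroup.mk_pow] at hy
      rcases (Nat.dvd_prime (show Nat.Prime 19 by norm_num)).1 (orderOf_dvd_of_pow_eq_one hy) with h | h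
      · exact orderOf_eq_one_iff.1 h
      · exact absurd (h ▸ orderOf_dvd_natCard (y : C.G ⧸ M)) hQ
    have hx := x_ok
    unfold xChk at hx
    simp only [Bool.and_eq_true] at hx
    obtain ⟨⟨⟨hxm, hp⟩, hp0⟩, hp1⟩ := hx
    obtain ⟨x, hxG, hxr⟩ := C.mem_of_memChk hω hxm
    have hscal : ∀ (y : C.G) (c : ℕ), Rep ω (y : GL F9 F) c → isScal (pow19 c) = true → y ^ 19 ∈ M := by
      intro y c hy hc
      have h2 := hy.mul hω hy
      have h4 := h2.mul hω h2
      have h8 := h4.mul hω h4
      have h19r : Rep ω ((y : GL F9 F) ^ 19) (pow19 c) := by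
        have := ((h8.mul hω h8).mul hω h2).mul hω hy
        rw [show (y : GL F9 F) ^ 19 = (y : GL F9 F) * y * ((y : GL F9 F) * y) * ((y : GL F9 F) * y * ((y : GL F9 F) * y)) * ((y : GL F9 F) * y * ((y : GL F9 F) * y) * ((y : GL F9 F) * y * ((y : GL F9 F) * y))) * ((y : GL F9 F) * y) * y by
            simp only [← mul_assoc, pow_succ, pow_zero, one_mul]]
        exact this
      refine hZ (Subgroup.mem_center_iff.2 fun g => Subtype.ext ?_)
      obtain ⟨d, hd⟩ : ∃ d : F, (((y : GL F9 F) ^ 19 : GL F9 F) : Matrix F9 F9 F) = d • (1 : Matrix F9 F9 F) := by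
        rw [show (((y : GL F9 F) ^ 19 : GL F9 F) : Matrix F9 F9 F) = _ from h19r]
        unfold isScal at hc
        simp only [Bool.or_eq_true, beq_iff_eq] at hc
        rcases hc with (e | e) | e <;> rw [e]
        · exact ⟨1, by rw [tm_eye, one_smul]⟩
        · exact ⟨ω, tm_wScal hω⟩
        · exact ⟨ω * ω, by rw [tm_mul hω, tm_wScal hω]; simp [smul_smul]⟩
      simpa using scalar_central hd (g : GL F9 F)
    have hxM : (⟨x, hxG⟩ : C.G) ∈ M := hcop _ (hscal _ _ hxr hp)
    have hs : ∀ k : Fin 2, (⟨C.s k, Subgroup.subset_closure ⟨k, rfl⟩⟩ : C.G) ∈ M := by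
      intro k
      have hkx : (⟨C.s k, Subgroup.subset_closure ⟨k, rfl⟩⟩ : C.G) * ⟨x, hxG⟩ ∈ M := by
        refine hcop _ (hscal _ (H94.J3.mul (D.sgen k) D.xCode) ((C.rep_s k).mul hω hxr) ?_)
        fin_cases k
        · exact hp0
        · exact hp1
      exact (Subgroup.mul_mem_cancel_right M hxM).1 hkx
    rw [eq_top_iff]
    rintro ⟨g, hg⟩ -
    have : g ∈ M.map C.G.subtype := by
      refine (Subgroup.closure_le _).2 ?_ hg
      rintro _ ⟨k, rfl⟩
      exact ⟨_, hs k, rfl⟩
    obtain ⟨m, hm, hme⟩ := this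
    rw [show (⟨g, hg⟩ : C.G) = m from Subtype.ext hme.symm]
    exact hm

theorem card_quot (hF : Fintype.card F = 4) :
    Nat.card (C.G ⧸ Subgroup.center C.G) = 50232960 := by
  have := Subgroup.card_eq_card_quotient_mul_card_subgroup (Subgroup.center C.G)
  rw [card_G' hω C, card_center hω C hF] at this
  omega

theorem isJ3_quot (hF : Fintype.card F = 4) : Cfsg.IsJ3 (C.G ⧸ Subgroup.center C.G) := by
  refine ⟨?_, card_quot hω C hF⟩
  have : Nontrivial (C.G ⧸ Subgroup.center C.G) := by
    rw [← Finite.one_lt_card_iff_nontrivial, card_quot hω C hF]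
    norm_num
  refine ⟨fun N hN => ?_⟩
  set π := QuotientGroup.mk' (Subgroup.center C.G)
  have hsurj : Function.Surjective π := QuotientGroup.mk'_surjective _
  have hle : Subgroup.center C.G ≤ N.comap π := by
    intro z hz
    rw [Subgroup.mem_comap, QuotientGroup.mk'_apply, (QuotientGroup.eq_one_iff z).2 hz]
    exact N.one_mem
  have := hN.comap π
  rcases normal_cases hω C hF (N.comap π) hle with h | h
  · left
    rw [← Subgroup.map_comap_eq_self_of_surjective hsurj N, h, Subgroup.map_eq_bot_iff]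
    rw [QuotientGroup.ker_mk']
  · right
    rw [← Subgroup.map_comap_eq_self_of_surjective hsurj N, h]
    exact Subgroup.map_top_of_surjective π hsurj

end

end H94.J3
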