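import Mathlib
import Cfsg.Prelude.Def_Spor_J3
import Cfsg.Prelude.Def_Sporadic
import Cfsg.Agent.H94.J3.J3Main

/-! Transport to `threeJ3` and the degree 6156 permutation group. -/

namespace H94.J3

open Cfsg.Spor

variable {F : Type*} [Field F] [Fintype F] (hF : Fintype.card F = 4) {ω : F}
  (hω : ω ^ 2 + ω + 1 = 0)
include hF hω

theorem exists_chain : ∃ _ : CharP F 2, Nonempty (Chain ω) := by
  have := charP_two hF
  exact ⟨this, nonempty_chain hω⟩

theorem threeJ3_facts :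
    Nat.card ↥(Subgroup.center ↥(threeJ3 F ω)) = 3 ∧ Nat.card ↥(threeJ3 F ω) = 150698880 ∧
      Cfsg.IsJ3 (J3 F ω) := by
  have := charP_two hF
  obtain ⟨C⟩ := nonempty_chain (F := F) hω
  have key : ∀ G : Subgroup (GL F9 F), G = C.G →
      Nat.card ↥(Subgroup.center ↥G) = 3 ∧ Nat.card ↥G = 150698880 ∧
        Cfsg.IsJ3 (↥G ⧸ Subgroup.center ↥G) := by
    rintro G rfl
    exact ⟨card_center hω C hF, C.card_G hω, isJ3_quot hω C hF⟩
  exact key _ (G_eq_threeJ3 hω C).symm

theorem perm_group_exists :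
    ∃ H : Subgroup (Equiv.Perm (Fin 6156)), Cfsg.IsJ3 H ∧
      MulAction.IsPretransitive H (Fin 6156) ∧
      Nat.card (MulAction.stabilizer H (0 : Fin 6156)) = 8160 := by
  have := charP_two hF
  obtain ⟨C⟩ := nonempty_chain (F := F) hω
  obtain ⟨hsimple, hcard⟩ := isJ3_quot hω C hF
  let e : (↥C.G ⧸ Subgroup.center ↥C.G) ≃* (rho hω C).range :=
    (QuotientGroup.quotientMulEquivOfEq (rho_ker hω C).symm).trans
      (QuotientGroup.quotientKerEquivRange (rho hω C))
  have hJ : Cfsg.IsJ3 (rho hω C).range :=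
    ⟨e.symm.isSimpleGroup, by rw [← Nat.card_congr e.toEquiv, hcard]⟩
  have htrans : MulAction.IsPretransitive (rho hω C).range (Fin 6156) := by
    refine ⟨fun a b => ?_⟩
    obtain ⟨g, hg⟩ := transitive hω C a
    obtain ⟨k, hk⟩ := transitive hω C b
    refine ⟨⟨rho hω C (k * g⁻¹), ⟨_, rfl⟩⟩, ?_⟩
    show rho hω C (k * g⁻¹) a = b
    rw [← hg, map_mul, map_inv]
    rw [Equiv.Perm.mul_apply, Equiv.Perm.inv_def, Equiv.symm_apply_apply]
    exact hk
  refine ⟨(rho hω C).range, hJ, htrans, ?_⟩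
  have h1 := (MulAction.stabilizer (rho hω C).range (0 : Fin 6156)).card_mul_index
  rw [MulAction.index_stabilizer_of_transitive, hJ.2, Nat.card_fin] at h1
  omega

end H94.J3
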