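import Cfsg.Agent.H94.J3.Gen

/-! Generated certificate data. -/

namespace H94.J3.D

def tInv : ℕ := 0xe3d062514cc0f9453004870ec8e6d8ea7eae120
def qElt : List ℕ := [0x100401004010040100401, 0xe3d062514cc0f9453004870ec8e6d8ea7eae120, 0x659579514cc63d5738008228e82ed8ce3467d64, 0x284dee63bc5488ee0d51b07abcf2e65c9aa1d09c, 0x2169f9113cb88e38dce1e02db85ef2d57bea7ce2, 0x1c996d44f81e1c4198d3d64ed72c90ea48cb0e474, 0x80a0282000a0a02008140414005410445044445, 0xfc736c04688edf20c90d56ce02b8ead75554b47e, 0x1b85c7ab4e86881b1192dce98c4359e50b031d26e, 0x1c1c5815895279dcadc2d248ebc4ea2246af0ca5e, 0xfa7ecae7bc5a4f5ad68c5e6b01748655285e651b, 0x1bf70dfb73cb60b8d06acc66d15ddd2dec805410b, 0x1c769d0f301eb018c47ac2cebde56eeaf1e5f593b, 0x2e2e1bb2688a7ed732d0b88c8d334ad8a613ddf9,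 0x3182038d45997af7b6a5bc36bd9fd23e9e4f396c9, 0x2c0e91c2adcbee1416b2f7ec6b399d94dd9e921d0, 0x262b0f20e86c6247e360e88b5bbb7e5d42663387, 0x25b163f334d51f8a838ca435ae7562f690727b986, 0x39cef09389c22e5917efa14452730fd41f1b3e935, 0x1cf54d6d615273e1c36bc6cdb22dc8229b9a7ab11, 0x212b9cd7f086ee0c8ad6290213fde15c817a68e39, 0x203b4d9af48f8bc5fb92732a3695651ca3bd28cb2, 0x31ef50978cd5d6ddd81dacb3c4cea4f62742cf7ac, 0x2c61238b5487a06f4b0ae76e00e0b75c02b161cb5, 0x25dad5dadd9915c4df34b4b5e404c83e4d64004e3, 0x39a3e2f8508ec2026857b1c328aa711c8425c8050, 0x2142cbad29ca0613e56e39854b0417943a4e16f5c, 0x2050bac20dc3c1fab62a63a87f6cc7d45c98539d7, 0x193398b22981a6251b7049e77f280bcc3cff7592f, 0xd661dff78cd663c5e7841615fe26704d2d99bd6b, 0xd14ae9a7981c66b4c4051e44558edcc92e91200e,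 0x1947cee408cda0163b48596756b25d0418d47184a]
def qWord : List ℕ := [0, 34736, 64181327, 64627523, 64630128, 11360, 64194467, 64628855, 64632608, 4164, 327113090, 327101847, 64163635, 327122095, 9735, 64651788, 327113544, 5406, 64652701, 64183159, 64643105, 64645777, 64172603, 327119197, 64190875, 327112103, 327095866, 327106918, 16970, 19580, 64175226, 64163152]
def aElt : List ℕ := [0x100401004010040100401, 0x1f96dd3f7645a6f5975cd08cf63783be384f99684, 0x1a24b8b76b9a17c0cc089cd5cd37c03f5d1d71d37, 0x175da6dc688ad4983d759dfd7c9c6be3944fe204a, 0x1fca652e97679f47ef427abe2ce53bd1b1999fcfa, 0xed34d880ad4b02cba339154f3557ff7b5439e649, 0x13b978dd2102516430f4d4dd38f957f4a7088594e, 0x75fe807ca370ef7674ffe226e7d7b6836d212587, 0x315f6e2cbffdb3783e9790bc24494db3c328afaaf,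 0x14bcb6d41fdde10df80a57b2df2ff6c8367fc6ba6, 0x34d940cc67db545a05a6d5d6bd18fa7f5b285fc81, 0x1c397170079164c0b0fb57893cddef98079685c7a, 0x27f909fc6337bb774a3ff2cfd385159caf4920c30, 0x17b5e54d3709e5dc202d167c47b06ba59132b1a5b, 0x9e2c8f248c7c0e05c22073158d6972fbb67594e5, 0x3dea9b90a08ecccd5d14b72b668ebbc866bc0f440, 0x188e07ed3526fab0727190c479906a9772180632c, 0x7ddf87afe2b3f9a9bee4ec3702d51099cb5219b6, 0x28d8dad78c8dac8dd5322b6e8b944b608b6cc2df9, 0x4fdbf7330b06bb0860e526a1e89466af526110c0, 0x1baa041cbf7beaff7adfcc6c2c1d0db0081e654a6, 0x3f1df6b2fd3f3378ee8d022b135110cd181698f7b, 0x373940c455de70cfc0ce0f98dfaa5755a1197b3c5, 0x155735af45c30424e05edb16199d2fd4830c2d516, 0xb073d5b1311531032594a5ce6bf792cd777d098f, 0x3f69d02d3ff37fa2d76b26536b3515606396fef19,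 0x343a032ff7c74d88e055de2410110b8062c26fee, 0x27cb9758a1d6d5a16c81a6aa78c2ba99ddaf659b0, 0x1c1c1f217619203b8f54feb3c9ef00c76f9b49f78, 0x1b1c1f253c4c323b8154ff97c8ed14effe9a6bf79, 0x2c06a8c461d081389f41ee4ab1d514de19cb56842, 0x6757d091adaf62d2c199f2eb73571d3c6e39b16a, 0x256bc211c4088c969f0d2af4fe09eb0b326915f2, 0x2a09f8b11bbc9e4caf584d7f8b05706f55eab8578, 0x2834042ff7db33c7c4491780f2550a8055cde426, 0x20cda2e7cb15f184d59b3ad63ff17bf727ebdbc65, 0x1a04b5ed6b1c155ceb3a10ddadb8f63c3d1d47388, 0x3f5b7839755057365e49aa5acbff00491fb8dd21d, 0x18e4f5024a088831e9d450e4c1269751b712d1002, 0x2a09f9880bbc9e7d3e50dd7b8b897e7f51fabcf5e, 0xf6c943cbc10e21c991647c57b6d0c1ab4a438021, 0x15c7c7cd68c563c36f5950b81314f770bbf265a9f, 0x2c018cb658ccf301a041fe49511db0bc63f547043,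 0x13b2b13b121f95bdb57bcf96a6bf78a37d67d148a, 0x137081511e09c2195b241976b3709edddb7218c10, 0x3859097e5b553776f21d7627b7e5b163f66930934, 0x744646c66416565e14dca7a51e4fb46c3fdc3503, 0x1cf5ec6c694ce4ecec68d24e45446ad83ebdb6d2f, 0x2000800086020187228c0864604003602001904, 0xc8049c5208e63c8064343f10dd9571cad30ae9bb, 0x40c9c54be0bb4315a7c82a17b014c513670b332d, 0x5d477cf69c5e3c34f495b081217c0db627352925, 0x150b172774ca5cccf4954f5237938353274944203, 0x1d5ee5869731408659f5eef572a93b0fa09af4c0f, 0x4de73d7455d2d3c00d685243e092fbe92ed13583, 0x17ff1c578ca19553e0c46a509a184a7030450a91e, 0x10f2d1333008a5fcd0318932a3f947cc7cca440a0, 0x72564e457dd567da764c81ef0065777f91a04e55, 0x1cb5fc641d04c4f52d745c2740c7f6fb387a70fd4, 0x32040e8069b546d016e5ca96c9def63698faf18a]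
def aWord : List ℕ := [0, 60830549, 272395800, 217674802, 371395870, 342177917, 37424432, 67446115, 77024829, 179526447, 227567147, 283331680, 401541215, 64619826, 222377648, 291139752, 296184998, 64846922, 254312270, 355476376, 346692650, 153519124, 390951942, 353310480, 64822618, 38933905, 353319219, 107171951, 9798947, 269560130, 401569693, 38940422, 296169879, 269571590, 171711603, 392430974, 107172992, 77028995, 254289158, 283325615, 37452677, 291140106, 392431660, 171717646, 64630043, 67470663, 217676953, 227553577, 390940738, 346714670, 9785187, 355484454, 371405213, 60817587, 153510215, 222377264, 272376097, 14178, 179508042, 342185220]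
def qTab_naaa : Tr := (.nd (.nd (.nd (.nd (.nd (.nd (.nd (.lf 0x0) (.lf 0x10)) (.nd (.lf 0x8) (.lf 0x18))) (.nd (.nd (.lf 0x4) (.lf 0x14)) (.nd (.lf 0xc) (.lf 0x1c)))) (.nd (.nd (.nd (.lf 0x2) (.lf 0x12)) (.nd (.lf 0xa) (.lf 0x1a))) (.nd (.nd (.lf 0x6) (.lf 0x16)) (.nd (.lf 0xe) (.lf 0x1e))))) (.nd (.nd (.nd (.nd (.lf 0x1) (.lf 0x11)) (.nd (.lf 0x9) (.lf 0x19))) (.nd (.nd (.lf 0x5) (.lf 0x15)) (.nd (.lf 0xd) (.lf 0x1d)))) (.nd (.nd (.nd (.lf 0x3) (.lf 0x13)) (.nd (.lf 0xb) (.lf 0x1b))) (.nd (.nd (.lf 0x7) (.lf 0x17)) (.nd (.lf 0xf) (.lf 0x1f)))))) (.nd (.nd (.nd (.nd (.nd (.lf 0x10) (.lf 0x0)) (.nd (.lf 0x6) (.lf 0x7))) (.nd (.nd (.lf 0x2) (.lf 0x1f)) (.nd (.lf 0x12) (.lf 0x1a)))) (.nd (.nd (.nd (.lf 0x4) (.lf 0xc)) (.nd (.lf 0x11) (.lf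 0x1c))) (.nd (.nd (.lf 0x8) (.lf 0x3)) (.nd (.lf 0xd) (.lf 0xf))))) (.nd (.nd (.nd (.nd (.lf 0xb) (.lf 0xa)) (.nd (.lf 0x19) (.lf 0x9))) (.nd (.nd (.lf 0x1b) (.lf 0x13)) (.nd (.lf 0xe) (.lf 0x17)))) (.nd (.nd (.nd (.lf 0x16) (.lf 0x15)) (.nd (.lf 0x1) (.lf 0x5))) (.nd (.nd (.lf 0x18) (.lf 0x1d)) (.nd (.lf 0x1e) (.lf 0x14))))))) (.nd (.nd (.nd (.nd (.nd (.nd (.lf 0x8) (.lf 0x2)) (.nd (.lf 0x1) (.lf 0xd))) (.nd (.nd (.lf 0x0) (.lf 0x1d)) (.nd (.lf 0x19) (.lf 0x14)))) (.nd (.nd (.nd (.lf 0xb) (.lf 0x5)) (.nd (.lf 0x18) (.lf 0x1e))) (.nd (.nd (.lf 0x10) (.lf 0xa)) (.nd (.lf 0x7) (.lf 0x17))))) (.nd (.nd (.nd (.nd (.lf 0x4) (.lf 0x3)) (.nd (.lf 0x12) (.lf 0x13))) (.nd (.nd (.lf 0x15) (.lf 0x9)) (.nd (.lf 0x16) (.lf 0xf)))) (.nd (.nd (.nd (.lf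 0xe) (.lf 0x1b)) (.nd (.lf 0x6) (.lf 0xc))) (.nd (.nd (.lf 0x11) (.lf 0x1f)) (.nd (.lf 0x1c) (.lf 0x1a)))))) (.nd (.nd (.nd (.nd (.nd (.lf 0x18) (.lf 0x7)) (.nd (.lf 0xd) (.lf 0x1))) (.nd (.nd (.lf 0xa) (.lf 0x19)) (.nd (.lf 0x1d) (.lf 0xc)))) (.nd (.nd (.nd (.lf 0x11) (.lf 0x17)) (.nd (.lf 0x8) (.lf 0x12))) (.nd (.nd (.lf 0xe) (.lf 0x0)) (.nd (.lf 0x2) (.lf 0x5))))) (.nd (.nd (.nd (.nd (.lf 0x16) (.lf 0x6)) (.nd (.lf 0x1e) (.lf 0xf))) (.nd (.nd (.lf 0x1f) (.lf 0x1a)) (.nd (.lf 0x4) (.lf 0x13)))) (.nd (.nd (.nd (.lf 0x10) (.lf 0x1c)) (.nd (.lf 0x3) (.lf 0x14))) (.nd (.nd (.lf 0xb) (.lf 0x15)) (.nd (.lf 0x1b) (.lf 0x9))))))))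
def qTab_naab : Tr := (.nd (.nd (.nd (.nd (.nd (.nd (.nd (.lf 0x4) (.lf 0x6)) (.nd (.lf 0x0) (.lf 0xa))) (.nd (.nd (.lf 0x1) (.lf 0x1c)) (.nd (.lf 0x1b) (.lf 0xf)))) (.nd (.nd (.nd (.lf 0x10) (.lf 0x9)) (.nd (.lf 0x16) (.lf 0x1f))) (.nd (.nd (.lf 0xb) (.lf 0xd)) (.nd (.lf 0x3) (.lf 0x1a))))) (.nd (.nd (.nd (.nd (.lf 0x8) (.lf 0x7)) (.nd (.lf 0x15) (.lf 0xc))) (.nd (.nd (.lf 0x12) (.lf 0x5)) (.nd (.lf 0x18) (.lf 0x14)))) (.nd (.nd (.nd (.lf 0x11) (.lf 0x19)) (.nd (.lf 0x2) (.lf 0x13))) (.nd (.nd (.lf 0xe) (.lf 0x1e)) (.nd (.lf 0x1d) (.lf 0x17)))))) (.nd (.nd (.nd (.nd (.nd (.lf 0x14) (.lf 0x1f)) (.nd (.lf 0x1d) (.lf 0x1b))) (.nd (.nd (.lf 0x1c) (.lf 0x1)) (.nd (.lf 0xa) (.lf 0x8)))) (.nd (.nd (.nd (.lf 0x1a) (.lf 0x11)) (.nd (.lf 0x13)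 (.lf 0x6))) (.nd (.nd (.lf 0x17) (.lf 0x19)) (.nd (.lf 0x12) (.lf 0x10))))) (.nd (.nd (.nd (.nd (.lf 0xf) (.lf 0x15)) (.nd (.lf 0x7) (.lf 0x18))) (.nd (.nd (.lf 0x3) (.lf 0xe)) (.nd (.lf 0xc) (.lf 0x4)))) (.nd (.nd (.nd (.lf 0x9) (.lf 0xd)) (.nd (.lf 0x1e) (.lf 0x16))) (.nd (.nd (.lf 0x5) (.lf 0x2)) (.nd (.lf 0x0) (.lf 0xb))))))) (.nd (.nd (.nd (.nd (.nd (.nd (.lf 0xc) (.lf 0x15)) (.nd (.lf 0x19) (.lf 0x1c))) (.nd (.nd (.lf 0x1b) (.lf 0xd)) (.nd (.lf 0x0) (.lf 0x18)))) (.nd (.nd (.nd (.lf 0x9) (.lf 0xb)) (.nd (.lf 0xf) (.lf 0x3))) (.nd (.nd (.lf 0x5) (.lf 0x1d)) (.nd (.lf 0x1e) (.lf 0xe))))) (.nd (.nd (.nd (.nd (.lf 0x13) (.lf 0x1f)) (.nd (.lf 0x2) (.lf 0x8))) (.nd (.nd (.lf 0x6) (.lf 0x10)) (.nd (.lf 0x14) (.lf 0x16)))) (.nd (.nd (.nd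 (.lf 0x1a) (.lf 0x1)) (.nd (.lf 0x12) (.lf 0x4))) (.nd (.nd (.lf 0x17) (.lf 0x7)) (.nd (.lf 0xa) (.lf 0x11)))))) (.nd (.nd (.nd (.nd (.nd (.lf 0x1c) (.lf 0x17)) (.nd (.lf 0x14) (.lf 0x13))) (.nd (.nd (.lf 0xf) (.lf 0x8)) (.nd (.lf 0x16) (.lf 0x0)))) (.nd (.nd (.nd (.lf 0x1f) (.lf 0x7)) (.nd (.lf 0x19) (.lf 0xb))) (.nd (.nd (.lf 0x1e) (.lf 0xc)) (.nd (.lf 0x9) (.lf 0x6))))) (.nd (.nd (.nd (.nd (.lf 0x1d) (.lf 0x5)) (.nd (.lf 0xe) (.lf 0xa))) (.nd (.nd (.lf 0x11) (.lf 0x3)) (.nd (.lf 0x1b) (.lf 0x1)))) (.nd (.nd (.nd (.lf 0x15) (.lf 0x18)) (.nd (.lf 0x1a) (.lf 0xd))) (.nd (.nd (.lf 0x12) (.lf 0x10)) (.nd (.lf 0x4) (.lf 0x2))))))))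
def qTab_naba : Tr := (.nd (.nd (.nd (.nd (.nd (.nd (.nd (.lf 0x2) (.lf 0x8)) (.nd (.lf 0x10) (.lf 0x11))) (.nd (.nd (.lf 0xb) (.lf 0x1a)) (.nd (.lf 0x5) (.lf 0x1e)))) (.nd (.nd (.nd (.lf 0x0) (.lf 0x19)) (.nd (.lf 0x3) (.lf 0x14))) (.nd (.nd (.lf 0x1) (.lf 0xe)) (.nd (.lf 0x16) (.lf 0x1c))))) (.nd (.nd (.nd (.nd (.lf 0x6) (.lf 0x18)) (.nd (.lf 0x13) (.lf 0x12))) (.nd (.nd (.lf 0xc) (.lf 0x1b)) (.nd (.lf 0x7) (.lf 0x1f)))) (.nd (.nd (.nd (.lf 0xa) (.lf 0x9)) (.nd (.lf 0x4) (.lf 0x15))) (.nd (.nd (.lf 0xd) (.lf 0xf)) (.nd (.lf 0x17) (.lf 0x1d)))))) (.nd (.nd (.nd (.nd (.nd (.lf 0x12) (.lf 0x13)) (.nd (.lf 0x9) (.lf 0x1a))) (.nd (.nd (.lf 0x5) (.lf 0xe)) (.nd (.lf 0x10) (.lf 0x7)))) (.nd (.nd (.nd (.lf 0x19) (.lf 0x1)) (.nd (.lf 0x1e) (.lf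 0x16))) (.nd (.nd (.lf 0x1b) (.lf 0x17)) (.nd (.lf 0xf) (.lf 0xd))))) (.nd (.nd (.nd (.nd (.lf 0x15) (.lf 0x14)) (.nd (.lf 0x4) (.lf 0x6))) (.nd (.nd (.lf 0x8) (.lf 0x0)) (.nd (.lf 0x1f) (.lf 0x3)))) (.nd (.nd (.nd (.lf 0x1c) (.lf 0xb)) (.nd (.lf 0xc) (.lf 0x2))) (.nd (.nd (.lf 0x1d) (.lf 0x18)) (.nd (.lf 0x11) (.lf 0xa))))))) (.nd (.nd (.nd (.nd (.nd (.nd (.lf 0xa) (.lf 0xe)) (.nd (.lf 0x18) (.lf 0x8))) (.nd (.nd (.lf 0x16) (.lf 0xc)) (.nd (.lf 0x14) (.lf 0x1b)))) (.nd (.nd (.nd (.lf 0x7) (.lf 0x1e)) (.nd (.lf 0x0) (.lf 0x9))) (.nd (.nd (.lf 0x3) (.lf 0x4)) (.nd (.lf 0x10) (.lf 0x12))))) (.nd (.nd (.nd (.nd (.lf 0xd) (.lf 0xb)) (.nd (.lf 0x1a) (.lf 0x1d))) (.nd (.nd (.lf 0x17) (.lf 0x1f)) (.nd (.lf 0x1) (.lf 0x19)))) (.nd (.nd (.nd (.lf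 0x6) (.lf 0xf)) (.nd (.lf 0x11) (.lf 0x1c))) (.nd (.nd (.lf 0x2) (.lf 0x5)) (.nd (.lf 0x13) (.lf 0x15)))))) (.nd (.nd (.nd (.nd (.nd (.lf 0x1a) (.lf 0x1d)) (.nd (.lf 0x1f) (.lf 0x15))) (.nd (.nd (.lf 0x1e) (.lf 0x6)) (.nd (.lf 0x3) (.lf 0x10)))) (.nd (.nd (.nd (.lf 0x14) (.lf 0x18)) (.nd (.lf 0x9) (.lf 0x1))) (.nd (.nd (.lf 0xf) (.lf 0x12)) (.nd (.lf 0x19) (.lf 0x8))))) (.nd (.nd (.nd (.nd (.lf 0x17) (.lf 0x1b)) (.nd (.lf 0xd) (.lf 0x11))) (.nd (.nd (.lf 0xa) (.lf 0x16)) (.nd (.lf 0x5) (.lf 0xb)))) (.nd (.nd (.nd (.lf 0x13) (.lf 0x7)) (.nd (.lf 0x1c) (.lf 0xe))) (.nd (.nd (.lf 0xc) (.lf 0x0)) (.nd (.lf 0x2) (.lf 0x4))))))))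
def qTab_nabb : Tr := (.nd (.nd (.nd (.nd (.nd (.nd (.nd (.lf 0x6) (.lf 0x4)) (.nd (.lf 0xb) (.lf 0xe))) (.nd (.nd (.lf 0x10) (.lf 0x17)) (.nd (.lf 0x9) (.lf 0x1f)))) (.nd (.nd (.nd (.lf 0x1) (.lf 0x1b)) (.nd (.lf 0x7) (.lf 0xf))) (.nd (.nd (.lf 0x0) (.lf 0x11)) (.nd (.lf 0x18) (.lf 0x1d))))) (.nd (.nd (.nd (.nd (.lf 0x2) (.lf 0x16)) (.nd (.lf 0xc) (.lf 0x15))) (.nd (.nd (.lf 0x13) (.lf 0x19)) (.nd (.lf 0x3) (.lf 0x1e)))) (.nd (.nd (.nd (.lf 0xd) (.lf 0x5)) (.nd (.lf 0x8) (.lf 0x12))) (.nd (.nd (.lf 0xa) (.lf 0x14)) (.nd (.lf 0x1a) (.lf 0x1c)))))) (.nd (.nd (.nd (.nd (.nd (.lf 0x16) (.lf 0x3)) (.nd (.lf 0xa) (.lf 0x0))) (.nd (.nd (.lf 0xd) (.lf 0x1b)) (.nd (.lf 0x1c) (.lf 0x13)))) (.nd (.nd (.nd (.lf 0xe) (.lf 0x1a)) (.nd (.lf 0x4) (.lf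 0x15))) (.nd (.nd (.lf 0x11) (.lf 0x1)) (.nd (.lf 0x6) (.lf 0x9))))) (.nd (.nd (.nd (.nd (.lf 0x18) (.lf 0x2)) (.nd (.lf 0x1f) (.lf 0x14))) (.nd (.nd (.lf 0x1e) (.lf 0x17)) (.nd (.lf 0x8) (.lf 0xc)))) (.nd (.nd (.nd (.lf 0xb) (.lf 0x1d)) (.nd (.lf 0x7) (.lf 0xf))) (.nd (.nd (.lf 0x10) (.lf 0x12)) (.nd (.lf 0x19) (.lf 0x5))))))) (.nd (.nd (.nd (.nd (.nd (.nd (.lf 0xe) (.lf 0xa)) (.nd (.lf 0x3) (.lf 0x2))) (.nd (.nd (.lf 0x7) (.lf 0x15)) (.nd (.lf 0x1e) (.lf 0x9)))) (.nd (.nd (.nd (.lf 0x16) (.lf 0x14)) (.nd (.lf 0xb) (.lf 0x1b))) (.nd (.nd (.lf 0x18) (.lf 0x6)) (.nd (.lf 0x1) (.lf 0x13))))) (.nd (.nd (.nd (.nd (.lf 0x11) (.lf 0x0)) (.nd (.lf 0x1d) (.lf 0x1a))) (.nd (.nd (.lf 0x1c) (.lf 0xf)) (.nd (.lf 0x10) (.lf 0x5)))) (.nd (.nd (.nd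 (.lf 0x4) (.lf 0x1f)) (.nd (.lf 0xd) (.lf 0x17))) (.nd (.nd (.lf 0x8) (.lf 0x19)) (.nd (.lf 0x12) (.lf 0xc)))))) (.nd (.nd (.nd (.nd (.nd (.lf 0x1e) (.lf 0xf)) (.nd (.lf 0x1a) (.lf 0x9))) (.nd (.nd (.lf 0x17) (.lf 0x10)) (.nd (.lf 0xe) (.lf 0x2)))) (.nd (.nd (.nd (.lf 0x1d) (.lf 0xd)) (.nd (.lf 0x12) (.lf 0x4))) (.nd (.nd (.lf 0x1c) (.lf 0x5)) (.nd (.lf 0x13) (.lf 0x1))))) (.nd (.nd (.nd (.nd (.lf 0x1f) (.lf 0xc)) (.nd (.lf 0x16) (.lf 0x3))) (.nd (.nd (.lf 0x18) (.lf 0xa)) (.nd (.lf 0x15) (.lf 0x6)))) (.nd (.nd (.nd (.lf 0x1b) (.lf 0x11)) (.nd (.lf 0x14) (.lf 0x7))) (.nd (.nd (.lf 0x19) (.lf 0x8)) (.nd (.lf 0xb) (.lf 0x0))))))))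
def qTab_nbaa : Tr := (.nd (.nd (.nd (.nd (.nd (.nd (.nd (.lf 0x1) (.lf 0xb)) (.nd (.lf 0x4) (.lf 0x16))) (.nd (.nd (.lf 0x8) (.lf 0xf)) (.nd (.lf 0x13) (.lf 0x1d)))) (.nd (.nd (.nd (.lf 0x6) (.lf 0x15)) (.nd (.lf 0xd) (.lf 0x17))) (.nd (.nd (.lf 0x2) (.lf 0x18)) (.nd (.lf 0x11) (.lf 0x1f))))) (.nd (.nd (.nd (.nd (.lf 0x0) (.lf 0xe)) (.nd (.lf 0x5) (.lf 0x1b))) (.nd (.nd (.lf 0x9) (.lf 0x12)) (.nd (.lf 0xa) (.lf 0x1c)))) (.nd (.nd (.nd (.lf 0x7) (.lf 0xc)) (.nd (.lf 0x10) (.lf 0x19))) (.nd (.nd (.lf 0x3) (.lf 0x1a)) (.nd (.lf 0x14) (.lf 0x1e)))))) (.nd (.nd (.nd (.nd (.nd (.lf 0x11) (.lf 0xd)) (.nd (.lf 0x7) (.lf 0x6))) (.nd (.nd (.lf 0x3) (.lf 0x12)) (.nd (.lf 0x1f) (.lf 0x5)))) (.nd (.nd (.nd (.lf 0x18) (.lf 0xf)) (.nd (.lf 0x10) (.lf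 0x19))) (.nd (.nd (.lf 0x16) (.lf 0x2)) (.nd (.lf 0x0) (.lf 0xc))))) (.nd (.nd (.nd (.nd (.lf 0xe) (.lf 0x1)) (.nd (.lf 0x1c) (.lf 0x17))) (.nd (.nd (.lf 0x1d) (.lf 0x14)) (.nd (.lf 0xb) (.lf 0x9)))) (.nd (.nd (.nd (.lf 0x8) (.lf 0x1e)) (.nd (.lf 0xa) (.lf 0x1a))) (.nd (.nd (.lf 0x4) (.lf 0x1b)) (.nd (.lf 0x15) (.lf 0x13))))))) (.nd (.nd (.nd (.nd (.nd (.nd (.lf 0x9) (.lf 0x19)) (.nd (.lf 0x15) (.lf 0x1f))) (.nd (.nd (.lf 0x12) (.lf 0x3)) (.nd (.lf 0x6) (.lf 0xe)))) (.nd (.nd (.nd (.lf 0xc) (.lf 0x8)) (.nd (.lf 0x1a) (.lf 0xd))) (.nd (.nd (.lf 0x13) (.lf 0x1e)) (.nd (.lf 0x1d) (.lf 0x18))))) (.nd (.nd (.nd (.nd (.lf 0x5) (.lf 0x1c)) (.nd (.lf 0x1) (.lf 0xb))) (.nd (.nd (.lf 0x0) (.lf 0x4)) (.nd (.lf 0x17) (.lf 0x11)))) (.nd (.nd (.nd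 (.lf 0xf) (.lf 0x2)) (.nd (.lf 0x1b) (.lf 0x10))) (.nd (.nd (.lf 0x14) (.lf 0xa)) (.nd (.lf 0x7) (.lf 0x16)))))) (.nd (.nd (.nd (.nd (.nd (.lf 0x19) (.lf 0x9)) (.nd (.lf 0x13) (.lf 0x14))) (.nd (.nd (.lf 0xc) (.lf 0x16)) (.nd (.lf 0x8) (.lf 0xd)))) (.nd (.nd (.nd (.lf 0x12) (.lf 0x6)) (.nd (.lf 0x1c) (.lf 0xe))) (.nd (.nd (.lf 0x15) (.lf 0xf)) (.nd (.lf 0x17) (.lf 0x7))))) (.nd (.nd (.nd (.nd (.lf 0x1b) (.lf 0x1a)) (.nd (.lf 0xb) (.lf 0x1))) (.nd (.nd (.lf 0x10) (.lf 0x2)) (.nd (.lf 0x1d) (.lf 0xa)))) (.nd (.nd (.nd (.lf 0x1e) (.lf 0x4)) (.nd (.lf 0x5) (.lf 0x0))) (.nd (.nd (.lf 0x1f) (.lf 0x11)) (.nd (.lf 0x18) (.lf 0x3))))))))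
def qTab_nbab : Tr := (.nd (.nd (.nd (.nd (.nd (.nd (.nd (.lf 0x5) (.lf 0x1b)) (.nd (.lf 0x12) (.lf 0x1e))) (.nd (.nd (.lf 0x15) (.lf 0x7)) (.nd (.lf 0x2) (.lf 0x11)))) (.nd (.nd (.nd (.lf 0x13) (.lf 0x4)) (.nd (.lf 0x17) (.lf 0xa))) (.nd (.nd (.lf 0xc) (.lf 0x1f)) (.nd (.lf 0x1c) (.lf 0x16))))) (.nd (.nd (.nd (.nd (.lf 0x9) (.lf 0x1d)) (.nd (.lf 0x0) (.lf 0x10))) (.nd (.nd (.lf 0x1) (.lf 0x8)) (.nd (.lf 0x1a) (.lf 0xe)))) (.nd (.nd (.nd (.lf 0x14) (.lf 0x6)) (.nd (.lf 0x19) (.lf 0xb))) (.nd (.nd (.lf 0xf) (.lf 0xd)) (.nd (.lf 0x3) (.lf 0x18)))))) (.nd (.nd (.nd (.nd (.nd (.lf 0x15) (.lf 0xc)) (.nd (.lf 0x5) (.lf 0x17))) (.nd (.nd (.lf 0x9) (.lf 0x11)) (.nd (.lf 0xb) (.lf 0x3)))) (.nd (.nd (.nd (.lf 0x1b) (.lf 0x0)) (.nd (.lf 0x1f) (.lf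 0x18))) (.nd (.nd (.lf 0x19) (.lf 0x1a)) (.nd (.lf 0x14) (.lf 0xa))))) (.nd (.nd (.nd (.nd (.lf 0x12) (.lf 0xf)) (.nd (.lf 0x8) (.lf 0x2))) (.nd (.nd (.lf 0x4) (.lf 0x1)) (.nd (.lf 0x1e) (.lf 0x7)))) (.nd (.nd (.nd (.lf 0x1d) (.lf 0x10)) (.nd (.lf 0x13) (.lf 0x6))) (.nd (.nd (.lf 0x1c) (.lf 0x16)) (.nd (.lf 0xe) (.lf 0xd))))))) (.nd (.nd (.nd (.nd (.nd (.nd (.lf 0xd) (.lf 0x11)) (.nd (.lf 0x16) (.lf 0x4))) (.nd (.nd (.lf 0x18) (.lf 0x13)) (.nd (.lf 0xf) (.lf 0x19)))) (.nd (.nd (.nd (.lf 0x3) (.lf 0x1f)) (.nd (.lf 0x1) (.lf 0x5))) (.nd (.nd (.lf 0x7) (.lf 0x8)) (.nd (.lf 0xb) (.lf 0x15))))) (.nd (.nd (.nd (.nd (.lf 0xa) (.lf 0x10)) (.nd (.lf 0x17) (.lf 0x1c))) (.nd (.nd (.lf 0x1a) (.lf 0x1e)) (.nd (.lf 0x0) (.lf 0x1b)))) (.nd (.nd (.nd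 (.lf 0x2) (.lf 0x14)) (.nd (.lf 0xe) (.lf 0x1d))) (.nd (.nd (.lf 0x6) (.lf 0x9)) (.nd (.lf 0xc) (.lf 0x12)))))) (.nd (.nd (.nd (.nd (.nd (.lf 0x1d) (.lf 0x1a)) (.nd (.lf 0xf) (.lf 0xc))) (.nd (.nd (.lf 0x14) (.lf 0x4)) (.nd (.lf 0x18) (.lf 0x1)))) (.nd (.nd (.nd (.lf 0x1e) (.lf 0x3)) (.nd (.lf 0x1b) (.lf 0x10))) (.nd (.nd (.lf 0x1f) (.lf 0x13)) (.nd (.lf 0x5) (.lf 0x2))))) (.nd (.nd (.nd (.nd (.lf 0x1c) (.lf 0x9)) (.nd (.lf 0x11) (.lf 0xd))) (.nd (.nd (.lf 0xe) (.lf 0x7)) (.nd (.lf 0x19) (.lf 0x0)))) (.nd (.nd (.nd (.lf 0x12) (.lf 0x16)) (.nd (.lf 0x17) (.lf 0xa))) (.nd (.nd (.lf 0x15) (.lf 0xb)) (.nd (.lf 0x8) (.lf 0x6))))))))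
def qTab_nbba : Tr := (.nd (.nd (.nd (.nd (.nd (.nd (.nd (.lf 0x3) (.lf 0x16)) (.nd (.lf 0x11) (.lf 0x10))) (.nd (.nd (.lf 0xe) (.lf 0x5)) (.nd (.lf 0x1a) (.lf 0x15)))) (.nd (.nd (.nd (.lf 0xd) (.lf 0x1c)) (.nd (.lf 0x2) (.lf 0x13))) (.nd (.nd (.lf 0xa) (.lf 0xb)) (.nd (.lf 0x8) (.lf 0x19))))) (.nd (.nd (.nd (.nd (.lf 0x7) (.lf 0x4)) (.nd (.lf 0x14) (.lf 0x1f))) (.nd (.nd (.lf 0xf) (.lf 0x1d)) (.nd (.lf 0x6) (.lf 0x12)))) (.nd (.nd (.nd (.lf 0x1) (.lf 0x17)) (.nd (.lf 0x18) (.lf 0x1e))) (.nd (.nd (.lf 0x0) (.lf 0xc)) (.nd (.lf 0x9) (.lf 0x1b)))))) (.nd (.nd (.nd (.nd (.nd (.lf 0x13) (.lf 0x12)) (.nd (.lf 0x1b) (.lf 0x1d))) (.nd (.nd (.lf 0x19) (.lf 0xa)) (.nd (.lf 0x1) (.lf 0x16)))) (.nd (.nd (.nd (.lf 0x5) (.lf 0x10)) (.nd (.lf 0x14)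 (.lf 0x7))) (.nd (.nd (.lf 0x9) (.lf 0x1c)) (.nd (.lf 0x1f) (.lf 0x11))))) (.nd (.nd (.nd (.nd (.lf 0xc) (.lf 0x1e)) (.nd (.lf 0x6) (.lf 0x4))) (.nd (.nd (.lf 0x2) (.lf 0xb)) (.nd (.lf 0xf) (.lf 0x18)))) (.nd (.nd (.nd (.lf 0x17) (.lf 0x0)) (.nd (.lf 0x15) (.lf 0x8))) (.nd (.nd (.lf 0x1a) (.lf 0x3)) (.nd (.lf 0xd) (.lf 0xe))))))) (.nd (.nd (.nd (.nd (.nd (.nd (.lf 0xb) (.lf 0x1)) (.nd (.lf 0x2) (.lf 0x3))) (.nd (.nd (.lf 0x6) (.lf 0x1e)) (.nd (.lf 0x15) (.lf 0x17)))) (.nd (.nd (.nd (.lf 0x8) (.lf 0x13)) (.nd (.lf 0xe) (.lf 0x1d))) (.nd (.nd (.lf 0x4) (.lf 0x7)) (.nd (.lf 0xa) (.lf 0x14))))) (.nd (.nd (.nd (.nd (.lf 0x10) (.lf 0xd)) (.nd (.lf 0x1b) (.lf 0x5))) (.nd (.nd (.lf 0x19) (.lf 0xc)) (.nd (.lf 0x11) (.lf 0x1a)))) (.nd (.nd (.nd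 (.lf 0x18) (.lf 0x12)) (.nd (.lf 0x0) (.lf 0x9))) (.nd (.nd (.lf 0x16) (.lf 0x1c)) (.nd (.lf 0x1f) (.lf 0xf)))))) (.nd (.nd (.nd (.nd (.nd (.lf 0x1b) (.lf 0x5)) (.nd (.lf 0xc) (.lf 0xf))) (.nd (.nd (.lf 0x13) (.lf 0x18)) (.nd (.lf 0x4) (.lf 0xa)))) (.nd (.nd (.nd (.lf 0x15) (.lf 0x2)) (.nd (.lf 0x1d) (.lf 0x11))) (.nd (.nd (.lf 0x12) (.lf 0x14)) (.nd (.lf 0x1a) (.lf 0x3))))) (.nd (.nd (.nd (.nd (.lf 0x19) (.lf 0x17)) (.nd (.lf 0x10) (.lf 0x0))) (.nd (.nd (.lf 0xb) (.lf 0x6)) (.nd (.lf 0x1c) (.lf 0xd)))) (.nd (.nd (.nd (.lf 0x1f) (.lf 0x8)) (.nd (.lf 0x9) (.lf 0x1))) (.nd (.nd (.lf 0x1e) (.lf 0xe)) (.nd (.lf 0x16) (.lf 0x7))))))))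
def qTab_nbbb : Tr := (.nd (.nd (.nd (.nd (.nd (.nd (.nd (.lf 0x7) (.lf 0x18)) (.nd (.lf 0xe) (.lf 0xb))) (.nd (.nd (.lf 0x11) (.lf 0x9)) (.nd (.lf 0x17) (.lf 0x12)))) (.nd (.nd (.nd (.lf 0xa) (.lf 0x1d)) (.nd (.lf 0x6) (.lf 0xc))) (.nd (.nd (.lf 0xd) (.lf 0x10)) (.nd (.lf 0x4) (.lf 0x1b))))) (.nd (.nd (.nd (.nd (.lf 0x3) (.lf 0x8)) (.nd (.lf 0xf) (.lf 0x1e))) (.nd (.nd (.lf 0x14) (.lf 0x1c)) (.nd (.lf 0x2) (.lf 0x15)))) (.nd (.nd (.nd (.lf 0x0) (.lf 0x1a)) (.nd (.lf 0x16) (.lf 0x1f))) (.nd (.nd (.lf 0x1) (.lf 0x13)) (.nd (.lf 0x5) (.lf 0x19)))))) (.nd (.nd (.nd (.nd (.nd (.lf 0x17) (.lf 0x1c)) (.nd (.lf 0x1e) (.lf 0x12))) (.nd (.nd (.lf 0x1f) (.lf 0x2)) (.nd (.lf 0x7) (.lf 0xb)))) (.nd (.nd (.nd (.lf 0xf) (.lf 0x16)) (.nd (.lf 0x5) (.lf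 0x0))) (.nd (.nd (.lf 0x14) (.lf 0x15)) (.nd (.lf 0x1b) (.lf 0x4))))) (.nd (.nd (.nd (.nd (.lf 0x1a) (.lf 0x19)) (.nd (.lf 0xa) (.lf 0xe))) (.nd (.nd (.lf 0xd) (.lf 0x18)) (.nd (.lf 0x9) (.lf 0x10)))) (.nd (.nd (.nd (.lf 0xc) (.lf 0x3)) (.nd (.lf 0x1d) (.lf 0x11))) (.nd (.nd (.lf 0x13) (.lf 0x1)) (.nd (.lf 0x6) (.lf 0x8))))))) (.nd (.nd (.nd (.nd (.nd (.nd (.lf 0xf) (.lf 0x1e)) (.nd (.lf 0x1c) (.lf 0x19))) (.nd (.nd (.lf 0x1d) (.lf 0x0)) (.nd (.lf 0xd) (.lf 0x4)))) (.nd (.nd (.nd (.lf 0x17) (.lf 0xe)) (.nd (.lf 0xc) (.lf 0x2))) (.nd (.nd (.lf 0x1a) (.lf 0x1b)) (.nd (.lf 0x15) (.lf 0xb))))) (.nd (.nd (.nd (.nd (.lf 0x14) (.lf 0x12)) (.nd (.lf 0x3) (.lf 0x16))) (.nd (.nd (.lf 0x7) (.lf 0x11)) (.nd (.lf 0x13) (.lf 0x8)))) (.nd (.nd (.nd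 (.lf 0x5) (.lf 0xa)) (.nd (.lf 0x1f) (.lf 0x18))) (.nd (.nd (.lf 0x9) (.lf 0x6)) (.nd (.lf 0x1) (.lf 0x10)))))) (.nd (.nd (.nd (.nd (.nd (.lf 0x1f) (.lf 0x14)) (.nd (.lf 0x17) (.lf 0x5))) (.nd (.nd (.lf 0x1a) (.lf 0xb)) (.nd (.lf 0x11) (.lf 0x6)))) (.nd (.nd (.nd (.lf 0x1c) (.lf 0xa)) (.nd (.lf 0x15) (.lf 0x8))) (.nd (.nd (.lf 0x1d) (.lf 0x9)) (.nd (.lf 0xc) (.lf 0x0))))) (.nd (.nd (.nd (.nd (.lf 0x1e) (.lf 0x13)) (.nd (.lf 0x18) (.lf 0x7))) (.nd (.nd (.lf 0x16) (.lf 0xd)) (.nd (.lf 0x12) (.lf 0x2)))) (.nd (.nd (.nd (.lf 0x19) (.lf 0xe)) (.nd (.lf 0xf) (.lf 0x3))) (.nd (.nd (.lf 0x1b) (.lf 0x4)) (.nd (.lf 0x10) (.lf 0x1))))))))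
def qTab : Tr := (.nd (.nd (.nd qTab_naaa qTab_naab) (.nd qTab_naba qTab_nabb)) (.nd (.nd qTab_nbaa qTab_nbab) (.nd qTab_nbba qTab_nbbb)))
def aTab_naaaaa : Tr := (.nd (.nd (.nd (.nd (.nd (.nd (.nd (.lf 0x0) (.lf 0x14)) (.nd (.lf 0x3) (.lf 0x37))) (.nd (.nd (.lf 0x2d) (.lf 0x2)) (.nd (.lf 0xe) (.lf 0x8)))) (.nd (.nd (.nd (.lf 0x3) (.lf 0x4)) (.nd (.lf 0x32) (.lf 0x17))) (.nd (.nd (.lf 0x1c) (.lf 0xe)) (.nd (.lf 0x2a) (.lf 0))))) (.nd (.nd (.nd (.nd (.lf 0xd) (.lf 0x32)) (.nd (.lf 0x18) (.lf 0x11))) (.nd (.nd (.lf 0x18) (.lf 0x26)) (.nd (.lf 0x2e) (.lf 0)))) (.nd (.nd (.nd (.lf 0x12) (.lf 0x17)) (.nd (.lf 0xc) (.lf 0xc))) (.nd (.nd (.lf 0x2e) (.lf 0x3a)) (.nd (.lf 0x20) (.lf 0)))))) (.nd (.nd (.nd (.nd (.nd (.lf 0x2) (.lf 0x35)) (.nd (.lf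 0x29) (.lf 0x36))) (.nd (.nd (.lf 0x2c) (.lf 0x7)) (.nd (.lf 0x37) (.lf 0)))) (.nd (.nd (.nd (.lf 0x23) (.lf 0x28)) (.nd (.lf 0x28) (.lf 0x16))) (.nd (.nd (.lf 0x17) (.lf 0x30)) (.nd (.lf 0x6) (.lf 0))))) (.nd (.nd (.nd (.nd (.lf 0xd) (.lf 0x17)) (.nd (.lf 0x15) (.lf 0x32))) (.nd (.nd (.lf 0x32) (.lf 0x1a)) (.nd (.lf 0xc) (.lf 0)))) (.nd (.nd (.nd (.lf 0x1b) (.lf 0x21)) (.nd (.lf 0x7) (.lf 0x15))) (.nd (.nd (.lf 0x10) (.lf 0xf)) (.nd (.lf 0x2e) (.lf 0))))))) (.nd (.nd (.nd (.nd (.nd (.nd (.lf 0x20) (.lf 0x13)) (.nd (.lf 0x9) (.lf 0x1))) (.nd (.nd (.lf 0x13) (.lf 0x3a)) (.nd (.lf 0x30) (.lf 0)))) (.nd (.nd (.nd (.lf 0x1b) (.lf 0xa)) (.nd (.lf 0x2b) (.lf 0x38))) (.nd (.nd (.lf 0x1b) (.lf 0x38)) (.nd (.lf 0xd) (.lf 0))))) (.nd (.nd (.nd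 (.nd (.lf 0x2f) (.lf 0x27)) (.nd (.lf 0x35) (.lf 0xc))) (.nd (.nd (.lf 0x2) (.lf 0xb)) (.nd (.lf 0x9) (.lf 0)))) (.nd (.nd (.nd (.lf 0x1e) (.lf 0x2d)) (.nd (.lf 0x18) (.lf 0x33))) (.nd (.nd (.lf 0x2) (.lf 0x2e)) (.nd (.lf 0x26) (.lf 0)))))) (.nd (.nd (.nd (.nd (.nd (.lf 0x1d) (.lf 0x18)) (.nd (.lf 0x3a) (.lf 0x17))) (.nd (.nd (.lf 0xb) (.lf 0x37)) (.nd (.lf 0x1f) (.lf 0)))) (.nd (.nd (.nd (.lf 0x2c) (.lf 0x28)) (.nd (.lf 0x27) (.lf 0x25))) (.nd (.nd (.lf 0x35) (.lf 0x2c)) (.nd (.lf 0x20) (.lf 0))))) (.nd (.nd (.nd (.nd (.lf 0x24) (.lf 0x1b)) (.nd (.lf 0x1a) (.lf 0xd))) (.nd (.nd (.lf 0xb) (.lf 0x15)) (.nd (.lf 0x33) (.lf 0)))) (.nd (.nd (.nd (.lf 0x8) (.lf 0x16)) (.nd (.lf 0x7) (.lf 0x33))) (.nd (.nd (.lf 0x4) (.lf 0x0)) (.nd (.lf 0x30)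 (.lf 0))))))))
def aTab_naaaab : Tr := (.nd (.nd (.nd (.nd (.nd (.nd (.nd (.lf 0x10) (.lf 0x34)) (.nd (.lf 0x0) (.lf 0x7))) (.nd (.nd (.lf 0x22) (.lf 0x1a)) (.nd (.lf 0x2d) (.lf 0)))) (.nd (.nd (.nd (.lf 0x2e) (.lf 0x1e)) (.nd (.lf 0x25) (.lf 0x12))) (.nd (.nd (.lf 0x1a) (.lf 0x10)) (.nd (.lf 0x1f) (.lf 0))))) (.nd (.nd (.nd (.nd (.lf 0x1f) (.lf 0x1c)) (.nd (.lf 0x2b) (.lf 0x8))) (.nd (.nd (.lf 0x26) (.lf 0x17)) (.nd (.lf 0x1c) (.lf 0)))) (.nd (.nd (.nd (.lf 0x27) (.lf 0x15)) (.nd (.lf 0x15) (.lf 0x8))) (.nd (.nd (.lf 0x21) (.lf 0x39)) (.nd (.lf 0x12) (.lf 0)))))) (.nd (.nd (.nd (.nd (.nd (.lf 0xe) (.lf 0xf)) (.nd (.lf 0x6) (.lf 0x15))) (.nd (.nd (.lf 0x33) (.lf 0x2c)) (.nd (.lf 0x2a) (.lf 0)))) (.nd (.nd (.nd (.lf 0x33) (.lf 0x1c)) (.nd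 (.lf 0x19) (.lf 0x10))) (.nd (.nd (.lf 0x5) (.lf 0xd)) (.nd (.lf 0xe) (.lf 0))))) (.nd (.nd (.nd (.nd (.lf 0x13) (.lf 0xb)) (.nd (.lf 0x36) (.lf 0xe))) (.nd (.nd (.lf 0xc) (.lf 0x3b)) (.nd (.lf 0x23) (.lf 0)))) (.nd (.nd (.nd (.lf 0x2b) (.lf 0x7)) (.nd (.lf 0x2b) (.lf 0x4))) (.nd (.nd (.lf 0x34) (.lf 0x36)) (.nd (.lf 0x2f) (.lf 0))))))) (.nd (.nd (.nd (.nd (.nd (.nd (.lf 0x30) (.lf 0x29)) (.nd (.lf 0x2e) (.lf 0x34))) (.nd (.nd (.lf 0x2a) (.lf 0x3)) (.nd (.lf 0xa) (.lf 0)))) (.nd (.nd (.nd (.lf 0xd) (.lf 0x15)) (.nd (.lf 0x1) (.lf 0x30))) (.nd (.nd (.lf 0x31) (.lf 0x29)) (.nd (.lf 0x17) (.lf 0))))) (.nd (.nd (.nd (.nd (.lf 0x3b) (.lf 0x24)) (.nd (.lf 0x14) (.lf 0x2b))) (.nd (.nd (.lf 0x21) (.lf 0x4)) (.nd (.lf 0x3a) (.lf 0)))) (.nd (.nd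 (.nd (.lf 0x4) (.lf 0x20)) (.nd (.lf 0x2d) (.lf 0x2a))) (.nd (.nd (.lf 0xa) (.lf 0x9)) (.nd (.lf 0xe) (.lf 0)))))) (.nd (.nd (.nd (.nd (.nd (.lf 0x38) (.lf 0x24)) (.nd (.lf 0x32) (.lf 0x1e))) (.nd (.nd (.lf 0x1a) (.lf 0xe)) (.nd (.lf 0x33) (.lf 0)))) (.nd (.nd (.nd (.lf 0x19) (.lf 0x1a)) (.nd (.lf 0x1c) (.lf 0x18))) (.nd (.nd (.lf 0xc) (.lf 0x0)) (.nd (.lf 0x14) (.lf 0))))) (.nd (.nd (.nd (.nd (.lf 0x4) (.lf 0x27)) (.nd (.lf 0x22) (.lf 0x34))) (.nd (.nd (.lf 0x27) (.lf 0x2b)) (.nd (.lf 0x26) (.lf 0)))) (.nd (.nd (.nd (.lf 0x7) (.lf 0x3a)) (.nd (.lf 0x2) (.lf 0x1f))) (.nd (.nd (.lf 0x38) (.lf 0x12)) (.nd (.lf 0x3) (.lf 0))))))))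
def aTab_naaaba : Tr := (.nd (.nd (.nd (.nd (.nd (.nd (.nd (.lf 0x8) (.lf 0x5)) (.nd (.lf 0x5) (.lf 0x25))) (.nd (.nd (.lf 0x30) (.lf 0x19)) (.nd (.lf 0x31) (.lf 0x4)))) (.nd (.nd (.nd (.lf 0x26) (.lf 0x0)) (.nd (.lf 0x9) (.lf 0x28))) (.nd (.nd (.lf 0x31) (.lf 0x27)) (.nd (.lf 0x1e) (.lf 0))))) (.nd (.nd (.nd (.nd (.lf 0x6) (.lf 0x29)) (.nd (.lf 0x21) (.lf 0x2d))) (.nd (.nd (.lf 0x39) (.lf 0x7)) (.nd (.lf 0x6) (.lf 0)))) (.nd (.nd (.nd (.lf 0x8) (.lf 0x32)) (.nd (.lf 0x3) (.lf 0xd))) (.nd (.nd (.lf 0x14) (.lf 0x38)) (.nd (.lf 0x36) (.lf 0)))))) (.nd (.nd (.nd (.nd (.nd (.lf 0x8) (.lf 0x3a)) (.nd (.lf 0x11) (.lf 0x22))) (.nd (.nd (.lf 0x1e) (.lf 0x14)) (.nd (.lf 0x14) (.lf 0)))) (.nd (.nd (.nd (.lf 0x14) (.lf 0x2)) (.nd (.lf 0x1b) (.lf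 0xf))) (.nd (.nd (.lf 0xe) (.lf 0x32)) (.nd (.lf 0xa) (.lf 0))))) (.nd (.nd (.nd (.nd (.lf 0x15) (.lf 0x19)) (.nd (.lf 0x39) (.lf 0x33))) (.nd (.nd (.lf 0x35) (.lf 0x2e)) (.nd (.lf 0x2f) (.lf 0)))) (.nd (.nd (.nd (.lf 0x16) (.lf 0x2f)) (.nd (.lf 0x34) (.lf 0x3))) (.nd (.nd (.lf 0x11) (.lf 0x23)) (.nd (.lf 0x26) (.lf 0))))))) (.nd (.nd (.nd (.nd (.nd (.nd (.lf 0x28) (.lf 0x8)) (.nd (.lf 0x2a) (.lf 0x1c))) (.nd (.nd (.lf 0x20) (.lf 0x34)) (.nd (.lf 0x19) (.lf 0)))) (.nd (.nd (.nd (.lf 0x3a) (.lf 0x10)) (.nd (.lf 0x16) (.lf 0x25))) (.nd (.nd (.lf 0x32) (.lf 0x1b)) (.nd (.lf 0x5) (.lf 0))))) (.nd (.nd (.nd (.nd (.lf 0x21) (.lf 0x11)) (.nd (.lf 0x10) (.lf 0x36))) (.nd (.nd (.lf 0x5) (.lf 0x2e)) (.nd (.lf 0x38) (.lf 0)))) (.nd (.nd (.nd (.lf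 0x0) (.lf 0x17)) (.nd (.lf 0x2e) (.lf 0x1b))) (.nd (.nd (.lf 0x17) (.lf 0x19)) (.nd (.lf 0x31) (.lf 0)))))) (.nd (.nd (.nd (.nd (.nd (.lf 0x33) (.lf 0x16)) (.nd (.lf 0x23) (.lf 0x1))) (.nd (.nd (.lf 0x2c) (.lf 0x1b)) (.nd (.lf 0x29) (.lf 0)))) (.nd (.nd (.nd (.lf 0x6) (.lf 0x3a)) (.nd (.lf 0x16) (.lf 0x24))) (.nd (.nd (.lf 0x30) (.lf 0x14)) (.nd (.lf 0x0) (.lf 0))))) (.nd (.nd (.nd (.nd (.lf 0x3b) (.lf 0x26)) (.nd (.lf 0x28) (.lf 0x3b))) (.nd (.nd (.lf 0x10) (.lf 0x10)) (.nd (.lf 0x0) (.lf 0)))) (.nd (.nd (.nd (.lf 0x1b) (.lf 0x14)) (.nd (.lf 0x0) (.lf 0x27))) (.nd (.nd (.lf 0x1f) (.lf 0x11)) (.nd (.lf 0x28) (.lf 0))))))))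
def aTab_naaabb : Tr := (.nd (.nd (.nd (.nd (.nd (.nd (.nd (.lf 0x18) (.lf 0x3b)) (.nd (.lf 0x29) (.lf 0x18))) (.nd (.nd (.lf 0x37) (.lf 0x31)) (.nd (.lf 0x1a) (.lf 0)))) (.nd (.nd (.nd (.lf 0x29) (.lf 0x2c)) (.nd (.lf 0x17) (.lf 0x5))) (.nd (.nd (.lf 0x11) (.lf 0x1a)) (.nd (.lf 0x3b) (.lf 0))))) (.nd (.nd (.nd (.nd (.lf 0x28) (.lf 0x7)) (.nd (.lf 0x37) (.lf 0x13))) (.nd (.nd (.lf 0x1) (.lf 0x16)) (.nd (.lf 0xe) (.lf 0)))) (.nd (.nd (.nd (.lf 0x3b) (.lf 0x14)) (.nd (.lf 0x30) (.lf 0x3a))) (.nd (.nd (.lf 0x24) (.lf 0x10)) (.nd (.lf 0xf) (.lf 0)))))) (.nd (.nd (.nd (.nd (.nd (.lf 0x22) (.lf 0x39)) (.nd (.lf 0x18) (.lf 0xa))) (.nd (.nd (.lf 0xa) (.lf 0x17)) (.nd (.lf 0x28) (.lf 0)))) (.nd (.nd (.nd (.lf 0x25) (.lf 0x20)) (.nd (.lf 0x2e)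 (.lf 0x0))) (.nd (.nd (.lf 0x16) (.lf 0x2b)) (.nd (.lf 0x3) (.lf 0))))) (.nd (.nd (.nd (.nd (.lf 0xf) (.lf 0x5)) (.nd (.lf 0x8) (.lf 0x1))) (.nd (.nd (.lf 0x21) (.lf 0x20)) (.nd (.lf 0x30) (.lf 0)))) (.nd (.nd (.nd (.lf 0x39) (.lf 0x2a)) (.nd (.lf 0x1d) (.lf 0x34))) (.nd (.nd (.lf 0xc) (.lf 0x2a)) (.nd (.lf 0x2c) (.lf 0))))))) (.nd (.nd (.nd (.nd (.nd (.nd (.lf 0x38) (.lf 0x30)) (.nd (.lf 0x12) (.lf 0x1e))) (.nd (.nd (.lf 0xe) (.lf 0x27)) (.nd (.lf 0x1f) (.lf 0)))) (.nd (.nd (.nd (.lf 0x1a) (.lf 0x7)) (.nd (.lf 0x24) (.lf 0x1c))) (.nd (.nd (.lf 0x39) (.lf 0xb)) (.nd (.lf 0x25) (.lf 0))))) (.nd (.nd (.nd (.nd (.lf 0x5) (.lf 0x2a)) (.nd (.lf 0x9) (.lf 0x13))) (.nd (.nd (.lf 0x15) (.lf 0x22)) (.nd (.lf 0xd) (.lf 0)))) (.nd (.nd (.nd (.lf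 0x9) (.lf 0x34)) (.nd (.lf 0x0) (.lf 0x24))) (.nd (.nd (.lf 0x31) (.lf 0x32)) (.nd (.lf 0x23) (.lf 0)))))) (.nd (.nd (.nd (.nd (.nd (.lf 0x2) (.lf 0x6)) (.nd (.lf 0x20) (.lf 0x1d))) (.nd (.nd (.lf 0xd) (.lf 0x6)) (.nd (.lf 0x36) (.lf 0)))) (.nd (.nd (.nd (.lf 0x25) (.lf 0x16)) (.nd (.lf 0xa) (.lf 0x27))) (.nd (.nd (.lf 0x20) (.lf 0x13)) (.nd (.lf 0x2f) (.lf 0))))) (.nd (.nd (.nd (.nd (.lf 0x13) (.lf 0x39)) (.nd (.lf 0x2f) (.lf 0x35))) (.nd (.nd (.lf 0x36) (.lf 0x16)) (.nd (.lf 0x6) (.lf 0)))) (.nd (.nd (.nd (.lf 0x17) (.lf 0x31)) (.nd (.lf 0x30) (.lf 0x1a))) (.nd (.nd (.lf 0x17) (.lf 0x32)) (.nd (.lf 0x22) (.lf 0))))))))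
def aTab_naabaa : Tr := (.nd (.nd (.nd (.nd (.nd (.nd (.nd (.lf 0x4) (.lf 0x27)) (.nd (.lf 0x28) (.lf 0x31))) (.nd (.nd (.lf 0x2a) (.lf 0x11)) (.nd (.lf 0x3b) (.lf 0x6)))) (.nd (.nd (.nd (.lf 0x22) (.lf 0x1a)) (.nd (.lf 0x2e) (.lf 0x2b))) (.nd (.nd (.lf 0x1f) (.lf 0x2f)) (.nd (.lf 0x18) (.lf 0))))) (.nd (.nd (.nd (.nd (.lf 0x12) (.lf 0x2c)) (.nd (.lf 0x0) (.lf 0xe))) (.nd (.nd (.lf 0xf) (.lf 0x22)) (.nd (.lf 0x4) (.lf 0)))) (.nd (.nd (.nd (.lf 0xd) (.lf 0x13)) (.nd (.lf 0x2) (.lf 0x1d))) (.nd (.nd (.lf 0xf) (.lf 0x1d)) (.nd (.lf 0x18) (.lf 0)))))) (.nd (.nd (.nd (.nd (.nd (.lf 0xc) (.lf 0xe)) (.nd (.lf 0x1) (.lf 0x26))) (.nd (.nd (.lf 0x1a) (.lf 0x18)) (.nd (.lf 0x36) (.lf 0)))) (.nd (.nd (.nd (.lf 0x27) (.lf 0x3)) (.nd (.lf 0x5) (.lf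 0x12))) (.nd (.nd (.lf 0x36) (.lf 0x35)) (.nd (.lf 0x1f) (.lf 0))))) (.nd (.nd (.nd (.nd (.lf 0x1e) (.lf 0x13)) (.nd (.lf 0x37) (.lf 0x1e))) (.nd (.nd (.lf 0x31) (.lf 0x15)) (.nd (.lf 0xf) (.lf 0)))) (.nd (.nd (.nd (.lf 0x12) (.lf 0x23)) (.nd (.lf 0x5) (.lf 0xc))) (.nd (.nd (.lf 0x15) (.lf 0x3b)) (.nd (.lf 0x2a) (.lf 0))))))) (.nd (.nd (.nd (.nd (.nd (.nd (.lf 0x24) (.lf 0x2d)) (.nd (.lf 0x38) (.lf 0x1f))) (.nd (.nd (.lf 0x2) (.lf 0x2a)) (.nd (.lf 0x3) (.lf 0)))) (.nd (.nd (.nd (.lf 0x1e) (.lf 0x27)) (.nd (.lf 0x2d) (.lf 0x2c))) (.nd (.nd (.lf 0x1e) (.lf 0x1e)) (.nd (.lf 0x12) (.lf 0))))) (.nd (.nd (.nd (.nd (.lf 0x34) (.lf 0x23)) (.nd (.lf 0xd) (.lf 0x9))) (.nd (.nd (.lf 0x1f) (.lf 0x9)) (.nd (.lf 0x36) (.lf 0)))) (.nd (.nd (.nd (.lf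 0x7) (.lf 0x31)) (.nd (.lf 0x6) (.lf 0x2c))) (.nd (.nd (.lf 0x13) (.lf 0x5)) (.nd (.lf 0x22) (.lf 0)))))) (.nd (.nd (.nd (.nd (.nd (.lf 0x2e) (.lf 0x12)) (.nd (.lf 0x37) (.lf 0x13))) (.nd (.nd (.lf 0x1b) (.lf 0x1e)) (.nd (.lf 0x2) (.lf 0)))) (.nd (.nd (.nd (.lf 0x39) (.lf 0x1f)) (.nd (.lf 0x17) (.lf 0x34))) (.nd (.nd (.lf 0x15) (.lf 0x29)) (.nd (.lf 0x1) (.lf 0))))) (.nd (.nd (.nd (.nd (.lf 0x3a) (.lf 0x3)) (.nd (.lf 0x1d) (.lf 0x37))) (.nd (.nd (.lf 0xd) (.lf 0x35)) (.nd (.lf 0x2f) (.lf 0)))) (.nd (.nd (.nd (.lf 0x12) (.lf 0x39)) (.nd (.lf 0x2f) (.lf 0x21))) (.nd (.nd (.lf 0x6) (.lf 0xb)) (.nd (.lf 0x1c) (.lf 0))))))))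
def aTab_naabab : Tr := (.nd (.nd (.nd (.nd (.nd (.nd (.nd (.lf 0x14) (.lf 0x24)) (.nd (.lf 0x1) (.lf 0x14))) (.nd (.nd (.lf 0x26) (.lf 0x2b)) (.nd (.lf 0x2b) (.lf 0)))) (.nd (.nd (.nd (.lf 0x32) (.lf 0xe)) (.nd (.lf 0x12) (.lf 0x7))) (.nd (.nd (.lf 0x22) (.lf 0xc)) (.nd (.lf 0x23) (.lf 0))))) (.nd (.nd (.nd (.nd (.lf 0x23) (.lf 0x1f)) (.nd (.lf 0x39) (.lf 0x24))) (.nd (.nd (.lf 0xb) (.lf 0x39)) (.nd (.lf 0x29) (.lf 0)))) (.nd (.nd (.nd (.lf 0x1d) (.lf 0x19)) (.nd (.lf 0x34) (.lf 0x5))) (.nd (.nd (.lf 0x33) (.lf 0x37)) (.nd (.lf 0xc) (.lf 0)))))) (.nd (.nd (.nd (.nd (.nd (.lf 0x11) (.lf 0x37)) (.nd (.lf 0x36) (.lf 0x19))) (.nd (.nd (.lf 0x35) (.lf 0x2b)) (.nd (.lf 0x1b) (.lf 0)))) (.nd (.nd (.nd (.lf 0x20) (.lf 0x24)) (.nd (.lf 0x10)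 (.lf 0xd))) (.nd (.nd (.lf 0x28) (.lf 0x28)) (.nd (.lf 0x35) (.lf 0))))) (.nd (.nd (.nd (.nd (.lf 0xc) (.lf 0x10)) (.nd (.lf 0x38) (.lf 0x1a))) (.nd (.nd (.lf 0x19) (.lf 0xf)) (.nd (.lf 0x3) (.lf 0)))) (.nd (.nd (.nd (.lf 0x37) (.lf 0x22)) (.nd (.lf 0x28) (.lf 0x3b))) (.nd (.nd (.lf 0xf) (.lf 0x6)) (.nd (.lf 0x33) (.lf 0))))))) (.nd (.nd (.nd (.nd (.nd (.nd (.lf 0x34) (.lf 0x23)) (.nd (.lf 0x24) (.lf 0x33))) (.nd (.nd (.lf 0x2d) (.lf 0x23)) (.nd (.lf 0x3a) (.lf 0)))) (.nd (.nd (.nd (.lf 0x4) (.lf 0x2e)) (.nd (.lf 0x29) (.lf 0x1f))) (.nd (.nd (.lf 0x21) (.lf 0x9)) (.nd (.lf 0x9) (.lf 0))))) (.nd (.nd (.nd (.nd (.lf 0x3) (.lf 0x26)) (.nd (.lf 0x21) (.lf 0x25))) (.nd (.nd (.lf 0x19) (.lf 0x33)) (.nd (.lf 0x3b) (.lf 0)))) (.nd (.nd (.nd (.lf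 0x26) (.lf 0x24)) (.nd (.lf 0x1) (.lf 0x26))) (.nd (.nd (.lf 0x35) (.lf 0xc)) (.nd (.lf 0x11) (.lf 0)))))) (.nd (.nd (.nd (.nd (.nd (.lf 0x34) (.lf 0x2a)) (.nd (.lf 0x13) (.lf 0x38))) (.nd (.nd (.lf 0x4) (.lf 0x11)) (.nd (.lf 0x38) (.lf 0)))) (.nd (.nd (.nd (.lf 0x13) (.lf 0x12)) (.nd (.lf 0x38) (.lf 0x14))) (.nd (.nd (.lf 0x26) (.lf 0x1)) (.nd (.lf 0x33) (.lf 0))))) (.nd (.nd (.nd (.nd (.lf 0xc) (.lf 0x14)) (.nd (.lf 0x0) (.lf 0x22))) (.nd (.nd (.lf 0x23) (.lf 0x1b)) (.nd (.lf 0xb) (.lf 0)))) (.nd (.nd (.nd (.lf 0x13) (.lf 0xa)) (.nd (.lf 0x3) (.lf 0x1d))) (.nd (.nd (.lf 0x36) (.lf 0x33)) (.nd (.lf 0x1b) (.lf 0))))))))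
def aTab_naabba : Tr := (.nd (.nd (.nd (.nd (.nd (.nd (.nd (.lf 0xc) (.lf 0x30)) (.nd (.lf 0x27) (.lf 0x21))) (.nd (.nd (.lf 0x3b) (.lf 0x15)) (.nd (.lf 0x2a) (.lf 0x2)))) (.nd (.nd (.nd (.lf 0x2a) (.lf 0x1)) (.nd (.lf 0x21) (.lf 0x9))) (.nd (.nd (.lf 0xd) (.lf 0x37)) (.nd (.lf 0x1d) (.lf 0))))) (.nd (.nd (.nd (.nd (.lf 0x1c) (.lf 0x1)) (.nd (.lf 0x25) (.lf 0xa))) (.nd (.nd (.lf 0x37) (.lf 0x2d)) (.nd (.lf 0x21) (.lf 0)))) (.nd (.nd (.nd (.lf 0xa) (.lf 0x21)) (.nd (.lf 0x26) (.lf 0xa))) (.nd (.nd (.lf 0x7) (.lf 0x1c)) (.nd (.lf 0x6) (.lf 0)))))) (.nd (.nd (.nd (.nd (.nd (.lf 0x17) (.lf 0x3b)) (.nd (.lf 0x4) (.lf 0x11))) (.nd (.nd (.lf 0x2f) (.lf 0x19)) (.nd (.lf 0x18) (.lf 0)))) (.nd (.nd (.nd (.lf 0x2f) (.lf 0x2c)) (.nd (.lf 0x1e) (.lf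 0x4))) (.nd (.nd (.lf 0x1b) (.lf 0x1e)) (.nd (.lf 0x2d) (.lf 0))))) (.nd (.nd (.nd (.nd (.lf 0x19) (.lf 0x9)) (.nd (.lf 0x16) (.lf 0x2f))) (.nd (.nd (.lf 0x33) (.lf 0x26)) (.nd (.lf 0x1d) (.lf 0)))) (.nd (.nd (.nd (.lf 0x35) (.lf 0x5)) (.nd (.lf 0x23) (.lf 0x2))) (.nd (.nd (.lf 0x22) (.lf 0x38)) (.nd (.lf 0x4) (.lf 0))))))) (.nd (.nd (.nd (.nd (.nd (.nd (.lf 0x2c) (.lf 0xa)) (.nd (.lf 0x32) (.lf 0xb))) (.nd (.nd (.lf 0xf) (.lf 0x30)) (.nd (.lf 0x8) (.lf 0)))) (.nd (.nd (.nd (.lf 0x5) (.lf 0x35)) (.nd (.lf 0x1c) (.lf 0x2b))) (.nd (.nd (.lf 0x35) (.lf 0x2a)) (.nd (.lf 0x7) (.lf 0))))) (.nd (.nd (.nd (.nd (.lf 0x25) (.lf 0x25)) (.nd (.lf 0x30) (.lf 0x39))) (.nd (.nd (.lf 0x7) (.lf 0x6)) (.nd (.lf 0x1d) (.lf 0)))) (.nd (.nd (.nd (.lf 0x1a)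 (.lf 0x8)) (.nd (.lf 0x9) (.lf 0x2d))) (.nd (.nd (.lf 0x11) (.lf 0xb)) (.nd (.lf 0x30) (.lf 0)))))) (.nd (.nd (.nd (.nd (.nd (.lf 0x36) (.lf 0x20)) (.nd (.lf 0x27) (.lf 0x35))) (.nd (.nd (.lf 0x1d) (.lf 0xb)) (.nd (.lf 0x2c) (.lf 0)))) (.nd (.nd (.nd (.lf 0x9) (.lf 0xa)) (.nd (.lf 0x18) (.lf 0x29))) (.nd (.nd (.lf 0x34) (.lf 0x20)) (.nd (.lf 0x25) (.lf 0))))) (.nd (.nd (.nd (.nd (.lf 0x25) (.lf 0xf)) (.nd (.lf 0x15) (.lf 0x24))) (.nd (.nd (.lf 0x37) (.lf 0xd)) (.nd (.lf 0x22) (.lf 0)))) (.nd (.nd (.nd (.lf 0xb) (.lf 0x3b)) (.nd (.lf 0x18) (.lf 0x23))) (.nd (.nd (.lf 0x16) (.lf 0xe)) (.nd (.lf 0x2) (.lf 0))))))))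
def aTab_naabbb : Tr := (.nd (.nd (.nd (.nd (.nd (.nd (.nd (.lf 0x1c) (.lf 0x3a)) (.nd (.lf 0xb) (.lf 0x3))) (.nd (.nd (.lf 0x9) (.lf 0xa)) (.nd (.lf 0x11) (.lf 0)))) (.nd (.nd (.nd (.lf 0x38) (.lf 0x29)) (.nd (.lf 0x28) (.lf 0x8))) (.nd (.nd (.lf 0x1) (.lf 0x1d)) (.nd (.lf 0x10) (.lf 0))))) (.nd (.nd (.nd (.nd (.lf 0x2b) (.lf 0x3)) (.nd (.lf 0x1b) (.lf 0xf))) (.nd (.nd (.lf 0x20) (.lf 0x28)) (.nd (.lf 0x2d) (.lf 0)))) (.nd (.nd (.nd (.lf 0x3a) (.lf 0x29)) (.nd (.lf 0x10) (.lf 0x38))) (.nd (.nd (.lf 0x20) (.lf 0x32)) (.nd (.lf 0x3b) (.lf 0)))))) (.nd (.nd (.nd (.nd (.nd (.lf 0x1a) (.lf 0x4)) (.nd (.lf 0x14) (.lf 0x2))) (.nd (.nd (.lf 0xe) (.lf 0x31)) (.nd (.lf 0x23) (.lf 0)))) (.nd (.nd (.nd (.lf 0x29) (.lf 0x16)) (.nd (.lf 0x32) (.lf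 0x39))) (.nd (.nd (.lf 0x31) (.lf 0x25)) (.nd (.lf 0x2) (.lf 0))))) (.nd (.nd (.nd (.nd (.lf 0x2d) (.lf 0x1e)) (.nd (.lf 0x1f) (.lf 0x0))) (.nd (.nd (.lf 0x7) (.lf 0x19)) (.nd (.lf 0x2b) (.lf 0)))) (.nd (.nd (.nd (.lf 0x2c) (.lf 0x36)) (.nd (.lf 0x19) (.lf 0x2c))) (.nd (.nd (.lf 0x8) (.lf 0x2d)) (.nd (.lf 0x34) (.lf 0))))))) (.nd (.nd (.nd (.nd (.nd (.nd (.lf 0x1) (.lf 0x15)) (.nd (.lf 0xb) (.lf 0x32))) (.nd (.nd (.lf 0x29) (.lf 0x1)) (.nd (.lf 0x1c) (.lf 0)))) (.nd (.nd (.nd (.lf 0xa) (.lf 0x5)) (.nd (.lf 0x2b) (.lf 0x18))) (.nd (.nd (.lf 0x13) (.lf 0x1c)) (.nd (.lf 0x21) (.lf 0))))) (.nd (.nd (.nd (.nd (.lf 0x12) (.lf 0x3a)) (.nd (.lf 0x2e) (.lf 0x2e))) (.nd (.nd (.lf 0x39) (.lf 0x1d)) (.nd (.lf 0x27) (.lf 0)))) (.nd (.nd (.nd (.lf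 0xb) (.lf 0x25)) (.nd (.lf 0x2f) (.lf 0x20))) (.nd (.nd (.lf 0x1f) (.lf 0x37)) (.nd (.lf 0x21) (.lf 0)))))) (.nd (.nd (.nd (.nd (.nd (.lf 0x8) (.lf 0x36)) (.nd (.lf 0x1c) (.lf 0x2f))) (.nd (.nd (.lf 0x10) (.lf 0x0)) (.nd (.lf 0x22) (.lf 0)))) (.nd (.nd (.nd (.lf 0x16) (.lf 0x39)) (.nd (.lf 0x8) (.lf 0xf))) (.nd (.nd (.lf 0x24) (.lf 0x31)) (.nd (.lf 0xf) (.lf 0))))) (.nd (.nd (.nd (.nd (.lf 0x19) (.lf 0x6)) (.nd (.lf 0x1d) (.lf 0x31))) (.nd (.nd (.lf 0x3a) (.lf 0x12)) (.nd (.lf 0x2d) (.lf 0)))) (.nd (.nd (.nd (.lf 0x31) (.lf 0x35)) (.nd (.lf 0x11) (.lf 0x16))) (.nd (.nd (.lf 0x11) (.lf 0x10)) (.nd (.lf 0x2f) (.lf 0))))))))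
def aTab_nabaaa : Tr := (.nd (.nd (.nd (.nd (.nd (.nd (.nd (.lf 0x2) (.lf 0x18)) (.nd (.lf 0x2) (.lf 0x1a))) (.nd (.nd (.lf 0x4) (.lf 0x1e)) (.nd (.lf 0xb) (.lf 0x15)))) (.nd (.nd (.nd (.lf 0x20) (.lf 0x3b)) (.nd (.lf 0x6) (.lf 0x4))) (.nd (.nd (.lf 0xe) (.lf 0xa)) (.nd (.lf 0x14) (.lf 0))))) (.nd (.nd (.nd (.nd (.lf 0x10) (.lf 0x9)) (.nd (.lf 0xa) (.lf 0x29))) (.nd (.nd (.lf 0x15) (.lf 0x27)) (.nd (.lf 0x17) (.lf 0)))) (.nd (.nd (.nd (.lf 0x2e) (.lf 0x3)) (.nd (.lf 0x32) (.lf 0x13))) (.nd (.nd (.lf 0x21) (.lf 0x3b)) (.nd (.lf 0x2a) (.lf 0)))))) (.nd (.nd (.nd (.nd (.nd (.lf 0x3) (.lf 0x7)) (.nd (.lf 0x2c) (.lf 0x1d))) (.nd (.nd (.lf 0x25) (.lf 0x32)) (.nd (.lf 0x29) (.lf 0)))) (.nd (.nd (.nd (.lf 0xf) (.lf 0x36)) (.nd (.lf 0x18) (.lf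 0x1e))) (.nd (.nd (.lf 0x38) (.lf 0x33)) (.nd (.lf 0x18) (.lf 0))))) (.nd (.nd (.nd (.nd (.lf 0x1c) (.lf 0xc)) (.nd (.lf 0x13) (.lf 0x16))) (.nd (.nd (.lf 0x1a) (.lf 0x19)) (.nd (.lf 0x21) (.lf 0)))) (.nd (.nd (.nd (.lf 0x34) (.lf 0x9)) (.nd (.lf 0x16) (.lf 0x18))) (.nd (.nd (.lf 0x1a) (.lf 0xc)) (.nd (.lf 0x32) (.lf 0))))))) (.nd (.nd (.nd (.nd (.nd (.nd (.lf 0x22) (.lf 0x38)) (.nd (.lf 0x19) (.lf 0x2a))) (.nd (.nd (.lf 0x17) (.lf 0x12)) (.nd (.lf 0x34) (.lf 0)))) (.nd (.nd (.nd (.lf 0x23) (.lf 0x1f)) (.nd (.lf 0x2a) (.lf 0x39))) (.nd (.nd (.lf 0x33) (.lf 0x20)) (.nd (.lf 0x38) (.lf 0))))) (.nd (.nd (.nd (.nd (.lf 0x31) (.lf 0x35)) (.nd (.lf 0x26) (.lf 0xb))) (.nd (.nd (.lf 0x2a) (.lf 0x21)) (.nd (.lf 0x1b) (.lf 0)))) (.nd (.nd (.nd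 (.lf 0x35) (.lf 0x2a)) (.nd (.lf 0x21) (.lf 0x2f))) (.nd (.nd (.lf 0x1d) (.lf 0x2a)) (.nd (.lf 0x1) (.lf 0)))))) (.nd (.nd (.nd (.nd (.nd (.lf 0x1f) (.lf 0x2c)) (.nd (.lf 0x21) (.lf 0x18))) (.nd (.nd (.lf 0x9) (.lf 0x16)) (.nd (.lf 0x10) (.lf 0)))) (.nd (.nd (.nd (.lf 0x37) (.lf 0x31)) (.nd (.lf 0x2f) (.lf 0x21))) (.nd (.nd (.lf 0xb) (.lf 0x11)) (.nd (.lf 0x37) (.lf 0))))) (.nd (.nd (.nd (.nd (.lf 0x2f) (.lf 0x2)) (.nd (.lf 0x30) (.lf 0x5))) (.nd (.nd (.lf 0x2e) (.lf 0x2a)) (.nd (.lf 0x7) (.lf 0)))) (.nd (.nd (.nd (.lf 0xe) (.lf 0x12)) (.nd (.lf 0x5) (.lf 0x2d))) (.nd (.nd (.lf 0x32) (.lf 0x17)) (.nd (.lf 0x15) (.lf 0))))))))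
def aTab_nabaab : Tr := (.nd (.nd (.nd (.nd (.nd (.nd (.nd (.lf 0x12) (.lf 0x0)) (.nd (.lf 0x1c) (.lf 0xe))) (.nd (.nd (.lf 0x14) (.lf 0xd)) (.nd (.lf 0x28) (.lf 0)))) (.nd (.nd (.nd (.lf 0xd) (.lf 0x2)) (.nd (.lf 0x34) (.lf 0x1d))) (.nd (.nd (.lf 0x1d) (.lf 0x25)) (.nd (.lf 0x1c) (.lf 0))))) (.nd (.nd (.nd (.nd (.lf 0xc) (.lf 0x3b)) (.nd (.lf 0x11) (.lf 0xd))) (.nd (.nd (.lf 0x2e) (.lf 0x13)) (.nd (.lf 0xa) (.lf 0)))) (.nd (.nd (.nd (.lf 0xe) (.lf 0x0)) (.nd (.lf 0x1b) (.lf 0x7))) (.nd (.nd (.lf 0xd) (.lf 0x27)) (.nd (.lf 0x39) (.lf 0)))))) (.nd (.nd (.nd (.nd (.nd (.lf 0x15) (.lf 0x1)) (.nd (.lf 0x1b) (.lf 0x25))) (.nd (.nd (.lf 0x31) (.lf 0x2d)) (.nd (.lf 0x24) (.lf 0)))) (.nd (.nd (.nd (.lf 0x1e) (.lf 0x4)) (.nd (.lf 0x1d) (.lf 0x11)))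 (.nd (.nd (.lf 0x7) (.lf 0x37)) (.nd (.lf 0x36) (.lf 0))))) (.nd (.nd (.nd (.nd (.lf 0x2c) (.lf 0x29)) (.nd (.lf 0x2f) (.lf 0x27))) (.nd (.nd (.lf 0x14) (.lf 0x3a)) (.nd (.lf 0x27) (.lf 0)))) (.nd (.nd (.nd (.lf 0x20) (.lf 0x26)) (.nd (.lf 0xa) (.lf 0x0))) (.nd (.nd (.lf 0x3) (.lf 0x10)) (.nd (.lf 0x38) (.lf 0))))))) (.nd (.nd (.nd (.nd (.nd (.nd (.lf 0x32) (.lf 0x1c)) (.nd (.lf 0x20) (.lf 0x35))) (.nd (.nd (.lf 0xa) (.lf 0x9)) (.nd (.lf 0x22) (.lf 0)))) (.nd (.nd (.nd (.lf 0x10) (.lf 0x3a)) (.nd (.lf 0x0) (.lf 0x24))) (.nd (.nd (.lf 0xa) (.lf 0x3)) (.nd (.lf 0x0) (.lf 0))))) (.nd (.nd (.nd (.nd (.lf 0x37) (.lf 0x20)) (.nd (.lf 0x6) (.lf 0x28))) (.nd (.nd (.lf 0x38) (.lf 0x8)) (.nd (.lf 0x20) (.lf 0)))) (.nd (.nd (.nd (.lf 0x23) (.lf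 0x3b)) (.nd (.lf 0x26) (.lf 0x1d))) (.nd (.nd (.lf 0x36) (.lf 0xf)) (.nd (.lf 0x5) (.lf 0)))))) (.nd (.nd (.nd (.nd (.nd (.lf 0x30) (.lf 0x18)) (.nd (.lf 0x33) (.lf 0x1b))) (.nd (.nd (.lf 0x2d) (.lf 0x34)) (.nd (.lf 0x19) (.lf 0)))) (.nd (.nd (.nd (.lf 0x15) (.lf 0x38)) (.nd (.lf 0x21) (.lf 0x2f))) (.nd (.nd (.lf 0x33) (.lf 0x8)) (.nd (.lf 0xd) (.lf 0))))) (.nd (.nd (.nd (.nd (.lf 0x9) (.lf 0x23)) (.nd (.lf 0x26) (.lf 0x18))) (.nd (.nd (.lf 0x2) (.lf 0x1a)) (.nd (.lf 0x3b) (.lf 0)))) (.nd (.nd (.nd (.lf 0x28) (.lf 0x6)) (.nd (.lf 0x23) (.lf 0x13))) (.nd (.nd (.lf 0x25) (.lf 0x8)) (.nd (.lf 0x1e) (.lf 0))))))))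
def aTab_nababa : Tr := (.nd (.nd (.nd (.nd (.nd (.nd (.nd (.lf 0xa) (.lf 0x21)) (.nd (.lf 0x31) (.lf 0x19))) (.nd (.nd (.lf 0x36) (.lf 0x2f)) (.nd (.lf 0x12) (.lf 0x3)))) (.nd (.nd (.nd (.lf 0x8) (.lf 0x24)) (.nd (.lf 0xa) (.lf 0x23))) (.nd (.nd (.lf 0x2b) (.lf 0x23)) (.nd (.lf 0x28) (.lf 0))))) (.nd (.nd (.nd (.nd (.lf 0x1a) (.lf 0x26)) (.nd (.lf 0x2c) (.lf 0x21))) (.nd (.nd (.lf 0x34) (.lf 0x19)) (.nd (.lf 0x25) (.lf 0)))) (.nd (.nd (.nd (.lf 0x2a) (.lf 0x20)) (.nd (.lf 0x28) (.lf 0x9))) (.nd (.nd (.lf 0x18) (.lf 0x11)) (.nd (.lf 0x38) (.lf 0)))))) (.nd (.nd (.nd (.nd (.nd (.lf 0x14) (.lf 0x26)) (.nd (.lf 0x2d) (.lf 0x2c))) (.nd (.nd (.lf 0x39) (.lf 0x15)) (.nd (.lf 0x9) (.lf 0)))) (.nd (.nd (.nd (.lf 0x17) (.lf 0xc)) (.nd (.lf 0x36)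 (.lf 0xb))) (.nd (.nd (.lf 0x3) (.lf 0x2e)) (.nd (.lf 0x8) (.lf 0))))) (.nd (.nd (.nd (.nd (.lf 0x9) (.lf 0x23)) (.nd (.lf 0x7) (.lf 0x18))) (.nd (.nd (.lf 0x2f) (.lf 0x37)) (.nd (.lf 0x22) (.lf 0)))) (.nd (.nd (.nd (.lf 0x18) (.lf 0x6)) (.nd (.lf 0xd) (.lf 0x12))) (.nd (.nd (.lf 0xe) (.lf 0x14)) (.nd (.lf 0x17) (.lf 0))))))) (.nd (.nd (.nd (.nd (.nd (.nd (.lf 0x2a) (.lf 0x1b)) (.nd (.lf 0xc) (.lf 0x9))) (.nd (.nd (.lf 0x5) (.lf 0x11)) (.nd (.lf 0x35) (.lf 0)))) (.nd (.nd (.nd (.lf 0x31) (.lf 0xd)) (.nd (.lf 0xb) (.lf 0x21))) (.nd (.nd (.lf 0x18) (.lf 0x5)) (.nd (.lf 0x33) (.lf 0))))) (.nd (.nd (.nd (.nd (.lf 0x2a) (.lf 0x1a)) (.nd (.lf 0x34) (.lf 0x2c))) (.nd (.nd (.lf 0x14) (.lf 0x30)) (.nd (.lf 0x1) (.lf 0)))) (.nd (.nd (.nd (.lf 0x1)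 (.lf 0x1e)) (.nd (.lf 0x32) (.lf 0x32))) (.nd (.nd (.lf 0x39) (.lf 0x24)) (.nd (.lf 0x2f) (.lf 0)))))) (.nd (.nd (.nd (.nd (.nd (.lf 0x28) (.lf 0x24)) (.nd (.lf 0x15) (.lf 0xb))) (.nd (.nd (.lf 0x1) (.lf 0x25)) (.nd (.lf 0x34) (.lf 0)))) (.nd (.nd (.nd (.lf 0xc) (.lf 0x3b)) (.nd (.lf 0x12) (.lf 0x35))) (.nd (.nd (.lf 0x29) (.lf 0x2d)) (.nd (.lf 0x1a) (.lf 0))))) (.nd (.nd (.nd (.nd (.lf 0x21) (.lf 0x2f)) (.nd (.lf 0x1b) (.lf 0x3a))) (.nd (.nd (.lf 0x13) (.lf 0x6)) (.nd (.lf 0x16) (.lf 0)))) (.nd (.nd (.nd (.lf 0x1e) (.lf 0x1c)) (.nd (.lf 0x32) (.lf 0x28))) (.nd (.nd (.lf 0x9) (.lf 0x28)) (.nd (.lf 0x10) (.lf 0))))))))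
def aTab_nababb : Tr := (.nd (.nd (.nd (.nd (.nd (.nd (.nd (.lf 0x1a) (.lf 0x1a)) (.nd (.lf 0x3b) (.lf 0x36))) (.nd (.nd (.lf 0x32) (.lf 0x35)) (.nd (.lf 0x23) (.lf 0)))) (.nd (.nd (.nd (.lf 0x37) (.lf 0x17)) (.nd (.lf 0x3b) (.lf 0xa))) (.nd (.nd (.lf 0xf) (.lf 0x3a)) (.nd (.lf 0xa) (.lf 0))))) (.nd (.nd (.nd (.nd (.lf 0x13) (.lf 0xa)) (.nd (.lf 0xf) (.lf 0x5))) (.nd (.nd (.lf 0x0) (.lf 0x3b)) (.nd (.lf 0x11) (.lf 0)))) (.nd (.nd (.nd (.lf 0x2c) (.lf 0xf)) (.nd (.lf 0xd) (.lf 0x34))) (.nd (.nd (.lf 0x1) (.lf 0x2)) (.nd (.lf 0x1c) (.lf 0)))))) (.nd (.nd (.nd (.nd (.nd (.lf 0x25) (.lf 0x2b)) (.nd (.lf 0x5) (.lf 0x7))) (.nd (.nd (.lf 0x12) (.lf 0x13)) (.nd (.lf 0x2b) (.lf 0)))) (.nd (.nd (.nd (.lf 0x35) (.lf 0x12)) (.nd (.lf 0x3b) (.lf 0x7)))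 (.nd (.nd (.lf 0xd) (.lf 0x15)) (.nd (.lf 0x13) (.lf 0))))) (.nd (.nd (.nd (.nd (.lf 0x27) (.lf 0x1c)) (.nd (.lf 0x2c) (.lf 0xc))) (.nd (.nd (.lf 0x25) (.lf 0x34)) (.nd (.lf 0x8) (.lf 0)))) (.nd (.nd (.nd (.lf 0x29) (.lf 0x17)) (.nd (.lf 0x1e) (.lf 0x30))) (.nd (.nd (.lf 0x35) (.lf 0x35)) (.nd (.lf 0x12) (.lf 0))))))) (.nd (.nd (.nd (.nd (.nd (.nd (.lf 0x3a) (.lf 0x34)) (.nd (.lf 0x1c) (.lf 0x1b))) (.nd (.nd (.lf 0x10) (.lf 0x37)) (.nd (.lf 0x0) (.lf 0)))) (.nd (.nd (.nd (.lf 0x9) (.lf 0x1b)) (.nd (.lf 0x2) (.lf 0x33))) (.nd (.nd (.lf 0x1f) (.lf 0x1f)) (.nd (.lf 0x26) (.lf 0))))) (.nd (.nd (.nd (.nd (.lf 0x7) (.lf 0x2f)) (.nd (.lf 0xb) (.lf 0x31))) (.nd (.nd (.lf 0x11) (.lf 0x2)) (.nd (.lf 0x34) (.lf 0)))) (.nd (.nd (.nd (.lf 0xe) (.lf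 0x1a)) (.nd (.lf 0x36) (.lf 0x1f))) (.nd (.nd (.lf 0x1c) (.lf 0x26)) (.nd (.lf 0x1d) (.lf 0)))))) (.nd (.nd (.nd (.nd (.nd (.lf 0x5) (.lf 0x4)) (.nd (.lf 0x24) (.lf 0x39))) (.nd (.nd (.lf 0x31) (.lf 0x3)) (.nd (.lf 0x16) (.lf 0)))) (.nd (.nd (.nd (.lf 0x7) (.lf 0x23)) (.nd (.lf 0x4) (.lf 0x1b))) (.nd (.nd (.lf 0x36) (.lf 0x9)) (.nd (.lf 0xc) (.lf 0))))) (.nd (.nd (.nd (.nd (.lf 0x17) (.lf 0x10)) (.nd (.lf 0x2) (.lf 0x2d))) (.nd (.nd (.lf 0x30) (.lf 0x1)) (.nd (.lf 0x37) (.lf 0)))) (.nd (.nd (.nd (.lf 0xd) (.lf 0x2e)) (.nd (.lf 0x39) (.lf 0x22))) (.nd (.nd (.lf 0x2d) (.lf 0x2e)) (.nd (.lf 0xf) (.lf 0))))))))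
def aTab_nabbaa : Tr := (.nd (.nd (.nd (.nd (.nd (.nd (.nd (.lf 0x6) (.lf 0x6)) (.nd (.lf 0x2b) (.lf 0x15))) (.nd (.nd (.lf 0x6) (.lf 0x33)) (.nd (.lf 0x1b) (.lf 0x19)))) (.nd (.nd (.nd (.lf 0x24) (.lf 0x31)) (.nd (.lf 0x11) (.lf 0x27))) (.nd (.nd (.lf 0x35) (.lf 0x32)) (.nd (.lf 0x20) (.lf 0))))) (.nd (.nd (.nd (.nd (.lf 0x15) (.lf 0xb)) (.nd (.lf 0x29) (.lf 0x32))) (.nd (.nd (.lf 0x30) (.lf 0x5)) (.nd (.lf 0x13) (.lf 0)))) (.nd (.nd (.nd (.lf 0x33) (.lf 0x2)) (.nd (.lf 0x2b) (.lf 0x19))) (.nd (.nd (.lf 0x19) (.lf 0x1a)) (.nd (.lf 0x14) (.lf 0)))))) (.nd (.nd (.nd (.nd (.nd (.lf 0xf) (.lf 0x22)) (.nd (.lf 0x2b) (.lf 0x1a))) (.nd (.nd (.lf 0x2b) (.lf 0x2e)) (.nd (.lf 0xb) (.lf 0)))) (.nd (.nd (.nd (.lf 0x12) (.lf 0xf)) (.nd (.lf 0xf)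 (.lf 0x1b))) (.nd (.nd (.lf 0x2a) (.lf 0x31)) (.nd (.lf 0x29) (.lf 0))))) (.nd (.nd (.nd (.nd (.lf 0xb) (.lf 0x34)) (.nd (.lf 0x17) (.lf 0x8))) (.nd (.nd (.lf 0x1d) (.lf 0x10)) (.nd (.lf 0x33) (.lf 0)))) (.nd (.nd (.nd (.lf 0x14) (.lf 0x2e)) (.nd (.lf 0x12) (.lf 0x16))) (.nd (.nd (.lf 0x19) (.lf 0x19)) (.nd (.lf 0x2d) (.lf 0))))))) (.nd (.nd (.nd (.nd (.nd (.nd (.lf 0x26) (.lf 0x1e)) (.nd (.lf 0x13) (.lf 0x2d))) (.nd (.nd (.lf 0x3) (.lf 0xe)) (.nd (.lf 0x33) (.lf 0)))) (.nd (.nd (.nd (.lf 0x3b) (.lf 0x30)) (.nd (.lf 0x29) (.lf 0x29))) (.nd (.nd (.lf 0x4) (.lf 0x7)) (.nd (.lf 0x2a) (.lf 0))))) (.nd (.nd (.nd (.nd (.lf 0x2d) (.lf 0xe)) (.nd (.lf 0x22) (.lf 0x6))) (.nd (.nd (.lf 0x18) (.lf 0x31)) (.nd (.lf 0x1e) (.lf 0)))) (.nd (.nd (.nd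 (.lf 0xd) (.lf 0x35)) (.nd (.lf 0x4) (.lf 0x27))) (.nd (.nd (.lf 0x37) (.lf 0x26)) (.nd (.lf 0x0) (.lf 0)))))) (.nd (.nd (.nd (.nd (.nd (.lf 0x23) (.lf 0x29)) (.nd (.lf 0x19) (.lf 0x0))) (.nd (.nd (.lf 0x13) (.lf 0x12)) (.nd (.lf 0x30) (.lf 0)))) (.nd (.nd (.nd (.lf 0x36) (.lf 0x1c)) (.nd (.lf 0x20) (.lf 0x30))) (.nd (.nd (.lf 0x6) (.lf 0xe)) (.nd (.lf 0x1d) (.lf 0))))) (.nd (.nd (.nd (.nd (.lf 0x33) (.lf 0x11)) (.nd (.lf 0x2b) (.lf 0x25))) (.nd (.nd (.lf 0x32) (.lf 0x29)) (.nd (.lf 0x1f) (.lf 0)))) (.nd (.nd (.nd (.lf 0x16) (.lf 0xb)) (.nd (.lf 0x33) (.lf 0x2b))) (.nd (.nd (.lf 0x2e) (.lf 0x2b)) (.nd (.lf 0x35) (.lf 0))))))))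
def aTab_nabbab : Tr := (.nd (.nd (.nd (.nd (.nd (.nd (.nd (.lf 0x16) (.lf 0xb)) (.nd (.lf 0x30) (.lf 0x38))) (.nd (.nd (.lf 0x39) (.lf 0x1f)) (.nd (.lf 0x2c) (.lf 0)))) (.nd (.nd (.nd (.lf 0x10) (.lf 0x13)) (.nd (.lf 0x24) (.lf 0x1a))) (.nd (.nd (.lf 0x26) (.lf 0x3b)) (.nd (.lf 0x29) (.lf 0))))) (.nd (.nd (.nd (.nd (.lf 0x26) (.lf 0x3a)) (.nd (.lf 0xc) (.lf 0x12))) (.nd (.nd (.lf 0x13) (.lf 0x37)) (.nd (.lf 0x2c) (.lf 0)))) (.nd (.nd (.nd (.lf 0x29) (.lf 0x18)) (.nd (.lf 0x1e) (.lf 0x3))) (.nd (.nd (.lf 0x0) (.lf 0xa)) (.nd (.lf 0x37) (.lf 0)))))) (.nd (.nd (.nd (.nd (.nd (.lf 0x20) (.lf 0x28)) (.nd (.lf 0x35) (.lf 0x21))) (.nd (.nd (.lf 0x30) (.lf 0x28)) (.nd (.lf 0x1d) (.lf 0)))) (.nd (.nd (.nd (.lf 0x32) (.lf 0x6)) (.nd (.lf 0x3a)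 (.lf 0x1))) (.nd (.nd (.lf 0x0) (.lf 0x39)) (.nd (.lf 0x17) (.lf 0))))) (.nd (.nd (.nd (.nd (.lf 0x23) (.lf 0x1)) (.nd (.lf 0x33) (.lf 0xf))) (.nd (.nd (.lf 0x15) (.lf 0x38)) (.nd (.lf 0x2) (.lf 0)))) (.nd (.nd (.nd (.lf 0x24) (.lf 0x15)) (.nd (.lf 0x1a) (.lf 0x38))) (.nd (.nd (.lf 0x2) (.lf 0x5)) (.nd (.lf 0x9) (.lf 0))))))) (.nd (.nd (.nd (.nd (.nd (.nd (.lf 0x36) (.lf 0x10)) (.nd (.lf 0x25) (.lf 0x2f))) (.nd (.nd (.lf 0x19) (.lf 0x39)) (.nd (.lf 0x2e) (.lf 0)))) (.nd (.nd (.nd (.lf 0x6) (.lf 0x1e)) (.nd (.lf 0x4) (.lf 0x20))) (.nd (.nd (.lf 0x3a) (.lf 0x2)) (.nd (.lf 0x22) (.lf 0))))) (.nd (.nd (.nd (.nd (.lf 0x8) (.lf 0x22)) (.nd (.lf 0x25) (.lf 0x1f))) (.nd (.nd (.lf 0xe) (.lf 0xc)) (.nd (.lf 0x24) (.lf 0)))) (.nd (.nd (.nd (.lf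 0x11) (.lf 0xe)) (.nd (.lf 0x22) (.lf 0xd))) (.nd (.nd (.lf 0x38) (.lf 0x4)) (.nd (.lf 0x27) (.lf 0)))))) (.nd (.nd (.nd (.nd (.nd (.lf 0x3b) (.lf 0x2d)) (.nd (.lf 0x16) (.lf 0x36))) (.nd (.nd (.lf 0x24) (.lf 0x30)) (.nd (.lf 0x12) (.lf 0)))) (.nd (.nd (.nd (.lf 0x22) (.lf 0x36)) (.nd (.lf 0x6) (.lf 0x2b))) (.nd (.nd (.lf 0x38) (.lf 0x17)) (.nd (.lf 0x10) (.lf 0))))) (.nd (.nd (.nd (.nd (.lf 0xf) (.lf 0x30)) (.nd (.lf 0x1) (.lf 0x2a))) (.nd (.nd (.lf 0x3) (.lf 0x0)) (.nd (.lf 0xf) (.lf 0)))) (.nd (.nd (.nd (.lf 0x2b) (.lf 0x0)) (.nd (.lf 0x21) (.lf 0x26))) (.nd (.nd (.lf 0x13) (.lf 0x27)) (.nd (.lf 0xe) (.lf 0))))))))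
def aTab_nabbba : Tr := (.nd (.nd (.nd (.nd (.nd (.nd (.nd (.lf 0xe) (.lf 0x25)) (.nd (.lf 0x1f) (.lf 0x1e))) (.nd (.nd (.lf 0x18) (.lf 0x1d)) (.nd (.lf 0x16) (.lf 0x1)))) (.nd (.nd (.nd (.lf 0x1f) (.lf 0x20)) (.nd (.lf 0x30) (.lf 0x1f))) (.nd (.nd (.lf 0x15) (.lf 0x39)) (.nd (.lf 0x1a) (.lf 0))))) (.nd (.nd (.nd (.nd (.lf 0x1d) (.lf 0x15)) (.nd (.lf 0x2) (.lf 0x10))) (.nd (.nd (.lf 0x22) (.lf 0x36)) (.nd (.lf 0x14) (.lf 0)))) (.nd (.nd (.nd (.lf 0x2d) (.lf 0x1)) (.nd (.lf 0x5) (.lf 0xb))) (.nd (.nd (.lf 0x5) (.lf 0x23)) (.nd (.lf 0x2c) (.lf 0)))))) (.nd (.nd (.nd (.nd (.nd (.lf 0x19) (.lf 0x3)) (.nd (.lf 0x2a) (.lf 0x1c))) (.nd (.nd (.lf 0x37) (.lf 0xc)) (.nd (.lf 0x2d) (.lf 0)))) (.nd (.nd (.nd (.lf 0x1b) (.lf 0x8)) (.nd (.lf 0x38)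 (.lf 0xe))) (.nd (.nd (.lf 0x1e) (.lf 0x26)) (.nd (.lf 0x2a) (.lf 0))))) (.nd (.nd (.nd (.nd (.lf 0x28) (.lf 0x2c)) (.nd (.lf 0x3) (.lf 0x14))) (.nd (.nd (.lf 0x34) (.lf 0x22)) (.nd (.lf 0x11) (.lf 0)))) (.nd (.nd (.nd (.lf 0x1c) (.lf 0x4)) (.nd (.lf 0x8) (.lf 0x6))) (.nd (.nd (.lf 0x1b) (.lf 0x18)) (.nd (.lf 0x36) (.lf 0))))))) (.nd (.nd (.nd (.nd (.nd (.nd (.lf 0x2e) (.lf 0x2c)) (.nd (.lf 0xf) (.lf 0x12))) (.nd (.nd (.lf 0x8) (.lf 0x17)) (.nd (.lf 0x31) (.lf 0)))) (.nd (.nd (.nd (.lf 0x0) (.lf 0x31)) (.nd (.lf 0x1f) (.lf 0x2e))) (.nd (.nd (.lf 0x8) (.lf 0x28)) (.nd (.lf 0x2f) (.lf 0))))) (.nd (.nd (.nd (.nd (.lf 0x3a) (.lf 0x2e)) (.nd (.lf 0x23) (.lf 0x37))) (.nd (.nd (.lf 0x29) (.lf 0xa)) (.nd (.lf 0x7) (.lf 0)))) (.nd (.nd (.nd (.lf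 0x1d) (.lf 0x3a)) (.nd (.lf 0x37) (.lf 0x2e))) (.nd (.nd (.lf 0x16) (.lf 0x20)) (.nd (.lf 0x7) (.lf 0)))))) (.nd (.nd (.nd (.nd (.nd (.lf 0x2b) (.lf 0x13)) (.nd (.lf 0x2e) (.lf 0x3a))) (.nd (.nd (.lf 0x0) (.lf 0x14)) (.nd (.lf 0x5) (.lf 0)))) (.nd (.nd (.nd (.lf 0xb) (.lf 0x34)) (.nd (.lf 0x14) (.lf 0x33))) (.nd (.nd (.lf 0x2c) (.lf 0xa)) (.nd (.lf 0x4) (.lf 0))))) (.nd (.nd (.nd (.nd (.lf 0x39) (.lf 0xc)) (.nd (.lf 0x7) (.lf 0x20))) (.nd (.nd (.lf 0x2d) (.lf 0x4)) (.nd (.lf 0x3a) (.lf 0)))) (.nd (.nd (.nd (.lf 0x1d) (.lf 0x1f)) (.nd (.lf 0x27) (.lf 0x24))) (.nd (.nd (.lf 0x21) (.lf 0x16)) (.nd (.lf 0xd) (.lf 0))))))))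
def aTab_nabbbb : Tr := (.nd (.nd (.nd (.nd (.nd (.nd (.nd (.lf 0x1e) (.lf 0x1d)) (.nd (.lf 0x15) (.lf 0x6))) (.nd (.nd (.lf 0x1) (.lf 0x8)) (.nd (.lf 0xe) (.lf 0)))) (.nd (.nd (.nd (.lf 0x27) (.lf 0x8)) (.nd (.lf 0x3a) (.lf 0x2))) (.nd (.nd (.lf 0x2f) (.lf 0x14)) (.nd (.lf 0x8) (.lf 0))))) (.nd (.nd (.nd (.nd (.lf 0x17) (.lf 0x31)) (.nd (.lf 0x3b) (.lf 0x7))) (.nd (.nd (.lf 0x24) (.lf 0x25)) (.nd (.lf 0x3) (.lf 0)))) (.nd (.nd (.nd (.lf 0x1b) (.lf 0x2b)) (.nd (.lf 0x27) (.lf 0x36))) (.nd (.nd (.lf 0x27) (.lf 0x2d)) (.nd (.lf 0x28) (.lf 0)))))) (.nd (.nd (.nd (.nd (.nd (.lf 0x1c) (.lf 0x25)) (.nd (.lf 0x7) (.lf 0x14))) (.nd (.nd (.lf 0x11) (.lf 0x20)) (.nd (.lf 0x27) (.lf 0)))) (.nd (.nd (.nd (.lf 0x31) (.lf 0x17)) (.nd (.lf 0x23) (.lf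 0x3b))) (.nd (.nd (.lf 0x10) (.lf 0xc)) (.nd (.lf 0x3a) (.lf 0))))) (.nd (.nd (.nd (.nd (.lf 0x14) (.lf 0x1f)) (.nd (.lf 0x34) (.lf 0x10))) (.nd (.nd (.lf 0x24) (.lf 0x30)) (.nd (.lf 0x5) (.lf 0)))) (.nd (.nd (.nd (.lf 0x38) (.lf 0x38)) (.nd (.lf 0x22) (.lf 0x29))) (.nd (.nd (.lf 0x2b) (.lf 0x31)) (.nd (.lf 0x19) (.lf 0))))))) (.nd (.nd (.nd (.nd (.nd (.nd (.lf 0x4) (.lf 0x19)) (.nd (.lf 0x9) (.lf 0x28))) (.nd (.nd (.lf 0x21) (.lf 0x10)) (.nd (.lf 0x1) (.lf 0)))) (.nd (.nd (.nd (.lf 0xc) (.lf 0x37)) (.nd (.lf 0x3) (.lf 0x22))) (.nd (.nd (.lf 0x1c) (.lf 0x16)) (.nd (.lf 0x4) (.lf 0))))) (.nd (.nd (.nd (.nd (.lf 0x16) (.lf 0xf)) (.nd (.lf 0x1) (.lf 0x35))) (.nd (.nd (.lf 0x22) (.lf 0x3)) (.nd (.lf 0x25) (.lf 0)))) (.nd (.nd (.nd (.lf 0x2f)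 (.lf 0xb)) (.nd (.lf 0x3a) (.lf 0x1c))) (.nd (.nd (.lf 0x28) (.lf 0x39)) (.nd (.lf 0x24) (.lf 0)))))) (.nd (.nd (.nd (.nd (.nd (.lf 0xa) (.lf 0xc)) (.nd (.lf 0x1f) (.lf 0x2c))) (.nd (.nd (.lf 0x35) (.lf 0x23)) (.nd (.lf 0x39) (.lf 0)))) (.nd (.nd (.nd (.lf 0x5) (.lf 0x2f)) (.nd (.lf 0x39) (.lf 0x17))) (.nd (.nd (.lf 0x32) (.lf 0x1e)) (.nd (.lf 0x26) (.lf 0))))) (.nd (.nd (.nd (.nd (.lf 0x16) (.lf 0xd)) (.nd (.lf 0x4) (.lf 0xf))) (.nd (.nd (.lf 0x11) (.lf 0x11)) (.nd (.lf 0x39) (.lf 0)))) (.nd (.nd (.nd (.lf 0x27) (.lf 0x32)) (.nd (.lf 0x9) (.lf 0x11))) (.nd (.nd (.lf 0x1b) (.lf 0xd)) (.nd (.lf 0x33) (.lf 0))))))))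
def aTab_nbaaaa : Tr := (.nd (.nd (.nd (.nd (.nd (.nd (.nd (.lf 0x1) (.lf 0x32)) (.nd (.lf 0x1d) (.lf 0x35))) (.nd (.nd (.lf 0x20) (.lf 0xe)) (.nd (.lf 0xa) (.lf 0xe)))) (.nd (.nd (.nd (.lf 0x12) (.lf 0x21)) (.nd (.lf 0x23) (.lf 0xc))) (.nd (.nd (.lf 0x2c) (.lf 0x3)) (.nd (.lf 0x17) (.lf 0))))) (.nd (.nd (.nd (.nd (.lf 0xe) (.lf 0xf)) (.nd (.lf 0x1) (.lf 0x27))) (.nd (.nd (.lf 0xc) (.lf 0xc)) (.nd (.lf 0x37) (.lf 0)))) (.nd (.nd (.nd (.lf 0x20) (.lf 0xb)) (.nd (.lf 0x37) (.lf 0x4))) (.nd (.nd (.lf 0x37) (.lf 0x28)) (.nd (.lf 0x24) (.lf 0)))))) (.nd (.nd (.nd (.nd (.nd (.lf 0x9) (.lf 0x11)) (.nd (.lf 0x13) (.lf 0x2b))) (.nd (.nd (.lf 0x38) (.lf 0xd)) (.nd (.lf 0x38) (.lf 0)))) (.nd (.nd (.nd (.lf 0xe) (.lf 0x39)) (.nd (.lf 0x2d) (.lf 0xa)))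 (.nd (.nd (.lf 0x20) (.lf 0x34)) (.nd (.lf 0xc) (.lf 0))))) (.nd (.nd (.nd (.nd (.lf 0x1b) (.lf 0x38)) (.nd (.lf 0x0) (.lf 0x24))) (.nd (.nd (.lf 0x26) (.lf 0x23)) (.nd (.lf 0x15) (.lf 0)))) (.nd (.nd (.nd (.lf 0x33) (.lf 0x14)) (.nd (.lf 0x2) (.lf 0xf))) (.nd (.nd (.lf 0xd) (.lf 0x25)) (.nd (.lf 0x18) (.lf 0))))))) (.nd (.nd (.nd (.nd (.nd (.nd (.lf 0x21) (.lf 0x2a)) (.nd (.lf 0x6) (.lf 0x4))) (.nd (.nd (.lf 0x4) (.lf 0x2d)) (.nd (.lf 0x1b) (.lf 0)))) (.nd (.nd (.nd (.lf 0x2b) (.lf 0x12)) (.nd (.lf 0x1f) (.lf 0x36))) (.nd (.nd (.lf 0x2) (.lf 0x18)) (.nd (.lf 0x30) (.lf 0))))) (.nd (.nd (.nd (.nd (.lf 0x30) (.lf 0xd)) (.nd (.lf 0x3a) (.lf 0x14))) (.nd (.nd (.lf 0x1c) (.lf 0x1f)) (.nd (.lf 0x2) (.lf 0)))) (.nd (.nd (.nd (.lf 0x28) (.lf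 0x1f)) (.nd (.lf 0x14) (.lf 0x39))) (.nd (.nd (.lf 0x23) (.lf 0x21)) (.nd (.lf 0x19) (.lf 0)))))) (.nd (.nd (.nd (.nd (.nd (.lf 0x1e) (.lf 0x21)) (.nd (.lf 0x39) (.lf 0x12))) (.nd (.nd (.lf 0x3) (.lf 0x24)) (.nd (.lf 0x3) (.lf 0)))) (.nd (.nd (.nd (.lf 0x2d) (.lf 0x2b)) (.nd (.lf 0x30) (.lf 0x38))) (.nd (.nd (.lf 0x1f) (.lf 0x1f)) (.nd (.lf 0x3b) (.lf 0))))) (.nd (.nd (.nd (.nd (.lf 0x18) (.lf 0x1d)) (.nd (.lf 0xe) (.lf 0x15))) (.nd (.nd (.lf 0x20) (.lf 0x14)) (.nd (.lf 0x31) (.lf 0)))) (.nd (.nd (.nd (.lf 0xa) (.lf 0x2c)) (.nd (.lf 0xf) (.lf 0x25))) (.nd (.nd (.lf 0x14) (.lf 0x9)) (.nd (.lf 0x23) (.lf 0))))))))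
def aTab_nbaaab : Tr := (.nd (.nd (.nd (.nd (.nd (.nd (.nd (.lf 0x11) (.lf 0x10)) (.nd (.lf 0x10) (.lf 0x1b))) (.nd (.nd (.lf 0x33) (.lf 0x23)) (.nd (.lf 0x36) (.lf 0)))) (.nd (.nd (.nd (.lf 0x2f) (.lf 0x11)) (.nd (.lf 0x39) (.lf 0x1c))) (.nd (.nd (.lf 0x7) (.lf 0xf)) (.nd (.lf 0x11) (.lf 0))))) (.nd (.nd (.nd (.nd (.lf 0xb) (.lf 0x2b)) (.nd (.lf 0x3) (.lf 0x2))) (.nd (.nd (.lf 0x2f) (.lf 0x2c)) (.nd (.lf 0x1f) (.lf 0)))) (.nd (.nd (.nd (.lf 0x1a) (.lf 0x26)) (.nd (.lf 0x7) (.lf 0xe))) (.nd (.nd (.lf 0x2f) (.lf 0x29)) (.nd (.lf 0x29) (.lf 0)))))) (.nd (.nd (.nd (.nd (.nd (.lf 0x16) (.lf 0x2)) (.nd (.lf 0x2) (.lf 0xf))) (.nd (.nd (.lf 0x27) (.lf 0x29)) (.nd (.lf 0x17) (.lf 0)))) (.nd (.nd (.nd (.lf 0x34) (.lf 0xa)) (.nd (.lf 0xd) (.lf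 0x19))) (.nd (.nd (.lf 0x1d) (.lf 0x22)) (.nd (.lf 0x31) (.lf 0))))) (.nd (.nd (.nd (.nd (.lf 0x2b) (.lf 0x12)) (.nd (.lf 0x3b) (.lf 0x1d))) (.nd (.nd (.lf 0xf) (.lf 0x2f)) (.nd (.lf 0x1b) (.lf 0)))) (.nd (.nd (.nd (.lf 0x1f) (.lf 0xd)) (.nd (.lf 0x35) (.lf 0x9))) (.nd (.nd (.lf 0x1e) (.lf 0x34)) (.nd (.lf 0xc) (.lf 0))))))) (.nd (.nd (.nd (.nd (.nd (.nd (.lf 0x31) (.lf 0x2b)) (.nd (.lf 0x37) (.lf 0x30))) (.nd (.nd (.lf 0x14) (.lf 0x13)) (.nd (.lf 0x5) (.lf 0)))) (.nd (.nd (.nd (.lf 0x2) (.lf 0x32)) (.nd (.lf 0xa) (.lf 0x32))) (.nd (.nd (.lf 0x2b) (.lf 0x2b)) (.nd (.lf 0xb) (.lf 0))))) (.nd (.nd (.nd (.nd (.lf 0x38) (.lf 0x37)) (.nd (.lf 0x18) (.lf 0x3b))) (.nd (.nd (.lf 0x2c) (.lf 0x0)) (.nd (.lf 0x39) (.lf 0)))) (.nd (.nd (.nd (.lf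 0x22) (.lf 0x12)) (.nd (.lf 0x39) (.lf 0x2b))) (.nd (.nd (.lf 0x12) (.lf 0x1)) (.nd (.lf 0x1e) (.lf 0)))))) (.nd (.nd (.nd (.nd (.nd (.lf 0x39) (.lf 0x20)) (.nd (.lf 0x26) (.lf 0x34))) (.nd (.nd (.lf 0x28) (.lf 0x1d)) (.nd (.lf 0x7) (.lf 0)))) (.nd (.nd (.nd (.lf 0x1) (.lf 0x30)) (.nd (.lf 0x36) (.lf 0x2d))) (.nd (.nd (.lf 0x22) (.lf 0x6)) (.nd (.lf 0x6) (.lf 0))))) (.nd (.nd (.nd (.nd (.lf 0x6) (.lf 0x19)) (.nd (.lf 0xd) (.lf 0x26))) (.nd (.nd (.lf 0x1a) (.lf 0x1e)) (.nd (.lf 0x2e) (.lf 0)))) (.nd (.nd (.nd (.lf 0x1a) (.lf 0x25)) (.nd (.lf 0x6) (.lf 0x20))) (.nd (.nd (.lf 0x29) (.lf 0x1c)) (.nd (.lf 0x8) (.lf 0))))))))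
def aTab_nbaaba : Tr := (.nd (.nd (.nd (.nd (.nd (.nd (.nd (.lf 0x9) (.lf 0x4)) (.nd (.lf 0x23) (.lf 0x3a))) (.nd (.nd (.lf 0x3a) (.lf 0x5)) (.nd (.lf 0x1e) (.lf 0x9)))) (.nd (.nd (.nd (.lf 0x7) (.lf 0x9)) (.nd (.lf 0xe) (.lf 0x1b))) (.nd (.nd (.lf 0x1e) (.lf 0x26)) (.nd (.lf 0x1b) (.lf 0))))) (.nd (.nd (.nd (.nd (.lf 0x19) (.lf 0x39)) (.nd (.lf 0x4) (.lf 0x2e))) (.nd (.nd (.lf 0x21) (.lf 0xd)) (.nd (.lf 0xc) (.lf 0)))) (.nd (.nd (.nd (.lf 0x1c) (.lf 0x25)) (.nd (.lf 0x11) (.lf 0x15))) (.nd (.nd (.lf 0x22) (.lf 0x1f)) (.nd (.lf 0x21) (.lf 0)))))) (.nd (.nd (.nd (.nd (.nd (.lf 0x13) (.lf 0x1b)) (.nd (.lf 0x28) (.lf 0x37))) (.nd (.nd (.lf 0x28) (.lf 0x6)) (.nd (.lf 0x25) (.lf 0)))) (.nd (.nd (.nd (.lf 0x16) (.lf 0x1)) (.nd (.lf 0x31) (.lf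 0x6))) (.nd (.nd (.lf 0x11) (.lf 0x3a)) (.nd (.lf 0x2b) (.lf 0))))) (.nd (.nd (.nd (.nd (.lf 0x1d) (.lf 0x30)) (.nd (.lf 0x26) (.lf 0x26))) (.nd (.nd (.lf 0x3a) (.lf 0x32)) (.nd (.lf 0x32) (.lf 0)))) (.nd (.nd (.nd (.lf 0x17) (.lf 0x32)) (.nd (.lf 0x27) (.lf 0x7))) (.nd (.nd (.lf 0x7) (.lf 0x15)) (.nd (.lf 0x6) (.lf 0))))))) (.nd (.nd (.nd (.nd (.nd (.nd (.lf 0x29) (.lf 0x16)) (.nd (.lf 0x17) (.lf 0xa))) (.nd (.nd (.lf 0xc) (.lf 0x36)) (.nd (.lf 0x2f) (.lf 0)))) (.nd (.nd (.nd (.lf 0x34) (.lf 0x33)) (.nd (.lf 0x12) (.lf 0x2d))) (.nd (.nd (.lf 0x6) (.lf 0xe)) (.nd (.lf 0x15) (.lf 0))))) (.nd (.nd (.nd (.nd (.lf 0x32) (.lf 0x1b)) (.nd (.lf 0x1a) (.lf 0x38))) (.nd (.nd (.lf 0xa) (.lf 0x35)) (.nd (.lf 0x17) (.lf 0)))) (.nd (.nd (.nd (.lf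 0x15) (.lf 0xa)) (.nd (.lf 0xc) (.lf 0x23))) (.nd (.nd (.lf 0x2d) (.lf 0x22)) (.nd (.lf 0x34) (.lf 0)))))) (.nd (.nd (.nd (.nd (.nd (.lf 0x27) (.lf 0xb)) (.nd (.lf 0x34) (.lf 0x4))) (.nd (.nd (.lf 0x17) (.lf 0x3a)) (.nd (.lf 0x8) (.lf 0)))) (.nd (.nd (.nd (.lf 0x4) (.lf 0x29)) (.nd (.lf 0x2a) (.lf 0x2c))) (.nd (.nd (.lf 0x3a) (.lf 0x24)) (.nd (.lf 0x7) (.lf 0))))) (.nd (.nd (.nd (.nd (.lf 0x38) (.lf 0x22)) (.nd (.lf 0x31) (.lf 0x2e))) (.nd (.nd (.lf 0x0) (.lf 0x7)) (.nd (.lf 0x1c) (.lf 0)))) (.nd (.nd (.nd (.lf 0x1c) (.lf 0x9)) (.nd (.lf 0x14) (.lf 0x2e))) (.nd (.nd (.lf 0x12) (.lf 0x2)) (.nd (.lf 0x31) (.lf 0))))))))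
def aTab_nbaabb : Tr := (.nd (.nd (.nd (.nd (.nd (.nd (.nd (.lf 0x19) (.lf 0x35)) (.nd (.lf 0x34) (.lf 0x20))) (.nd (.nd (.lf 0x25) (.lf 0x29)) (.nd (.lf 0x1d) (.lf 0)))) (.nd (.nd (.nd (.lf 0x36) (.lf 0x28)) (.nd (.lf 0x20) (.lf 0x0))) (.nd (.nd (.lf 0x0) (.lf 0x19)) (.nd (.lf 0x2c) (.lf 0))))) (.nd (.nd (.nd (.nd (.lf 0x29) (.lf 0x2)) (.nd (.lf 0x32) (.lf 0x16))) (.nd (.nd (.lf 0x16) (.lf 0x2b)) (.nd (.lf 0x2b) (.lf 0)))) (.nd (.nd (.nd (.lf 0x30) (.lf 0x6)) (.nd (.lf 0x33) (.lf 0x3b))) (.nd (.nd (.lf 0x32) (.lf 0x8)) (.nd (.lf 0x9) (.lf 0)))))) (.nd (.nd (.nd (.nd (.nd (.lf 0x24) (.lf 0x36)) (.nd (.lf 0xc) (.lf 0x3))) (.nd (.nd (.lf 0x8) (.lf 0x1f)) (.nd (.lf 0x11) (.lf 0)))) (.nd (.nd (.nd (.lf 0x2e) (.lf 0x2a)) (.nd (.lf 0x22) (.lf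 0x2))) (.nd (.nd (.lf 0x1) (.lf 0x1d)) (.nd (.lf 0x1e) (.lf 0))))) (.nd (.nd (.nd (.nd (.lf 0x26) (.lf 0x0)) (.nd (.lf 0x1c) (.lf 0x3))) (.nd (.nd (.lf 0x22) (.lf 0x36)) (.nd (.lf 0x28) (.lf 0)))) (.nd (.nd (.nd (.lf 0x3b) (.lf 0x2d)) (.nd (.lf 0x11) (.lf 0x39))) (.nd (.nd (.lf 0x2f) (.lf 0x2c)) (.nd (.lf 0xb) (.lf 0))))))) (.nd (.nd (.nd (.nd (.nd (.nd (.lf 0x39) (.lf 0x1a)) (.nd (.lf 0x16) (.lf 0x27))) (.nd (.nd (.lf 0x15) (.lf 0x2f)) (.nd (.lf 0x12) (.lf 0)))) (.nd (.nd (.nd (.lf 0x8) (.lf 0x26)) (.nd (.lf 0x6) (.lf 0x31))) (.nd (.nd (.lf 0x3b) (.lf 0x13)) (.nd (.lf 0x20) (.lf 0))))) (.nd (.nd (.nd (.nd (.lf 0xe) (.lf 0x3b)) (.nd (.lf 0x24) (.lf 0x1c))) (.nd (.nd (.lf 0x10) (.lf 0xf)) (.nd (.lf 0x23) (.lf 0)))) (.nd (.nd (.nd (.lf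 0xf) (.lf 0x11)) (.nd (.lf 0x13) (.lf 0x17))) (.nd (.nd (.lf 0x1e) (.lf 0x2e)) (.nd (.lf 0x10) (.lf 0)))))) (.nd (.nd (.nd (.nd (.nd (.lf 0x3) (.lf 0x17)) (.nd (.lf 0xb) (.lf 0x33))) (.nd (.nd (.lf 0x23) (.lf 0x1)) (.nd (.lf 0x2a) (.lf 0)))) (.nd (.nd (.nd (.lf 0x26) (.lf 0xe)) (.nd (.lf 0x2c) (.lf 0x28))) (.nd (.nd (.lf 0x14) (.lf 0x16)) (.nd (.lf 0x32) (.lf 0))))) (.nd (.nd (.nd (.nd (.lf 0x14) (.lf 0x34)) (.nd (.lf 0x1a) (.lf 0x2f))) (.nd (.nd (.lf 0x3b) (.lf 0x1f)) (.nd (.lf 0xc) (.lf 0)))) (.nd (.nd (.nd (.lf 0x1) (.lf 0x34)) (.nd (.lf 0x25) (.lf 0xd))) (.nd (.nd (.lf 0x20) (.lf 0x30)) (.nd (.lf 0x26) (.lf 0))))))))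
def aTab_nbabaa : Tr := (.nd (.nd (.nd (.nd (.nd (.nd (.nd (.lf 0x5) (.lf 0x7)) (.nd (.lf 0x8) (.lf 0x1d))) (.nd (.nd (.lf 0x24) (.lf 0x1b)) (.nd (.lf 0x35) (.lf 0xb)))) (.nd (.nd (.nd (.lf 0x5) (.lf 0x3a)) (.nd (.lf 0x27) (.lf 0x1e))) (.nd (.nd (.lf 0x29) (.lf 0x33)) (.nd (.lf 0x21) (.lf 0))))) (.nd (.nd (.nd (.nd (.lf 0x4) (.lf 0x37)) (.nd (.lf 0x8) (.lf 0x23))) (.nd (.nd (.lf 0x19) (.lf 0xf)) (.nd (.lf 0xf) (.lf 0)))) (.nd (.nd (.nd (.lf 0x32) (.lf 0x9)) (.nd (.lf 0xe) (.lf 0x10))) (.nd (.nd (.lf 0xc) (.lf 0x34)) (.nd (.lf 0x17) (.lf 0)))))) (.nd (.nd (.nd (.nd (.nd (.lf 0x5) (.lf 0x5)) (.nd (.lf 0xe) (.lf 0x39))) (.nd (.nd (.lf 0x1b) (.lf 0x4)) (.nd (.lf 0x2c) (.lf 0)))) (.nd (.nd (.nd (.lf 0x11) (.lf 0x0)) (.nd (.lf 0x14) (.lf 0x8)))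 (.nd (.nd (.lf 0x2c) (.lf 0x27)) (.nd (.lf 0x1c) (.lf 0))))) (.nd (.nd (.nd (.nd (.lf 0x1f) (.lf 0x36)) (.nd (.lf 0x22) (.lf 0x12))) (.nd (.nd (.lf 0x3b) (.lf 0x7)) (.nd (.lf 0x19) (.lf 0)))) (.nd (.nd (.nd (.lf 0x13) (.lf 0x33)) (.nd (.lf 0x3) (.lf 0x14))) (.nd (.nd (.lf 0x23) (.lf 0x27)) (.nd (.lf 0x37) (.lf 0))))))) (.nd (.nd (.nd (.nd (.nd (.nd (.lf 0x25) (.lf 0x36)) (.nd (.lf 0x2d) (.lf 0x8))) (.nd (.nd (.lf 0x16) (.lf 0x16)) (.nd (.lf 0x15) (.lf 0)))) (.nd (.nd (.nd (.lf 0x28) (.lf 0x23)) (.nd (.lf 0x36) (.lf 0x3b))) (.nd (.nd (.lf 0x3) (.lf 0x11)) (.nd (.lf 0x36) (.lf 0))))) (.nd (.nd (.nd (.nd (.lf 0x35) (.lf 0x10)) (.nd (.lf 0x1d) (.lf 0x1))) (.nd (.nd (.lf 0x2d) (.lf 0x1c)) (.nd (.lf 0x13) (.lf 0)))) (.nd (.nd (.nd (.lf 0x5)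 (.lf 0x36)) (.nd (.lf 0x24) (.lf 0x1e))) (.nd (.nd (.lf 0x2a) (.lf 0x15)) (.nd (.lf 0x15) (.lf 0)))))) (.nd (.nd (.nd (.nd (.nd (.lf 0x2f) (.lf 0x9)) (.nd (.lf 0x25) (.lf 0x16))) (.nd (.nd (.lf 0x29) (.lf 0x3b)) (.nd (.lf 0xd) (.lf 0)))) (.nd (.nd (.nd (.lf 0x3b) (.lf 0x1e)) (.nd (.lf 0x13) (.lf 0x2e))) (.nd (.nd (.lf 0x9) (.lf 0x1c)) (.nd (.lf 0x5) (.lf 0))))) (.nd (.nd (.nd (.nd (.lf 0x36) (.lf 0x8)) (.nd (.lf 0x11) (.lf 0x39))) (.nd (.nd (.lf 0x1) (.lf 0x2d)) (.nd (.lf 0x35) (.lf 0)))) (.nd (.nd (.nd (.lf 0x3) (.lf 0x18)) (.nd (.lf 0xd) (.lf 0x2a))) (.nd (.nd (.lf 0x18) (.lf 0x13)) (.nd (.lf 0x2b) (.lf 0))))))))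
def aTab_nbabab : Tr := (.nd (.nd (.nd (.nd (.nd (.nd (.nd (.lf 0x15) (.lf 0x1)) (.nd (.lf 0xd) (.lf 0x24))) (.nd (.nd (.lf 0x2f) (.lf 0x28)) (.nd (.lf 0x1f) (.lf 0)))) (.nd (.nd (.nd (.lf 0x33) (.lf 0x3)) (.nd (.lf 0x13) (.lf 0x1))) (.nd (.nd (.lf 0x23) (.lf 0x21)) (.nd (.lf 0x3a) (.lf 0))))) (.nd (.nd (.nd (.nd (.lf 0xf) (.lf 0x28)) (.nd (.lf 0x2e) (.lf 0x17))) (.nd (.nd (.lf 0x9) (.lf 0x20)) (.nd (.lf 0x12) (.lf 0)))) (.nd (.nd (.nd (.lf 0x11) (.lf 0x22)) (.nd (.lf 0x2f) (.lf 0x0))) (.nd (.nd (.lf 0x10) (.lf 0x2c)) (.nd (.lf 0xb) (.lf 0)))))) (.nd (.nd (.nd (.nd (.nd (.lf 0x12) (.lf 0x38)) (.nd (.lf 0x1e) (.lf 0xc))) (.nd (.nd (.lf 0x3a) (.lf 0x36)) (.nd (.lf 0x1e) (.lf 0)))) (.nd (.nd (.nd (.lf 0x21) (.lf 0x2d)) (.nd (.lf 0x1a) (.lf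 0x15))) (.nd (.nd (.lf 0x12) (.lf 0x1a)) (.nd (.lf 0x38) (.lf 0))))) (.nd (.nd (.nd (.nd (.lf 0x22) (.lf 0x7)) (.nd (.lf 0x3a) (.lf 0x23))) (.nd (.nd (.lf 0x6) (.lf 0x24)) (.nd (.lf 0x10) (.lf 0)))) (.nd (.nd (.nd (.lf 0x3a) (.lf 0xf)) (.nd (.lf 0x31) (.lf 0x3a))) (.nd (.nd (.lf 0x33) (.lf 0xd)) (.nd (.lf 0xf) (.lf 0))))))) (.nd (.nd (.nd (.nd (.nd (.nd (.lf 0x35) (.lf 0x27)) (.nd (.lf 0x18) (.lf 0x3a))) (.nd (.nd (.lf 0x18) (.lf 0x33)) (.nd (.lf 0x26) (.lf 0)))) (.nd (.nd (.nd (.lf 0x15) (.lf 0x3b)) (.nd (.lf 0x20) (.lf 0x35))) (.nd (.nd (.lf 0x37) (.lf 0x17)) (.nd (.lf 0x1) (.lf 0))))) (.nd (.nd (.nd (.nd (.lf 0x2) (.lf 0x18)) (.nd (.lf 0xc) (.lf 0x17))) (.nd (.nd (.lf 0xd) (.lf 0x26)) (.nd (.lf 0x37) (.lf 0)))) (.nd (.nd (.nd (.lf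 0x27) (.lf 0x16)) (.nd (.lf 0x17) (.lf 0x1a))) (.nd (.nd (.lf 0x1b) (.lf 0x14)) (.nd (.lf 0x1b) (.lf 0)))))) (.nd (.nd (.nd (.nd (.nd (.lf 0x35) (.lf 0x21)) (.nd (.lf 0x17) (.lf 0x28))) (.nd (.nd (.lf 0x2a) (.lf 0x1a)) (.nd (.lf 0x2d) (.lf 0)))) (.nd (.nd (.nd (.lf 0x21) (.lf 0x11)) (.nd (.lf 0x25) (.lf 0x2a))) (.nd (.nd (.lf 0x2f) (.lf 0x4)) (.nd (.lf 0x2e) (.lf 0))))) (.nd (.nd (.nd (.nd (.lf 0x1) (.lf 0x37)) (.nd (.lf 0xf) (.lf 0x14))) (.nd (.nd (.lf 0x1d) (.lf 0x1d)) (.nd (.lf 0x4) (.lf 0)))) (.nd (.nd (.nd (.lf 0x0) (.lf 0x4)) (.nd (.lf 0x4) (.lf 0x10))) (.nd (.nd (.lf 0x2c) (.lf 0x2f)) (.nd (.lf 0x1d) (.lf 0))))))))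
def aTab_nbabba : Tr := (.nd (.nd (.nd (.nd (.nd (.nd (.nd (.lf 0xd) (.lf 0xd)) (.nd (.lf 0x35) (.lf 0x3b))) (.nd (.nd (.lf 0x38) (.lf 0x7)) (.nd (.lf 0x38) (.lf 0x5)))) (.nd (.nd (.nd (.lf 0xa) (.lf 0xb)) (.nd (.lf 0x37) (.lf 0x16))) (.nd (.nd (.lf 0x10) (.lf 0x30)) (.nd (.lf 0x31) (.lf 0))))) (.nd (.nd (.nd (.nd (.lf 0x9) (.lf 0x22)) (.nd (.lf 0x6) (.lf 0x3))) (.nd (.nd (.lf 0x25) (.lf 0x2a)) (.nd (.lf 0x24) (.lf 0)))) (.nd (.nd (.nd (.lf 0x1f) (.lf 0x24)) (.nd (.lf 0x19) (.lf 0x11))) (.nd (.nd (.lf 0x6) (.lf 0xe)) (.nd (.lf 0x16) (.lf 0)))))) (.nd (.nd (.nd (.nd (.nd (.lf 0x18) (.lf 0x1e)) (.nd (.lf 0x3) (.lf 0x29))) (.nd (.nd (.lf 0x23) (.lf 0x22)) (.nd (.lf 0x21) (.lf 0)))) (.nd (.nd (.nd (.lf 0x30) (.lf 0x1f)) (.nd (.lf 0x35) (.lf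 0x9))) (.nd (.nd (.lf 0x8) (.lf 0x10)) (.nd (.lf 0x12) (.lf 0))))) (.nd (.nd (.nd (.nd (.lf 0x1a) (.lf 0x16)) (.nd (.lf 0x5) (.lf 0x22))) (.nd (.nd (.lf 0x27) (.lf 0x25)) (.nd (.lf 0x1a) (.lf 0)))) (.nd (.nd (.nd (.lf 0x28) (.lf 0x10)) (.nd (.lf 0x10) (.lf 0x5))) (.nd (.nd (.lf 0x30) (.lf 0x30)) (.nd (.lf 0x13) (.lf 0))))))) (.nd (.nd (.nd (.nd (.nd (.nd (.lf 0x2d) (.lf 0x12)) (.nd (.lf 0x39) (.lf 0x13))) (.nd (.nd (.lf 0x7) (.lf 0x38)) (.nd (.lf 0x7) (.lf 0)))) (.nd (.nd (.nd (.lf 0x7) (.lf 0x1a)) (.nd (.lf 0x13) (.lf 0x34))) (.nd (.nd (.lf 0x28) (.lf 0x2c)) (.nd (.lf 0x19) (.lf 0))))) (.nd (.nd (.nd (.nd (.lf 0x2e) (.lf 0x21)) (.nd (.lf 0x33) (.lf 0x2d))) (.nd (.nd (.lf 0x8) (.lf 0x1)) (.nd (.lf 0x0) (.lf 0)))) (.nd (.nd (.nd (.lf 0x2)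 (.lf 0x1b)) (.nd (.lf 0x2a) (.lf 0x28))) (.nd (.nd (.lf 0x8) (.lf 0x0)) (.nd (.lf 0x33) (.lf 0)))))) (.nd (.nd (.nd (.nd (.nd (.lf 0x37) (.lf 0x2a)) (.nd (.lf 0x30) (.lf 0x31))) (.nd (.nd (.lf 0x2b) (.lf 0x21)) (.nd (.lf 0xa) (.lf 0)))) (.nd (.nd (.nd (.lf 0x14) (.lf 0x1d)) (.nd (.lf 0xb) (.lf 0x31))) (.nd (.nd (.lf 0x3b) (.lf 0x2a)) (.nd (.lf 0x18) (.lf 0))))) (.nd (.nd (.nd (.nd (.lf 0x2e) (.lf 0x32)) (.nd (.lf 0x19) (.lf 0x38))) (.nd (.nd (.lf 0x17) (.lf 0x5)) (.nd (.lf 0x32) (.lf 0)))) (.nd (.nd (.nd (.lf 0x5) (.lf 0x21)) (.nd (.lf 0x2e) (.lf 0x32))) (.nd (.nd (.lf 0xb) (.lf 0x3)) (.nd (.lf 0xa) (.lf 0))))))))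
def aTab_nbabbb : Tr := (.nd (.nd (.nd (.nd (.nd (.nd (.nd (.lf 0x1d) (.lf 0x31)) (.nd (.lf 0x4) (.lf 0x0))) (.nd (.nd (.lf 0xb) (.lf 0x1e)) (.nd (.lf 0x10) (.lf 0)))) (.nd (.nd (.nd (.lf 0x39) (.lf 0x2b)) (.nd (.lf 0x1c) (.lf 0xe))) (.nd (.nd (.lf 0xc) (.lf 0x15)) (.nd (.lf 0x34) (.lf 0))))) (.nd (.nd (.nd (.nd (.lf 0x2c) (.lf 0x8)) (.nd (.lf 0x31) (.lf 0x18))) (.nd (.nd (.lf 0x4) (.lf 0x3a)) (.nd (.lf 0xb) (.lf 0)))) (.nd (.nd (.nd (.lf 0x34) (.lf 0x2c)) (.nd (.lf 0x1a) (.lf 0x35))) (.nd (.nd (.lf 0x2e) (.lf 0x25)) (.nd (.lf 0x1f) (.lf 0)))))) (.nd (.nd (.nd (.nd (.nd (.lf 0x1b) (.lf 0x14)) (.nd (.lf 0xf) (.lf 0x5))) (.nd (.nd (.lf 0x1c) (.lf 0x39)) (.nd (.lf 0x31) (.lf 0)))) (.nd (.nd (.nd (.lf 0x2a) (.lf 0xb)) (.nd (.lf 0x26) (.lf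 0x37))) (.nd (.nd (.lf 0x1c) (.lf 0x19)) (.nd (.lf 0x1b) (.lf 0))))) (.nd (.nd (.nd (.nd (.lf 0x20) (.lf 0x1a)) (.nd (.lf 0x29) (.lf 0x2))) (.nd (.nd (.lf 0x9) (.lf 0x18)) (.nd (.lf 0xa) (.lf 0)))) (.nd (.nd (.nd (.lf 0x2d) (.lf 0x20)) (.nd (.lf 0x15) (.lf 0x35))) (.nd (.nd (.lf 0x31) (.lf 0x29)) (.nd (.lf 0x27) (.lf 0))))))) (.nd (.nd (.nd (.nd (.nd (.nd (.lf 0x0) (.lf 0x33)) (.nd (.lf 0xa) (.lf 0x38))) (.nd (.nd (.lf 0x36) (.lf 0x5)) (.nd (.lf 0x16) (.lf 0)))) (.nd (.nd (.nd (.lf 0xb) (.lf 0x22)) (.nd (.lf 0x2a) (.lf 0x2f))) (.nd (.nd (.lf 0x24) (.lf 0xa)) (.nd (.lf 0x24) (.lf 0))))) (.nd (.nd (.nd (.nd (.lf 0x0) (.lf 0x33)) (.nd (.lf 0x19) (.lf 0x20))) (.nd (.nd (.lf 0x2e) (.lf 0x27)) (.nd (.lf 0x30) (.lf 0)))) (.nd (.nd (.nd (.lf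 0xc) (.lf 0x18)) (.nd (.lf 0x38) (.lf 0x13))) (.nd (.nd (.lf 0x29) (.lf 0x2f)) (.nd (.lf 0x25) (.lf 0)))))) (.nd (.nd (.nd (.nd (.nd (.lf 0x0) (.lf 0x2e)) (.nd (.lf 0x2a) (.lf 0x37))) (.nd (.nd (.lf 0x27) (.lf 0x2)) (.nd (.lf 0x32) (.lf 0)))) (.nd (.nd (.nd (.lf 0x24) (.lf 0x27)) (.nd (.lf 0x29) (.lf 0x6))) (.nd (.nd (.lf 0x18) (.lf 0x35)) (.nd (.lf 0x19) (.lf 0))))) (.nd (.nd (.nd (.nd (.lf 0x2) (.lf 0x25)) (.nd (.lf 0x3) (.lf 0x33))) (.nd (.nd (.lf 0x34) (.lf 0x1c)) (.nd (.lf 0x13) (.lf 0)))) (.nd (.nd (.nd (.lf 0x10) (.lf 0x30)) (.nd (.lf 0x8) (.lf 0xa))) (.nd (.nd (.lf 0xe) (.lf 0x26)) (.nd (.lf 0x19) (.lf 0))))))))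
def aTab_nbbaaa : Tr := (.nd (.nd (.nd (.nd (.nd (.nd (.nd (.lf 0x3) (.lf 0x2e)) (.nd (.lf 0x1a) (.lf 0x39))) (.nd (.nd (.lf 0x15) (.lf 0x3)) (.nd (.lf 0x20) (.lf 0xf)))) (.nd (.nd (.nd (.lf 0x21) (.lf 0x35)) (.nd (.lf 0x18) (.lf 0x13))) (.nd (.nd (.lf 0xa) (.lf 0x8)) (.nd (.lf 0x25) (.lf 0))))) (.nd (.nd (.nd (.nd (.lf 0x11) (.lf 0x16)) (.nd (.lf 0x14) (.lf 0x1c))) (.nd (.nd (.lf 0x14) (.lf 0x2f)) (.nd (.lf 0xb) (.lf 0)))) (.nd (.nd (.nd (.lf 0x2f) (.lf 0x10)) (.nd (.lf 0xf) (.lf 0x1c))) (.nd (.nd (.lf 0x25) (.lf 0x2b)) (.nd (.lf 0x2d) (.lf 0)))))) (.nd (.nd (.nd (.nd (.nd (.lf 0xb) (.lf 0x31)) (.nd (.lf 0x17) (.lf 0x10))) (.nd (.nd (.lf 0x26) (.lf 0x25)) (.nd (.lf 0x39) (.lf 0)))) (.nd (.nd (.nd (.lf 0x26) (.lf 0x2b)) (.nd (.lf 0xc)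 (.lf 0x27))) (.nd (.nd (.lf 0x29) (.lf 0x2f)) (.nd (.lf 0x14) (.lf 0))))) (.nd (.nd (.nd (.nd (.lf 0x10) (.lf 0x4)) (.nd (.lf 0x2a) (.lf 0xa))) (.nd (.nd (.lf 0x1b) (.lf 0x5)) (.nd (.lf 0x14) (.lf 0)))) (.nd (.nd (.nd (.lf 0x1e) (.lf 0x2)) (.nd (.lf 0x2c) (.lf 0x19))) (.nd (.nd (.lf 0x1d) (.lf 0x21)) (.nd (.lf 0x14) (.lf 0))))))) (.nd (.nd (.nd (.nd (.nd (.nd (.lf 0x23) (.lf 0x17)) (.nd (.lf 0x2f) (.lf 0x2c))) (.nd (.nd (.lf 0x6) (.lf 0x3b)) (.nd (.lf 0x1e) (.lf 0)))) (.nd (.nd (.nd (.lf 0x1d) (.lf 0x1c)) (.nd (.lf 0x38) (.lf 0x37))) (.nd (.nd (.lf 0x34) (.lf 0x36)) (.nd (.lf 0x2d) (.lf 0))))) (.nd (.nd (.nd (.nd (.lf 0x33) (.lf 0x30)) (.nd (.lf 0x19) (.lf 0x0))) (.nd (.nd (.lf 0x3) (.lf 0x14)) (.nd (.lf 0x31) (.lf 0)))) (.nd (.nd (.nd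 (.lf 0x31) (.lf 0x1c)) (.nd (.lf 0x25) (.lf 0x37))) (.nd (.nd (.lf 0x3) (.lf 0x16)) (.nd (.lf 0xa) (.lf 0)))))) (.nd (.nd (.nd (.nd (.nd (.lf 0x2d) (.lf 0x1f)) (.nd (.lf 0x3b) (.lf 0x20))) (.nd (.nd (.lf 0x2) (.lf 0xa)) (.nd (.lf 0x1c) (.lf 0)))) (.nd (.nd (.nd (.lf 0x3a) (.lf 0x35)) (.nd (.lf 0x33) (.lf 0x36))) (.nd (.nd (.lf 0x4) (.lf 0x7)) (.nd (.lf 0x24) (.lf 0))))) (.nd (.nd (.nd (.nd (.lf 0x30) (.lf 0xa)) (.nd (.lf 0x23) (.lf 0x7))) (.nd (.nd (.lf 0x2f) (.lf 0x2c)) (.nd (.lf 0x19) (.lf 0)))) (.nd (.nd (.nd (.lf 0x11) (.lf 0x29)) (.nd (.lf 0xc) (.lf 0x2f))) (.nd (.nd (.lf 0x3a) (.lf 0x1)) (.nd (.lf 0x0) (.lf 0))))))))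
def aTab_nbbaab : Tr := (.nd (.nd (.nd (.nd (.nd (.nd (.nd (.lf 0x13) (.lf 0x9)) (.nd (.lf 0x16) (.lf 0x5))) (.nd (.nd (.lf 0xf) (.lf 0x10)) (.nd (.lf 0x1c) (.lf 0)))) (.nd (.nd (.nd (.lf 0xe) (.lf 0x1b)) (.nd (.lf 0x1e) (.lf 0x10))) (.nd (.nd (.lf 0x5) (.lf 0xd)) (.nd (.lf 0xe) (.lf 0))))) (.nd (.nd (.nd (.nd (.lf 0x22) (.lf 0x2f)) (.nd (.lf 0x28) (.lf 0x22))) (.nd (.nd (.lf 0x32) (.lf 0x29)) (.nd (.lf 0x8) (.lf 0)))) (.nd (.nd (.nd (.lf 0x23) (.lf 0x7)) (.nd (.lf 0x31) (.lf 0x1))) (.nd (.nd (.lf 0x25) (.lf 0x2f)) (.nd (.lf 0x2e) (.lf 0)))))) (.nd (.nd (.nd (.nd (.nd (.lf 0x10) (.lf 0xc)) (.nd (.lf 0x31) (.lf 0x2d))) (.nd (.nd (.lf 0x3b) (.lf 0x2a)) (.nd (.lf 0x20) (.lf 0)))) (.nd (.nd (.nd (.lf 0x1f) (.lf 0x14)) (.nd (.lf 0x15) (.lf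 0x1a))) (.nd (.nd (.lf 0x1a) (.lf 0x38)) (.nd (.lf 0x11) (.lf 0))))) (.nd (.nd (.nd (.nd (.lf 0x17) (.lf 0x31)) (.nd (.lf 0xd) (.lf 0x11))) (.nd (.nd (.lf 0x18) (.lf 0x33)) (.nd (.lf 0x1e) (.lf 0)))) (.nd (.nd (.nd (.lf 0x21) (.lf 0xc)) (.nd (.lf 0x1f) (.lf 0x1))) (.nd (.nd (.lf 0x0) (.lf 0x7)) (.nd (.lf 0x3a) (.lf 0))))))) (.nd (.nd (.nd (.nd (.nd (.nd (.lf 0x33) (.lf 0x1f)) (.nd (.lf 0x14) (.lf 0x31))) (.nd (.nd (.lf 0x1f) (.lf 0x2)) (.nd (.lf 0x32) (.lf 0)))) (.nd (.nd (.nd (.lf 0x3) (.lf 0x19)) (.nd (.lf 0x8) (.lf 0x17))) (.nd (.nd (.lf 0xb) (.lf 0x0)) (.nd (.lf 0x13) (.lf 0))))) (.nd (.nd (.nd (.nd (.lf 0x39) (.lf 0x39)) (.nd (.lf 0x4) (.lf 0x3a))) (.nd (.nd (.lf 0x25) (.lf 0x1b)) (.nd (.lf 0x4) (.lf 0)))) (.nd (.nd (.nd (.lf 0x6)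 (.lf 0x37)) (.nd (.lf 0x19) (.lf 0x10))) (.nd (.nd (.lf 0x3b) (.lf 0x18)) (.nd (.lf 0x3) (.lf 0)))))) (.nd (.nd (.nd (.nd (.nd (.lf 0x31) (.lf 0x14)) (.nd (.lf 0x2f) (.lf 0x30))) (.nd (.nd (.lf 0x20) (.lf 0x2e)) (.nd (.lf 0x2f) (.lf 0)))) (.nd (.nd (.nd (.lf 0x0) (.lf 0x2d)) (.nd (.lf 0x1f) (.lf 0x22))) (.nd (.nd (.lf 0xf) (.lf 0x2)) (.nd (.lf 0x23) (.lf 0))))) (.nd (.nd (.nd (.nd (.lf 0xb) (.lf 0x15)) (.nd (.lf 0x10) (.lf 0x30))) (.nd (.nd (.lf 0x16) (.lf 0x28)) (.nd (.lf 0x2c) (.lf 0)))) (.nd (.nd (.nd (.lf 0x29) (.lf 0x1)) (.nd (.lf 0x1d) (.lf 0x1c))) (.nd (.nd (.lf 0x39) (.lf 0xa)) (.nd (.lf 0x1a) (.lf 0))))))))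
def aTab_nbbaba : Tr := (.nd (.nd (.nd (.nd (.nd (.nd (.nd (.lf 0xb) (.lf 0x37)) (.nd (.lf 0x7) (.lf 0xc))) (.nd (.nd (.lf 0x34) (.lf 0x22)) (.nd (.lf 0x13) (.lf 0x7)))) (.nd (.nd (.nd (.lf 0x1c) (.lf 0x38)) (.nd (.lf 0xb) (.lf 0x15))) (.nd (.nd (.lf 0x28) (.lf 0x22)) (.nd (.lf 0x2b) (.lf 0))))) (.nd (.nd (.nd (.nd (.lf 0x1b) (.lf 0x19)) (.nd (.lf 0x38) (.lf 0x2a))) (.nd (.nd (.lf 0x3b) (.lf 0x15)) (.nd (.lf 0x20) (.lf 0)))) (.nd (.nd (.nd (.lf 0x37) (.lf 0x2e)) (.nd (.lf 0x3a) (.lf 0x16))) (.nd (.nd (.lf 0x26) (.lf 0x36)) (.nd (.lf 0x25) (.lf 0)))))) (.nd (.nd (.nd (.nd (.nd (.lf 0xa) (.lf 0x2e)) (.nd (.lf 0x20) (.lf 0x1f))) (.nd (.nd (.lf 0x2e) (.lf 0x26)) (.nd (.lf 0x6) (.lf 0)))) (.nd (.nd (.nd (.lf 0x18) (.lf 0x21)) (.nd (.lf 0x21)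 (.lf 0xc))) (.nd (.nd (.lf 0x2) (.lf 0x3b)) (.nd (.lf 0x28) (.lf 0))))) (.nd (.nd (.nd (.nd (.lf 0x6) (.lf 0x15)) (.nd (.lf 0x2) (.lf 0xb))) (.nd (.nd (.lf 0x23) (.lf 0x39)) (.nd (.lf 0x26) (.lf 0)))) (.nd (.nd (.nd (.lf 0x2e) (.lf 0x1)) (.nd (.lf 0x30) (.lf 0x8))) (.nd (.nd (.lf 0x5) (.lf 0x24)) (.nd (.lf 0x22) (.lf 0))))))) (.nd (.nd (.nd (.nd (.nd (.nd (.lf 0x2b) (.lf 0xe)) (.nd (.lf 0x22) (.lf 0x17))) (.nd (.nd (.lf 0x24) (.lf 0x1a)) (.nd (.lf 0x28) (.lf 0)))) (.nd (.nd (.nd (.lf 0x35) (.lf 0x2f)) (.nd (.lf 0x9) (.lf 0x2a))) (.nd (.nd (.lf 0x2e) (.lf 0x4)) (.nd (.lf 0x39) (.lf 0))))) (.nd (.nd (.nd (.nd (.lf 0x24) (.lf 0x1d)) (.nd (.lf 0x2f) (.lf 0x29))) (.nd (.nd (.lf 0xf) (.lf 0x32)) (.nd (.lf 0x5) (.lf 0)))) (.nd (.nd (.nd (.lf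 0x19) (.lf 0x13)) (.nd (.lf 0xf) (.lf 0x25))) (.nd (.nd (.lf 0x34) (.lf 0x17)) (.nd (.lf 0x35) (.lf 0)))))) (.nd (.nd (.nd (.nd (.nd (.lf 0x29) (.lf 0x2d)) (.nd (.lf 0x10) (.lf 0x9))) (.nd (.nd (.lf 0x5) (.lf 0x18)) (.nd (.lf 0x3b) (.lf 0)))) (.nd (.nd (.nd (.lf 0xf) (.lf 0x2c)) (.nd (.lf 0x2d) (.lf 0x20))) (.nd (.nd (.lf 0x13) (.lf 0x18)) (.nd (.lf 0x30) (.lf 0))))) (.nd (.nd (.nd (.nd (.lf 0x32) (.lf 0x33)) (.nd (.lf 0x1e) (.lf 0x32))) (.nd (.nd (.lf 0x2a) (.lf 0x17)) (.nd (.lf 0x1) (.lf 0)))) (.nd (.nd (.nd (.lf 0x1f) (.lf 0x2b)) (.nd (.lf 0x1) (.lf 0x1b))) (.nd (.nd (.lf 0x1c) (.lf 0x1b)) (.nd (.lf 0x7) (.lf 0))))))))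
def aTab_nbbabb : Tr := (.nd (.nd (.nd (.nd (.nd (.nd (.nd (.lf 0x1b) (.lf 0x2)) (.nd (.lf 0x2c) (.lf 0x2b))) (.nd (.nd (.lf 0x2e) (.lf 0x2c)) (.nd (.lf 0x27) (.lf 0)))) (.nd (.nd (.nd (.lf 0x2c) (.lf 0x2d)) (.nd (.lf 0x35) (.lf 0x11))) (.nd (.nd (.lf 0xe) (.lf 0x31)) (.nd (.lf 0x3) (.lf 0))))) (.nd (.nd (.nd (.nd (.lf 0x14) (.lf 0x5)) (.nd (.lf 0x7) (.lf 0x15))) (.nd (.nd (.lf 0x12) (.lf 0x12)) (.nd (.lf 0x28) (.lf 0)))) (.nd (.nd (.nd (.lf 0x38) (.lf 0xc)) (.nd (.lf 0x1d) (.lf 0x30))) (.nd (.nd (.lf 0xb) (.lf 0xd)) (.nd (.lf 0x2b) (.lf 0)))))) (.nd (.nd (.nd (.nd (.nd (.lf 0x26) (.lf 0xa)) (.nd (.lf 0x1d) (.lf 0x8))) (.nd (.nd (.lf 0x16) (.lf 0x1c)) (.nd (.lf 0xe) (.lf 0)))) (.nd (.nd (.nd (.lf 0x28) (.lf 0x9)) (.nd (.lf 0x37) (.lf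 0x5))) (.nd (.nd (.lf 0x23) (.lf 0xf)) (.nd (.lf 0x9) (.lf 0))))) (.nd (.nd (.nd (.nd (.lf 0x35) (.lf 0x2b)) (.nd (.lf 0xa) (.lf 0x4))) (.nd (.nd (.lf 0x26) (.lf 0x27)) (.nd (.lf 0x34) (.lf 0)))) (.nd (.nd (.nd (.lf 0x2a) (.lf 0x13)) (.nd (.lf 0x1b) (.lf 0x37))) (.nd (.nd (.lf 0x28) (.lf 0x1a)) (.nd (.lf 0x29) (.lf 0))))))) (.nd (.nd (.nd (.nd (.nd (.nd (.lf 0x3b) (.lf 0x1d)) (.nd (.lf 0x1f) (.lf 0x23))) (.nd (.nd (.lf 0x11) (.lf 0x24)) (.nd (.lf 0xf) (.lf 0)))) (.nd (.nd (.nd (.lf 0x1d) (.lf 0xe)) (.nd (.lf 0xe) (.lf 0x26))) (.nd (.nd (.lf 0x12) (.lf 0x8)) (.nd (.lf 0x2e) (.lf 0))))) (.nd (.nd (.nd (.nd (.lf 0x11) (.lf 0x2d)) (.nd (.lf 0x20) (.lf 0x34))) (.nd (.nd (.lf 0x28) (.lf 0xe)) (.nd (.lf 0x10) (.lf 0)))) (.nd (.nd (.nd (.lf 0xa)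 (.lf 0x30)) (.nd (.lf 0x3b) (.lf 0x11))) (.nd (.nd (.lf 0x2c) (.lf 0x22)) (.nd (.lf 0x1a) (.lf 0)))))) (.nd (.nd (.nd (.nd (.nd (.lf 0x7) (.lf 0x13)) (.nd (.lf 0x9) (.lf 0x1a))) (.nd (.nd (.lf 0x36) (.lf 0x4)) (.nd (.lf 0x1) (.lf 0)))) (.nd (.nd (.nd (.lf 0x2) (.lf 0x33)) (.nd (.lf 0x0) (.lf 0x23))) (.nd (.nd (.lf 0x2a) (.lf 0xb)) (.nd (.lf 0x15) (.lf 0))))) (.nd (.nd (.nd (.nd (.lf 0x18) (.lf 0x7)) (.nd (.lf 0x33) (.lf 0x29))) (.nd (.nd (.lf 0x38) (.lf 0xb)) (.nd (.lf 0x38) (.lf 0)))) (.nd (.nd (.nd (.lf 0x23) (.lf 0xc)) (.nd (.lf 0x34) (.lf 0x14))) (.nd (.nd (.lf 0x2a) (.lf 0x34)) (.nd (.lf 0xc) (.lf 0))))))))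
def aTab_nbbbaa : Tr := (.nd (.nd (.nd (.nd (.nd (.nd (.nd (.lf 0x7) (.lf 0x23)) (.nd (.lf 0xa) (.lf 0xf))) (.nd (.nd (.lf 0x19) (.lf 0x26)) (.nd (.lf 0x3a) (.lf 0xc)))) (.nd (.nd (.nd (.lf 0x25) (.lf 0x1d)) (.nd (.lf 0x8) (.lf 0x19))) (.nd (.nd (.lf 0x1b) (.lf 0x2e)) (.nd (.lf 0x24) (.lf 0))))) (.nd (.nd (.nd (.nd (.lf 0x16) (.lf 0x12)) (.nd (.lf 0x36) (.lf 0x25))) (.nd (.nd (.lf 0x3a) (.lf 0x10)) (.nd (.lf 0x9) (.lf 0)))) (.nd (.nd (.nd (.lf 0x10) (.lf 0xd)) (.nd (.lf 0x3b) (.lf 0x1a))) (.nd (.nd (.lf 0x15) (.lf 0x30)) (.nd (.lf 0x13) (.lf 0)))))) (.nd (.nd (.nd (.nd (.nd (.lf 0x7) (.lf 0x32)) (.nd (.lf 0x0) (.lf 0xd))) (.nd (.nd (.lf 0x1d) (.lf 0x21)) (.nd (.lf 0x4) (.lf 0)))) (.nd (.nd (.nd (.lf 0x13) (.lf 0x25)) (.nd (.lf 0x7) (.lf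 0x23))) (.nd (.nd (.lf 0x2d) (.lf 0x23)) (.nd (.lf 0x2c) (.lf 0))))) (.nd (.nd (.nd (.nd (.lf 0x4) (.lf 0x27)) (.nd (.lf 0x2d) (.lf 0x1b))) (.nd (.nd (.lf 0x1e) (.lf 0xd)) (.nd (.lf 0x2e) (.lf 0)))) (.nd (.nd (.nd (.lf 0x32) (.lf 0x27)) (.nd (.lf 0x29) (.lf 0xa))) (.nd (.nd (.lf 0x27) (.lf 0x3a)) (.nd (.lf 0x39) (.lf 0))))))) (.nd (.nd (.nd (.nd (.nd (.nd (.lf 0x27) (.lf 0x11)) (.nd (.lf 0x36) (.lf 0x29))) (.nd (.nd (.lf 0x12) (.lf 0x1d)) (.nd (.lf 0x2) (.lf 0)))) (.nd (.nd (.nd (.lf 0x30) (.lf 0x34)) (.nd (.lf 0x2c) (.lf 0x3a))) (.nd (.nd (.lf 0x14) (.lf 0x6)) (.nd (.lf 0x16) (.lf 0))))) (.nd (.nd (.nd (.nd (.lf 0x20) (.lf 0x1e)) (.nd (.lf 0x15) (.lf 0x4))) (.nd (.nd (.lf 0xc) (.lf 0x34)) (.nd (.lf 0x35) (.lf 0)))) (.nd (.nd (.nd (.lf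 0x10) (.lf 0x38)) (.nd (.lf 0x20) (.lf 0x29))) (.nd (.nd (.lf 0x30) (.lf 0x7)) (.nd (.lf 0x8) (.lf 0)))))) (.nd (.nd (.nd (.nd (.nd (.lf 0x32) (.lf 0x1c)) (.nd (.lf 0xd) (.lf 0x6))) (.nd (.nd (.lf 0x1e) (.lf 0x8)) (.nd (.lf 0x3a) (.lf 0)))) (.nd (.nd (.nd (.lf 0x38) (.lf 0x1b)) (.nd (.lf 0x24) (.lf 0x32))) (.nd (.nd (.lf 0x19) (.lf 0x5)) (.nd (.lf 0x34) (.lf 0))))) (.nd (.nd (.nd (.nd (.lf 0x34) (.lf 0xe)) (.nd (.lf 0x35) (.lf 0x21))) (.nd (.nd (.lf 0x33) (.lf 0x31)) (.nd (.lf 0x12) (.lf 0)))) (.nd (.nd (.nd (.lf 0x2) (.lf 0x37)) (.nd (.lf 0x10) (.lf 0x1e))) (.nd (.nd (.lf 0x3b) (.lf 0x1e)) (.nd (.lf 0x1f) (.lf 0))))))))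
def aTab_nbbbab : Tr := (.nd (.nd (.nd (.nd (.nd (.nd (.nd (.lf 0x17) (.lf 0x20)) (.nd (.lf 0x3a) (.lf 0x28))) (.nd (.nd (.lf 0x21) (.lf 0x1c)) (.nd (.lf 0x29) (.lf 0)))) (.nd (.nd (.nd (.lf 0x11) (.lf 0x2a)) (.nd (.lf 0x16) (.lf 0xd))) (.nd (.nd (.lf 0x27) (.lf 0x35)) (.nd (.lf 0x27) (.lf 0))))) (.nd (.nd (.nd (.nd (.lf 0x27) (.lf 0x33)) (.nd (.lf 0x5) (.lf 0x20))) (.nd (.nd (.lf 0x17) (.lf 0x24)) (.nd (.lf 0x16) (.lf 0)))) (.nd (.nd (.nd (.lf 0x36) (.lf 0x4)) (.nd (.lf 0x35) (.lf 0x2))) (.nd (.nd (.lf 0x9) (.lf 0x3)) (.nd (.lf 0x32) (.lf 0)))))) (.nd (.nd (.nd (.nd (.nd (.lf 0x21) (.lf 0x8)) (.nd (.lf 0x38) (.lf 0x2a))) (.nd (.nd (.lf 0x34) (.lf 0x38)) (.nd (.lf 0x1a) (.lf 0)))) (.nd (.nd (.nd (.lf 0x24) (.lf 0x18)) (.nd (.lf 0x39)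 (.lf 0x3))) (.nd (.nd (.lf 0x2b) (.lf 0x36)) (.nd (.lf 0xb) (.lf 0))))) (.nd (.nd (.nd (.nd (.lf 0x31) (.lf 0xd)) (.nd (.lf 0x10) (.lf 0x6))) (.nd (.nd (.lf 0x4) (.lf 0xc)) (.nd (.lf 0xd) (.lf 0)))) (.nd (.nd (.nd (.lf 0x25) (.lf 0x19)) (.nd (.lf 0xe) (.lf 0x36))) (.nd (.nd (.lf 0x1) (.lf 0x4)) (.nd (.lf 0x16) (.lf 0))))))) (.nd (.nd (.nd (.nd (.nd (.nd (.lf 0x37) (.lf 0xd)) (.nd (.lf 0x21) (.lf 0x3b))) (.nd (.nd (.lf 0xd) (.lf 0x20)) (.nd (.lf 0x3b) (.lf 0)))) (.nd (.nd (.nd (.lf 0x19) (.lf 0x11)) (.nd (.lf 0x2c) (.lf 0x13))) (.nd (.nd (.lf 0x25) (.lf 0x1)) (.nd (.lf 0x32) (.lf 0))))) (.nd (.nd (.nd (.nd (.lf 0xa) (.lf 0x14)) (.nd (.lf 0xf) (.lf 0x21))) (.nd (.nd (.lf 0x2b) (.lf 0x2f)) (.nd (.lf 0x6) (.lf 0)))) (.nd (.nd (.nd (.lf 0x8)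 (.lf 0x1d)) (.nd (.lf 0x15) (.lf 0x22))) (.nd (.nd (.lf 0x3a) (.lf 0x6)) (.nd (.lf 0xd) (.lf 0)))))) (.nd (.nd (.nd (.nd (.nd (.lf 0x3a) (.lf 0x25)) (.nd (.lf 0x12) (.lf 0x2b))) (.nd (.nd (.lf 0x6) (.lf 0x32)) (.nd (.lf 0x0) (.lf 0)))) (.nd (.nd (.nd (.lf 0x17) (.lf 0x2a)) (.nd (.lf 0x1) (.lf 0x1e))) (.nd (.nd (.lf 0x2d) (.lf 0x12)) (.nd (.lf 0x27) (.lf 0))))) (.nd (.nd (.nd (.nd (.lf 0x0) (.lf 0x18)) (.nd (.lf 0xc) (.lf 0x2c))) (.nd (.nd (.lf 0x12) (.lf 0x9)) (.nd (.lf 0x9) (.lf 0)))) (.nd (.nd (.nd (.lf 0x2c) (.lf 0x8)) (.nd (.lf 0x37) (.lf 0x18))) (.nd (.nd (.lf 0x24) (.lf 0x23)) (.nd (.lf 0x11) (.lf 0))))))))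
def aTab_nbbbba : Tr := (.nd (.nd (.nd (.nd (.nd (.nd (.nd (.lf 0xf) (.lf 0x39)) (.nd (.lf 0x12) (.lf 0x11))) (.nd (.nd (.lf 0xc) (.lf 0x27)) (.nd (.lf 0x17) (.lf 0x0)))) (.nd (.nd (.nd (.lf 0x2d) (.lf 0x36)) (.nd (.lf 0x1b) (.lf 0xb))) (.nd (.nd (.lf 0x19) (.lf 0x34)) (.nd (.lf 0x35) (.lf 0))))) (.nd (.nd (.nd (.nd (.lf 0x1e) (.lf 0x0)) (.nd (.lf 0xe) (.lf 0x26))) (.nd (.nd (.lf 0x33) (.lf 0x38)) (.nd (.lf 0x18) (.lf 0)))) (.nd (.nd (.nd (.lf 0x39) (.lf 0x5)) (.nd (.lf 0x22) (.lf 0x12))) (.nd (.nd (.lf 0x4) (.lf 0x33)) (.nd (.lf 0x4) (.lf 0)))))) (.nd (.nd (.nd (.nd (.nd (.lf 0xd) (.lf 0x0)) (.nd (.lf 0x24) (.lf 0xe))) (.nd (.nd (.lf 0x32) (.lf 0xf)) (.nd (.lf 0x13) (.lf 0)))) (.nd (.nd (.nd (.lf 0x1c) (.lf 0x29)) (.nd (.lf 0x25) (.lf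 0x1d))) (.nd (.nd (.lf 0xa) (.lf 0x1b)) (.nd (.lf 0x16) (.lf 0))))) (.nd (.nd (.nd (.nd (.lf 0x29) (.lf 0x35)) (.nd (.lf 0x12) (.lf 0x9))) (.nd (.nd (.lf 0x30) (.lf 0x21)) (.nd (.lf 0xe) (.lf 0)))) (.nd (.nd (.nd (.lf 0x31) (.lf 0x0)) (.nd (.lf 0x1c) (.lf 0xb))) (.nd (.nd (.lf 0x26) (.lf 0x20)) (.nd (.lf 0x3b) (.lf 0))))))) (.nd (.nd (.nd (.nd (.nd (.nd (.lf 0x2f) (.lf 0x28)) (.nd (.lf 0x26) (.lf 0x16))) (.nd (.nd (.lf 0x1c) (.lf 0xb)) (.nd (.lf 0x2b) (.lf 0)))) (.nd (.nd (.nd (.lf 0x1) (.lf 0x1d)) (.nd (.lf 0x17) (.lf 0x28))) (.nd (.nd (.lf 0x9) (.lf 0x2d)) (.nd (.lf 0x37) (.lf 0))))) (.nd (.nd (.nd (.nd (.lf 0x36) (.lf 0x32)) (.nd (.lf 0x27) (.lf 0x2a))) (.nd (.nd (.lf 0x36) (.lf 0x1e)) (.nd (.lf 0x1a) (.lf 0)))) (.nd (.nd (.nd (.lf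 0x3) (.lf 0x39)) (.nd (.lf 0xb) (.lf 0x21))) (.nd (.nd (.lf 0xe) (.lf 0x13)) (.nd (.lf 0x2) (.lf 0)))))) (.nd (.nd (.nd (.nd (.nd (.lf 0x2c) (.lf 0x17)) (.nd (.lf 0x22) (.lf 0x3b))) (.nd (.nd (.lf 0x7) (.lf 0x9)) (.nd (.lf 0x15) (.lf 0)))) (.nd (.nd (.nd (.lf 0x18) (.lf 0x8)) (.nd (.lf 0x9) (.lf 0x26))) (.nd (.nd (.lf 0x17) (.lf 0x3)) (.nd (.lf 0x21) (.lf 0))))) (.nd (.nd (.nd (.nd (.lf 0x37) (.lf 0x2e)) (.nd (.lf 0x5) (.lf 0x36))) (.nd (.nd (.lf 0x39) (.lf 0x13)) (.nd (.lf 0x29) (.lf 0)))) (.nd (.nd (.nd (.lf 0x9) (.lf 0x28)) (.nd (.lf 0x1a) (.lf 0x17))) (.nd (.nd (.lf 0x37) (.lf 0x1f)) (.nd (.lf 0x5) (.lf 0))))))))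
def aTab_nbbbbb : Tr := (.nd (.nd (.nd (.nd (.nd (.nd (.nd (.lf 0x1f) (.lf 0x3)) (.nd (.lf 0x33) (.lf 0x2))) (.nd (.nd (.lf 0x0) (.lf 0x1b)) (.nd (.lf 0xd) (.lf 0)))) (.nd (.nd (.nd (.lf 0x1a) (.lf 0x16)) (.nd (.lf 0x31) (.lf 0x3))) (.nd (.nd (.lf 0x30) (.lf 0x24)) (.nd (.lf 0x2) (.lf 0))))) (.nd (.nd (.nd (.nd (.lf 0x18) (.lf 0x34)) (.nd (.lf 0x1e) (.lf 0x19))) (.nd (.nd (.lf 0x6) (.lf 0x18)) (.nd (.lf 0x2a) (.lf 0)))) (.nd (.nd (.nd (.lf 0x2b) (.lf 0x28)) (.nd (.lf 0x23) (.lf 0x31))) (.nd (.nd (.lf 0x1a) (.lf 0x12)) (.nd (.lf 0x3a) (.lf 0)))))) (.nd (.nd (.nd (.nd (.nd (.lf 0x2a) (.lf 0x6)) (.nd (.lf 0x1a) (.lf 0x24))) (.nd (.nd (.lf 0x1f) (.lf 0x35)) (.nd (.lf 0x35) (.lf 0)))) (.nd (.nd (.nd (.lf 0x2b) (.lf 0x13)) (.nd (.lf 0x34) (.lf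 0x3a))) (.nd (.nd (.lf 0x27) (.lf 0x21)) (.nd (.lf 0x39) (.lf 0))))) (.nd (.nd (.nd (.nd (.lf 0x2a) (.lf 0x28)) (.nd (.lf 0x27) (.lf 0x19))) (.nd (.nd (.lf 0x5) (.lf 0x23)) (.nd (.lf 0x15) (.lf 0)))) (.nd (.nd (.nd (.lf 0x36) (.lf 0x24)) (.nd (.lf 0x26) (.lf 0x31))) (.nd (.nd (.lf 0xa) (.lf 0x1d)) (.nd (.lf 0x1) (.lf 0))))))) (.nd (.nd (.nd (.nd (.nd (.nd (.lf 0x6) (.lf 0x2f)) (.nd (.lf 0x8) (.lf 0x2e))) (.nd (.nd (.lf 0x22) (.lf 0x0)) (.nd (.lf 0xc) (.lf 0)))) (.nd (.nd (.nd (.lf 0x22) (.lf 0x38)) (.nd (.lf 0x11) (.lf 0x14))) (.nd (.nd (.lf 0x16) (.lf 0x12)) (.nd (.lf 0xf) (.lf 0))))) (.nd (.nd (.nd (.nd (.lf 0x1) (.lf 0x6)) (.nd (.lf 0x32) (.lf 0x30))) (.nd (.nd (.lf 0x37) (.lf 0x11)) (.nd (.lf 0x18) (.lf 0)))) (.nd (.nd (.nd (.lf 0x30)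 (.lf 0x3)) (.nd (.lf 0x33) (.lf 0xe))) (.nd (.nd (.lf 0x2b) (.lf 0x33)) (.nd (.lf 0x20) (.lf 0)))))) (.nd (.nd (.nd (.nd (.nd (.lf 0x1) (.lf 0x38)) (.nd (.lf 0x2d) (.lf 0x1f))) (.nd (.nd (.lf 0x38) (.lf 0x33)) (.nd (.lf 0x26) (.lf 0)))) (.nd (.nd (.nd (.lf 0x3) (.lf 0x37)) (.nd (.lf 0x2e) (.lf 0x1f))) (.nd (.nd (.lf 0x39) (.lf 0x1b)) (.nd (.lf 0x22) (.lf 0))))) (.nd (.nd (.nd (.nd (.lf 0x15) (.lf 0x5)) (.nd (.lf 0x14) (.lf 0x6))) (.nd (.nd (.lf 0x8) (.lf 0x2)) (.nd (.lf 0x36) (.lf 0)))) (.nd (.nd (.nd (.lf 0x35) (.lf 0xf)) (.nd (.lf 0x24) (.lf 0x12))) (.nd (.nd (.lf 0x1e) (.lf 0x22)) (.nd (.lf 0x15) (.lf 0))))))))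
def aTab : Tr := (.nd (.nd (.nd (.nd (.nd aTab_naaaaa aTab_naaaab) (.nd aTab_naaaba aTab_naaabb)) (.nd (.nd aTab_naabaa aTab_naabab) (.nd aTab_naabba aTab_naabbb))) (.nd (.nd (.nd aTab_nabaaa aTab_nabaab) (.nd aTab_nababa aTab_nababb)) (.nd (.nd aTab_nabbaa aTab_nabbab) (.nd aTab_nabbba aTab_nabbbb)))) (.nd (.nd (.nd (.nd aTab_nbaaaa aTab_nbaaab) (.nd aTab_nbaaba aTab_nbaabb)) (.nd (.nd aTab_nbabaa aTab_nbabab) (.nd aTab_nbabba aTab_nbabbb))) (.nd (.nd (.nd aTab_nbbaaa aTab_nbbaab) (.nd aTab_nbbaba aTab_nbbabb)) (.nd (.nd aTab_nbbbaa aTab_nbbbab) (.nd aTab_nbbbba aTab_nbbbbb)))))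
def aPerm : List ℕ := [2930, 1490, 2902, 742, 1454, 2886, 1934, 366, 714, 1398, 2154, 558, 1922, 334, 698, 1202, 2014, 1778, 2146, 542, 1986, 298, 586, 1022, 2826, 1138, 2070, 1766, 2230, 1830, 446, 2710, 1110, 2758, 1190, 2102, 2790, 238, 1670, 2582, 482, 2678, 1054, 2642, 1358, 1294, 194, 1726, 2538, 414, 1634, 2566, 978, 894, 1346, 222, 2426, 2382, 970, 2410]
def vFour : List ℕ := [0, 1, 58, 59]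
def sConj : List ℕ := [0, 2834608, 2826907, 689741, 0, 6513563, 466048, 8330752, 10823510, 0, 0, 0, 0, 0, 6845845, 0, 0, 0, 0, 0, 0, 0, 0, 2178085, 3637793, 0, 0, 0, 0, 0, 2752646, 0, 0, 0, 0, 0, 0, 0, 0, 6312320, 18886516, 0, 0, 0, 13320368, 5723445, 2521381, 10889746, 3438885, 0, 0, 0, 417587, 0, 0, 0, 0, 0, 0, 0, 0, 21116581, 0, 0, 4356387, 204919, 3489642, 1279526, 0, 0, 0, 0, 0, 0, 0, 0, 12665998, 0, 0, 0, 0, 12475405, 0, 0, 0, 0, 0, 0, 0, 0, 555299, 0, 0, 0, 0, 0, 0, 0, 18963280, 0, 0, 0, 0, 720896, 0, 0, 0, 0, 0, 0, 0, 23560793, 23376, 0, 0, 0, 30101, 0, 0, 0, 0, 6293584, 0, 0, 0, 9589120, 0, 0]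
def aConjQ_naaaa : Tr := (.nd (.nd (.nd (.nd (.nd (.nd (.nd (.lf 0x0) (.lf 0x0)) (.nd (.lf 0x0) (.lf 0x0))) (.nd (.nd (.lf 0x0) (.lf 0x0)) (.nd (.lf 0x0) (.lf 0x0)))) (.nd (.nd (.nd (.lf 0x0) (.lf 0x0)) (.nd (.lf 0x0) (.lf 0x0))) (.nd (.nd (.lf 0x0) (.lf 0x0)) (.nd (.lf 0x0) (.lf 0))))) (.nd (.nd (.nd (.nd (.lf 0x0) (.lf 0x0)) (.nd (.lf 0x0) (.lf 0x0))) (.nd (.nd (.lf 0x0) (.lf 0x0)) (.nd (.lf 0x0) (.lf 0x0)))) (.nd (.nd (.nd (.lf 0x0) (.lf 0x0)) (.nd (.lf 0x0) (.lf 0x0))) (.nd (.nd (.lf 0x0) (.lf 0x0)) (.nd (.lf 0x0) (.lf 0)))))) (.nd (.nd (.nd (.nd (.nd (.lf 0x0) (.lf 0x0)) (.nd (.lf 0x0) (.lf 0x0))) (.nd (.nd (.lf 0x0) (.lf 0x0)) (.nd (.lf 0x0) (.lf 0x0)))) (.nd (.nd (.nd (.lf 0x0) (.lf 0x0)) (.nd (.lf 0x0) (.lf 0x0))) (.nd (.nd (.lf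 0x0) (.lf 0x0)) (.nd (.lf 0x0) (.lf 0))))) (.nd (.nd (.nd (.nd (.lf 0x0) (.lf 0x0)) (.nd (.lf 0x0) (.lf 0x0))) (.nd (.nd (.lf 0x0) (.lf 0x0)) (.nd (.lf 0x0) (.lf 0x0)))) (.nd (.nd (.nd (.lf 0x0) (.lf 0x0)) (.nd (.lf 0x0) (.lf 0x0))) (.nd (.nd (.lf 0x0) (.lf 0x0)) (.nd (.lf 0x0) (.lf 0))))))) (.nd (.nd (.nd (.nd (.nd (.nd (.lf 0x10) (.lf 0x10)) (.nd (.lf 0xc) (.lf 0x2))) (.nd (.nd (.lf 0xc) (.lf 0xa)) (.nd (.lf 0x1d) (.lf 0x1d)))) (.nd (.nd (.nd (.lf 0xc) (.lf 0x10)) (.nd (.lf 0x1d) (.lf 0x2))) (.nd (.nd (.lf 0xa) (.lf 0x2)) (.nd (.lf 0x10) (.lf 0))))) (.nd (.nd (.nd (.nd (.lf 0xa) (.lf 0x10)) (.nd (.lf 0x1d) (.lf 0xc))) (.nd (.nd (.lf 0xc) (.lf 0xc)) (.nd (.lf 0x10) (.lf 0x10)))) (.nd (.nd (.nd (.lf 0xc) (.lf 0x10)) (.nd (.lf 0x1d) (.lf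 0x1d))) (.nd (.nd (.lf 0x2) (.lf 0xc)) (.nd (.lf 0x1d) (.lf 0)))))) (.nd (.nd (.nd (.nd (.nd (.lf 0x10) (.lf 0x2)) (.nd (.lf 0x2) (.lf 0xc))) (.nd (.nd (.lf 0x2) (.lf 0x2)) (.nd (.lf 0x2) (.lf 0xa)))) (.nd (.nd (.nd (.lf 0x1d) (.lf 0x2)) (.nd (.lf 0x2) (.lf 0xc))) (.nd (.nd (.lf 0xc) (.lf 0xc)) (.nd (.lf 0x10) (.lf 0))))) (.nd (.nd (.nd (.nd (.lf 0xa) (.lf 0xa)) (.nd (.lf 0xa) (.lf 0x1d))) (.nd (.nd (.lf 0x2) (.lf 0xa)) (.nd (.lf 0x1d) (.lf 0x10)))) (.nd (.nd (.nd (.lf 0x1d) (.lf 0xa)) (.nd (.lf 0xa) (.lf 0xa))) (.nd (.nd (.lf 0xa) (.lf 0x1d)) (.nd (.lf 0x10) (.lf 0))))))))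
def aConjQ_naaab : Tr := (.nd (.nd (.nd (.nd (.nd (.nd (.nd (.lf 0x8) (.lf 0x8)) (.nd (.lf 0x18) (.lf 0x4))) (.nd (.nd (.lf 0x12) (.lf 0x3)) (.nd (.lf 0x19) (.lf 0x16)))) (.nd (.nd (.nd (.lf 0x18) (.lf 0xe)) (.nd (.lf 0x17) (.lf 0x7))) (.nd (.nd (.lf 0x11) (.lf 0x4)) (.nd (.lf 0xe) (.lf 0))))) (.nd (.nd (.nd (.nd (.lf 0x3) (.lf 0x15)) (.nd (.lf 0x19) (.lf 0x5))) (.nd (.nd (.lf 0x14) (.lf 0x5)) (.nd (.lf 0x1a) (.lf 0xe)))) (.nd (.nd (.nd (.lf 0x12) (.lf 0x8)) (.nd (.lf 0x16) (.lf 0x17))) (.nd (.nd (.lf 0x4) (.lf 0x18)) (.nd (.lf 0x1f) (.lf 0)))))) (.nd (.nd (.nd (.nd (.nd (.lf 0x1a) (.lf 0x7)) (.nd (.lf 0x9) (.lf 0x5))) (.nd (.nd (.lf 0x1e) (.lf 0x1e)) (.nd (.lf 0x9) (.lf 0xf)))) (.nd (.nd (.nd (.lf 0x1f) (.lf 0x1e)) (.nd (.lf 0x7) (.lf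 0x14))) (.nd (.nd (.lf 0x14) (.lf 0x12)) (.nd (.lf 0x15) (.lf 0))))) (.nd (.nd (.nd (.nd (.lf 0x11) (.lf 0x1b)) (.nd (.lf 0xf) (.lf 0x17))) (.nd (.nd (.lf 0x9) (.lf 0x1b)) (.nd (.lf 0x16) (.lf 0x15)))) (.nd (.nd (.nd (.lf 0x19) (.lf 0x11)) (.nd (.lf 0x3) (.lf 0x1b))) (.nd (.nd (.lf 0xf) (.lf 0x1f)) (.nd (.lf 0x1a) (.lf 0))))))) (.nd (.nd (.nd (.nd (.nd (.nd (.lf 0x18) (.lf 0x19)) (.nd (.lf 0x7) (.lf 0x14))) (.nd (.nd (.lf 0x19) (.lf 0x1a)) (.nd (.lf 0x12) (.lf 0x4)))) (.nd (.nd (.nd (.lf 0x11) (.lf 0x5)) (.nd (.lf 0x7) (.lf 0x17))) (.nd (.nd (.lf 0x9) (.lf 0x1b)) (.nd (.lf 0x1e) (.lf 0))))) (.nd (.nd (.nd (.nd (.lf 0x12) (.lf 0x1f)) (.nd (.lf 0x9) (.lf 0x1b))) (.nd (.nd (.lf 0x4) (.lf 0x17)) (.nd (.lf 0x9) (.lf 0x16)))) (.nd (.nd (.nd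 (.lf 0x1e) (.lf 0xf)) (.nd (.lf 0xe) (.lf 0xf))) (.nd (.nd (.lf 0x16) (.lf 0x8)) (.nd (.lf 0x15) (.lf 0)))))) (.nd (.nd (.nd (.nd (.nd (.lf 0x3) (.lf 0x18)) (.nd (.lf 0x11) (.lf 0xe))) (.nd (.nd (.lf 0xf) (.lf 0x12)) (.nd (.lf 0x19) (.lf 0x1e)))) (.nd (.nd (.nd (.lf 0x14) (.lf 0xe)) (.nd (.lf 0x15) (.lf 0x1f))) (.nd (.nd (.lf 0x1a) (.lf 0x3)) (.nd (.lf 0x1b) (.lf 0))))) (.nd (.nd (.nd (.nd (.lf 0x1f) (.lf 0x4)) (.nd (.lf 0x8) (.lf 0x5))) (.nd (.nd (.lf 0x1a) (.lf 0x5)) (.nd (.lf 0x3) (.lf 0x7)))) (.nd (.nd (.nd (.lf 0x8) (.lf 0x18)) (.nd (.lf 0x16) (.lf 0x15))) (.nd (.nd (.lf 0x17) (.lf 0x11)) (.nd (.lf 0x14) (.lf 0))))))))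
def aConjQ_naaba : Tr := (.nd (.nd (.nd (.nd (.nd (.nd (.nd (.lf 0x4) (.lf 0x4)) (.nd (.lf 0x16) (.lf 0x8))) (.nd (.nd (.lf 0x15) (.lf 0x7)) (.nd (.lf 0x1b) (.lf 0x18)))) (.nd (.nd (.nd (.lf 0x16) (.lf 0x11)) (.nd (.lf 0x1a) (.lf 0x3))) (.nd (.nd (.lf 0xe) (.lf 0x8)) (.nd (.lf 0x11) (.lf 0))))) (.nd (.nd (.nd (.nd (.lf 0x7) (.lf 0x12)) (.nd (.lf 0x1b) (.lf 0x9))) (.nd (.nd (.lf 0xf) (.lf 0x9)) (.nd (.lf 0x17) (.lf 0x11)))) (.nd (.nd (.nd (.lf 0x15) (.lf 0x4)) (.nd (.lf 0x18) (.lf 0x1a))) (.nd (.nd (.lf 0x8) (.lf 0x16)) (.nd (.lf 0x1e) (.lf 0)))))) (.nd (.nd (.nd (.nd (.nd (.lf 0x17) (.lf 0x3)) (.nd (.lf 0x5) (.lf 0x9))) (.nd (.nd (.lf 0x1f) (.lf 0x1f)) (.nd (.lf 0x5) (.lf 0x14)))) (.nd (.nd (.nd (.lf 0x1e) (.lf 0x1f)) (.nd (.lf 0x3) (.lf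 0xf))) (.nd (.nd (.lf 0xf) (.lf 0x15)) (.nd (.lf 0x12) (.lf 0))))) (.nd (.nd (.nd (.nd (.lf 0xe) (.lf 0x19)) (.nd (.lf 0x14) (.lf 0x1a))) (.nd (.nd (.lf 0x5) (.lf 0x19)) (.nd (.lf 0x18) (.lf 0x12)))) (.nd (.nd (.nd (.lf 0x1b) (.lf 0xe)) (.nd (.lf 0x7) (.lf 0x19))) (.nd (.nd (.lf 0x14) (.lf 0x1e)) (.nd (.lf 0x17) (.lf 0))))))) (.nd (.nd (.nd (.nd (.nd (.nd (.lf 0x14) (.lf 0x16)) (.nd (.lf 0x4) (.lf 0x18))) (.nd (.nd (.lf 0x1f) (.lf 0x15)) (.nd (.lf 0x5) (.lf 0x7)))) (.nd (.nd (.nd (.lf 0x3) (.lf 0x18)) (.nd (.lf 0x9) (.lf 0x16))) (.nd (.nd (.lf 0x1e) (.lf 0xf)) (.nd (.lf 0x9) (.lf 0))))) (.nd (.nd (.nd (.nd (.lf 0x18) (.lf 0x19)) (.nd (.lf 0x4) (.lf 0x11))) (.nd (.nd (.lf 0x1e) (.lf 0x19)) (.nd (.lf 0x7) (.lf 0x1f)))) (.nd (.nd (.nd (.lf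 0x7) (.lf 0x1b)) (.nd (.lf 0x8) (.lf 0x3))) (.nd (.nd (.lf 0x19) (.lf 0xe)) (.nd (.lf 0xe) (.lf 0)))))) (.nd (.nd (.nd (.nd (.nd (.lf 0xf) (.lf 0x12)) (.nd (.lf 0x1b) (.lf 0x1a))) (.nd (.nd (.lf 0x11) (.lf 0x14)) (.nd (.lf 0x17) (.lf 0x4)))) (.nd (.nd (.nd (.lf 0x12) (.lf 0x15)) (.nd (.lf 0x1a) (.lf 0x17))) (.nd (.nd (.lf 0x8) (.lf 0x1b)) (.nd (.lf 0x3) (.lf 0))))) (.nd (.nd (.nd (.nd (.lf 0x16) (.lf 0x9)) (.nd (.lf 0x1a) (.lf 0x14))) (.nd (.nd (.lf 0xe) (.lf 0x12)) (.nd (.lf 0x11) (.lf 0x1e)))) (.nd (.nd (.nd (.lf 0x15) (.lf 0x5)) (.nd (.lf 0x17) (.lf 0x8))) (.nd (.nd (.lf 0x1f) (.lf 0xf)) (.nd (.lf 0x5) (.lf 0))))))))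
def aConjQ_naabb : Tr := (.nd (.nd (.nd (.nd (.nd (.nd (.nd (.lf 0xc) (.lf 0x1d)) (.nd (.lf 0x2) (.lf 0xc))) (.nd (.nd (.lf 0x1d) (.lf 0x10)) (.nd (.lf 0xc) (.lf 0x2)))) (.nd (.nd (.nd (.lf 0xa) (.lf 0xc)) (.nd (.lf 0x2) (.lf 0x1d))) (.nd (.nd (.lf 0x2) (.lf 0xa)) (.nd (.lf 0x2) (.lf 0))))) (.nd (.nd (.nd (.nd (.lf 0xc) (.lf 0x1d)) (.nd (.lf 0x2) (.lf 0xa))) (.nd (.nd (.lf 0x2) (.lf 0x1d)) (.nd (.lf 0x2) (.lf 0x1d)))) (.nd (.nd (.nd (.lf 0x2) (.lf 0xa)) (.nd (.lf 0x10) (.lf 0xa))) (.nd (.nd (.lf 0x1d) (.lf 0x10)) (.nd (.lf 0x10) (.lf 0)))))) (.nd (.nd (.nd (.nd (.nd (.lf 0xa) (.lf 0xc)) (.nd (.lf 0xa) (.lf 0x10))) (.nd (.nd (.lf 0xa) (.lf 0xc)) (.nd (.lf 0x1d) (.lf 0x2)))) (.nd (.nd (.nd (.lf 0xc) (.lf 0x10)) (.nd (.lf 0x10) (.lf 0x1d)))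 (.nd (.nd (.lf 0x10) (.lf 0xa)) (.nd (.lf 0xa) (.lf 0))))) (.nd (.nd (.nd (.nd (.lf 0x1d) (.lf 0x2)) (.nd (.lf 0x10) (.lf 0xc))) (.nd (.nd (.lf 0x10) (.lf 0xc)) (.nd (.lf 0xa) (.lf 0x2)))) (.nd (.nd (.nd (.lf 0x10) (.lf 0xc)) (.nd (.lf 0x1d) (.lf 0x10))) (.nd (.nd (.lf 0x1d) (.lf 0xa)) (.nd (.lf 0xc) (.lf 0))))))) (.nd (.nd (.nd (.nd (.nd (.nd (.lf 0x1c) (.lf 0xd)) (.nd (.lf 0xd) (.lf 0xd))) (.nd (.nd (.lf 0xd) (.lf 0x1c)) (.nd (.lf 0xb) (.lf 0xb)))) (.nd (.nd (.nd (.lf 0xb) (.lf 0x6)) (.nd (.lf 0xd) (.lf 0xb))) (.nd (.nd (.lf 0x13) (.lf 0x1c)) (.nd (.lf 0x1c) (.lf 0))))) (.nd (.nd (.nd (.nd (.lf 0xb) (.lf 0x6)) (.nd (.lf 0x13) (.lf 0x1c))) (.nd (.nd (.lf 0xb) (.lf 0xb)) (.nd (.lf 0x13) (.lf 0x13)))) (.nd (.nd (.nd (.lf 0x1c) (.lf 0x13))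 (.nd (.lf 0xd) (.lf 0x13))) (.nd (.nd (.lf 0x13) (.lf 0x6)) (.nd (.lf 0x13) (.lf 0)))))) (.nd (.nd (.nd (.nd (.nd (.lf 0x6) (.lf 0x1c)) (.nd (.lf 0xb) (.lf 0xd))) (.nd (.nd (.lf 0x13) (.lf 0xb)) (.nd (.lf 0xd) (.lf 0x1c)))) (.nd (.nd (.nd (.lf 0xd) (.lf 0xd)) (.nd (.lf 0x13) (.lf 0x6))) (.nd (.nd (.lf 0x1c) (.lf 0x6)) (.nd (.lf 0x1c) (.lf 0))))) (.nd (.nd (.nd (.nd (.lf 0x6) (.lf 0xb)) (.nd (.lf 0x6) (.lf 0x6))) (.nd (.nd (.lf 0x1c) (.lf 0x6)) (.nd (.lf 0x6) (.lf 0xd)))) (.nd (.nd (.nd (.lf 0x6) (.lf 0x1c)) (.nd (.lf 0x13) (.lf 0x13))) (.nd (.nd (.lf 0xb) (.lf 0xb)) (.nd (.lf 0xd) (.lf 0))))))))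
def aConjQ_nabaa : Tr := (.nd (.nd (.nd (.nd (.nd (.nd (.nd (.lf 0x2) (.lf 0x2)) (.nd (.lf 0x1d) (.lf 0x10))) (.nd (.nd (.lf 0x10) (.lf 0x2)) (.nd (.lf 0xa) (.lf 0xc)))) (.nd (.nd (.nd (.lf 0x1d) (.lf 0xa)) (.nd (.lf 0x10) (.lf 0xa))) (.nd (.nd (.lf 0x10) (.lf 0x10)) (.nd (.lf 0xa) (.lf 0))))) (.nd (.nd (.nd (.nd (.lf 0x2) (.lf 0xc)) (.nd (.lf 0xa) (.lf 0x2))) (.nd (.nd (.lf 0xa) (.lf 0x2)) (.nd (.lf 0x1d) (.lf 0xa)))) (.nd (.nd (.nd (.lf 0x10) (.lf 0x2)) (.nd (.lf 0xc) (.lf 0x10))) (.nd (.nd (.lf 0x10) (.lf 0x1d)) (.nd (.lf 0x2) (.lf 0)))))) (.nd (.nd (.nd (.nd (.nd (.lf 0x1d) (.lf 0xa)) (.nd (.lf 0xc) (.lf 0x2))) (.nd (.nd (.lf 0x1d) (.lf 0x1d)) (.nd (.lf 0xc) (.lf 0xc)))) (.nd (.nd (.nd (.lf 0x2) (.lf 0x1d)) (.nd (.lf 0xa) (.lf 0xa)))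 (.nd (.nd (.lf 0xa) (.lf 0x10)) (.nd (.lf 0xc) (.lf 0))))) (.nd (.nd (.nd (.nd (.lf 0x10) (.lf 0x1d)) (.nd (.lf 0xc) (.lf 0x10))) (.nd (.nd (.lf 0xc) (.lf 0x1d)) (.nd (.lf 0xc) (.lf 0xc)))) (.nd (.nd (.nd (.lf 0xa) (.lf 0x10)) (.nd (.lf 0x2) (.lf 0x1d))) (.nd (.nd (.lf 0xc) (.lf 0x2)) (.nd (.lf 0x1d) (.lf 0))))))) (.nd (.nd (.nd (.nd (.nd (.nd (.lf 0x12) (.lf 0x17)) (.nd (.lf 0x9) (.lf 0x5))) (.nd (.nd (.lf 0x16) (.lf 0xe)) (.nd (.lf 0x18) (.lf 0x1e)))) (.nd (.nd (.nd (.lf 0xf) (.lf 0x12)) (.nd (.lf 0x1e) (.lf 0x1f))) (.nd (.nd (.lf 0x7) (.lf 0x3)) (.nd (.lf 0x4) (.lf 0))))) (.nd (.nd (.nd (.nd (.lf 0x14) (.lf 0x17)) (.nd (.lf 0x1e) (.lf 0xf))) (.nd (.nd (.lf 0x9) (.lf 0x16)) (.nd (.lf 0x4) (.lf 0x17)))) (.nd (.nd (.nd (.lf 0x9) (.lf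 0x11)) (.nd (.lf 0x1a) (.lf 0x1b))) (.nd (.nd (.lf 0x1f) (.lf 0x15)) (.nd (.lf 0x1a) (.lf 0)))))) (.nd (.nd (.nd (.nd (.nd (.lf 0x11) (.lf 0x5)) (.nd (.lf 0x3) (.lf 0x15))) (.nd (.nd (.lf 0x3) (.lf 0x5)) (.nd (.lf 0x1f) (.lf 0x7)))) (.nd (.nd (.nd (.lf 0x18) (.lf 0x8)) (.nd (.lf 0x8) (.lf 0x16))) (.nd (.nd (.lf 0x15) (.lf 0xf)) (.nd (.lf 0x11) (.lf 0))))) (.nd (.nd (.nd (.nd (.lf 0x19) (.lf 0x7)) (.nd (.lf 0xe) (.lf 0x18))) (.nd (.nd (.lf 0x8) (.lf 0x14)) (.nd (.lf 0x1b) (.lf 0x4)))) (.nd (.nd (.nd (.lf 0x1a) (.lf 0x14)) (.nd (.lf 0x19) (.lf 0xe))) (.nd (.nd (.lf 0x19) (.lf 0x1b)) (.nd (.lf 0x12) (.lf 0))))))))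
def aConjQ_nabab : Tr := (.nd (.nd (.nd (.nd (.nd (.nd (.nd (.lf 0xa) (.lf 0xc)) (.nd (.lf 0x10) (.lf 0x1d))) (.nd (.nd (.lf 0x2) (.lf 0xc)) (.nd (.lf 0x2) (.lf 0xa)))) (.nd (.nd (.nd (.lf 0x2) (.lf 0x1d)) (.nd (.lf 0xc) (.lf 0xc))) (.nd (.nd (.lf 0x1d) (.lf 0xc)) (.nd (.lf 0xc) (.lf 0))))) (.nd (.nd (.nd (.nd (.lf 0x1d) (.lf 0xa)) (.nd (.lf 0x10) (.lf 0x10))) (.nd (.nd (.lf 0x1d) (.lf 0xa)) (.nd (.lf 0xa) (.lf 0x2)))) (.nd (.nd (.nd (.lf 0xa) (.lf 0x1d)) (.nd (.lf 0x2) (.lf 0x2))) (.nd (.nd (.lf 0xa) (.lf 0xa)) (.nd (.lf 0xa) (.lf 0)))))) (.nd (.nd (.nd (.nd (.nd (.lf 0xc) (.lf 0x10)) (.nd (.lf 0x1d) (.lf 0x1d))) (.nd (.nd (.lf 0x10) (.lf 0xa)) (.nd (.lf 0x10) (.lf 0x10)))) (.nd (.nd (.nd (.lf 0x10) (.lf 0xc)) (.nd (.lf 0x1d) (.lf 0x10)))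 (.nd (.nd (.lf 0x2) (.lf 0x1d)) (.nd (.lf 0x2) (.lf 0))))) (.nd (.nd (.nd (.nd (.lf 0xc) (.lf 0xc)) (.nd (.lf 0x1d) (.lf 0xa))) (.nd (.nd (.lf 0xa) (.lf 0x10)) (.nd (.lf 0x10) (.lf 0x1d)))) (.nd (.nd (.nd (.lf 0xc) (.lf 0x2)) (.nd (.lf 0x10) (.lf 0x2))) (.nd (.nd (.lf 0x2) (.lf 0xc)) (.nd (.lf 0x2) (.lf 0))))))) (.nd (.nd (.nd (.nd (.nd (.nd (.lf 0x1a) (.lf 0xe)) (.nd (.lf 0x14) (.lf 0x7))) (.nd (.nd (.lf 0x14) (.lf 0x1b)) (.nd (.lf 0x17) (.lf 0x17)))) (.nd (.nd (.nd (.lf 0x12) (.lf 0x8)) (.nd (.lf 0x19) (.lf 0x4))) (.nd (.nd (.lf 0xf) (.lf 0x1e)) (.nd (.lf 0x1a) (.lf 0))))) (.nd (.nd (.nd (.nd (.lf 0x11) (.lf 0x8)) (.nd (.lf 0x16) (.lf 0x18))) (.nd (.nd (.lf 0x12) (.lf 0x12)) (.nd (.lf 0x15) (.lf 0x15)))) (.nd (.nd (.nd (.lf 0x18) (.lf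 0x15)) (.nd (.lf 0x19) (.lf 0x16))) (.nd (.nd (.lf 0x9) (.lf 0x5)) (.nd (.lf 0x16) (.lf 0)))))) (.nd (.nd (.nd (.nd (.nd (.lf 0x8) (.lf 0x1e)) (.nd (.lf 0x4) (.lf 0x14))) (.nd (.nd (.lf 0x9) (.lf 0x4)) (.nd (.lf 0x7) (.lf 0x1b)))) (.nd (.nd (.nd (.lf 0x19) (.lf 0x7)) (.nd (.lf 0x9) (.lf 0x5))) (.nd (.nd (.lf 0x18) (.lf 0x5)) (.nd (.lf 0x1a) (.lf 0))))) (.nd (.nd (.nd (.nd (.lf 0x3) (.lf 0x11)) (.nd (.lf 0x3) (.lf 0x1f))) (.nd (.nd (.lf 0x1e) (.lf 0x3)) (.nd (.lf 0x1f) (.lf 0xe)))) (.nd (.nd (.nd (.lf 0x1f) (.lf 0x1b)) (.nd (.lf 0xf) (.lf 0xf))) (.nd (.nd (.lf 0x11) (.lf 0x17)) (.nd (.lf 0xe) (.lf 0))))))))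
def aConjQ_nabba : Tr := (.nd (.nd (.nd (.nd (.nd (.nd (.nd (.lf 0x6) (.lf 0x6)) (.nd (.lf 0x1c) (.lf 0xb))) (.nd (.nd (.lf 0xb) (.lf 0x6)) (.nd (.lf 0xd) (.lf 0x13)))) (.nd (.nd (.nd (.lf 0x1c) (.lf 0xd)) (.nd (.lf 0xb) (.lf 0xd))) (.nd (.nd (.lf 0xb) (.lf 0xb)) (.nd (.lf 0xd) (.lf 0))))) (.nd (.nd (.nd (.nd (.lf 0x6) (.lf 0x13)) (.nd (.lf 0xd) (.lf 0x6))) (.nd (.nd (.lf 0xd) (.lf 0x6)) (.nd (.lf 0x1c) (.lf 0xd)))) (.nd (.nd (.nd (.lf 0xb) (.lf 0x6)) (.nd (.lf 0x13) (.lf 0xb))) (.nd (.nd (.lf 0xb) (.lf 0x1c)) (.nd (.lf 0x6) (.lf 0)))))) (.nd (.nd (.nd (.nd (.nd (.lf 0x1c) (.lf 0xd)) (.nd (.lf 0x13) (.lf 0x6))) (.nd (.nd (.lf 0x1c) (.lf 0x1c)) (.nd (.lf 0x13) (.lf 0x13)))) (.nd (.nd (.nd (.lf 0x6) (.lf 0x1c)) (.nd (.lf 0xd) (.lf 0xd)))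 (.nd (.nd (.lf 0xd) (.lf 0xb)) (.nd (.lf 0x13) (.lf 0))))) (.nd (.nd (.nd (.nd (.lf 0xb) (.lf 0x1c)) (.nd (.lf 0x13) (.lf 0xb))) (.nd (.nd (.lf 0x13) (.lf 0x1c)) (.nd (.lf 0x13) (.lf 0x13)))) (.nd (.nd (.nd (.lf 0xd) (.lf 0xb)) (.nd (.lf 0x6) (.lf 0x1c))) (.nd (.nd (.lf 0x13) (.lf 0x6)) (.nd (.lf 0x1c) (.lf 0))))))) (.nd (.nd (.nd (.nd (.nd (.nd (.lf 0x16) (.lf 0x1b)) (.nd (.lf 0x3) (.lf 0xf))) (.nd (.nd (.lf 0x1b) (.lf 0x17)) (.nd (.lf 0x15) (.lf 0x8)))) (.nd (.nd (.nd (.lf 0xe) (.lf 0x9)) (.nd (.lf 0x3) (.lf 0x1a))) (.nd (.nd (.lf 0x5) (.lf 0x19)) (.nd (.lf 0x1f) (.lf 0))))) (.nd (.nd (.nd (.nd (.lf 0x15) (.lf 0x1e)) (.nd (.lf 0x5) (.lf 0x19))) (.nd (.nd (.lf 0x8) (.lf 0x1a)) (.nd (.lf 0x5) (.lf 0x18)))) (.nd (.nd (.nd (.lf 0x1f) (.lf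 0x14)) (.nd (.lf 0x11) (.lf 0x14))) (.nd (.nd (.lf 0x18) (.lf 0x4)) (.nd (.lf 0x12) (.lf 0)))))) (.nd (.nd (.nd (.nd (.nd (.lf 0x7) (.lf 0x16)) (.nd (.lf 0xe) (.lf 0x11))) (.nd (.nd (.lf 0x14) (.lf 0x15)) (.nd (.lf 0x1b) (.lf 0x1f)))) (.nd (.nd (.nd (.lf 0xf) (.lf 0x11)) (.nd (.lf 0x12) (.lf 0x1e))) (.nd (.nd (.lf 0x17) (.lf 0x7)) (.nd (.lf 0x19) (.lf 0))))) (.nd (.nd (.nd (.nd (.lf 0x1e) (.lf 0x8)) (.nd (.lf 0x4) (.lf 0x9))) (.nd (.nd (.lf 0x17) (.lf 0x9)) (.nd (.lf 0x7) (.lf 0x3)))) (.nd (.nd (.nd (.lf 0x4) (.lf 0x16)) (.nd (.lf 0x18) (.lf 0x12))) (.nd (.nd (.lf 0x1a) (.lf 0xe)) (.nd (.lf 0xf) (.lf 0))))))))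
def aConjQ_nabbb : Tr := (.nd (.nd (.nd (.nd (.nd (.nd (.nd (.lf 0xe) (.lf 0x15)) (.nd (.lf 0x12) (.lf 0x1e))) (.nd (.nd (.lf 0x5) (.lf 0xf)) (.nd (.lf 0x1f) (.lf 0x19)))) (.nd (.nd (.nd (.lf 0x5) (.lf 0x1a)) (.nd (.lf 0x16) (.lf 0x9))) (.nd (.nd (.lf 0x1b) (.lf 0x9)) (.nd (.lf 0x15) (.lf 0))))) (.nd (.nd (.nd (.nd (.lf 0x1b) (.lf 0xe)) (.nd (.lf 0x17) (.lf 0x12))) (.nd (.nd (.lf 0x18) (.lf 0x14)) (.nd (.lf 0xe) (.lf 0x8)))) (.nd (.nd (.nd (.lf 0x14) (.lf 0x1a)) (.nd (.lf 0x1f) (.lf 0x1f))) (.nd (.nd (.lf 0x7) (.lf 0x14)) (.nd (.lf 0x19) (.lf 0)))))) (.nd (.nd (.nd (.nd (.nd (.lf 0x15) (.lf 0x4)) (.nd (.lf 0x1e) (.lf 0x18))) (.nd (.nd (.lf 0x4) (.lf 0x7)) (.nd (.lf 0x4) (.lf 0x11)))) (.nd (.nd (.nd (.lf 0x17) (.lf 0x9)) (.nd (.lf 0x1e)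 (.lf 0x12))) (.nd (.nd (.lf 0x5) (.lf 0x18)) (.nd (.lf 0x8) (.lf 0))))) (.nd (.nd (.nd (.nd (.lf 0xf) (.lf 0xf)) (.nd (.lf 0x1b) (.lf 0x19))) (.nd (.nd (.lf 0x7) (.lf 0x11)) (.nd (.lf 0x17) (.lf 0x1a)))) (.nd (.nd (.nd (.lf 0x16) (.lf 0x3)) (.nd (.lf 0x11) (.lf 0x3))) (.nd (.nd (.lf 0x3) (.lf 0x16)) (.nd (.lf 0x8) (.lf 0))))))) (.nd (.nd (.nd (.nd (.nd (.nd (.lf 0x1e) (.lf 0x7)) (.nd (.lf 0x19) (.lf 0xe))) (.nd (.nd (.lf 0xe) (.lf 0x1e)) (.nd (.lf 0x11) (.lf 0x12)))) (.nd (.nd (.nd (.lf 0x17) (.lf 0x3)) (.nd (.lf 0xe) (.lf 0x11))) (.nd (.nd (.lf 0x15) (.lf 0x1a)) (.nd (.lf 0x1b) (.lf 0))))) (.nd (.nd (.nd (.nd (.lf 0x4) (.lf 0x5)) (.nd (.lf 0xf) (.lf 0x1e))) (.nd (.nd (.lf 0x11) (.lf 0x4)) (.nd (.lf 0x16) (.lf 0xf)))) (.nd (.nd (.nd (.lf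 0x1a) (.lf 0x9)) (.nd (.lf 0x14) (.lf 0x15))) (.nd (.nd (.lf 0x15) (.lf 0x1f)) (.nd (.lf 0x9) (.lf 0)))))) (.nd (.nd (.nd (.nd (.nd (.lf 0x1f) (.lf 0x1b)) (.nd (.lf 0x12) (.lf 0x7))) (.nd (.nd (.lf 0x16) (.lf 0x17)) (.nd (.lf 0x14) (.lf 0x18)))) (.nd (.nd (.nd (.lf 0x7) (.lf 0x19)) (.nd (.lf 0xf) (.lf 0x3))) (.nd (.nd (.lf 0x1b) (.lf 0x8)) (.nd (.lf 0x18) (.lf 0))))) (.nd (.nd (.nd (.nd (.lf 0x8) (.lf 0x17)) (.nd (.lf 0x5) (.lf 0x8))) (.nd (.nd (.lf 0x18) (.lf 0x1f)) (.nd (.lf 0x5) (.lf 0x14)))) (.nd (.nd (.nd (.lf 0x3) (.lf 0x1a)) (.nd (.lf 0x9) (.lf 0x16))) (.nd (.nd (.lf 0x12) (.lf 0x4)) (.nd (.lf 0x19) (.lf 0))))))))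
def aConjQ_nbaaa : Tr := (.nd (.nd (.nd (.nd (.nd (.nd (.nd (.lf 0x1) (.lf 0x1)) (.nd (.lf 0x1) (.lf 0x1))) (.nd (.nd (.lf 0x1) (.lf 0x1)) (.nd (.lf 0x1) (.lf 0x1)))) (.nd (.nd (.nd (.lf 0x1) (.lf 0x1)) (.nd (.lf 0x1) (.lf 0x1))) (.nd (.nd (.lf 0x1) (.lf 0x1)) (.nd (.lf 0x1) (.lf 0))))) (.nd (.nd (.nd (.nd (.lf 0x1) (.lf 0x1)) (.nd (.lf 0x1) (.lf 0x1))) (.nd (.nd (.lf 0x1) (.lf 0x1)) (.nd (.lf 0x1) (.lf 0x1)))) (.nd (.nd (.nd (.lf 0x1) (.lf 0x1)) (.nd (.lf 0x1) (.lf 0x1))) (.nd (.nd (.lf 0x1) (.lf 0x1)) (.nd (.lf 0x1) (.lf 0)))))) (.nd (.nd (.nd (.nd (.nd (.lf 0x1) (.lf 0x1)) (.nd (.lf 0x1) (.lf 0x1))) (.nd (.nd (.lf 0x1) (.lf 0x1)) (.nd (.lf 0x1) (.lf 0x1)))) (.nd (.nd (.nd (.lf 0x1) (.lf 0x1)) (.nd (.lf 0x1) (.lf 0x1))) (.nd (.nd (.lf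 0x1) (.lf 0x1)) (.nd (.lf 0x1) (.lf 0))))) (.nd (.nd (.nd (.nd (.lf 0x1) (.lf 0x1)) (.nd (.lf 0x1) (.lf 0x1))) (.nd (.nd (.lf 0x1) (.lf 0x1)) (.nd (.lf 0x1) (.lf 0x1)))) (.nd (.nd (.nd (.lf 0x1) (.lf 0x1)) (.nd (.lf 0x1) (.lf 0x1))) (.nd (.nd (.lf 0x1) (.lf 0x1)) (.nd (.lf 0x1) (.lf 0))))))) (.nd (.nd (.nd (.nd (.nd (.nd (.lf 0x11) (.lf 0x12)) (.nd (.lf 0x15) (.lf 0x1f))) (.nd (.nd (.lf 0x9) (.lf 0x14)) (.nd (.lf 0x1e) (.lf 0x1b)))) (.nd (.nd (.nd (.lf 0x9) (.lf 0x17)) (.nd (.lf 0x18) (.lf 0x5))) (.nd (.nd (.lf 0x19) (.lf 0x5)) (.nd (.lf 0x12) (.lf 0))))) (.nd (.nd (.nd (.nd (.lf 0x19) (.lf 0x11)) (.nd (.lf 0x1a) (.lf 0x15))) (.nd (.nd (.lf 0x16) (.lf 0xf)) (.nd (.lf 0x11) (.lf 0x4)))) (.nd (.nd (.nd (.lf 0xf) (.lf 0x17)) (.nd (.lf 0x1e)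 (.lf 0x1e))) (.nd (.nd (.lf 0x3) (.lf 0xf)) (.nd (.lf 0x1b) (.lf 0)))))) (.nd (.nd (.nd (.nd (.nd (.lf 0x12) (.lf 0x8)) (.nd (.lf 0x1f) (.lf 0x16))) (.nd (.nd (.lf 0x8) (.lf 0x3)) (.nd (.lf 0x8) (.lf 0xe)))) (.nd (.nd (.nd (.lf 0x1a) (.lf 0x5)) (.nd (.lf 0x1f) (.lf 0x15))) (.nd (.nd (.lf 0x9) (.lf 0x16)) (.nd (.lf 0x4) (.lf 0))))) (.nd (.nd (.nd (.nd (.lf 0x14) (.lf 0x14)) (.nd (.lf 0x19) (.lf 0x1b))) (.nd (.nd (.lf 0x3) (.lf 0xe)) (.nd (.lf 0x1a) (.lf 0x17)))) (.nd (.nd (.nd (.lf 0x18) (.lf 0x7)) (.nd (.lf 0xe) (.lf 0x7))) (.nd (.nd (.lf 0x7) (.lf 0x18)) (.nd (.lf 0x4) (.lf 0))))))))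
def aConjQ_nbaab : Tr := (.nd (.nd (.nd (.nd (.nd (.nd (.nd (.lf 0x9) (.lf 0x1e)) (.nd (.lf 0x1f) (.lf 0x15))) (.nd (.nd (.lf 0x1a) (.lf 0x4)) (.nd (.lf 0xf) (.lf 0x5)))) (.nd (.nd (.nd (.lf 0x19) (.lf 0xf)) (.nd (.lf 0x8) (.lf 0x1b))) (.nd (.nd (.lf 0x8) (.lf 0xe)) (.nd (.lf 0x3) (.lf 0))))) (.nd (.nd (.nd (.nd (.lf 0x9) (.lf 0x18)) (.nd (.lf 0x3) (.lf 0x7))) (.nd (.nd (.lf 0x3) (.lf 0x1e)) (.nd (.lf 0x1f) (.lf 0x1b)))) (.nd (.nd (.nd (.lf 0x8) (.lf 0x7)) (.nd (.lf 0x12) (.lf 0xe))) (.nd (.nd (.lf 0x1a) (.lf 0x17)) (.nd (.lf 0x4) (.lf 0)))))) (.nd (.nd (.nd (.nd (.nd (.lf 0x19) (.lf 0xf)) (.nd (.lf 0x14) (.lf 0x4))) (.nd (.nd (.lf 0x19) (.lf 0x16)) (.nd (.lf 0x18) (.lf 0x5)))) (.nd (.nd (.nd (.lf 0x9) (.lf 0x17)) (.nd (.lf 0x11) (.lf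 0x1b))) (.nd (.nd (.lf 0x11) (.lf 0xe)) (.nd (.lf 0x14) (.lf 0))))) (.nd (.nd (.nd (.nd (.lf 0x1a) (.lf 0x1f)) (.nd (.lf 0x12) (.lf 0x15))) (.nd (.nd (.lf 0x12) (.lf 0x16)) (.nd (.lf 0x14) (.lf 0x5)))) (.nd (.nd (.nd (.lf 0x11) (.lf 0x15)) (.nd (.lf 0x1e) (.lf 0x17))) (.nd (.nd (.lf 0x18) (.lf 0x7)) (.nd (.lf 0x16) (.lf 0))))))) (.nd (.nd (.nd (.nd (.nd (.nd (.lf 0x19) (.lf 0xf)) (.nd (.lf 0x11) (.lf 0x1b))) (.nd (.nd (.lf 0x3) (.lf 0x16)) (.nd (.lf 0x8) (.lf 0xe)))) (.nd (.nd (.nd (.lf 0x8) (.lf 0x1e)) (.nd (.lf 0xf) (.lf 0x15))) (.nd (.nd (.lf 0x18) (.lf 0x16)) (.nd (.lf 0x16) (.lf 0))))) (.nd (.nd (.nd (.nd (.lf 0x1a) (.lf 0x7)) (.nd (.lf 0x12) (.lf 0x17))) (.nd (.nd (.lf 0x1a) (.lf 0xe)) (.nd (.lf 0x14) (.lf 0x5)))) (.nd (.nd (.nd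 (.lf 0x19) (.lf 0x18)) (.nd (.lf 0x3) (.lf 0x5))) (.nd (.nd (.lf 0x14) (.lf 0x7)) (.nd (.lf 0x14) (.lf 0)))))) (.nd (.nd (.nd (.nd (.nd (.lf 0x9) (.lf 0x17)) (.nd (.lf 0x1a) (.lf 0x1b))) (.nd (.nd (.lf 0x12) (.lf 0xe)) (.nd (.lf 0x11) (.lf 0x17)))) (.nd (.nd (.nd (.lf 0x11) (.lf 0xf)) (.nd (.lf 0x18) (.lf 0x4))) (.nd (.nd (.lf 0x1f) (.lf 0x1e)) (.nd (.lf 0x1f) (.lf 0))))) (.nd (.nd (.nd (.nd (.lf 0x9) (.lf 0x15)) (.nd (.lf 0x1e) (.lf 0x7))) (.nd (.nd (.lf 0x19) (.lf 0x4)) (.nd (.lf 0x4) (.lf 0x1b)))) (.nd (.nd (.nd (.lf 0x9) (.lf 0x1f)) (.nd (.lf 0x12) (.lf 0x5))) (.nd (.nd (.lf 0x8) (.lf 0x15)) (.nd (.lf 0x3) (.lf 0))))))))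
def aConjQ_nbaba : Tr := (.nd (.nd (.nd (.nd (.nd (.nd (.nd (.lf 0x5) (.lf 0x1f)) (.nd (.lf 0x1e) (.lf 0x12))) (.nd (.nd (.lf 0x17) (.lf 0x8)) (.nd (.lf 0x14) (.lf 0x9)))) (.nd (.nd (.nd (.lf 0x1b) (.lf 0x14)) (.nd (.lf 0x4) (.lf 0x19))) (.nd (.nd (.lf 0x4) (.lf 0x11)) (.nd (.lf 0x7) (.lf 0))))) (.nd (.nd (.nd (.nd (.lf 0x5) (.lf 0x16)) (.nd (.lf 0x7) (.lf 0x3))) (.nd (.nd (.lf 0x7) (.lf 0x1f)) (.nd (.lf 0x1e) (.lf 0x19)))) (.nd (.nd (.nd (.lf 0x4) (.lf 0x3)) (.nd (.lf 0x15) (.lf 0x11))) (.nd (.nd (.lf 0x17) (.lf 0x1a)) (.nd (.lf 0x8) (.lf 0)))))) (.nd (.nd (.nd (.nd (.nd (.lf 0x1b) (.lf 0x14)) (.nd (.lf 0xf) (.lf 0x8))) (.nd (.nd (.lf 0x1b) (.lf 0x18)) (.nd (.lf 0x16) (.lf 0x9)))) (.nd (.nd (.nd (.lf 0x5) (.lf 0x1a)) (.nd (.lf 0xe) (.lf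 0x19))) (.nd (.nd (.lf 0xe) (.lf 0x11)) (.nd (.lf 0xf) (.lf 0))))) (.nd (.nd (.nd (.nd (.lf 0x17) (.lf 0x1e)) (.nd (.lf 0x15) (.lf 0x12))) (.nd (.nd (.lf 0x15) (.lf 0x18)) (.nd (.lf 0xf) (.lf 0x9)))) (.nd (.nd (.nd (.lf 0xe) (.lf 0x12)) (.nd (.lf 0x1f) (.lf 0x1a))) (.nd (.nd (.lf 0x16) (.lf 0x3)) (.nd (.lf 0x18) (.lf 0))))))) (.nd (.nd (.nd (.nd (.nd (.nd (.lf 0x15) (.lf 0x1a)) (.nd (.lf 0x5) (.lf 0x9))) (.nd (.nd (.lf 0x18) (.lf 0x11)) (.nd (.lf 0x16) (.lf 0x1f)))) (.nd (.nd (.nd (.lf 0x14) (.lf 0x15)) (.nd (.lf 0x1f) (.lf 0x1e))) (.nd (.nd (.lf 0x3) (.lf 0x7)) (.nd (.lf 0x8) (.lf 0))))) (.nd (.nd (.nd (.nd (.lf 0xf) (.lf 0x1a)) (.nd (.lf 0x1f) (.lf 0x14))) (.nd (.nd (.lf 0x5) (.lf 0x18)) (.nd (.lf 0x8) (.lf 0x1a)))) (.nd (.nd (.nd (.lf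 0x5) (.lf 0xe)) (.nd (.lf 0x17) (.lf 0x19))) (.nd (.nd (.lf 0x1e) (.lf 0x12)) (.nd (.lf 0x17) (.lf 0)))))) (.nd (.nd (.nd (.nd (.nd (.lf 0xe) (.lf 0x9)) (.nd (.lf 0x7) (.lf 0x12))) (.nd (.nd (.lf 0x7) (.lf 0x9)) (.nd (.lf 0x1e) (.lf 0x3)))) (.nd (.nd (.nd (.lf 0x16) (.lf 0x4)) (.nd (.lf 0x4) (.lf 0x18))) (.nd (.nd (.lf 0x12) (.lf 0x14)) (.nd (.lf 0xe) (.lf 0))))) (.nd (.nd (.nd (.nd (.lf 0x1b) (.lf 0x3)) (.nd (.lf 0x11) (.lf 0x16))) (.nd (.nd (.lf 0x4) (.lf 0xf)) (.nd (.lf 0x19) (.lf 0x8)))) (.nd (.nd (.nd (.lf 0x17) (.lf 0xf)) (.nd (.lf 0x1b) (.lf 0x11))) (.nd (.nd (.lf 0x1b) (.lf 0x19)) (.nd (.lf 0x15) (.lf 0))))))))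
def aConjQ_nbabb : Tr := (.nd (.nd (.nd (.nd (.nd (.nd (.nd (.lf 0xd) (.lf 0x13)) (.nd (.lf 0xb) (.lf 0x1c))) (.nd (.nd (.lf 0x6) (.lf 0x13)) (.nd (.lf 0x6) (.lf 0xd)))) (.nd (.nd (.nd (.lf 0x6) (.lf 0x1c)) (.nd (.lf 0x13) (.lf 0x13))) (.nd (.nd (.lf 0x1c) (.lf 0x13)) (.nd (.lf 0x13) (.lf 0))))) (.nd (.nd (.nd (.nd (.lf 0x1c) (.lf 0xd)) (.nd (.lf 0xb) (.lf 0xb))) (.nd (.nd (.lf 0x1c) (.lf 0xd)) (.nd (.lf 0xd) (.lf 0x6)))) (.nd (.nd (.nd (.lf 0xd) (.lf 0x1c)) (.nd (.lf 0x6) (.lf 0x6))) (.nd (.nd (.lf 0xd) (.lf 0xd)) (.nd (.lf 0xd) (.lf 0)))))) (.nd (.nd (.nd (.nd (.nd (.lf 0x13) (.lf 0xb)) (.nd (.lf 0x1c) (.lf 0x1c))) (.nd (.nd (.lf 0xb) (.lf 0xd)) (.nd (.lf 0xb) (.lf 0xb)))) (.nd (.nd (.nd (.lf 0xb) (.lf 0x13)) (.nd (.lf 0x1c) (.lf 0xb)))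 (.nd (.nd (.lf 0x6) (.lf 0x1c)) (.nd (.lf 0x6) (.lf 0))))) (.nd (.nd (.nd (.nd (.lf 0x13) (.lf 0x13)) (.nd (.lf 0x1c) (.lf 0xd))) (.nd (.nd (.lf 0xd) (.lf 0xb)) (.nd (.lf 0xb) (.lf 0x1c)))) (.nd (.nd (.nd (.lf 0x13) (.lf 0x6)) (.nd (.lf 0xb) (.lf 0x6))) (.nd (.nd (.lf 0x6) (.lf 0x13)) (.nd (.lf 0x6) (.lf 0))))))) (.nd (.nd (.nd (.nd (.nd (.nd (.lf 0x1d) (.lf 0xa)) (.nd (.lf 0xa) (.lf 0xa))) (.nd (.nd (.lf 0xa) (.lf 0x1d)) (.nd (.lf 0x10) (.lf 0x10)))) (.nd (.nd (.nd (.lf 0x10) (.lf 0x2)) (.nd (.lf 0xa) (.lf 0x10))) (.nd (.nd (.lf 0xc) (.lf 0x1d)) (.nd (.lf 0x1d) (.lf 0))))) (.nd (.nd (.nd (.nd (.lf 0x10) (.lf 0x2)) (.nd (.lf 0xc) (.lf 0x1d))) (.nd (.nd (.lf 0x10) (.lf 0x10)) (.nd (.lf 0xc) (.lf 0xc)))) (.nd (.nd (.nd (.lf 0x1d) (.lf 0xc))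 (.nd (.lf 0xa) (.lf 0xc))) (.nd (.nd (.lf 0xc) (.lf 0x2)) (.nd (.lf 0xc) (.lf 0)))))) (.nd (.nd (.nd (.nd (.nd (.lf 0x2) (.lf 0x1d)) (.nd (.lf 0x10) (.lf 0xa))) (.nd (.nd (.lf 0xc) (.lf 0x10)) (.nd (.lf 0xa) (.lf 0x1d)))) (.nd (.nd (.nd (.lf 0xa) (.lf 0xa)) (.nd (.lf 0xc) (.lf 0x2))) (.nd (.nd (.lf 0x1d) (.lf 0x2)) (.nd (.lf 0x1d) (.lf 0))))) (.nd (.nd (.nd (.nd (.lf 0x2) (.lf 0x10)) (.nd (.lf 0x2) (.lf 0x2))) (.nd (.nd (.lf 0x1d) (.lf 0x2)) (.nd (.lf 0x2) (.lf 0xa)))) (.nd (.nd (.nd (.lf 0x2) (.lf 0x1d)) (.nd (.lf 0xc) (.lf 0xc))) (.nd (.nd (.lf 0x10) (.lf 0x10)) (.nd (.lf 0xa) (.lf 0))))))))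
def aConjQ_nbbaa : Tr := (.nd (.nd (.nd (.nd (.nd (.nd (.nd (.lf 0x3) (.lf 0x5)) (.nd (.lf 0x1a) (.lf 0x17))) (.nd (.nd (.lf 0x4) (.lf 0x5)) (.nd (.lf 0x7) (.lf 0xf)))) (.nd (.nd (.nd (.lf 0x1e) (.lf 0x19)) (.nd (.lf 0x12) (.lf 0x14))) (.nd (.nd (.lf 0x17) (.lf 0x12)) (.nd (.lf 0x14) (.lf 0))))) (.nd (.nd (.nd (.nd (.lf 0x1f) (.lf 0xf)) (.nd (.lf 0xe) (.lf 0x8))) (.nd (.nd (.lf 0x19) (.lf 0x3)) (.nd (.lf 0x1b) (.lf 0x7)))) (.nd (.nd (.nd (.lf 0x11) (.lf 0x1f)) (.nd (.lf 0x9) (.lf 0x4))) (.nd (.nd (.lf 0x11) (.lf 0x1b)) (.nd (.lf 0x3) (.lf 0)))))) (.nd (.nd (.nd (.nd (.nd (.lf 0x18) (.lf 0xe)) (.nd (.lf 0x16) (.lf 0x1f))) (.nd (.nd (.lf 0x1a) (.lf 0x1b)) (.nd (.lf 0x15) (.lf 0x15)))) (.nd (.nd (.nd (.lf 0x8) (.lf 0x18)) (.nd (.lf 0x19)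 (.lf 0xe))) (.nd (.nd (.lf 0x7) (.lf 0x17)) (.nd (.lf 0x9) (.lf 0))))) (.nd (.nd (.nd (.nd (.lf 0x12) (.lf 0x18)) (.nd (.lf 0x16) (.lf 0x11))) (.nd (.nd (.lf 0xf) (.lf 0x1a)) (.nd (.lf 0x15) (.lf 0x16)))) (.nd (.nd (.nd (.lf 0x14) (.lf 0x4)) (.nd (.lf 0x8) (.lf 0x1e))) (.nd (.nd (.lf 0x9) (.lf 0x5)) (.nd (.lf 0x1e) (.lf 0))))))) (.nd (.nd (.nd (.nd (.nd (.nd (.lf 0x13) (.lf 0x1c)) (.nd (.lf 0x6) (.lf 0x13))) (.nd (.nd (.lf 0x1c) (.lf 0xb)) (.nd (.lf 0x13) (.lf 0x6)))) (.nd (.nd (.nd (.lf 0xd) (.lf 0x13)) (.nd (.lf 0x6) (.lf 0x1c))) (.nd (.nd (.lf 0x6) (.lf 0xd)) (.nd (.lf 0x6) (.lf 0))))) (.nd (.nd (.nd (.nd (.lf 0x13) (.lf 0x1c)) (.nd (.lf 0x6) (.lf 0xd))) (.nd (.nd (.lf 0x6) (.lf 0x1c)) (.nd (.lf 0x6) (.lf 0x1c)))) (.nd (.nd (.nd (.lf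 0x6) (.lf 0xd)) (.nd (.lf 0xb) (.lf 0xd))) (.nd (.nd (.lf 0x1c) (.lf 0xb)) (.nd (.lf 0xb) (.lf 0)))))) (.nd (.nd (.nd (.nd (.nd (.lf 0xd) (.lf 0x13)) (.nd (.lf 0xd) (.lf 0xb))) (.nd (.nd (.lf 0xd) (.lf 0x13)) (.nd (.lf 0x1c) (.lf 0x6)))) (.nd (.nd (.nd (.lf 0x13) (.lf 0xb)) (.nd (.lf 0xb) (.lf 0x1c))) (.nd (.nd (.lf 0xb) (.lf 0xd)) (.nd (.lf 0xd) (.lf 0))))) (.nd (.nd (.nd (.nd (.lf 0x1c) (.lf 0x6)) (.nd (.lf 0xb) (.lf 0x13))) (.nd (.nd (.lf 0xb) (.lf 0x13)) (.nd (.lf 0xd) (.lf 0x6)))) (.nd (.nd (.nd (.lf 0xb) (.lf 0x13)) (.nd (.lf 0x1c) (.lf 0xb))) (.nd (.nd (.lf 0x1c) (.lf 0xd)) (.nd (.lf 0x13) (.lf 0))))))))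
def aConjQ_nbbab : Tr := (.nd (.nd (.nd (.nd (.nd (.nd (.nd (.lf 0xb) (.lf 0xb)) (.nd (.lf 0x13) (.lf 0x6))) (.nd (.nd (.lf 0x13) (.lf 0xd)) (.nd (.lf 0x1c) (.lf 0x1c)))) (.nd (.nd (.nd (.lf 0x13) (.lf 0xb)) (.nd (.lf 0x1c) (.lf 0x6))) (.nd (.nd (.lf 0xd) (.lf 0x6)) (.nd (.lf 0xb) (.lf 0))))) (.nd (.nd (.nd (.nd (.lf 0xd) (.lf 0xb)) (.nd (.lf 0x1c) (.lf 0x13))) (.nd (.nd (.lf 0x13) (.lf 0x13)) (.nd (.lf 0xb) (.lf 0xb)))) (.nd (.nd (.nd (.lf 0x13) (.lf 0xb)) (.nd (.lf 0x1c) (.lf 0x1c))) (.nd (.nd (.lf 0x6) (.lf 0x13)) (.nd (.lf 0x1c) (.lf 0)))))) (.nd (.nd (.nd (.nd (.nd (.lf 0xb) (.lf 0x6)) (.nd (.lf 0x6) (.lf 0x13))) (.nd (.nd (.lf 0x6) (.lf 0x6)) (.nd (.lf 0x6) (.lf 0xd)))) (.nd (.nd (.nd (.lf 0x1c) (.lf 0x6)) (.nd (.lf 0x6) (.lf 0x13)))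 (.nd (.nd (.lf 0x13) (.lf 0x13)) (.nd (.lf 0xb) (.lf 0))))) (.nd (.nd (.nd (.nd (.lf 0xd) (.lf 0xd)) (.nd (.lf 0xd) (.lf 0x1c))) (.nd (.nd (.lf 0x6) (.lf 0xd)) (.nd (.lf 0x1c) (.lf 0xb)))) (.nd (.nd (.nd (.lf 0x1c) (.lf 0xd)) (.nd (.lf 0xd) (.lf 0xd))) (.nd (.nd (.lf 0xd) (.lf 0x1c)) (.nd (.lf 0xb) (.lf 0))))))) (.nd (.nd (.nd (.nd (.nd (.nd (.lf 0x1b) (.lf 0x14)) (.nd (.lf 0xe) (.lf 0x19))) (.nd (.nd (.lf 0x7) (.lf 0x18)) (.nd (.lf 0x4) (.lf 0x11)))) (.nd (.nd (.nd (.lf 0x4) (.lf 0x1f)) (.nd (.lf 0x14) (.lf 0x12))) (.nd (.nd (.lf 0x16) (.lf 0x18)) (.nd (.lf 0x18) (.lf 0))))) (.nd (.nd (.nd (.nd (.lf 0x17) (.lf 0x3)) (.nd (.lf 0x15) (.lf 0x1a))) (.nd (.nd (.lf 0x17) (.lf 0x11)) (.nd (.lf 0xf) (.lf 0x9)))) (.nd (.nd (.nd (.lf 0x1b) (.lf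 0x16)) (.nd (.lf 0x7) (.lf 0x9))) (.nd (.nd (.lf 0xf) (.lf 0x3)) (.nd (.lf 0xf) (.lf 0)))))) (.nd (.nd (.nd (.nd (.nd (.lf 0x5) (.lf 0x1a)) (.nd (.lf 0x17) (.lf 0x19))) (.nd (.nd (.lf 0x15) (.lf 0x11)) (.nd (.lf 0xe) (.lf 0x1a)))) (.nd (.nd (.nd (.lf 0xe) (.lf 0x14)) (.nd (.lf 0x16) (.lf 0x8))) (.nd (.nd (.lf 0x1e) (.lf 0x1f)) (.nd (.lf 0x1e) (.lf 0))))) (.nd (.nd (.nd (.nd (.lf 0x5) (.lf 0x12)) (.nd (.lf 0x1f) (.lf 0x3))) (.nd (.nd (.lf 0x1b) (.lf 0x8)) (.nd (.lf 0x8) (.lf 0x19)))) (.nd (.nd (.nd (.lf 0x5) (.lf 0x1e)) (.nd (.lf 0x15) (.lf 0x9))) (.nd (.nd (.lf 0x4) (.lf 0x12)) (.nd (.lf 0x7) (.lf 0))))))))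
def aConjQ_nbbba : Tr := (.nd (.nd (.nd (.nd (.nd (.nd (.nd (.lf 0x7) (.lf 0x9)) (.nd (.lf 0x17) (.lf 0x1a))) (.nd (.nd (.lf 0x8) (.lf 0x9)) (.nd (.lf 0x3) (.lf 0x14)))) (.nd (.nd (.nd (.lf 0x1f) (.lf 0x1b)) (.nd (.lf 0x15) (.lf 0xf))) (.nd (.nd (.lf 0x1a) (.lf 0x15)) (.nd (.lf 0xf) (.lf 0))))) (.nd (.nd (.nd (.nd (.lf 0x1e) (.lf 0x14)) (.nd (.lf 0x11) (.lf 0x4))) (.nd (.nd (.lf 0x1b) (.lf 0x7)) (.nd (.lf 0x19) (.lf 0x3)))) (.nd (.nd (.nd (.lf 0xe) (.lf 0x1e)) (.nd (.lf 0x5) (.lf 0x8))) (.nd (.nd (.lf 0xe) (.lf 0x19)) (.nd (.lf 0x7) (.lf 0)))))) (.nd (.nd (.nd (.nd (.nd (.lf 0x16) (.lf 0x11)) (.nd (.lf 0x18) (.lf 0x1e))) (.nd (.nd (.lf 0x17) (.lf 0x19)) (.nd (.lf 0x12) (.lf 0x12)))) (.nd (.nd (.nd (.lf 0x4) (.lf 0x16)) (.nd (.lf 0x1b)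 (.lf 0x11))) (.nd (.nd (.lf 0x3) (.lf 0x1a)) (.nd (.lf 0x5) (.lf 0))))) (.nd (.nd (.nd (.nd (.lf 0x15) (.lf 0x16)) (.nd (.lf 0x18) (.lf 0xe))) (.nd (.nd (.lf 0x14) (.lf 0x17)) (.nd (.lf 0x12) (.lf 0x18)))) (.nd (.nd (.nd (.lf 0xf) (.lf 0x8)) (.nd (.lf 0x4) (.lf 0x1f))) (.nd (.nd (.lf 0x5) (.lf 0x9)) (.nd (.lf 0x1f) (.lf 0))))))) (.nd (.nd (.nd (.nd (.nd (.nd (.lf 0x17) (.lf 0x11)) (.nd (.lf 0xf) (.lf 0x3))) (.nd (.nd (.lf 0xf) (.lf 0x19)) (.nd (.lf 0x1a) (.lf 0x1a)))) (.nd (.nd (.nd (.lf 0x15) (.lf 0x4)) (.nd (.lf 0x1b) (.lf 0x8))) (.nd (.nd (.lf 0x14) (.lf 0x1f)) (.nd (.lf 0x17) (.lf 0))))) (.nd (.nd (.nd (.nd (.lf 0xe) (.lf 0x4)) (.nd (.lf 0x18) (.lf 0x16))) (.nd (.nd (.lf 0x15) (.lf 0x15)) (.nd (.lf 0x12) (.lf 0x12)))) (.nd (.nd (.nd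 (.lf 0x16) (.lf 0x12)) (.nd (.lf 0x1b) (.lf 0x18))) (.nd (.nd (.lf 0x5) (.lf 0x9)) (.nd (.lf 0x18) (.lf 0)))))) (.nd (.nd (.nd (.nd (.nd (.lf 0x4) (.lf 0x1f)) (.nd (.lf 0x8) (.lf 0xf))) (.nd (.nd (.lf 0x5) (.lf 0x8)) (.nd (.lf 0x3) (.lf 0x19)))) (.nd (.nd (.nd (.lf 0x1b) (.lf 0x3)) (.nd (.lf 0x5) (.lf 0x9))) (.nd (.nd (.lf 0x16) (.lf 0x9)) (.nd (.lf 0x17) (.lf 0))))) (.nd (.nd (.nd (.nd (.lf 0x7) (.lf 0xe)) (.nd (.lf 0x7) (.lf 0x1e))) (.nd (.nd (.lf 0x1f) (.lf 0x7)) (.nd (.lf 0x1e) (.lf 0x11)))) (.nd (.nd (.nd (.lf 0x1e) (.lf 0x19)) (.nd (.lf 0x14) (.lf 0x14))) (.nd (.nd (.lf 0xe) (.lf 0x1a)) (.nd (.lf 0x11) (.lf 0))))))))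
def aConjQ_nbbbb : Tr := (.nd (.nd (.nd (.nd (.nd (.nd (.nd (.lf 0xf) (.lf 0x18)) (.nd (.lf 0x8) (.lf 0x16))) (.nd (.nd (.lf 0x1e) (.lf 0x12)) (.nd (.lf 0x9) (.lf 0x3)))) (.nd (.nd (.nd (.lf 0x7) (.lf 0x16)) (.nd (.lf 0x5) (.lf 0x18))) (.nd (.nd (.lf 0x1f) (.lf 0x14)) (.nd (.lf 0x5) (.lf 0))))) (.nd (.nd (.nd (.nd (.lf 0x16) (.lf 0x1b)) (.nd (.lf 0x8) (.lf 0xe))) (.nd (.nd (.lf 0x1f) (.lf 0x1b)) (.nd (.lf 0x3) (.lf 0x1e)))) (.nd (.nd (.nd (.lf 0x3) (.lf 0x19)) (.nd (.lf 0x4) (.lf 0x7))) (.nd (.nd (.lf 0x1b) (.lf 0x11)) (.nd (.lf 0x11) (.lf 0)))))) (.nd (.nd (.nd (.nd (.nd (.lf 0x14) (.lf 0x15)) (.nd (.lf 0x19) (.lf 0x17))) (.nd (.nd (.lf 0xe) (.lf 0xf)) (.nd (.lf 0x1a) (.lf 0x8)))) (.nd (.nd (.nd (.lf 0x15) (.lf 0x12)) (.nd (.lf 0x17)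 (.lf 0x1a))) (.nd (.nd (.lf 0x4) (.lf 0x19)) (.nd (.lf 0x7) (.lf 0))))) (.nd (.nd (.nd (.nd (.lf 0x18) (.lf 0x5)) (.nd (.lf 0x17) (.lf 0xf))) (.nd (.nd (.lf 0x11) (.lf 0x15)) (.nd (.lf 0xe) (.lf 0x1f)))) (.nd (.nd (.nd (.lf 0x12) (.lf 0x9)) (.nd (.lf 0x1a) (.lf 0x4))) (.nd (.nd (.lf 0x1e) (.lf 0x14)) (.nd (.lf 0x9) (.lf 0))))))) (.nd (.nd (.nd (.nd (.nd (.nd (.lf 0x1f) (.lf 0x3)) (.nd (.lf 0x1b) (.lf 0x11))) (.nd (.nd (.lf 0x11) (.lf 0x1f)) (.nd (.lf 0xe) (.lf 0x15)))) (.nd (.nd (.nd (.lf 0x1a) (.lf 0x7)) (.nd (.lf 0x11) (.lf 0xe))) (.nd (.nd (.lf 0x12) (.lf 0x17)) (.nd (.lf 0x19) (.lf 0))))) (.nd (.nd (.nd (.nd (.lf 0x8) (.lf 0x9)) (.nd (.lf 0x14) (.lf 0x1f))) (.nd (.nd (.lf 0xe) (.lf 0x8)) (.nd (.lf 0x18) (.lf 0x14)))) (.nd (.nd (.nd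 (.lf 0x17) (.lf 0x5)) (.nd (.lf 0xf) (.lf 0x12))) (.nd (.nd (.lf 0x12) (.lf 0x1e)) (.nd (.lf 0x5) (.lf 0)))))) (.nd (.nd (.nd (.nd (.nd (.lf 0x1e) (.lf 0x19)) (.nd (.lf 0x15) (.lf 0x3))) (.nd (.nd (.lf 0x18) (.lf 0x1a)) (.nd (.lf 0xf) (.lf 0x16)))) (.nd (.nd (.nd (.lf 0x3) (.lf 0x1b)) (.nd (.lf 0x14) (.lf 0x7))) (.nd (.nd (.lf 0x19) (.lf 0x4)) (.nd (.lf 0x16) (.lf 0))))) (.nd (.nd (.nd (.nd (.lf 0x4) (.lf 0x1a)) (.nd (.lf 0x9) (.lf 0x4))) (.nd (.nd (.lf 0x16) (.lf 0x1e)) (.nd (.lf 0x9) (.lf 0xf)))) (.nd (.nd (.nd (.lf 0x7) (.lf 0x17)) (.nd (.lf 0x5) (.lf 0x18))) (.nd (.nd (.lf 0x15) (.lf 0x8)) (.nd (.lf 0x1b) (.lf 0))))))))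
def aConjQ : Tr := (.nd (.nd (.nd (.nd aConjQ_naaaa aConjQ_naaab) (.nd aConjQ_naaba aConjQ_naabb)) (.nd (.nd aConjQ_nabaa aConjQ_nabab) (.nd aConjQ_nabba aConjQ_nabbb))) (.nd (.nd (.nd aConjQ_nbaaa aConjQ_nbaab) (.nd aConjQ_nbaba aConjQ_nbabb)) (.nd (.nd aConjQ_nbbaa aConjQ_nbbab) (.nd aConjQ_nbbba aConjQ_nbbbb))))
def tOrbit : List ℕ := [0x180c00180c000bf9f91b4196c77abd981, 0x100082100240581089000484c34e042008c084, 0x120482508640d210c1000086416c0020494080, 0x40400100202100202100002000001000801000, 0x6100f03d8a6138d82781332be1d1990cbc0c0a5, 0x64d5717844e5755d311607cd0bbc9a29b3e1505, 0xa1909071c8a59d11310fcc7d0649f59720d955d, 0xe3d062514cc0f9453004870ec8e6d8ea7eae120, 0x106f49a6cd1b545395d5fcf8cdab39a46f016e40, 0x126f50b140f845d257e41162855a375c01b92403,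 0x12794421915d6150f3000a462b9eeb20e30a95a0, 0x1440581108d00184400004250409802d04430001, 0x16735f30d8b43297b775b0953e263bfca92ef784, 0x18180802197b28187028d4954e5e7a2b88015e7f, 0x1a2f1ab68cfa7ecae3b997c68e11f34a19bb2a77, 0x1c42418301d3399f749d4041674585ca2d26b803, 0x1e330ba1d9d17bdff7dd5f145ccdb855b90d6691, 0x1e6e4d260d9f5ccf02193745ba7bd4c85aacdcc0, 0x205059973d23110900b9716046a96a32c094676a, 0x244b5d9369af119715f5196f9e45a8a84a52ad12, 0x247040a2b183309cb49d0b741187fb6cb1b4ab69, 0x261f199278ca049757c50860b68cb89fcadb2758, 0x2c351cb3f8861d8481d14273654cd9d3c51506be, 0x30465b922812360b20981a1630d9c44461f3560f, 0x306c4aa56c58071050c06141edfaf06c2279c782, 0x30764724b4744643c4259cfe938482342c81408b, 0x327b46a5741c434a03c9dabd4c4c475209fa4bbf,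 0x34000287e553031cd0c9017c31d4dbed387a932f, 0x347f4621f05c5746c55597d9adce67fe96e89f58, 0x3a0b0a87adbb1b9a97bcafaf2266fd33cb422ca7, 0x3a1e1a12f9bb3e92b2719ba7b8c32f60bd3ae6d2, 0x42060dc6cd47745bf2d8dbbe74309baf48afd663, 0x426d42e7042a474803a9baaa04d4be0d592691b8, 0x440104404004100401502a22a080a10a02888808, 0x446655f484e4149fd0b9eeb9c10b89ab8fccc2d3, 0x4a1402c090603e00e2b06665ebcda8e7baffcfb7, 0x4a6c4ce6cdcf5cc0c2d1e68f60538d02b8cf7b27, 0x4e160d44dd455c5fd65cd6baf0f3d5a300bd01ea, 0x4e6f5173004a4d474300eff9410aaa5d5b70b6bb, 0x50465bd149b1378b20f8740af38f9fbb247d3eea, 0x504d4646855f3618f119b080390a50bf722c0499, 0x50765f72193746430425f2e2451e3acb68538639, 0x527f4be0d979061bd3e99aee0f7e5202f027bfb2, 0x54555dd49d35140d81b9dfadc66bf1f546ddab2b,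 0x5a0217d644761a0b46fc8888162b0d90bd2dbf60, 0x5c1800c6d41a6844a4c4cbb5f237495254790df3, 0x5e351ef71cd61f945391fcde44cf703639fed5b4, 0x5e475ad64d132e0627c45775d7b972ce7a74c64c, 0x5e5f5355d4586f57f745134a3ea1960f750d66a4, 0x5e5f5c53d8be7ddeb379acd5b759a890fb5a4144, 0x605a48467d2b300a2078c787f9ab3d60e772b19d, 0x665856d7356f131456b4d7f155fd6e863cb5fc36, 0x726b5ff7ac1e6353b784fbe555dea1e380627ca2, 0x761d1e57fd3f370ca3794a07dba13ff060f1f30e, 0x763d03e735bb179517b5b9cc0753e572f232faa8, 0x765e4fc7fd1f774fa6dc540f67e7c1a87c0a2f25, 0x767f46e0711d465e17ccfaca73928334a095aff0, 0x7a604661a1557b48e219cf8df0f3bb67d16bceee, 0x7e6f4e61681c3f163350b7c8a59549efeaf5f824, 0x804adc10c94d201af44c84dd7c5448128c08367d, 0x823a9b32d96b6253f2611e11d8c4dcfd3dce07ef,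 0x8664d9368c621415d63507536801472074259e1c, 0x880d8406852f3c08a53c7259827258e5464b385f, 0x8854c10695c31c91d415eacbbaecc31bd4df34df, 0x8a198302908a3a81a715feb9b373f3aee8efbf64, 0x8a40c70341076b412241e3a81366ca01dc26c46c, 0x8c07921041817ece255d56612c06968063d818ae, 0x8c7dcb265cea1e9d5178d2f99047f58497cdf65a, 0x8e309d31d8e469ddf66ced85173c29dcf18fe600, 0x9275c1a2d1d344d9d3c93a6c4efd5416da6a33bf, 0x945cce875c3e071410e1aeb34d3b09a6aca52a7f, 0x9a198a85dc185b4887dca6aff26784aba30b6d2e, 0x9e5adc965d3f381632f0eed3bc37e86692dc63df, 0x9e5fcd055cdc5dd75755bdaa4a6f3595a8c7acd7, 0xa050c000b0800080840451380090c00040c48106, 0xa267c6206125464a03686410b6677671ff4d7f4b, 0xa82a84a4a5ed3892f4b4364ac2314ad55a0f20c7, 0xae67c32120400f0f470ce19b3d2f9f818c1aae8c,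 0xae67db356c600f0f476d5e44a95364edbafddd5b, 0xae6fcaa6edeb6ecee7ed1b40e3d3449e4e71b02f, 0xb2129f16fd97028b8248ba97dd34ebb72af6a199, 0xb459d613f19f038c854cf3e58e634f78c98d2f79, 0xb6308ba4bc10221db2891d24e8188e7415d6ecd0, 0xba2d90b5e4b80d9897ec9ad1c7cce7262f77ab19, 0xba3f8f26bd9f3e8ba3191f33fac84e55f9320656, 0xbc3c99373d5b0d1d5008f2b731ae8d098d1d260a, 0xbe19828171390b1417e4622abb6f932ffe38313a, 0xc03694f05044545a54dccff13924c88a8faa6567, 0xc055c1c211a3348121b0a0c9f38303e26b313252, 0xc076d8f45c00444a00c9e4a38b564dd2d57056b7, 0xc22a8661002c534a023922747fc8c5b08037e148, 0xc4338962d8223007a5749ea57d3c782d652cbe9d, 0xc82984e585ed0998d1a84456826740d15a943a0b, 0xca1f8d475cee1d8347759baa6a6a758dccdfe8d7, 0xcc70cde75d47595550d1d2ad88fa1417ccad26b6,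 0xce379b77dd037f47a754cca0343fc818d32387b9, 0xd0118b465d137259355d9794c0747ffd1d76eb51, 0xd2378ee198342702a7a54811842029829b94457f, 0xd42781e3809245d795855b233a38b0133048d3f1, 0xd6278f61c955171fd3591b09debf9b51bb6c7031, 0xd661dff78cd663c5e7841615fe26704d2d99bd6b, 0xd82585e785970d919585a2bbe94a497b8d8fa01f, 0xd873d9f25872081351e01b2142babfd3ecf62fcf, 0xda0d8dc5cdfd1d91d3f05328392c9ffe673ec0ec, 0xda2c85e3001e0d01068558409b3f93643f64b7cd, 0xde4dcac48dd92e94f380a5f2c2d345bf69729c18, 0xe053d9d278e240d355e51e5afff7e21a17eb7402, 0xe4258de2a8263405a5b487b27deb93623df06593, 0xe63298f7fc22310ea2f9c3f6a1ed5e0423b99abf, 0xe82995f7a54f2901e584d3f22b24a3559742e7f1, 0xea0289c0a98108939685dfcf9a292c3ffa6af6f8, 0xea259c71a8a46dd8b72cc6ce847cf996d86e0369,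 0xea2c9ef72d4f1f185298edf4a34e9429c21c028b, 0xec158843b8224d5491218dcadc68103948a26d48, 0xec40d05160e079c464758dd6f5bc75bce3d2d58b, 0xec61cae0a9012a04a5858d8860355d89213a1bc1, 0xec76d6f331673f1e70b98dd07b671b18ca9b3707, 0xf22d85e0e11d7459b7dd437cac6d1cfb6a4ef033, 0xf26dc163a1bb15818330d2d9bcee6e9d62e7036f, 0xf674db71b9f1378de63d221fff4130af70f1c1ff, 0xf85dca41b8584f58d108a5f7c91cfd98d829313d, 0xfc41dc53297739046130715ea79f6a2cffa2c733, 0xfc73dd7038d448c745049ae144fbcae3ccbc48ce, 0xfe0094d1e0147944a2d029544599550715b28469, 0xfe3988e6bdfb48dcd7adaf8845d433853954fab9, 0xfe66c561a1953d9fb21853698abf2ba95ed068a4, 0xfe75d5f0f0942c95b3c1cbc7bd753d97b56dc216, 0x1053e1431914d754ee41c4e9bdec2479c2c98bed5, 0x1055a4006d44a3016f455aa11b230cb8f889832a1,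 0x1113a1cb69d7f000ac4acdc18440e70b71c091c6f, 0x111514e845df5029055e5a133997e8c6ae2b10d33, 0x1175a5013d05a0116d644ef44e3eb0ac2cddde2ec, 0x11b121d9018542813768429881d2323b3ad259e7c, 0x11d5c5b961cfa6ec564a51fa39d817bc488397ff8, 0x11f0e1293405a4f4e46cc36a63e26364b19f93f4d, 0x11f4d5996ccfa5ccdc7fc3ffb0837dc7400b586e9, 0x12300000564000100024000a42142b084a1200540, 0x125645bb3e802574584d4b8279d71604c28d78087, 0x127150700b145161dd71cde70f2d1e8b95f9c1371, 0x127251bb7ade367d5f3a0e747d03cb6a52555d875, 0x127435891a941515ed3982e96b5b8515cf7d9b75e, 0x129211ab52c004b40058516898f5609f2d0e33013, 0x1292409a4ec204c5190e07aeffb3e6cde9d739cc8, 0x1292819b6ac4a3811f49598673d97810877ad604f, 0x12b0b00852569495a53a9802fb0441a70eecc070a, 0x12b0e1314a5092e1bb20937da1c32eda4599ba02d,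 0x12b584d83798f198906dc73c363e74e2487cf6a29, 0x12d755732b1875ec581108316bc05fc06e5c4812c, 0x139270da1a9f56ddbf5ad97540cce623e8aef17a9, 0x13b4e4a02693b6e52326107eb0a09fdce11e24810, 0x13d765932b8922c8fa00833f3046dc8f89c98af5f, 0x1410505c30026150905bdd62176a095410e5b0ad5, 0x141704ae51dc13388649dd56556375977dd9d4d53, 0x143010740002432113734e30bc3430bf1f277aa4c, 0x1476b44e4c5ed208ee7eca75f2e0dee71ce981acd, 0x149121b575d233b032474048015ac0b31b8bd2e24, 0x15165507484303418b13875c4eed6756e1644af7b, 0x1533d0ee65dff56c043f1934683f1df8858fafa32, 0x15364587148d02588664d01a09a37e6eb82105684, 0x155341f76dc962695b444f654d38edc7d66bc32b4, 0x1555958565c9a00840140599ef03a7491c2524511, 0x1572b12f7c5bb2396b3e0e7565dc7c4c82e359cbc, 0x159290e664c1e7a58355cf14a5c9ef95f07f4db98,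 0x1595245c7159759db149cf21f76d734ec0eaa2426, 0x15b201ef389970b909281499ac8e6efe36f20aaab, 0x15b4a5c50095d08125201ed6cc807af93008128b1, 0x15d76567111554f5e5008ed685a5460a00ba74f6b, 0x15f2318748d9148de970c977fbfa678ae734cb620, 0x161361677b50757428414ce687a701369e7d36248, 0x1631a0847bc2a01129625fe61e7c629efcdcae3f8, 0x1655a5851f9c93196f4547bd2e51a6b1cfbf12993, 0x1657345e7b567010fc1a9649df60556b45c82944c, 0x169725e743da56aca202831c8af116331fc596fae, 0x16b2306e564645b4243f1e569f0d51b83f19cbe3f, 0x16b6557f725471f1157955589e0fba88273253e2c, 0x16f4452d1e1c11f94d2d0f679525c88c20b0d6727, 0x16f7b416031c908975704be14aacbcbcb78bd774d, 0x1717654f5b5555542c4949c371ce7ed57d478b83a, 0x1733214f675d750c246d4d4637933894acfb02360, 0x173390fe4bc3c2201a7a5fe55d5c269f2ac67312f,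 0x1734855d665ff109956fdfe0fe4880fd34e072fe1, 0x1735d4dc4fdbd048183e1fe53fd5e4856a5378326, 0x1736e53f764da179352d1fe4dfe920d63078609ed, 0x1773a0667759f43de164d759c42c361e85da3fc4f, 0x1775341c3311341571785fc3dd65124f60cf6ad3f, 0x1777a58f73d7b310666b4f06c5d5583c8316b2f18, 0x1777d5e75bc9c77c4a71510983ea563bdf3cea9be, 0x18557c40311a7258e252d65c1a2266ba126ee7933, 0x1893592b2d1030e1895cdf6050538dd65aaf32eed, 0x1896ccaa009091e08049c39d2eb2f96af4c9829c7, 0x193398b22981a6251b7049e77f280bcc3cff7592f, 0x193399f375ddf73d1775421e87d71a23ef85c80d7, 0x1972986a0011d021c178d8f33fa4c61f447516e34, 0x1993a80a4949848da908938f86022906474917e46, 0x19951d69191d52b98f18915b657df5f7da2bc9190, 0x1995cce86ddbf4ec084e537d1fcfb780e937b9993, 0x19b1d860795ff1f90d33125a764e30c4ac985eed6,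 0x19b37852311f76ddb772c48edb3d243d54fb4794a, 0x19b5bd59555dd49db53c8f81430793be32c99838e, 0x19d58cd861d9f188d049d73823025feae76ecfb69, 0x19d5ec407547e3d1e707928cf7c6fa5a2fc360e53, 0x19f0a8187459b69d732c1739d03b2596bed847e6f, 0x19f0d9d16cdff3c95f77573818c2750fe663d962c, 0x19f299f378c5e3b15f31173c794bf704a2ffd3024, 0x19f49c48785df79dcf79c9d69cb899b44c127fe49, 0x19f49c786051f1a15139022f649fd822ace942b87, 0x19f4fc68280be2e86a7a4e87b1cbc2c377576e1e6, 0x19f6cc7a7449e4fdd16cd739f29ac5acbe4954c62, 0x1a12d83a56488378125d47ed38321629ffcf3c651, 0x1a15ada17fc2a735ab47c72fc1ef402b3a983fe65, 0x1ab0d9f90e8ac4ed197e472fdbdf60b123e5b5328, 0x1ab15929635437e58779d64b923fab023fa858da2, 0x1ab41d91068a048d11764cf4225cc310863460cd6, 0x1b3348b21b9b147c982299a23e3d72f63a09761f1,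 0x1b362cf272db7038b0228965c7a4ccecd4d03c35f, 0x1b554cd8079b5148d04fd7f85aaab2fe546092fdd, 0x1b741d593e0f6118dc3f8c412b75c7589bfe2b717, 0x1b942c580a0b4089390a0a66945e53dcbf13e5435, 0x1bb4edb1029395e5b12382cb85138bdc45af59b33, 0x1bb7dddb279bf6cc923e878f59da568f217316145, 0x1bf368da57db50d9f12e802a8f4d113eb6ea927bf, 0x1bf49d195e559695df7cd63c92069fbed3c5d8688, 0x1bf5cdf95fd7d0f1dd6ec1ecefd026172a0f08fc4, 0x1c11782c091a166c2a5a524b16e5e2f42f71444b7, 0x1c12b8767044e735b711944c21db9c716562d6499, 0x1c14aca410828331a343ded48a7c20a3e74bda7c8, 0x1c573d37615431217511015b25da59f2086970f8e, 0x1c71785c21107745f3398830bc1e20373e1503a1e, 0x1c7328763d08663d7b645fe0c03d213adfccd676d, 0x1c92c9f768c6e5e59d03964d792098720798dd491, 0x1cb0d9fd209cf4ed15785a33eff1048814c6ee64d,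 0x1cb78def69d4f3a10f695d4072c32d8e35bcd0744, 0x1cd0b86c745af5bc605f418d2c0f1529e5ff3d423, 0x1d50892d7455b534444d5a43b6f11af1e862f285f, 0x1d5089bd08939321db0b894327b34b56edec2ec74, 0x1d51683411171370f643ce04c8f4f478f6aa3f2d5, 0x1d970c6e091555a48c0999f4d64b3b667d1ebdf6f, 0x1db3085e794567959f69cb477f14658dffbdda390, 0x1df0f90d2c13b6c46a3e11ccb56a97ce6586aafda, 0x1df2a8f61c9fd4bcfc66c68991d0c698674cebd12, 0x1e3318a67fc627350f3719f07d9ff6c4c76dfa05c, 0x1e756da563d4306064200e70dbc803375ff7490bd, 0x1e942d8d5ec00695ab4cd68803e4173dbacd11a1d, 0x1e972dc773c461912501151b70960cec7d7447f4e, 0x1ed69def0a9ed0a94d1a01ce2ca7085ec73be5616, 0x1ef199dd67c6e281d73e8914854ebc12654964cb1, 0x1f151c7c575d573d171d19c0168abe9439d2d62c7, 0x1f9118ac6fd330a0085e41d8bdca9a3f033f1f543,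 0x1f945d1d0a0d02c91f180ad5666de7736084c17bf, 0x1f945d1d725d34dd1518012c9f76fad3abf5f923e, 0x1fb1b9c553d7d09024725a722ecc5bb7faa6f8e6d, 0x1fb4fd4d061dd0c8a47cd628e2cc31fbb4c4b8fbd, 0x1fb59c447b4de1980c714956d4f6d86e8a12d4acd, 0x1fd44d2d3a0d25fc4c4942cf95b539bc2ea136002, 0x1ff7acd65fd5d291ff64d19f94563e0c76d6ab44f]
def tOrbitWord : List ℕ := [18783, 29328, 29007, 20864, 28833, 23890, 34337, 0, 19308, 27752, 24165, 26986, 12169, 33812, 24170, 22654, 33623, 7597, 4956, 33313, 34447, 11904, 22159, 21013, 28229, 25207, 12934, 10605, 31397, 19319, 22054, 29353, 30208, 2067, 34127, 31062, 26241, 6025, 21273, 30856, 23914, 850, 34420, 14202, 8485, 10770, 15769, 9870, 33832, 4482, 24701, 10889, 23979, 15397, 32897, 20757, 18541, 145, 32373, 11030,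 5950, 1400, 34381, 29478, 7296, 12148, 6160, 8230, 10662, 29101, 18598, 3456, 29312, 134, 26967, 25856, 24146, 7040, 31291, 4627, 31399, 8779, 28268, 22599, 1060, 29773, 19000, 26402, 15937, 30535, 7680, 787, 9042, 11913, 22618, 1414, 32142, 14592, 10070, 33369, 30101, 24696, 19846, 2352, 5212, 512, 3206, 4371, 10380, 23077, 21113, 16490, 9381, 30095, 32364, 16549, 2128, 5229, 9298, 4688, 12814, 26657, 25929, 22408, 30828, 15157, 7809, 31254, 6278, 29812, 32176, 21413, 6534, 1536, 25499, 34227, 31920, 25742, 34441, 20238, 2396, 33361, 19492, 13589, 1665, 26900, 29839, 32256, 30554, 22451, 9552, 32324, 17550, 13432, 25964, 23867, 172, 2608, 3713, 4750, 33613, 21813, 23634, 30608, 24229, 17294, 23973, 20770, 18737, 34342, 2413, 30773, 23643,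 26724, 15205, 22672, 31013, 646, 24142, 12716, 34634, 6790, 30080, 30863, 33645, 27501, 32350, 29205, 25776, 1874, 23376, 21402, 21136, 1280, 5513, 12049, 7424, 31011, 16560, 3328, 13989, 22837, 14336, 26943, 3192, 25237, 28077, 19873, 1115, 13446, 32512, 4973, 32572, 16466, 2950, 23975, 13696, 31403, 6776, 4099, 21665, 3648, 9322, 32620, 22272, 14888, 19840, 23569, 31018, 256, 33971, 34147, 257, 27960, 21120, 8311, 8979, 29469, 16234, 1133, 29734, 8859, 16210, 24371, 33061, 5424, 4434, 2130, 28981, 16293, 23565, 10588, 29285, 3584, 1072]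

end H94.J3.D
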