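import Cfsg.Agent.H94.J3.OrbitDefs
import Cfsg.Agent.H94.J3.SimpleDefs
import Cfsg.Agent.H94.J3.CentData

/-! Checks for an involution centraliser of `J₃`. -/

namespace H94.J3

open D

def qE (i : ℕ) : ℕ := qElt.getD i 0
def aE (i : ℕ) : ℕ := aElt.getD i 0
def qM (i j : ℕ) : ℕ := qTab.get (32 * i + j)
def aM (i j : ℕ) : ℕ := aTab.get (60 * i + j)
def pApp (i k : ℕ) : ℕ := aPerm.getD i 0 / 5 ^ k % 5

def wordOk (w x : ℕ) : Bool :=
  decide (w / 65536 < 6156) && wordHKOk (w % 65536) && (x == wordG w)

def notProp (x y : ℕ) : Bool :=
  x != y && x != mul wScal y && x != mul (mul wScal wScal) y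

def qChk (i : ℕ) : Bool :=
  wordOk (qWord.getD i 0) (qE i) && decide (qE i < 2 ^ 162) && (mul tInv (qE i) == mul (qE i) tInv) &&
    (List.range 32).all fun j =>
      decide (qM i j < 32) && (mul (qE i) (qE j) == qE (qM i j)) && (i == j || notProp (qE i) (qE j))

def aChk (i : ℕ) : Bool :=
  wordOk (aWord.getD i 0) (aE i) && decide (aE i < 2 ^ 162) && (mul tInv (aE i) == mul (aE i) tInv) &&
    ((List.range 60).all fun j =>
      decide (aM i j < 60) && (mul (aE i) (aE j) == aE (aM i j)) && (i == j || notProp (aE i) (aE j))) &&
    (List.range 32).all fun q =>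
      decide (aConjQ.get (32 * i + q) < 32) &&
        (mul (aE i) (qE q) == mul (qE (aConjQ.get (32 * i + q))) (aE i)) &&
        (i == 0 || notProp (aE i) (qE q))

def cBaseChk : Bool :=
  (qE 0 == eye) && (qE 1 == tInv) && (aE 0 == eye) && decide (qElt.length = 32) &&
    decide (aElt.length = 60) && (mul tInv tInv == eye) &&
    (mul (P 0) (mul tInv (P 0)) == mul tInv (P 0)) && decide (vFour.length = 4) &&
    decide (tOrbit.length = 255)

def permChk : Bool :=
  (List.range 60).all fun i => (List.range 60).all fun j =>
    ((List.range 5).all fun k =>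
      decide (pApp i k < 5) && (pApp (aM i j) k == pApp i (pApp j k))) &&
    (i == j || aPerm.getD i 0 != aPerm.getD j 0)

def vSub : Bool :=
  (List.range 4).all fun i => decide (vFour.getD i 0 < 60) && (List.range 4).all fun j =>
    vFour.contains (aM (vFour.getD i 0) (vFour.getD j 0)) &&
      (i == j || vFour.getD i 0 != vFour.getD j 0)

def sylChk (q v : ℕ) : Bool :=
  let s := mul (qE q) (aE (vFour.getD v 0))
  let w := sConj.getD (4 * q + v) 0
  bif s == eye then true
  else bif mul s s == eye then
    decide (w / 65536 < 6156) && wordHKOk (w % 65536) && (mul (wordG w) tInv == mul s (wordG w))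
  else !isScal (mul s s)

def sylAll : Bool := (List.range 32).all fun q => (List.range 4).all fun v => sylChk q v

def tOrbChk : Bool :=
  ((List.range 255).all fun k =>
    decide (tOrbit.getD k 0 < 2 ^ 162) && wordHKOk (tOrbitWord.getD k 0) &&
      (mul (wordHK (tOrbitWord.getD k 0)) tInv == mul (tOrbit.getD k 0) (wordHK (tOrbitWord.getD k 0)))) &&
    (List.range 254).all fun k => decide (tOrbit.getD k 0 < tOrbit.getD (k + 1) 0)

def tFixI (i : ℕ) : Bool := mul (P i) (mul tInv (P i)) == mul tInv (P i)

/-- Facts about the two multiplication tables that are proved by evaluation. -/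
def tableFacts : Bool :=
  ((List.range 32).all fun a =>
    bif (List.range 32).all fun b => qM a b == qM b a then (a == 0 || a == 1) else true) &&
    ((List.range 32).all fun a => qM a 1 == qM 1 a && (qM a a == 0 || qM a a == 1)) &&
    ((List.range 32).any fun a => (List.range 32).any fun b => qM a b != qM b a) &&
    ((List.range 32).all fun a => (List.range 32).all fun b =>
      qM a b == qM b a || qM a b == qM (qM b a) 1) &&
    ((List.range 32).all fun e => (List.range 32).all fun f =>
      bif decide (2 ≤ e) && decide (2 ≤ f) && (qM e e == 0) && (qM f f == 0) && (qM e f == qM f e) then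
        f == e || f == qM 1 e
      else true)

set_option maxRecDepth 100000

theorem q_ok : allIn 0 32 qChk = true := by decide +kernel
theorem a_ok : allIn 0 60 aChk = true := by decide +kernel
theorem cbase_ok : cBaseChk = true := by decide +kernel
theorem perm_ok : permChk = true := by decide +kernel
theorem v_ok : vSub = true := by decide +kernel
theorem syl_ok : sylAll = true := by decide +kernel
theorem tOrb_ok : tOrbChk = true := by decide +kernel
theorem tFix_count : (List.range' 0 6156).countP tFixI = 76 := by decide +kernel
theorem table_ok : tableFacts = true := by decide +kernel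

end H94.J3
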