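import Cfsg.Agent.H94.J3.Defs
import Cfsg.Agent.H94.J3.OrbitData

/-! Checks for the orbits on vectors. -/

namespace H94.J3

open D

def wordHK (w : ℕ) : ℕ := mul (V (w / 256)) (K (w % 256))
def wordG (w : ℕ) : ℕ := mul (U (w / 65536)) (wordHK (w % 65536))

def perpI (i : ℕ) : Bool := mul qConj (P i) == 0
def pInI (i : ℕ) : Bool := mul (P i) pVec == pVec

def wordHKOk (w : ℕ) : Bool := decide (w / 256 < 136) && decide (w % 256 < 180)

def orbOk (c : ℕ) (l : List ℕ) : Bool :=
  l.all wordHKOk &&
    (List.range (l.length - 1)).all fun t =>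
      decide (mul (wordHK (l.getD t 0)) c < mul (wordHK (l.getD (t + 1) 0)) c)

def kqOk : Bool :=
  (kqFix.length == 60) &&
    ((List.range 60).all fun t =>
      decide (kqFix.getD t 0 < 180) && (mul (K (kqFix.getD t 0)) qVec == qVec)) &&
    ((List.range 59).all fun t => decide (K (kqFix.getD t 0) < K (kqFix.getD (t + 1) 0)))

def starOk : Bool :=
  (qStar.length == 36) &&
    ((List.range 36).all fun t =>
      decide (qStar.getD t 0 / 65536 < 6156) && wordHKOk (qStar.getD t 0 % 65536) &&
        (mul (wordG (qStar.getD t 0)) qVec == qVec)) &&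
    ((List.range 35).all fun t => decide (qStar.getD t 0 / 65536 < qStar.getD (t + 1) 0 / 65536))

def baseOk : Bool :=
  decide (qBase / 65536 < 6156) && wordHKOk (qBase % 65536) && (mul (wordG qBase) qVec == 1) &&
    (mul (P 0) pVec == pVec) && perpI 0 && decide (qVec < 2 ^ 162) && decide (pVec < 2 ^ 162) &&
    decide (qOrb.length = 408) && decide (pOrb.length = 255)

def colBits (c : ℕ) : Bool :=
  (List.range 81).all fun t => t % 9 == 0 || (!(lo c).testBit t && !(hi c).testBit t)

set_option maxRecDepth 100000

theorem qOrb_ok : orbOk qVec qOrb = true := by decide +kernel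
theorem pOrb_ok : orbOk pVec pOrb = true := by decide +kernel
theorem kq_ok : kqOk = true := by decide +kernel
theorem star_ok : starOk = true := by decide +kernel
theorem base_ok : baseOk = true := by decide +kernel
theorem col_ok : colBits qVec = true ∧ colBits pVec = true ∧ colBits 1 = true := by decide +kernel
theorem perp_count : (List.range' 0 6156).countP perpI = 36 := by decide +kernel
theorem pIn_count : (List.range' 0 6156).countP pInI = 12 := by decide +kernel

end H94.J3
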