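import Mathlib
import Cfsg.Prelude.Def_Classical
import Cfsg.Prelude.Def_Spor_J3
import Cfsg.Agent.H94.J3.Perm

/-! The triple cover inside `SU₉(2)`. -/

namespace H94.J3

open Cfsg.Spor

set_option maxRecDepth 100000 in
/-- The certified inverses are the conjugate transposes. -/
theorem sinv_conj : ∀ (k : Fin 2) (i j : Fin 9),
    (lo (D.sinv k)).testBit (9 * (i : ℕ) + j) =
        ((lo (D.sgen k)).testBit (9 * (j : ℕ) + i) ^^ (hi (D.sgen k)).testBit (9 * (j : ℕ) + i)) ∧
      (hi (D.sinv k)).testBit (9 * (i : ℕ) + j) = (hi (D.sgen k)).testBit (9 * (j : ℕ) + i) := by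
  decide +kernel

variable {F : Type*} [Field F] [CharP F 2] {ω : F} (hω : ω ^ 2 + ω + 1 = 0)
include hω

theorem sinv_entry (k : Fin 2) (i j : Fin 9) :
    toMat ω (D.sinv k) i j = toMat ω (D.sgen k) j i ^ 2 := by
  obtain ⟨h1, h2⟩ := sinv_conj k i j
  simp only [toMat, ent, h1, h2, bcast_xor]
  generalize (lo (D.sgen k)).testBit (9 * (j : ℕ) + i) = a
  generalize (hi (D.sgen k)).testBit (9 * (j : ℕ) + i) = b
  cases a <;> cases b <;> simp [bcast]
  · exact (om_sq hω).symm
  · rw [CharTwo.add_sq, one_pow, om_sq hω]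
    ring

theorem sgen_orth (k : Fin 2) (i l : Fin 9) :
    ∑ w, toMat ω (D.sgen k) w i * toMat ω (D.sgen k) w l ^ 2 = if i = l then 1 else 0 := by
  have h := congrArg (toMat ω) (small_spec.1 k).2
  rw [toMat_mul hω, toMat_eye] at h
  have h' := congrFun (congrFun h l) i
  rw [Matrix.mul_apply, Matrix.one_apply] at h'
  simp only [sinv_entry hω] at h'
  rw [show (if i = l then (1 : F) else 0) = if l = i then 1 else 0 by simp only [eq_comm], ← h']
  exact Finset.sum_congr rfl fun w _ => mul_comm _ _

theorem sgen_herm (k : Fin 2) (u v : Fin 9 → F) :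
    Cfsg.hermForm 9 F 2 (Matrix.mulVec (toMat ω (D.sgen k)) u) (Matrix.mulVec (toMat ω (D.sgen k)) v)
      = Cfsg.hermForm 9 F 2 u v := by
  have hsq : ∀ f : Fin 9 → F, (∑ x, f x) ^ 2 = ∑ x, f x ^ 2 := fun f =>
    (CharTwo.sum_sq Finset.univ f)
  simp only [Cfsg.hermForm, Matrix.mulVec, dotProduct, hsq, mul_pow, Finset.sum_mul_sum]
  calc ∑ w, ∑ i, ∑ l, toMat ω (D.sgen k) w i * u i * (toMat ω (D.sgen k) w l ^ 2 * v l ^ 2)
      = ∑ i, ∑ l, (∑ w, toMat ω (D.sgen k) w i * toMat ω (D.sgen k) w l ^ 2) * (u i * v l ^ 2) := by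
        rw [Finset.sum_comm]
        refine Finset.sum_congr rfl fun i _ => ?_
        rw [Finset.sum_comm]
        refine Finset.sum_congr rfl fun l _ => ?_
        rw [Finset.sum_mul]
        exact Finset.sum_congr rfl fun w _ => by ring
    _ = ∑ i, u i * v i ^ 2 := by
        simp [sgen_orth hω]

omit hω

omit [CharP F 2] in
/-- Reindexing of matrices along `e9`. -/
noncomputable def reix : GL F9 F →* Matrix (Fin 9) (Fin 9) F :=
  (Matrix.reindexAlgEquiv F F e9).toMonoidHom.comp (Units.coeHom _)

include hω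

theorem reix_rep {g : GL F9 F} {x : ℕ} (h : Rep ω g x) : reix g = toMat ω x := by
  ext i j
  show (g : Matrix F9 F9 F) (e9.symm i) (e9.symm j) = _
  rw [show (g : Matrix F9 F9 F) = tm ω x from h]
  simp [tm]

variable [Fintype F] (C : Chain ω)

theorem G_le_preserving : C.G ≤ Cfsg.preserving (reix (F := F)) (Cfsg.hermForm 9 F 2) := by
  refine (Subgroup.closure_le _).2 ?_
  rintro _ ⟨k, rfl⟩ u v
  rw [reix_rep hω (C.rep_s k)]
  exact sgen_herm hω k u v

theorem det_one (hF : Fintype.card F = 4) {g : GL F9 F} (hg : g ∈ C.G) :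
    Matrix.det (g : Matrix F9 F9 F) = 1 := by
  let d : C.G →* Fˣ := (Matrix.GeneralLinearGroup.det).comp C.G.subtype
  have hu : Nat.card Fˣ = 3 := by
    classical
    rw [Nat.card_eq_fintype_card, Fintype.card_units, hF]
  have hZ : Subgroup.center C.G ≤ d.ker := by
    intro z hz
    obtain ⟨c, hc⟩ := central_scalar hω C hz
    refine Units.ext ?_
    simp only [d, MonoidHom.coe_comp, Function.comp_apply, Subgroup.coe_subtype,
      Matrix.GeneralLinearGroup.val_det_apply, Units.val_one]
    rw [hc, Matrix.det_smul, Matrix.det_one, mul_one]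
    have hc0 : c ≠ 0 := by
      intro h
      rw [h, zero_smul] at hc
      exact Units.ne_zero (z : GL F9 F) hc
    have h3 := FiniteField.pow_card_sub_one_eq_one c hc0
    rw [hF] at h3
    rw [Fintype.card_prod, ZMod.card, pow_mul, h3, one_pow]
  rcases normal_cases hω C hF d.ker hZ with h | h
  · exfalso
    have h1 := Subgroup.index_ker d
    have h2 : d.ker.index = 50232960 := by
      rw [h, Subgroup.index]
      exact card_quot hω C hF
    have h3 : Nat.card d.range ≤ 3 := by
      exact (Nat.card_le_card_of_injective _ Subtype.val_injective).trans hu.le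
    rw [h2] at h1
    omega
  · have : (⟨g, hg⟩ : C.G) ∈ d.ker := by rw [h]; exact Subgroup.mem_top _
    have h1 := congrArg Units.val (MonoidHom.mem_ker.1 this)
    simpa only [d, MonoidHom.coe_comp, Function.comp_apply, Subgroup.coe_subtype,
      Matrix.GeneralLinearGroup.val_det_apply, Units.val_one] using h1

include C in
theorem su_exists (hF : Fintype.card F = 4) :
    ∃ H : Subgroup (Cfsg.SU 9 F 2), Nat.card (Subgroup.center H) = 3 ∧
      Cfsg.IsJ3 (H ⧸ Subgroup.center H) := by
  have hdet : ∀ g : C.G, Matrix.det (reix (g : GL F9 F)) = 1 := by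
    intro g
    show Matrix.det (Matrix.reindex e9 e9 ((g : GL F9 F) : Matrix F9 F9 F)) = 1
    rw [Matrix.det_reindex_self]
    exact det_one hω C hF g.2
  let toSL : C.G →* Matrix.SpecialLinearGroup (Fin 9) F :=
    { toFun := fun g => ⟨reix (g : GL F9 F), hdet g⟩
      map_one' := Subtype.ext (by simp)
      map_mul' := fun a b => Subtype.ext (map_mul (reix (F := F)) (a : GL F9 F) (b : GL F9 F)) }
  let ψ : C.G →* Cfsg.SU 9 F 2 := toSL.codRestrict _ fun g => G_le_preserving hω C g.2
  have hinj : Function.Injective ψ := by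
    intro a b h
    have h' : reix (a : GL F9 F) = reix (b : GL F9 F) :=
      congrArg (fun x : Cfsg.SU 9 F 2 => ((x : Matrix.SpecialLinearGroup (Fin 9) F) :
        Matrix (Fin 9) (Fin 9) F)) h
    exact Subtype.ext (Units.ext ((Matrix.reindexAlgEquiv F F e9).injective h'))
  refine ⟨ψ.range, ?_⟩
  let e : C.G ≃* ψ.range := MonoidHom.ofInjective hinj
  constructor
  · exact (Nat.card_congr (Subgroup.centerCongr e).toEquiv).symm.trans (card_center hω C hF)
  · obtain ⟨hs, hc⟩ := isJ3_quot hω C hF
    have hmap : (Subgroup.center C.G).map e.toMonoidHom = Subgroup.center ψ.range := by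
      ext y
      constructor
      · rintro ⟨x, hx, rfl⟩
        exact Subgroup.mem_center_iff.2 fun z => by
          obtain ⟨w, rfl⟩ := e.surjective z
          show e w * e x = e x * e w
          rw [← map_mul, ← map_mul, Subgroup.mem_center_iff.1 hx w]
      · intro hy
        obtain ⟨x, rfl⟩ := e.surjective y
        refine ⟨x, Subgroup.mem_center_iff.2 fun w => e.injective ?_, rfl⟩
        rw [map_mul, map_mul, Subgroup.mem_center_iff.1 hy (e w)]
    let q := QuotientGroup.congr (Subgroup.center C.G) (Subgroup.center ψ.range) e hmap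
    exact ⟨q.symm.isSimpleGroup, by rw [← Nat.card_congr q.toEquiv, hc]⟩

end H94.J3
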