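import Mathlib
import Cfsg.Prelude.Def_Spor_J3
import Cfsg.Agent.H94.J3.Unitary
import Cfsg.Agent.H94.J3.OrbitDefs

/-! Two orbits of `3·J₃` on vectors. -/

namespace H94.J3

open Cfsg.Spor

theorem bmul_lt (a b : ℕ) : bmul a b < 2 ^ 81 := by
  have ht : ∀ k, term a b k < 2 ^ 81 := by
    intro k
    have h1 : (a >>> k) &&& colMask ≤ colMask := Nat.and_le_right
    have h2 : (b >>> (9 * k)) &&& 511 ≤ 511 := Nat.and_le_right
    calc term a b k ≤ colMask * 511 := Nat.mul_le_mul h1 h2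
      _ < 2 ^ 81 := by decide
  unfold bmul
  repeat' apply Nat.xor_lt_two_pow
  all_goals exact ht _

theorem mul_lt (x y : ℕ) : mul x y < 2 ^ 162 := by
  unfold mul mk2
  apply Nat.xor_lt_two_pow
  · exact lt_of_le_of_lt Nat.and_le_right (by norm_num)
  · rw [Nat.shiftLeft_eq, show (2 : ℕ) ^ 162 = 2 ^ 81 * 2 ^ 81 by norm_num]
    exact Nat.mul_lt_mul_of_pos_right (Nat.xor_lt_two_pow (bmul_lt _ _) (bmul_lt _ _))
      (by norm_num)

theorem monotone_of_succ {n : ℕ} (f : ℕ → ℕ) (h : ∀ t, t + 1 < n → f t < f (t + 1)) :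
    ∀ b, b < n → ∀ a < b, f a < f b := by
  intro b
  induction b with
  | zero => omega
  | succ b ih =>
    intro hb a hab
    rcases Nat.lt_succ_iff_lt_or_eq.1 hab with hab' | rfl
    · exact lt_trans (ih (by omega) a hab') (h b hb)
    · exact h a hb

theorem inj_of_succ {n : ℕ} (f : ℕ → ℕ) (h : ∀ t, t + 1 < n → f t < f (t + 1)) {a b : ℕ}
    (ha : a < n) (hb : b < n) (he : f a = f b) : a = b := by
  rcases lt_trichotomy a b with hl | hl | hl
  · have := monotone_of_succ f h b hb a hl; omega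
  · exact hl
  · have := monotone_of_succ f h a ha b hl; omega

theorem card_countP (n : ℕ) (p : ℕ → Bool) :
    Nat.card {i : Fin n // p i = true} = (List.range' 0 n).countP p := by
  rw [Nat.card_eq_fintype_card, Fintype.card_subtype,
    card_filter_map_val n _ p (fun i => by simp)]
  rw [← List.range_eq_range', List.countP_eq_length_filter]
  simp [Finset.card, Finset.filter, Finset.range, Multiset.range]

section
variable {F : Type*} [Field F]

/-- The first column of a code, as a vector. -/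
def vec (ω : F) (c : ℕ) : F9 → F := fun w => tm ω c w 0

variable [CharP F 2] {ω : F} (hω : ω ^ 2 + ω + 1 = 0)
include hω

theorem vec_mul (x c : ℕ) : vec ω (mul x c) = Matrix.mulVec (tm ω x) (vec ω c) := by
  ext w
  simp only [vec, tm_mul hω, Matrix.mul_apply, Matrix.mulVec, dotProduct]

theorem col_zero {c : ℕ} (h : colBits c = true) {w z : F9} (hz : z ≠ 0) : tm ω c w z = 0 := by
  unfold colBits at h
  rw [List.all_eq_true] at h
  have ht : 9 * (e9 w : ℕ) + (e9 z : ℕ) < 81 := by omega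
  have := h _ (List.mem_range.2 ht)
  have hne : (9 * (e9 w : ℕ) + (e9 z : ℕ)) % 9 ≠ 0 := by
    intro h0
    refine hz (e9.injective (Fin.ext ?_))
    rw [show ((e9 (0 : F9)) : ℕ) = 0 from rfl]
    omega
  simp only [Bool.or_eq_true, beq_iff_eq, hne, false_or, Bool.and_eq_true,
    Bool.not_eq_true'] at this
  simp [tm_apply, ent, this.1, this.2, bcast]

theorem mul_eq_of_vec {x y c : ℕ} (hc : colBits c = true)
    (h : vec ω (mul x c) = vec ω (mul y c)) : mul x c = mul y c := by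
  refine tm_inj hω (mul_lt _ _) (mul_lt _ _) ?_
  ext w z
  by_cases hz : z = 0
  · subst hz
    exact congrFun h w
  · rw [tm_mul hω, tm_mul hω, Matrix.mul_apply, Matrix.mul_apply]
    simp [col_zero hω hc hz]

theorem mul_eq_self {x c : ℕ} (hc : colBits c = true) (hlt : c < 2 ^ 162)
    (h : Matrix.mulVec (tm ω x) (vec ω c) = vec ω c) : mul x c = c := by
  refine tm_inj hω (mul_lt _ _) hlt ?_
  rw [← vec_mul hω] at h
  ext w z
  by_cases hz : z = 0
  · subst hz
    exact congrFun h w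
  · rw [col_zero hω hc hz, tm_mul hω, Matrix.mul_apply]
    simp [col_zero hω hc hz]

omit hω

end

section
variable {F : Type*} [Field F] [Fintype F] [CharP F 2] {ω : F} (hω : ω ^ 2 + ω + 1 = 0)
  (C : Chain ω)

/-- The fixer of a vector. -/
def fixV (v : F9 → F) : Subgroup (GL F9 F) where
  carrier := {g | Matrix.mulVec (g : Matrix F9 F9 F) v = v}
  one_mem' := by simp
  mul_mem' {a b} ha hb := by
    show Matrix.mulVec ((a * b : GL F9 F) : Matrix F9 F9 F) v = v
    rw [Units.val_mul, ← Matrix.mulVec_mulVec, hb, ha]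
  inv_mem' {a} ha := by
    show Matrix.mulVec ((a⁻¹ : GL F9 F) : Matrix F9 F9 F) v = v
    conv_lhs => rw [← ha]
    rw [Matrix.mulVec_mulVec, Units.inv_mul, Matrix.one_mulVec]

omit [Fintype F] [CharP F 2] in
theorem mem_fixV {v : F9 → F} {g : GL F9 F} :
    g ∈ fixV v ↔ Matrix.mulVec (g : Matrix F9 F9 F) v = v := Iff.rfl

/-- The orbit of a vector. -/
def orbV (G : Subgroup (GL F9 F)) (v : F9 → F) : Set (F9 → F) :=
  {w | ∃ g ∈ G, Matrix.mulVec (g : Matrix F9 F9 F) v = w}

omit [CharP F 2] in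
theorem card_orbV (G : Subgroup (GL F9 F)) (v : F9 → F) :
    (orbV G v).ncard * Nat.card ↥(G ⊓ fixV v) = Nat.card G := by
  let act : MulAction G (F9 → F) :=
    { smul := fun g w => Matrix.mulVec ((g : GL F9 F) : Matrix F9 F9 F) w
      one_smul := fun w => Matrix.one_mulVec w
      mul_smul := fun g h w => (Matrix.mulVec_mulVec w _ _).symm }
  letI := act
  have horb : MulAction.orbit G v = orbV G v := by
    ext w
    exact ⟨fun ⟨g, hg⟩ => ⟨g, g.2, hg⟩, fun ⟨g, hg, he⟩ => ⟨⟨g, hg⟩, he⟩⟩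
  have hst : Nat.card (MulAction.stabilizer G v) = Nat.card ↥(G ⊓ fixV v) :=
    Nat.card_congr
      { toFun := fun g => ⟨g.1.1, g.1.2, g.2⟩
        invFun := fun g => ⟨⟨g.1, g.2.1⟩, g.2.2⟩
        left_inv := fun _ => rfl
        right_inv := fun _ => rfl }
  rw [← hst, ← horb, ← MulAction.index_stabilizer, mul_comm]
  exact Subgroup.card_mul_index _

include hω

theorem wordHK_rep {w : ℕ} (h : wordHKOk w = true) : ∃ g ∈ C.H, Rep ω g (wordHK w) := by
  unfold wordHKOk at h
  simp only [Bool.and_eq_true, decide_eq_true_eq] at h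
  exact ⟨C.v ⟨_, h.1⟩ * C.kk ⟨_, h.2⟩, C.H.mul_mem (C.v_mem _) (C.K_le (C.kk_mem _)),
    (C.rep_v _).mul hω (C.rep_kk _)⟩

theorem H_orbit_ge {c : ℕ} {l : List ℕ} (hc : colBits c = true) (h : orbOk c l = true) :
    l.length ≤ (orbV C.H (vec ω c)).ncard := by
  unfold orbOk at h
  rw [Bool.and_eq_true, List.all_eq_true, List.all_eq_true] at h
  obtain ⟨hw, hs⟩ := h
  have hmem : ∀ t : Fin l.length, vec ω (mul (wordHK (l.getD t 0)) c) ∈ orbV C.H (vec ω c) := by
    intro t
    obtain ⟨g, hg, hr⟩ := wordHK_rep hω C (hw (l.getD t 0) (by simp))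
    exact ⟨g, hg, by rw [vec_mul hω]; rw [show (g : Matrix F9 F9 F) = _ from hr]⟩
  have hinj : Function.Injective fun t : Fin l.length =>
      (⟨_, hmem t⟩ : orbV C.H (vec ω c)) := by
    intro a b hab
    have he := mul_eq_of_vec hω hc (congrArg Subtype.val hab)
    exact Fin.ext (inj_of_succ (fun t => mul (wordHK (l.getD t 0)) c)
      (fun t ht => of_decide_eq_true (hs t (List.mem_range.2 (by omega)))) a.isLt b.isLt he)
  have := Nat.card_le_card_of_injective _ hinj
  rwa [Nat.card_fin, Nat.card_coe_set_eq] at this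

/-- Upper bound for a vector stabiliser: the image of the base point satisfies `pred`. -/
theorem stab_le {v : F9 → F} (pred : ℕ → Bool) (m : ℕ) (hH : Nat.card ↥(C.H ⊓ fixV v) ≤ m)
    (hpred : ∀ g : GL F9 F, g ∈ C.G → g ∈ fixV v → ∀ i,
      Maps (projFam ω P 6156) g ⟨0, by norm_num⟩ i → pred i = true) :
    Nat.card ↥(C.G ⊓ fixV v) ≤ (List.range' 0 6156).countP pred * m := by
  classical
  set z0 : Fin 6156 := ⟨0, by norm_num⟩
  let img : ↥(C.G ⊓ fixV v) → {i : Fin 6156 // pred i = true} := fun g =>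
    ⟨rho hω C ⟨g.1, g.2.1⟩ z0, hpred g.1 g.2.1 g.2.2 _ (rho_spec hω C ⟨g.1, g.2.1⟩ z0)⟩
  have hrep : ∀ i, ∃ r : ↥(C.G ⊓ fixV v), ∀ g, img g = i → img r = i := fun i => by
    by_cases h : ∃ g, img g = i
    · exact ⟨h.choose, fun _ _ => h.choose_spec⟩
    · exact ⟨1, fun g hg => absurd ⟨g, hg⟩ h⟩
  choose r hr using hrep
  have hin : ∀ g, ((r (img g))⁻¹ * g : ↥(C.G ⊓ fixV v)).1 ∈ C.H ⊓ fixV v := by
    intro g
    refine ⟨?_, ((r (img g))⁻¹ * g).2.2⟩
    have h1 : rho hω C ⟨(r (img g)).1, (r (img g)).2.1⟩ z0 = rho hω C ⟨g.1, g.2.1⟩ z0 :=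
      congrArg Subtype.val (hr (img g) g rfl)
    refine (rho_fix_iff hω C (⟨(r (img g)).1, (r (img g)).2.1⟩⁻¹ * ⟨g.1, g.2.1⟩)).1 ?_
    rw [map_mul, map_inv, Equiv.Perm.mul_apply, Equiv.Perm.inv_eq_iff_eq]
    exact h1.symm
  have hinj : Function.Injective fun g => (img g, (⟨_, hin g⟩ : ↥(C.H ⊓ fixV v))) := by
    intro a b hab
    simp only [Prod.mk.injEq, Subtype.mk.injEq] at hab
    obtain ⟨h1, h2⟩ := hab
    rw [h1] at h2
    exact Subtype.ext (mul_left_cancel (a := ((r (img b))⁻¹ : ↥(C.G ⊓ fixV v)).1) (by simpa using h2))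
  have := Nat.card_le_card_of_injective _ hinj
  rw [Nat.card_prod, card_countP] at this
  exact this.trans (Nat.mul_le_mul_left _ hH)

theorem Hp_le : Nat.card ↥(C.H ⊓ fixV (vec ω D.pVec)) ≤ 96 := by
  have h1 := card_orbV C.H (vec ω D.pVec)
  have h2 := H_orbit_ge hω C col_ok.2.1 pOrb_ok
  have hb := base_ok
  unfold baseOk at hb
  simp only [Bool.and_eq_true, decide_eq_true_eq] at hb
  rw [hb.2] at h2
  rw [C.card_H hω] at h1
  by_contra h
  have := Nat.mul_le_mul h2 (Nat.succ_le_of_lt (not_le.1 h))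
  omega

theorem Hq_le : Nat.card ↥(C.H ⊓ fixV (vec ω D.qVec)) ≤ 60 := by
  have h1 := card_orbV C.H (vec ω D.qVec)
  have h2 := H_orbit_ge hω C col_ok.1 qOrb_ok
  have hb := base_ok
  unfold baseOk at hb
  simp only [Bool.and_eq_true, decide_eq_true_eq] at hb
  rw [hb.1.2] at h2
  rw [C.card_H hω] at h1
  by_contra h
  have := Nat.mul_le_mul h2 (Nat.succ_le_of_lt (not_le.1 h))
  omega

theorem pIn_of_fix {g : GL F9 F} (_hg : g ∈ C.G) (hf : g ∈ fixV (vec ω D.pVec)) (i : Fin 6156)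
    (hm : Maps (projFam ω P 6156) g ⟨0, by norm_num⟩ i) : pInI i = true := by
  have hb := base_ok
  unfold baseOk at hb
  simp only [Bool.and_eq_true, decide_eq_true_eq] at hb
  have h0 : Matrix.mulVec (tm ω (P 0)) (vec ω D.pVec) = vec ω D.pVec := by
    rw [← vec_mul hω, eq_of_beq hb.1.1.1.1.1.2]
  have h := congrArg (fun M => Matrix.mulVec M (vec ω D.pVec)) hm
  simp only [projFam, ← Matrix.mulVec_mulVec, h0, mem_fixV.1 hf] at h
  rw [pInI, mul_eq_self hω col_ok.2.1 hb.1.1.2 h]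
  simp

theorem herm_reix {g : GL F9 F} (hg : g ∈ C.G) (x y : F9 → F) :
    ∑ w, Matrix.mulVec (g : Matrix F9 F9 F) x w * Matrix.mulVec (g : Matrix F9 F9 F) y w ^ 2 =
      ∑ w, x w * y w ^ 2 := by
  have h := G_le_preserving hω C hg (fun i => x (e9.symm i)) (fun i => y (e9.symm i))
  have e : ∀ (u : F9 → F) (i : Fin 9),
      Matrix.mulVec (reix g) (fun i => u (e9.symm i)) i =
        Matrix.mulVec (g : Matrix F9 F9 F) u (e9.symm i) := by
    intro u i
    show ∑ j, (g : Matrix F9 F9 F) (e9.symm i) (e9.symm j) * u (e9.symm j) = _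
    exact Equiv.sum_comp e9.symm (fun z => (g : Matrix F9 F9 F) (e9.symm i) z * u z)
  simp only [Cfsg.hermForm, e] at h
  rw [← Equiv.sum_comp e9.symm (fun w => Matrix.mulVec (g : Matrix F9 F9 F) x w *
    Matrix.mulVec (g : Matrix F9 F9 F) y w ^ 2), h]
  exact Equiv.sum_comp e9.symm (fun w => x w * y w ^ 2)

end

set_option maxRecDepth 100000 in
/-- `qConj` is the conjugate transpose of `qVec`. -/
theorem qConj_bits : ∀ i j : Fin 9,
    (lo D.qConj).testBit (9 * (i : ℕ) + j) = (decide (i = 0) &&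
        ((lo D.qVec).testBit (9 * (j : ℕ)) ^^ (hi D.qVec).testBit (9 * (j : ℕ)))) ∧
      (hi D.qConj).testBit (9 * (i : ℕ) + j) =
        (decide (i = 0) && (hi D.qVec).testBit (9 * (j : ℕ))) := by
  decide +kernel

section
variable {F : Type*} [Field F] [Fintype F] [CharP F 2] {ω : F} (hω : ω ^ 2 + ω + 1 = 0)
  (C : Chain ω)
include hω

omit [Fintype F] in
theorem qConj_entry (i w : F9) :
    tm ω D.qConj i w = if i = 0 then vec ω D.qVec w ^ 2 else 0 := by
  obtain ⟨h1, h2⟩ := qConj_bits (e9 i) (e9 w)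
  rw [tm_apply, ent, h1, h2, vec, tm_apply, ent,
    show ((e9 (0 : F9)) : ℕ) = 0 from rfl, Nat.add_zero]
  by_cases h : i = 0
  · subst h
    simp only [show decide (e9 (0 : F9) = 0) = true from decide_eq_true rfl, Bool.true_and,
      if_pos, bcast_xor]
    generalize (lo D.qVec).testBit (9 * (e9 w : ℕ)) = a
    generalize (hi D.qVec).testBit (9 * (e9 w : ℕ)) = b
    cases a <;> cases b <;> simp [bcast]
    · exact (om_sq hω).symm
    · rw [CharTwo.add_sq, one_pow, om_sq hω]
      ring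
  · have : e9 i ≠ 0 := fun h' => h (e9.injective (h'.trans rfl))
    simp [this, h, bcast]

omit [Fintype F] in
theorem tm_zero : tm ω 0 = (0 : Matrix F9 F9 F) := by
  ext w z
  simp [tm_apply, ent, lo, hi, bcast]

theorem perp_of_fix {g : GL F9 F} (hg : g ∈ C.G) (hf : g ∈ fixV (vec ω D.qVec)) (i : Fin 6156)
    (hm : Maps (projFam ω P 6156) g ⟨0, by norm_num⟩ i) : perpI i = true := by
  have hb := base_ok
  unfold baseOk at hb
  simp only [Bool.and_eq_true, decide_eq_true_eq] at hb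
  set q := vec ω D.qVec with hq
  have A := C.actG hω
  obtain ⟨k, hk⟩ := A.total g⁻¹ (C.G.inv_mem hg) i
  obtain rfl := hm.back A.rigid hk
  have hperp0 : ∀ z : F9, ∑ w, tm ω (P 0) w z * q w ^ 2 = 0 := by
    intro z
    have := congrFun (congrFun (congrArg (tm ω) (eq_of_beq hb.1.1.1.1.2)) 0) z
    rw [tm_mul hω, tm_zero hω, Matrix.mul_apply, Matrix.zero_apply] at this
    simp only [qConj_entry hω, if_pos] at this
    rw [← this]
    exact Finset.sum_congr rfl fun w _ => mul_comm _ _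
  have key : ∀ z : F9, ∑ w, tm ω (P i) w z * q w ^ 2 = 0 := by
    intro z
    set col : F9 → F := fun w => tm ω (P i) w z
    set y := Matrix.mulVec ((g⁻¹ : GL F9 F) : Matrix F9 F9 F) col
    have hy : Matrix.mulVec (tm ω (P 0)) y = y := by
      have := congrArg (fun M => fun w => M w z) hk
      simp only [projFam] at this
      ext w
      have hw := congrFun this w
      rw [← Matrix.mul_assoc, Matrix.mul_apply] at hw
      simp only [y, col, Matrix.mulVec_mulVec]
      rw [Matrix.mulVec, dotProduct]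
      exact hw
    have hcol : col = Matrix.mulVec (g : Matrix F9 F9 F) y := by
      simp only [y, Matrix.mulVec_mulVec, Units.mul_inv, Matrix.one_mulVec]
    show ∑ w, col w * q w ^ 2 = 0
    conv_lhs => rw [hcol]; arg 2; ext w; rw [show q w = Matrix.mulVec (g : Matrix F9 F9 F) q w from
      (congrFun (mem_fixV.1 hf) w).symm]
    rw [herm_reix hω C hg, ← hy]
    simp only [Matrix.mulVec, dotProduct, Finset.sum_mul]
    rw [Finset.sum_comm]
    refine Finset.sum_eq_zero fun t _ => ?_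
    have h' := congrArg (fun s => y t * s) (hperp0 t)
    simp only [mul_zero, Finset.mul_sum] at h'
    rw [← h']
    exact Finset.sum_congr rfl fun w _ => by ring
  have : tm ω (mul D.qConj (P i)) = tm ω 0 := by
    ext w z
    rw [tm_mul hω, tm_zero hω, Matrix.mul_apply, Matrix.zero_apply]
    simp only [qConj_entry hω]
    by_cases h : w = 0
    · subst h
      simp only [if_pos]
      rw [← key z]
      exact Finset.sum_congr rfl fun t _ => mul_comm _ _
    · simp [h]
  rw [perpI, tm_inj hω (mul_lt _ _) (by norm_num) this]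
  simp

theorem Gq_card : Nat.card ↥(C.G ⊓ fixV (vec ω D.qVec)) = 2160 := by
  classical
  refine le_antisymm ?_ ?_
  · have := stab_le hω C perpI 60 (Hq_le hω C) (fun g hg hf i hi => perp_of_fix hω C hg hf i hi)
    rwa [perp_count] at this
  · have hs := star_ok
    unfold starOk at hs
    simp only [Bool.and_eq_true, List.all_eq_true, List.mem_range, decide_eq_true_eq] at hs
    obtain ⟨⟨-, hs1⟩, hs2⟩ := hs
    have hk := kq_ok
    unfold kqOk at hk
    simp only [Bool.and_eq_true, List.all_eq_true, List.mem_range, decide_eq_true_eq] at hk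
    obtain ⟨⟨-, hk1⟩, hk2⟩ := hk
    have hu : ∀ t : Fin 36, ∃ g : GL F9 F, g ∈ C.G ∧ g ∈ fixV (vec ω D.qVec) ∧
        ∃ hi : D.qStar.getD t 0 / 65536 < 6156,
          Maps (projFam ω P 6156) g ⟨0, by norm_num⟩ ⟨_, hi⟩ := by
      intro t
      obtain ⟨⟨hi, hw⟩, hfix⟩ := hs1 t t.isLt
      obtain ⟨l, hl, hr⟩ := wordHK_rep hω C hw
      refine ⟨C.u ⟨_, hi⟩ * l, C.G.mul_mem (C.u_mem _) (C.H_le hl), ?_, hi,
        (C.H_fix hω hl).mul (C.u_maps _)⟩
      rw [mem_fixV, show ((C.u ⟨_, hi⟩ * l : GL F9 F) : Matrix F9 F9 F) = _ from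
        (C.rep_u _).mul hω hr, ← vec_mul hω]
      exact congrArg (vec ω) (eq_of_beq hfix)
    choose u hu1 hu2 hu3 hu4 using hu
    have hl : ∀ s : Fin 60, ∃ g : GL F9 F, g ∈ C.H ∧ g ∈ fixV (vec ω D.qVec) ∧
        Rep ω g (K (D.kqFix.getD s 0)) := by
      intro s
      obtain ⟨hm, hfix⟩ := hk1 s s.isLt
      refine ⟨C.kk ⟨_, hm⟩, C.K_le (C.kk_mem _), ?_, C.rep_kk _⟩
      rw [mem_fixV, show (C.kk ⟨_, hm⟩ : Matrix F9 F9 F) = _ from C.rep_kk _, ← vec_mul hω]
      exact congrArg (vec ω) (eq_of_beq hfix)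
    choose l hl1 hl2 hl3 using hl
    let f : Fin 36 × Fin 60 → ↥(C.G ⊓ fixV (vec ω D.qVec)) := fun p =>
      ⟨u p.1 * l p.2, C.G.mul_mem (hu1 _) (C.H_le (hl1 _)),
        (fixV (vec ω D.qVec)).mul_mem (hu2 _) (hl2 _)⟩
    have hinj : Function.Injective f := by
      rintro ⟨a, b⟩ ⟨a', b'⟩ h
      have h' : u a * l b = u a' * l b' := congrArg Subtype.val h
      have A := C.actG hω
      have m1 := (C.H_fix hω (hl1 b)).mul (hu4 a)
      have m2 := (C.H_fix hω (hl1 b')).mul (hu4 a')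
      rw [← h'] at m2
      have hi := congrArg Fin.val (m1.unique A.rigid m2 fun x =>
        A.total _ (C.G.inv_mem (C.G.mul_mem (hu1 a) (C.H_le (hl1 b)))) x)
      have ha : a = a' := Fin.ext (inj_of_succ (fun t => D.qStar.getD t 0 / 65536)
        (fun t ht => hs2 t (by omega)) a.isLt a'.isLt hi)
      subst ha
      have hb : l b = l b' := mul_left_cancel h'
      have hcode : K (D.kqFix.getD b 0) = K (D.kqFix.getD b' 0) :=
        tm_inj hω (low_parts _ (hk1 b b.isLt).1).2.1 (low_parts _ (hk1 b' b'.isLt).1).2.1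
          (by rw [← show (l b : Matrix F9 F9 F) = _ from hl3 b, hb]; exact hl3 b')
      rw [Fin.ext (inj_of_succ (fun t => K (D.kqFix.getD t 0))
        (fun t ht => hk2 t (by omega)) b.isLt b'.isLt hcode)]
    have := Nat.card_le_card_of_injective _ hinj
    simpa using this

theorem Gp_le : Nat.card ↥(C.G ⊓ fixV (vec ω D.pVec)) ≤ 1152 := by
  have := stab_le hω C pInI 96 (Hp_le hω C) (fun g hg hf i hi => pIn_of_fix hω C hg hf i hi)
  rwa [pIn_count] at this

theorem orbit_q : (orbV C.G (vec ω D.qVec)).ncard = 69768 := by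
  have h := card_orbV C.G (vec ω D.qVec)
  rw [Gq_card hω C, C.card_G hω] at h
  omega

theorem orbit_p : 130815 ≤ (orbV C.G (vec ω D.pVec)).ncard := by
  have h := card_orbV C.G (vec ω D.pVec)
  rw [C.card_G hω] at h
  have := Gp_le hω C
  by_contra hlt
  have := Nat.mul_le_mul (show (orbV C.G (vec ω D.pVec)).ncard ≤ 130814 by omega) this
  omega

end

end H94.J3
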