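import Mathlib
import Cfsg.Prelude.Def_Spor_J3
import Cfsg.Agent.H94.J3.Orbits

/-! Orbits of `3·J₃` on lines. -/

namespace H94.J3

open Cfsg.Spor

section Count
variable {F : Type*} [Field F] [Fintype F] [CharP F 2]

theorem cube_cases (hF : Fintype.card F = 4) {a : F} (ha : a ≠ 0) : a ^ 3 = 1 := by
  have := FiniteField.pow_card_sub_one_eq_one a ha
  rwa [hF] at this

theorem cube_sum_cases (hF : Fintype.card F = 4) {ι : Type*} (s : Finset ι) (v : ι → F) :
    ∑ i ∈ s, v i ^ 3 = 0 ∨ ∑ i ∈ s, v i ^ 3 = 1 := by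
  classical
  induction s using Finset.induction with
  | empty => exact Or.inl (by simp)
  | insert i s hi ih =>
    rw [Finset.sum_insert hi]
    by_cases h : v i = 0
    · simpa [h] using ih
    · rw [cube_cases hF h]
      rcases ih with h' | h' <;> rw [h']
      · exact Or.inr (add_zero 1)
      · exact Or.inl (CharTwo.add_self_eq_zero 1)

/-- The number of isotropic vectors in `F^n`. -/
def isoCount : ℕ → ℕ
  | 0 => 1
  | n + 1 => isoCount n + 3 * (4 ^ n - isoCount n)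

theorem card_iso (hF : Fintype.card F = 4) : ∀ n : ℕ,
    Nat.card {v : Fin n → F // ∑ i, v i ^ 3 = 0} = isoCount n
  | 0 => by simp [isoCount]
  | n + 1 => by
    classical
    have ih := card_iso hF n
    rw [Nat.card_eq_fintype_card] at ih ⊢
    have e : {v : Fin (n + 1) → F // ∑ i, v i ^ 3 = 0} ≃
        Σ a : F, {v : Fin n → F // a ^ 3 + ∑ i, v i ^ 3 = 0} :=
      { toFun := fun v => ⟨v.1 0, fun i => v.1 i.succ, by simpa [Fin.sum_univ_succ] using v.2⟩
        invFun := fun p => ⟨Fin.cons p.1 p.2.1, by simpa [Fin.sum_univ_succ] using p.2.2⟩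
        left_inv := fun v => Subtype.ext (Fin.cons_self_tail v.1)
        right_inv := fun p => by rcases p with ⟨a, v, hv⟩; rfl }
    rw [Fintype.card_congr e, Fintype.card_sigma, ← Finset.add_sum_erase _ _ (Finset.mem_univ (0 : F))]
    have h0 : Fintype.card {v : Fin n → F // (0 : F) ^ 3 + ∑ i, v i ^ 3 = 0} = isoCount n := by
      rw [← ih]
      exact Fintype.card_congr (Equiv.subtypeEquivRight fun v => by simp)
    have h1 : ∀ a ∈ (Finset.univ : Finset F).erase 0,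
        Fintype.card {v : Fin n → F // a ^ 3 + ∑ i, v i ^ 3 = 0} = 4 ^ n - isoCount n := by
      intro a ha
      rw [cube_cases hF (Finset.ne_of_mem_erase ha), ← ih]
      rw [Fintype.card_congr (Equiv.subtypeEquivRight (q := fun v => ¬ ∑ i, v i ^ 3 = 0)
        fun v => ?_), Fintype.card_subtype_compl, Fintype.card_fun, hF, Fintype.card_fin]
      rcases cube_sum_cases hF Finset.univ v with h | h
      · simp [h]
      · simp [h, CharTwo.add_self_eq_zero]
    rw [h0, Finset.sum_congr rfl h1, Finset.sum_const, Finset.card_erase_of_mem (Finset.mem_univ _),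
      Finset.card_univ, hF, smul_eq_mul, isoCount]

theorem card_iso_F9 (hF : Fintype.card F = 4) :
    {v : F9 → F | v ≠ 0 ∧ ∑ z, v z ^ 3 = 0}.ncard = 130815 := by
  classical
  have h : {v : F9 → F | ∑ z, v z ^ 3 = 0}.ncard = 130816 := by
    rw [← Nat.card_coe_set_eq, ← show isoCount 9 = 130816 by rfl, ← card_iso hF 9]
    refine Nat.card_congr (Equiv.subtypeEquiv (e9.arrowCongr (Equiv.refl F)) fun v => ?_)
    show _ ↔ ∑ i, v (e9.symm i) ^ 3 = 0
    rw [Equiv.sum_comp e9.symm (fun z => v z ^ 3)]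
    rfl
  have he : {v : F9 → F | v ≠ 0 ∧ ∑ z, v z ^ 3 = 0} = {v : F9 → F | ∑ z, v z ^ 3 = 0} \ {0} := by
    ext v
    simp [and_comm]
  rw [he, Set.ncard_sdiff_singleton_of_mem (by simp), h]

end Count

set_option maxRecDepth 100000 in
theorem pVec_weight :
    (((Finset.univ : Finset (Fin 9)).filter fun w : Fin 9 =>
      ((lo D.pVec).testBit (9 * (w : ℕ)) || (hi D.pVec).testBit (9 * (w : ℕ))) = true).card % 2 = 0) := by
  decide +kernel

variable {F : Type*} [Field F] [Fintype F] [CharP F 2] {ω : F} (hω : ω ^ 2 + ω + 1 = 0)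
  (C : Chain ω)
include hω

theorem pVec_iso (hF : Fintype.card F = 4) : ∑ z, vec ω D.pVec z ^ 3 = 0 := by
  classical
  have key : ∀ z : F9, vec ω D.pVec z ^ 3 =
      if ((lo D.pVec).testBit (9 * (e9 z : ℕ)) || (hi D.pVec).testBit (9 * (e9 z : ℕ))) = true
        then (1 : F) else 0 := by
    intro z
    rw [vec, tm_apply, ent, show ((e9 (0 : F9)) : ℕ) = 0 from rfl, Nat.add_zero]
    generalize (lo D.pVec).testBit (9 * (e9 z : ℕ)) = a
    generalize (hi D.pVec).testBit (9 * (e9 z : ℕ)) = b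
    cases a <;> cases b <;> simp [bcast, om_cube hω]
    · refine cube_cases hF fun h => om_ne_one hω (CharTwo.add_eq_zero.1 h).symm
  simp only [key]
  rw [Equiv.sum_comp e9 (fun i : Fin 9 =>
      if ((lo D.pVec).testBit (9 * (i : ℕ)) || (hi D.pVec).testBit (9 * (i : ℕ))) = true
        then (1 : F) else 0), Finset.sum_boole]
  obtain ⟨k, hk⟩ := Nat.dvd_of_mod_eq_zero pVec_weight
  rw [hk, Nat.cast_mul, Nat.cast_ofNat, CharTwo.two_eq_zero, zero_mul]

theorem vec_one : vec ω 1 = (Pi.single (0 : F9) (1 : F) : F9 → F) := by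
  ext w
  rw [vec, tm_apply, ent, show ((e9 (0 : F9)) : ℕ) = 0 from rfl, Nat.add_zero]
  have h1 : (lo 1).testBit (9 * (e9 w : ℕ)) = decide (w = 0) := by
    revert w
    decide +kernel
  have h2 : (hi 1).testBit (9 * (e9 w : ℕ)) = false := by simp [hi]
  rw [h1, h2, Pi.single_apply]
  by_cases h : w = 0 <;> simp [h, bcast]

include C

theorem orbit_lines (hF : Fintype.card F = 4) :
    {L : Submodule F (F9 → F) | ∃ g ∈ C.G,
      L = F ∙ (Matrix.mulVec (g : Matrix F9 F9 F) (Pi.single (0 : F9) (1 : F)))}.ncard = 23256 := by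
  classical
  obtain ⟨g0, hg0, hr0⟩ : ∃ g ∈ C.G, Rep ω g (wordG D.qBase) := by
    have hb := base_ok
    unfold baseOk at hb
    simp only [Bool.and_eq_true, decide_eq_true_eq] at hb
    obtain ⟨l, hl, hr⟩ := wordHK_rep hω C hb.1.1.1.1.1.1.1.2
    exact ⟨C.u ⟨_, hb.1.1.1.1.1.1.1.1⟩ * l, C.G.mul_mem (C.u_mem _) (C.H_le hl),
      (C.rep_u _).mul hω hr⟩
  set e0 : F9 → F := Pi.single (0 : F9) (1 : F)
  set q := vec ω D.qVec
  have hq : Matrix.mulVec (g0 : Matrix F9 F9 F) q = e0 := by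
    have hb := base_ok
    unfold baseOk at hb
    simp only [Bool.and_eq_true, decide_eq_true_eq] at hb
    rw [show (g0 : Matrix F9 F9 F) = _ from hr0, ← vec_mul hω, eq_of_beq hb.1.1.1.1.1.1.2]
    exact vec_one hω
  have horb : orbV C.G e0 = orbV C.G q := by
    ext w
    constructor
    · rintro ⟨g, hg, rfl⟩
      exact ⟨g * g0, C.G.mul_mem hg hg0, by rw [Units.val_mul, ← Matrix.mulVec_mulVec, hq]⟩
    · rintro ⟨g, hg, rfl⟩
      refine ⟨g * g0⁻¹, C.G.mul_mem hg (C.G.inv_mem hg0), ?_⟩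
      rw [Units.val_mul, ← Matrix.mulVec_mulVec, ← hq, Matrix.mulVec_mulVec, Matrix.mulVec_mulVec,
        Matrix.mul_assoc, Units.inv_mul, Matrix.mul_one]
  set S := {L : Submodule F (F9 → F) | ∃ g ∈ C.G, L = F ∙ (Matrix.mulVec (g : Matrix F9 F9 F) e0)}
  have hne : ∀ w ∈ orbV C.G e0, w ≠ 0 := by
    rintro w ⟨g, -, rfl⟩ h
    have := congrArg (Matrix.mulVec ((g⁻¹ : GL F9 F) : Matrix F9 F9 F)) h
    rw [Matrix.mulVec_mulVec, Units.inv_mul, Matrix.one_mulVec, Matrix.mulVec_zero] at this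
    simp [e0] at this
  have hrep : ∀ L : S, ∃ w ∈ orbV C.G e0, (L : Submodule F (F9 → F)) = F ∙ w := by
    rintro ⟨L, g, hg, rfl⟩
    exact ⟨_, ⟨g, hg, rfl⟩, rfl⟩
  choose r hr1 hr2 using hrep
  have hsc : ∀ (c : Fˣ) (w : F9 → F), w ∈ orbV C.G e0 → (c : F) • w ∈ orbV C.G e0 := by
    rintro c w ⟨g, hg, rfl⟩
    obtain ⟨s, hs, hse⟩ := scalar_mem hω C hF c.ne_zero
    exact ⟨s * g, C.G.mul_mem hs hg, by rw [Units.val_mul, hse]; simp [Matrix.smul_mulVec]⟩
  have hbij : Function.Bijective fun p : S × Fˣ =>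
      (⟨(p.2 : F) • r p.1, hsc p.2 _ (hr1 p.1)⟩ : orbV C.G e0) := by
    constructor
    · rintro ⟨L, c⟩ ⟨L', c'⟩ h
      have h' : (c : F) • r L = (c' : F) • r L' := congrArg Subtype.val h
      have hL : L = L' := Subtype.ext (by
        rw [hr2 L, hr2 L', ← Submodule.span_singleton_smul_eq (c.isUnit) (r L), h',
          Submodule.span_singleton_smul_eq (c'.isUnit) (r L')])
      subst hL
      have hc : (c : F) = c' := smul_left_injective F (hne _ (hr1 L)) h'
      rw [Units.ext hc]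
    · rintro ⟨w, hw⟩
      obtain ⟨g, hg, hge⟩ := hw
      let L : S := ⟨F ∙ w, g, hg, by rw [hge]⟩
      have hmem : w ∈ F ∙ r L := by rw [← hr2 L]; exact Submodule.mem_span_singleton_self w
      obtain ⟨c, hc⟩ := Submodule.mem_span_singleton.1 hmem
      have hc0 : c ≠ 0 := by
        intro h0
        rw [h0, zero_smul] at hc
        exact hne w ⟨g, hg, hge⟩ hc.symm
      exact ⟨(L, Units.mk0 c hc0), Subtype.ext hc⟩
  have hcard := Nat.card_congr (Equiv.ofBijective _ hbij)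
  rw [Nat.card_prod, Nat.card_coe_set_eq, Nat.card_coe_set_eq, horb, orbit_q hω C,
    Nat.card_eq_fintype_card, Fintype.card_units, hF] at hcard
  omega

theorem iso_one_orbit (hF : Fintype.card F = 4) {v w : F9 → F} (hv : v ≠ 0) (hw : w ≠ 0)
    (hvi : ∑ z, v z ^ 3 = 0) (hwi : ∑ z, w z ^ 3 = 0) :
    ∃ g ∈ C.G, Matrix.mulVec (g : Matrix F9 F9 F) v = w := by
  set p := vec ω D.pVec
  have hp0 : p ≠ 0 := by
    intro h
    have h1 : 130815 ≤ (orbV C.G p).ncard := orbit_p hω C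
    have : orbV C.G p ⊆ {0} := by
      rintro x ⟨g, -, rfl⟩
      rw [h, Matrix.mulVec_zero]
      exact rfl
    have := Set.ncard_le_ncard this
    rw [Set.ncard_singleton] at this
    omega
  have hsub : orbV C.G p ⊆ {v : F9 → F | v ≠ 0 ∧ ∑ z, v z ^ 3 = 0} := by
    rintro x ⟨g, hg, rfl⟩
    refine ⟨fun h => hp0 ?_, ?_⟩
    · have := congrArg (Matrix.mulVec ((g⁻¹ : GL F9 F) : Matrix F9 F9 F)) h
      rwa [Matrix.mulVec_mulVec, Units.inv_mul, Matrix.one_mulVec, Matrix.mulVec_zero] at this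
    · have e : ∀ u : F9 → F, ∑ z, u z ^ 3 = ∑ z, u z * u z ^ 2 := fun u =>
        Finset.sum_congr rfl fun z _ => by ring
      rw [e, herm_reix hω C hg, ← e]
      exact pVec_iso hω hF
  have heq : orbV C.G p = {v : F9 → F | v ≠ 0 ∧ ∑ z, v z ^ 3 = 0} :=
    Set.eq_of_subset_of_ncard_le hsub (by rw [card_iso_F9 hF]; exact orbit_p hω C)
  obtain ⟨a, ha, hav⟩ : v ∈ orbV C.G p := by rw [heq]; exact ⟨hv, hvi⟩
  obtain ⟨b, hb, hbw⟩ : w ∈ orbV C.G p := by rw [heq]; exact ⟨hw, hwi⟩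
  refine ⟨b * a⁻¹, C.G.mul_mem hb (C.G.inv_mem ha), ?_⟩
  rw [Units.val_mul, ← Matrix.mulVec_mulVec, ← hav, Matrix.mulVec_mulVec, Matrix.mulVec_mulVec,
    Matrix.mul_assoc, Units.inv_mul, Matrix.mul_one, hbw]

end H94.J3
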