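import Mathlib
import Cfsg.Prelude.Def_Spor_J3
import Cfsg.Prelude.Def_Transfer
import Cfsg.Agent.H94.J3.Lines
import Cfsg.Agent.H31.InvariantMax
import Cfsg.Agent.H94.J3.CentDefs

/-! The centraliser of an involution in `J₃`. -/

namespace H94.J3

open Cfsg.Spor

section Abstract
variable {J : Type*} [Group J] [Finite J]

/-- The subgroup carried by a finite list closed under multiplication. -/
def listSubgroup {n : ℕ} [NeZero n] (f : Fin n → J) (h1 : f 0 = 1)
    (hmul : ∀ i j, ∃ k, f i * f j = f k) : Subgroup J :=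
  let M : Submonoid J :=
    { carrier := Set.range f
      one_mem' := ⟨0, h1⟩
      mul_mem' := by
        rintro _ _ ⟨i, rfl⟩ ⟨j, rfl⟩
        obtain ⟨k, hk⟩ := hmul i j
        exact ⟨k, hk.symm⟩ }
  { M with
    inv_mem' := by
      rintro x hx
      have hpos : 1 ≤ orderOf x := orderOf_pos x
      have : x⁻¹ = x ^ (orderOf x - 1) := by
        refine inv_eq_of_mul_eq_one_right ?_
        rw [← pow_succ', Nat.sub_add_cancel hpos, pow_orderOf_eq_one]
      rw [this]
      exact M.pow_mem hx _ }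

theorem mem_listSubgroup {n : ℕ} [NeZero n] {f : Fin n → J} {h1 : f 0 = 1}
    {hmul : ∀ i j, ∃ k, f i * f j = f k} {x : J} :
    x ∈ listSubgroup f h1 hmul ↔ ∃ i, f i = x := Iff.rfl

theorem card_listSubgroup {n : ℕ} [NeZero n] {f : Fin n → J} {h1 : f 0 = 1}
    {hmul : ∀ i j, ∃ k, f i * f j = f k} (hinj : Function.Injective f) :
    Nat.card (listSubgroup f h1 hmul) = n := by
  have := Nat.card_congr (Equiv.ofInjective f hinj)
  rw [Nat.card_fin] at this
  exact this.symm

/-- The product of a subgroup with a subgroup normalising it. -/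
def prodSubgroup (Q A : Subgroup J) (hn : ∀ k ∈ A, ∀ x ∈ Q, k * x * k⁻¹ ∈ Q) : Subgroup J where
  carrier := {x | ∃ p ∈ Q, ∃ k ∈ A, x = p * k}
  one_mem' := ⟨1, Q.one_mem, 1, A.one_mem, by group⟩
  mul_mem' := by
    rintro _ _ ⟨p, hp, k, hk, rfl⟩ ⟨p', hp', k', hk', rfl⟩
    exact ⟨p * (k * p' * k⁻¹), Q.mul_mem hp (hn k hk p' hp'), k * k', A.mul_mem hk hk', by group⟩
  inv_mem' := by
    rintro _ ⟨p, hp, k, hk, rfl⟩
    exact ⟨k⁻¹ * p⁻¹ * k, by simpa using hn k⁻¹ (A.inv_mem hk) p⁻¹ (Q.inv_mem hp), k⁻¹, A.inv_mem hk,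
      by group⟩

theorem mem_prodSubgroup {Q A : Subgroup J} {hn : ∀ k ∈ A, ∀ x ∈ Q, k * x * k⁻¹ ∈ Q} {x : J} :
    x ∈ prodSubgroup Q A hn ↔ ∃ p ∈ Q, ∃ k ∈ A, x = p * k := Iff.rfl

theorem card_prodSubgroup {Q A : Subgroup J} {hn : ∀ k ∈ A, ∀ x ∈ Q, k * x * k⁻¹ ∈ Q}
    (hd : Disjoint Q A) : Nat.card (prodSubgroup Q A hn) = Nat.card Q * Nat.card A := by
  rw [← Nat.card_prod]
  refine (Nat.card_eq_of_bijective
    (fun p : Q × A => (⟨p.1.1 * p.2.1, p.1.1, p.1.2, p.2.1, p.2.2, rfl⟩ : prodSubgroup Q A hn))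
    ⟨fun x y hxy => Subgroup.mul_injective_of_disjoint hd (congrArg Subtype.val hxy), ?_⟩).symm
  rintro ⟨x, p, hp, k, hk, hx⟩
  exact ⟨(⟨p, hp⟩, ⟨k, hk⟩), Subtype.ext hx.symm⟩

/-- A group of order `2 ^ n` whose centre `⟨z⟩` of order 2 contains all squares. -/
theorem extraspecial_two_of_data (P : Type*) [Group P] [Finite P] (z : P) {n : ℕ}
    (hn : Nat.card P = 2 ^ n) (hcen : Subgroup.center P = Subgroup.zpowers z)
    (hz : Nat.card (Subgroup.zpowers z) = 2) (hsq : ∀ x : P, x * x ∈ Subgroup.zpowers z)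
    (hna : ∃ x y : P, x * y ≠ y * x)
    (hcom : ∀ x y : P, x * y = y * x ∨ x * y = y * x * z) : Cfsg.IsExtraspecial 2 P := by
  haveI : Fact (Nat.Prime 2) := ⟨Nat.prime_two⟩
  have hp : IsPGroup 2 P := IsPGroup.of_card hn
  have hcmem : ∀ x y : P, x * y * x⁻¹ * y⁻¹ ∈ Subgroup.zpowers z := by
    intro x y
    rcases hcom x y with h | h
    · rw [h]; simp
    · rw [h]
      have hc : ∀ w : P, z * w = w * z := fun w =>
        (Subgroup.mem_center_iff.1 (by rw [hcen]; exact Subgroup.mem_zpowers z) w).symm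
      rw [mul_assoc (y * x) z, hc x⁻¹, ← mul_assoc, mul_assoc _ z, hc y⁻¹, ← mul_assoc]
      simp
  have hC : commutator P = Subgroup.center P := by
    refine le_antisymm ?_ ?_
    · rw [commutator_def, Subgroup.commutator_le]
      intro x _ y _
      rw [hcen]
      exact hcmem x y
    · obtain ⟨x, y, hxy⟩ := hna
      have hm : x * y * x⁻¹ * y⁻¹ ∈ commutator P := by
        rw [commutator_def]
        exact Subgroup.commutator_mem_commutator (Subgroup.mem_top x) (Subgroup.mem_top y)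
      rw [hcen, Subgroup.zpowers_le]
      have he : x * y * x⁻¹ * y⁻¹ = z := by
        have h := (hcom x y).resolve_left hxy
        rw [h]
        have hc : ∀ w : P, z * w = w * z := fun w =>
          (Subgroup.mem_center_iff.1 (by rw [hcen]; exact Subgroup.mem_zpowers z) w).symm
        rw [mul_assoc (y * x) z, hc x⁻¹, ← mul_assoc, mul_assoc _ z, hc y⁻¹, ← mul_assoc]
        simp
      rwa [he] at hm
  refine ⟨⟨hp, ?_, hC⟩, by rw [hcen, hz]⟩
  refine le_antisymm ?_ ?_
  · exact H31.frattini_le_of_pow_mem Nat.prime_two _ hC.le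
      (fun x => by rw [pow_two, hcen]; exact hsq x)
  · rw [← hC]
    exact H31.commutator_le_frattini hp

end Abstract

theorem q_spec (i : Fin 32) :
    wordOk (D.qWord.getD i 0) (qE i) = true ∧ qE i < 2 ^ 162 ∧
      mul D.tInv (qE i) = mul (qE i) D.tInv ∧
      ∀ j : Fin 32, qM i j < 32 ∧ mul (qE i) (qE j) = qE (qM i j) ∧
        (i ≠ j → notProp (qE i) (qE j) = true) := by
  have h := allIn_spec q_ok (Nat.zero_le (i : ℕ)) (by omega)
  unfold qChk at h
  simp only [Bool.and_eq_true, List.all_eq_true, List.mem_range, decide_eq_true_eq,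
    Bool.or_eq_true, beq_iff_eq] at h
  obtain ⟨⟨⟨h1, h2⟩, h3⟩, h4⟩ := h
  exact ⟨h1, h2, h3, fun j => ⟨(h4 j j.isLt).1.1, (h4 j j.isLt).1.2,
    fun hne => (h4 j j.isLt).2.resolve_left fun he => hne (Fin.ext he)⟩⟩

theorem a_spec (i : Fin 60) :
    wordOk (D.aWord.getD i 0) (aE i) = true ∧ aE i < 2 ^ 162 ∧
      mul D.tInv (aE i) = mul (aE i) D.tInv ∧
      (∀ j : Fin 60, aM i j < 60 ∧ mul (aE i) (aE j) = aE (aM i j) ∧
        (i ≠ j → notProp (aE i) (aE j) = true)) ∧
      ∀ q : Fin 32, D.aConjQ.get (32 * i + q) < 32 ∧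
        mul (aE i) (qE q) = mul (qE (D.aConjQ.get (32 * i + q))) (aE i) ∧
        (i ≠ 0 → notProp (aE i) (qE q) = true) := by
  have h := allIn_spec a_ok (Nat.zero_le (i : ℕ)) (by omega)
  unfold aChk at h
  simp only [Bool.and_eq_true, List.all_eq_true, List.mem_range, decide_eq_true_eq,
    Bool.or_eq_true, beq_iff_eq] at h
  obtain ⟨⟨⟨⟨h1, h2⟩, h3⟩, h4⟩, h5⟩ := h
  exact ⟨h1, h2, h3, fun j => ⟨(h4 j j.isLt).1.1, (h4 j j.isLt).1.2,
    fun hne => (h4 j j.isLt).2.resolve_left fun he => hne (Fin.ext he)⟩,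
    fun q => ⟨(h5 q q.isLt).1.1, (h5 q q.isLt).1.2,
    fun hne => (h5 q q.isLt).2.resolve_left fun he => hne (Fin.ext he)⟩⟩

theorem cbase_spec :
    qE 0 = eye ∧ qE 1 = D.tInv ∧ aE 0 = eye ∧ mul D.tInv D.tInv = eye ∧
      mul (P 0) (mul D.tInv (P 0)) = mul D.tInv (P 0) ∧ D.tOrbit.length = 255 := by
  have h := cbase_ok
  unfold cBaseChk at h
  simp only [Bool.and_eq_true, decide_eq_true_eq, beq_iff_eq] at h
  exact ⟨h.1.1.1.1.1.1.1.1, h.1.1.1.1.1.1.1.2, h.1.1.1.1.1.1.2, h.1.1.1.2, h.1.1.2, h.2⟩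

theorem table_spec :
    (∀ a : Fin 32, (∀ b : Fin 32, qM a b = qM b a) → (a : ℕ) = 0 ∨ (a : ℕ) = 1) ∧
      (∀ a : Fin 32, qM a 1 = qM 1 a ∧ (qM a a = 0 ∨ qM a a = 1)) ∧
      (∃ a b : Fin 32, qM a b ≠ qM b a) ∧
      (∀ a b : Fin 32, qM a b = qM b a ∨ qM a b = qM (qM b a) 1) ∧
      (∀ e f : Fin 32, 2 ≤ (e : ℕ) → 2 ≤ (f : ℕ) → qM e e = 0 → qM f f = 0 →
        qM e f = qM f e → (f : ℕ) = e ∨ (f : ℕ) = qM 1 e) := by
  have h := table_ok
  unfold tableFacts at h
  simp only [Bool.and_eq_true, List.all_eq_true, List.any_eq_true, List.mem_range,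
    Bool.or_eq_true, beq_iff_eq, bne_iff_ne] at h
  obtain ⟨⟨⟨⟨h1, h2⟩, h3⟩, h4⟩, h5⟩ := h
  refine ⟨fun a hb => ?_, fun a => h2 a a.isLt, ?_, fun a b => h4 a a.isLt b b.isLt,
    fun e f he hf hee hff hef => ?_⟩
  · have hh := h1 a a.isLt
    rw [show ((List.range 32).all fun b => qM a b == qM b a) = true from
      List.all_eq_true.2 fun b hb' => beq_iff_eq.2 (hb ⟨b, List.mem_range.1 hb'⟩), cond_true] at hh
    simpa only [Bool.or_eq_true, beq_iff_eq] using hh
  · obtain ⟨a, ha, b, hb, hne⟩ := h3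
    exact ⟨⟨a, ha⟩, ⟨b, hb⟩, hne⟩
  · have hh := h5 e e.isLt f f.isLt
    rw [show (decide (2 ≤ (e : ℕ)) && decide (2 ≤ (f : ℕ)) && (qM e e == 0) && (qM f f == 0) &&
        (qM e f == qM f e)) = true by
      simp only [Bool.and_eq_true, decide_eq_true_eq, beq_iff_eq]
      exact ⟨⟨⟨⟨he, hf⟩, hee⟩, hff⟩, hef⟩, cond_true] at hh
    simpa only [Bool.or_eq_true, beq_iff_eq] using hh

theorem perm_spec (i j : Fin 60) :
    (∀ k : Fin 5, pApp i k < 5 ∧ pApp (aM i j) k = pApp i (pApp j k)) ∧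
      (i ≠ j → D.aPerm.getD i 0 ≠ D.aPerm.getD j 0) := by
  have h := perm_ok
  unfold permChk at h
  simp only [Bool.and_eq_true, List.all_eq_true, List.mem_range, decide_eq_true_eq,
    Bool.or_eq_true, beq_iff_eq, bne_iff_ne] at h
  obtain ⟨h1, h2⟩ := h i i.isLt j j.isLt
  exact ⟨fun k => h1 k k.isLt, fun hne => h2.resolve_left fun he => hne (Fin.ext he)⟩

theorem perm_lt : ∀ i : Fin 60, D.aPerm.getD i 0 < 5 ^ 5 := by decide +kernel

/-- Five base-5 digits. -/
theorem digits_inj : ∀ x y : ℕ, x < 5 ^ 5 → y < 5 ^ 5 →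
    (∀ k : Fin 5, x / 5 ^ (k : ℕ) % 5 = y / 5 ^ (k : ℕ) % 5) → x = y := by
  intro x y hx hy h
  have h0 := h 0
  have h1 := h 1
  have h2 := h 2
  have h3 := h 3
  have h4 := h 4
  simp at h0 h1 h2 h3 h4 hx hy
  omega

theorem vFour_zero : D.vFour.getD 0 0 = 0 := by decide +kernel

theorem wordG_eq (w : ℕ) : wordG w = mul (U (w / 65536)) (wordHK (w % 65536)) := rfl

section Tables

attribute [local irreducible] qM aM pApp

theorem q_group {X : Type*} [Group X] [Finite X] (f : Fin 32 → X) (hf : Function.Bijective f)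
    (h0 : f 0 = 1) (hm : ∀ i j : Fin 32, ∃ h : qM i j < 32, f i * f j = f ⟨qM i j, h⟩) :
    Cfsg.IsExtraspecial 2 X ∧
      ∀ E : Subgroup X, Cfsg.IsElementaryAbelian 2 E → Nat.card E ≤ 2 ^ 2 := by
  obtain ⟨tab1, tab2, tab3, tab4, tab5⟩ := table_spec
  have hcard : Nat.card X = 32 := by rw [← Nat.card_eq_of_bijective f hf, Nat.card_fin]
  have qcomm : ∀ i j : Fin 32, f i * f j = f j * f i ↔ qM i j = qM j i := by
    intro i j
    obtain ⟨_, e1⟩ := hm i j
    obtain ⟨_, e2⟩ := hm j i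
    rw [e1, e2, hf.1.eq_iff, Fin.ext_iff]
  have fval : ∀ (k : ℕ) (hk : k < 32) (l : Fin 32), k = (l : ℕ) → f ⟨k, hk⟩ = f l :=
    fun k hk l e => congrArg f (Fin.ext e)
  set t : X := f ⟨1, by norm_num⟩ with ht
  have tne : t ≠ 1 := fun h => by
    have := congrArg Fin.val (hf.1 (h.trans h0.symm))
    simp at this
  have tc : ∀ x : X, x * t = t * x := by
    intro x
    obtain ⟨i, rfl⟩ := hf.2 x
    exact (qcomm i _).2 (tab2 i).1
  have tsq : t * t = 1 := by
    obtain ⟨hlt, e⟩ := hm ⟨1, by norm_num⟩ ⟨1, by norm_num⟩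
    rw [ht, e, ← h0]
    refine fval _ hlt 0 ?_
    rcases (tab2 ⟨1, by norm_num⟩).2 with h | h
    · exact h
    · exfalso
      exact tne (mul_left_cancel (a := t) (by rw [mul_one, ht, e]; exact fval _ hlt _ h))
  have hcen : Subgroup.center X = Subgroup.zpowers t := by
    ext x
    constructor
    · intro hx
      obtain ⟨i, rfl⟩ := hf.2 x
      rcases tab1 i (fun b => ((qcomm b i).1 (Subgroup.mem_center_iff.1 hx (f b))).symm) with h | h
      · rw [show i = 0 from Fin.ext h, h0]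
        exact Subgroup.one_mem _
      · rw [show i = ⟨1, by norm_num⟩ from Fin.ext h]
        exact Subgroup.mem_zpowers _
    · intro hx
      exact Subgroup.zpowers_le.2 (Subgroup.mem_center_iff.2 tc) hx
  haveI : Fact (Nat.Prime 2) := ⟨Nat.prime_two⟩
  have hzc : Nat.card (Subgroup.zpowers t) = 2 := by
    rw [Nat.card_zpowers, orderOf_eq_prime (by rw [pow_two, tsq]) tne]
  have sq_mem : ∀ x : X, x * x ∈ Subgroup.zpowers t := by
    intro x
    obtain ⟨i, rfl⟩ := hf.2 x
    obtain ⟨hlt, e⟩ := hm i i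
    rw [e]
    rcases (tab2 i).2 with h | h
    · rw [fval _ hlt 0 h, h0]
      exact Subgroup.one_mem _
    · rw [fval _ hlt ⟨1, by norm_num⟩ h]
      exact Subgroup.mem_zpowers _
  refine ⟨extraspecial_two_of_data X t (n := 5) (by rw [hcard]; norm_num) hcen hzc sq_mem ?_ ?_, ?_⟩
  · obtain ⟨x, y, hxy⟩ := tab3
    exact ⟨f x, f y, fun h => hxy ((qcomm x y).1 h)⟩
  · intro x y
    obtain ⟨i, rfl⟩ := hf.2 x
    obtain ⟨j, rfl⟩ := hf.2 y
    rcases tab4 i j with h | h
    · exact Or.inl ((qcomm i j).2 h)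
    · right
      obtain ⟨hl1, e1⟩ := hm i j
      obtain ⟨hl2, e2⟩ := hm j i
      obtain ⟨hl3, e3⟩ := hm ⟨qM j i, hl2⟩ ⟨1, by norm_num⟩
      rw [e1, e2, ht, e3]
      exact congrArg f (Fin.ext h)
  · intro E hE
    obtain ⟨hEc, hE2⟩ := hE
    have hcommE : ∀ x ∈ E, ∀ y ∈ E, x * y = y * x := fun x hx y hy =>
      congrArg Subtype.val (hEc.is_comm.comm ⟨x, hx⟩ ⟨y, hy⟩)
    by_cases hex : ∀ x ∈ E, x ∈ Subgroup.zpowers t
    · have := Nat.card_le_card_of_injective (Subgroup.inclusion (fun x hx => hex x hx))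
        (Subgroup.inclusion_injective _)
      omega
    · push Not at hex
      obtain ⟨e, he, hne⟩ := hex
      obtain ⟨i, rfl⟩ := hf.2 e
      have hidx : ∀ k : Fin 32, f k ∉ Subgroup.zpowers t → 2 ≤ (k : ℕ) := by
        intro k hk
        by_contra hlt
        rcases Nat.le_one_iff_eq_zero_or_eq_one.1 (Nat.le_of_lt_succ (not_le.1 hlt)) with h | h
        · exact hk (by rw [show k = 0 from Fin.ext h, h0]; exact Subgroup.one_mem _)
        · exact hk (by rw [show k = ⟨1, by norm_num⟩ from Fin.ext h]; exact Subgroup.mem_zpowers _)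
      have sq0 : ∀ k : Fin 32, f k ∈ E → qM k k = 0 := by
        intro k hk
        obtain ⟨hlt, e'⟩ := hm k k
        have := hE2 (f k) hk
        rw [pow_two, e', ← h0] at this
        exact congrArg Fin.val (hf.1 this)
      have hsub : (E : Set X) ⊆ ({1, t, f i, t * f i} : Set X) := by
        intro y hy
        obtain ⟨j, rfl⟩ := hf.2 y
        by_cases hj : f j ∈ Subgroup.zpowers t
        · obtain ⟨k, hk⟩ := (IsOfFinOrder.mem_powers_iff_mem_zpowers (isOfFinOrder_of_finite t)).2 hj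
          simp only at hk
          rw [← hk, ← Nat.mod_add_div k 2, pow_add, pow_mul, pow_two, tsq, one_pow, mul_one]
          rcases Nat.mod_two_eq_zero_or_one k with h | h <;> simp [h]
        · rcases tab5 i j (hidx i hne) (hidx j hj) (sq0 i he) (sq0 j hy)
            ((qcomm i j).1 (hcommE _ he _ hy)) with h | h
          · simp [Fin.ext h]
          · right; right; right
            obtain ⟨hlt, e'⟩ := hm ⟨1, by norm_num⟩ i
            rw [Set.mem_singleton_iff, ht, e']
            exact (fval _ hlt j h.symm).symm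
      have h4 := Set.ncard_le_ncard hsub
      rw [← Nat.card_coe_set_eq] at h4
      refine le_trans h4 ?_
      refine le_trans (Set.ncard_insert_le _ _) ?_
      refine le_trans (Nat.add_le_add_right (Set.ncard_insert_le _ _) 1) ?_
      refine le_trans (Nat.add_le_add_right (Nat.add_le_add_right (Set.ncard_insert_le _ _) 1) 1) ?_
      rw [Set.ncard_singleton]
      norm_num

theorem pApp_zero : ∀ k : Fin 5, pApp 0 k = (k : ℕ) := by decide +kernel

theorem a_group {X : Type*} [Group X] [Finite X] (f : Fin 60 → X) (hf : Function.Bijective f)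
    (h0 : f 0 = 1) (hm : ∀ i j : Fin 60, ∃ h : aM i j < 60, f i * f j = f ⟨aM i j, h⟩) :
    Nonempty (X ≃* ↥(alternatingGroup (Fin 5))) := by
  classical
  let ie : Fin 60 ≃ X := Equiv.ofBijective f hf
  let pf : Fin 60 → Fin 5 → Fin 5 := fun i k => ⟨pApp i k, ((perm_spec i 0).1 k).1⟩
  have pfmul : ∀ (i j : Fin 60) (h : aM i j < 60) (k : Fin 5), pf ⟨aM i j, h⟩ k = pf i (pf j k) :=
    fun i j h k => Fin.ext ((perm_spec i j).1 k).2
  let act : MulAction X (Fin 5) :=
    { smul := fun x k => pf (ie.symm x) k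
      one_smul := fun k => by
        show pf (ie.symm 1) k = k
        rw [show ie.symm 1 = 0 from ie.symm_apply_eq.2 h0.symm]
        exact Fin.ext (pApp_zero k)
      mul_smul := fun x y k => by
        obtain ⟨i, rfl⟩ := ie.surjective x
        obtain ⟨j, rfl⟩ := ie.surjective y
        obtain ⟨hlt, e⟩ := hm i j
        show pf (ie.symm (ie i * ie j)) k = pf (ie.symm (ie i)) (pf (ie.symm (ie j)) k)
        rw [show ie i * ie j = ie ⟨aM i j, hlt⟩ from e]
        simp only [Equiv.symm_apply_apply]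
        exact pfmul i j hlt k }
  letI := act
  let φ : X →* Equiv.Perm (Fin 5) := MulAction.toPermHom X (Fin 5)
  have φinj : Function.Injective φ := by
    intro x y h
    obtain ⟨i, rfl⟩ := ie.surjective x
    obtain ⟨j, rfl⟩ := ie.surjective y
    congr 1
    by_contra hne
    refine (perm_spec i j).2 hne (digits_inj _ _ (perm_lt i) (perm_lt j) fun k => ?_)
    have h' : pf (ie.symm (ie i)) k = pf (ie.symm (ie j)) k :=
      congrArg (fun e : Equiv.Perm (Fin 5) => e k) h
    simp only [Equiv.symm_apply_apply] at h'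
    have h'' : pApp i k = pApp j k := congrArg Fin.val h'
    unfold pApp at h''
    exact h''
  have hidx : φ.range.index = 2 := by
    have := φ.range.card_mul_index
    rw [← Nat.card_congr (MonoidHom.ofInjective φinj).toEquiv, ← Nat.card_eq_of_bijective f hf,
      Nat.card_fin, Nat.card_eq_fintype_card, Fintype.card_perm, Fintype.card_fin] at this
    rw [show Nat.factorial 5 = 120 from rfl] at this
    omega
  exact ⟨(MonoidHom.ofInjective φinj).trans
    (MulEquiv.subgroupCongr (Equiv.Perm.eq_alternatingGroup_of_index_eq_two hidx))⟩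

end Tables

variable {F : Type*} [Field F] [Fintype F] [CharP F 2] {ω : F} (hω : ω ^ 2 + ω + 1 = 0)
  (C : Chain ω)
include hω

theorem word_rep {w x : ℕ} (h : wordOk w x = true) : ∃ g ∈ C.G, Rep ω g x := by
  unfold wordOk at h
  simp only [Bool.and_eq_true, decide_eq_true_eq, beq_iff_eq] at h
  obtain ⟨l, hl, hr⟩ := wordHK_rep hω C h.1.2
  obtain ⟨⟨h1, -⟩, h3⟩ := h
  subst h3
  exact ⟨C.u ⟨_, h1⟩ * l, C.G.mul_mem (C.u_mem _) (C.H_le hl), (C.rep_u _).mul hω hr⟩

local notation "π" => QuotientGroup.mk' (Subgroup.center C.G)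

theorem pi_eq_iff (hF : Fintype.card F = 4) {g g' : C.G} {x y : ℕ} (hg : Rep ω (g : GL F9 F) x)
    (hg' : Rep ω (g' : GL F9 F) y) (h : π g = π g') :
    tm ω x = tm ω y ∨ tm ω x = tm ω (mul D.wScal y) ∨ tm ω x = tm ω (mul (mul D.wScal D.wScal) y) := by
  rw [QuotientGroup.mk'_eq_mk'] at h
  obtain ⟨z, hz, hze⟩ := h
  obtain ⟨c, hc⟩ := central_scalar hω C hz
  have hgy : tm ω y = c • tm ω x := by
    rw [← show ((g : GL F9 F) : Matrix F9 F9 F) = _ from hg,
      ← show ((g' : GL F9 F) : Matrix F9 F9 F) = _ from hg', ← hze, Subgroup.coe_mul, Units.val_mul,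
      hc]
    simp
  rcases cases_four hF hω c with h' | h' | h' | h'
  · exfalso
    rw [h', zero_smul] at hc
    exact Units.ne_zero (z : GL F9 F) hc
  · left; rw [hgy, h', one_smul]
  · right; right
    rw [tm_mul hω, tm_mul hω, tm_wScal hω, hgy, h']
    simp only [Matrix.smul_mul, Matrix.mul_smul, Matrix.one_mul, smul_smul]
    rw [show ω * (ω * ω) = 1 by rw [← om_cube hω]; ring, one_smul]
  · right; left
    rw [tm_mul hω, tm_wScal hω, hgy, h']
    simp only [Matrix.smul_mul, Matrix.one_mul, smul_smul]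
    rw [show ω * ω ^ 2 = 1 by rw [← om_cube hω]; ring, one_smul]

theorem pi_ne (hF : Fintype.card F = 4) {g g' : C.G} {x y : ℕ} (hx : x < 2 ^ 162) (hy : y < 2 ^ 162)
    (hg : Rep ω (g : GL F9 F) x) (hg' : Rep ω (g' : GL F9 F) y) (h : notProp x y = true) :
    π g ≠ π g' := by
  intro he
  unfold notProp at h
  simp only [Bool.and_eq_true, bne_iff_ne] at h
  rcases pi_eq_iff hω C hF hg hg' he with h' | h' | h'
  · exact h.1.1 (tm_inj hω hx hy h')
  · exact h.1.2 (tm_inj hω hx (mul_lt _ _) h')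
  · exact h.2 (tm_inj hω hx (mul_lt _ _) h')

attribute [local irreducible] Tr.get H94.J3.mul qE aE qM aM pApp tm wordG wordHK P

set_option maxHeartbeats 1000000 in
theorem cent_facts (hF : Fintype.card F = 4) :
    (∀ x y : C.G ⧸ Subgroup.center C.G, orderOf x = 2 → orderOf y = 2 → IsConj x y) ∧
    ∃ t : C.G ⧸ Subgroup.center C.G, orderOf t = 2 ∧
      ∃ (Q : Subgroup ↥(Subgroup.centralizer ({t} : Set (C.G ⧸ Subgroup.center C.G)))) (_ : Q.Normal),
        Cfsg.IsExtraspecial 2 Q ∧ Nat.card Q = 32 ∧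
        (∀ E : Subgroup Q, Cfsg.IsElementaryAbelian 2 E → Nat.card E ≤ 2 ^ 2) ∧
        (∃ H : Subgroup ↥(Subgroup.centralizer ({t} : Set (C.G ⧸ Subgroup.center C.G))),
          Q.IsComplement' H) ∧
        Nonempty (↥(Subgroup.centralizer ({t} : Set (C.G ⧸ Subgroup.center C.G))) ⧸ Q ≃*
          ↥(alternatingGroup (Fin 5))) := by
  classical
  have hq : ∀ i : Fin 32, ∃ g : C.G, Rep ω (g : GL F9 F) (qE i) := fun i => by
    obtain ⟨g, hg, hr⟩ := word_rep hω C (q_spec i).1
    exact ⟨⟨g, hg⟩, hr⟩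
  choose q hqr using hq
  have ha : ∀ i : Fin 60, ∃ g : C.G, Rep ω (g : GL F9 F) (aE i) := fun i => by
    obtain ⟨g, hg, hr⟩ := word_rep hω C (a_spec i).1
    exact ⟨⟨g, hg⟩, hr⟩
  choose a har using ha
  obtain ⟨hq0, hq1, ha0, htt, htfix, htlen⟩ := cbase_spec
  set tg : C.G := q ⟨1, by norm_num⟩ with htg
  have htr : Rep ω (tg : GL F9 F) D.tInv := by
    have := hqr ⟨1, by norm_num⟩
    rwa [show qE ((⟨1, by norm_num⟩ : Fin 32) : ℕ) = D.tInv from hq1] at this
  set t : C.G ⧸ Subgroup.center C.G := π tg with ht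
  have hq00 : q 0 = 1 := Subtype.ext (Rep.eq ω (hqr 0) (by rw [show qE ((0 : Fin 32) : ℕ) = eye from hq0]; exact rep_one ω))
  have ha00 : a 0 = 1 := Subtype.ext (Rep.eq ω (har 0) (by rw [show aE ((0 : Fin 60) : ℕ) = eye from ha0]; exact rep_one ω))
  have hqm : ∀ i j : Fin 32, q i * q j = q ⟨qM i j, ((q_spec i).2.2.2 j).1⟩ := by
    intro i j
    obtain ⟨hlt, he, -⟩ := (q_spec i).2.2.2 j
    have h1 : Rep ω ((q i * q j : C.G) : GL F9 F) (qE (qM i j)) := by
      rw [← he, Subgroup.coe_mul]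
      exact (hqr i).mul hω (hqr j)
    exact Subtype.ext (Rep.eq ω h1 (hqr ⟨qM i j, hlt⟩))
  have ham : ∀ i j : Fin 60, a i * a j = a ⟨aM i j, ((a_spec i).2.2.2.1 j).1⟩ := by
    intro i j
    obtain ⟨hlt, he, -⟩ := (a_spec i).2.2.2.1 j
    have h1 : Rep ω ((a i * a j : C.G) : GL F9 F) (aE (aM i j)) := by
      rw [← he, Subgroup.coe_mul]
      exact (har i).mul hω (har j)
    exact Subtype.ext (Rep.eq ω h1 (har ⟨aM i j, hlt⟩))
  have hqinj : Function.Injective fun i => π (q i) := by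
    intro i j h
    by_contra hne
    exact pi_ne hω C hF (q_spec i).2.1 (q_spec j).2.1 (hqr i) (hqr j) (((q_spec i).2.2.2 j).2.2 hne) h
  have hainj : Function.Injective fun i => π (a i) := by
    intro i j h
    by_contra hne
    exact pi_ne hω C hF (a_spec i).2.1 (a_spec j).2.1 (har i) (har j) (((a_spec i).2.2.2.1 j).2.2 hne) h
  have hdisj : ∀ i j, π (a i) = π (q j) → i = 0 := by
    intro i j h
    by_contra hne
    exact pi_ne hω C hF (a_spec i).2.1 (q_spec j).2.1 (har i) (hqr j) (((a_spec i).2.2.2.2 j).2.2 hne) h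
  let Qs : Subgroup (C.G ⧸ Subgroup.center C.G) := listSubgroup (fun i => π (q i))
    (by simp only [hq00, map_one]) (fun i j => ⟨_, by rw [← map_mul, hqm]⟩)
  let As : Subgroup (C.G ⧸ Subgroup.center C.G) := listSubgroup (fun i => π (a i))
    (by simp only [ha00, map_one]) (fun i j => ⟨_, by rw [← map_mul, ham]⟩)
  have cQ : Nat.card Qs = 32 := card_listSubgroup hqinj
  have cA : Nat.card As = 60 := card_listSubgroup hainj
  set Cn := Subgroup.centralizer ({t} : Set (C.G ⧸ Subgroup.center C.G)) with hCn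
  have commt : ∀ (g : C.G) (x : ℕ), Rep ω (g : GL F9 F) x → mul D.tInv x = mul x D.tInv →
      π g ∈ Cn := by
    intro g x hg hx
    refine Subgroup.mem_centralizer_singleton_iff.2 ?_
    rw [ht, ← map_mul, ← map_mul]
    congr 1
    refine Subtype.ext (Rep.eq ω (hg.mul hω htr) ?_)
    rw [← hx]
    exact htr.mul hω hg
  have hQle : Qs ≤ Cn := by
    rintro x ⟨i, rfl⟩
    exact commt _ _ (hqr i) (q_spec i).2.2.1
  have hAle : As ≤ Cn := by
    rintro x ⟨i, rfl⟩
    exact commt _ _ (har i) (a_spec i).2.2.1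
  have hQn : ∀ k ∈ As, ∀ x ∈ Qs, k * x * k⁻¹ ∈ Qs := by
    rintro _ ⟨i, rfl⟩ _ ⟨j, rfl⟩
    obtain ⟨hlt, he, -⟩ := (a_spec i).2.2.2.2 j
    refine ⟨⟨_, hlt⟩, ?_⟩
    rw [eq_mul_inv_iff_mul_eq, ← map_mul, ← map_mul]
    congr 1
    refine Subtype.ext (Rep.eq ω ((hqr ⟨_, hlt⟩).mul hω (har i)) ?_)
    rw [← he]
    exact (har i).mul hω (hqr j)
  have hdis : Disjoint Qs As := by
    rw [disjoint_iff_inf_le]
    rintro x ⟨⟨j, rfl⟩, ⟨i, hi⟩⟩
    rw [Subgroup.mem_bot]
    have := hdisj i j hi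
    rw [this] at hi
    rw [← hi]
    simp [ha00]
  have t2 : tg * tg = 1 := Subtype.ext (Rep.eq ω (htr.mul hω htr) (by rw [htt]; exact rep_one ω))
  have htne : t ≠ 1 := by
    intro h
    have := hqinj (a₁ := ⟨1, by norm_num⟩) (a₂ := 0) (by
      show π (q _) = π (q 0)
      rw [hq00, map_one]
      exact h)
    exact absurd (congrArg Fin.val this) (by simp)
  have hord : orderOf t = 2 := by
    haveI : Fact (Nat.Prime 2) := ⟨Nat.prime_two⟩
    exact orderOf_eq_prime (by rw [pow_two, ht, ← map_mul, t2, map_one]) htne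
  -- upper bound for the centraliser
  set K0 : Subgroup C.G := Subgroup.centralizer ({tg} : Set C.G) with hK0
  have hlift : ∀ g : C.G, π g ∈ Cn → g ∈ K0 := by
    intro g hg
    rw [Subgroup.mem_centralizer_singleton_iff, ht, ← map_mul, ← map_mul,
      QuotientGroup.mk'_eq_mk'] at hg
    obtain ⟨z, hz, hze⟩ := hg
    obtain ⟨c, hc⟩ := central_scalar hω C hz
    have hz3 : z ^ 3 = 1 := by
      refine Subtype.ext (Units.ext ?_)
      have hc3 : c ^ 3 = 1 := cube_cases hF (fun h => Units.ne_zero (z : GL F9 F) (by rw [hc, h, zero_smul]))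
      simp only [SubmonoidClass.coe_pow, Units.val_pow_eq_pow_val, hc, smul_pow, one_pow, hc3, one_smul]
      rfl
    have hcomm : ∀ x : C.G, z * x = x * z := fun x => (Subgroup.mem_center_iff.1 hz x).symm
    -- conjugating `tg` gives `tg` times a scalar; compare squares
    have e : g * tg * g⁻¹ * z = tg := by
      have h' : g * tg * g⁻¹ * z = g * tg * z * g⁻¹ := by
        rw [mul_assoc (g * tg) z, hcomm g⁻¹, ← mul_assoc]
      rw [h', hze]; group
    have e2 : z * z = 1 := by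
      have h1 : (g * tg * g⁻¹ * z) * (g * tg * g⁻¹ * z) = tg * tg := by rw [e]
      rw [t2] at h1
      calc z * z = g * (tg * tg) * g⁻¹ * (z * z) := by rw [t2]; group
        _ = (g * tg * g⁻¹) * (g * tg * g⁻¹) * (z * z) := by group
        _ = (g * tg * g⁻¹ * z) * (g * tg * g⁻¹ * z) := by
            simp only [mul_assoc]; rw [← mul_assoc z, hcomm g]; simp only [mul_assoc]
            rw [← mul_assoc z tg, hcomm tg]; simp only [mul_assoc]
            rw [← mul_assoc z g⁻¹, hcomm g⁻¹]; simp only [mul_assoc]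
        _ = 1 := h1
    have hz1 : z = 1 := by
      calc z = z ^ 3 * (z * z)⁻¹ := by rw [pow_succ, pow_two]; group
        _ = 1 := by rw [hz3, e2]; group
    rw [hz1, mul_one] at hze
    rw [hK0, Subgroup.mem_centralizer_singleton_iff]
    exact hze
  set z0 : Fin 6156 := ⟨0, by norm_num⟩
  have hfix : ∀ g : C.G, g ∈ K0 → tFixI (rho hω C g z0) = true := by
    intro g hg
    rw [hK0, Subgroup.mem_centralizer_singleton_iff] at hg
    have ht0 : rho hω C tg z0 = z0 := by
      refine rho_eq hω C ?_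
      show tm ω (P 0) * (((tg : GL F9 F) : Matrix F9 F9 F) * tm ω (P 0)) =
        ((tg : GL F9 F) : Matrix F9 F9 F) * tm ω (P 0)
      rw [show ((tg : GL F9 F) : Matrix F9 F9 F) = _ from htr, ← tm_mul hω, ← tm_mul hω, htfix]
    have : rho hω C tg (rho hω C g z0) = rho hω C g z0 := by
      rw [← Equiv.Perm.mul_apply, ← map_mul, ← hg, map_mul, Equiv.Perm.mul_apply, ht0]
    have hm := rho_spec hω C tg (rho hω C g z0)
    rw [this] at hm
    have hm' : tm ω (P (rho hω C g z0)) * (((tg : GL F9 F) : Matrix F9 F9 F) * tm ω (P (rho hω C g z0))) =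
        ((tg : GL F9 F) : Matrix F9 F9 F) * tm ω (P (rho hω C g z0)) := hm
    rw [show ((tg : GL F9 F) : Matrix F9 F9 F) = _ from htr, ← tm_mul hω, ← tm_mul hω] at hm'
    rw [tFixI, tm_inj hω (mul_lt _ _) (mul_lt _ _) hm']
    simp
  set H0 : Subgroup C.G := C.H.subgroupOf C.G with hH0
  have hcH : Nat.card ↥(K0 ⊓ H0) ≤ 96 := by
    let act : MulAction H0 C.G :=
      { smul := fun h x => (h : C.G) * x * (h : C.G)⁻¹
        one_smul := fun x => by show (1 : C.G) * x * (1 : C.G)⁻¹ = x; group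
        mul_smul := fun g h x => by
          show ((g : C.G) * h) * x * ((g : C.G) * h)⁻¹ = g * ((h : C.G) * x * (h : C.G)⁻¹) * (g : C.G)⁻¹
          group }
    letI := act
    have hst : Nat.card (MulAction.stabilizer H0 tg) = Nat.card ↥(K0 ⊓ H0) := Nat.card_congr
      { toFun := fun h => ⟨h.1.1, Subgroup.mem_centralizer_singleton_iff.2
          (mul_inv_eq_iff_eq_mul.1 h.2), h.1.2⟩
        invFun := fun h => ⟨⟨h.1, h.2.2⟩,
          mul_inv_eq_iff_eq_mul.2 (Subgroup.mem_centralizer_singleton_iff.1 h.2.1)⟩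
        left_inv := fun _ => rfl
        right_inv := fun _ => rfl }
    have h1 := (MulAction.stabilizer H0 tg).card_mul_index
    rw [MulAction.index_stabilizer, hst, card_subgroup_H hω C] at h1
    have ho := tOrb_ok
    unfold tOrbChk at ho
    simp only [Bool.and_eq_true, List.all_eq_true, List.mem_range, decide_eq_true_eq, beq_iff_eq] at ho
    obtain ⟨ho1, ho2⟩ := ho
    have hx : ∀ k : Fin 255, ∃ x ∈ MulAction.orbit H0 tg, Rep ω (x : GL F9 F) (D.tOrbit.getD k 0) := by
      intro k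
      obtain ⟨⟨-, hw⟩, he⟩ := ho1 k k.isLt
      obtain ⟨l, hl, hr⟩ := wordHK_rep hω C hw
      refine ⟨⟨l, C.H_le hl⟩ * tg * ⟨l, C.H_le hl⟩⁻¹, ⟨⟨⟨l, C.H_le hl⟩, hl⟩, rfl⟩, ?_⟩
      have e1 : Rep ω (l * (tg : GL F9 F)) (mul (D.tOrbit.getD k 0) (wordHK (D.tOrbitWord.getD k 0))) := by
        rw [← he]
        exact hr.mul hω htr
      unfold Rep at e1 hr ⊢
      rw [Subgroup.coe_mul, Subgroup.coe_mul, Units.val_mul]
      show ((l * (tg : GL F9 F) : GL F9 F) : Matrix F9 F9 F) * ((l⁻¹ : GL F9 F) : Matrix F9 F9 F) = _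
      rw [e1, tm_mul hω, ← hr, Matrix.mul_assoc, Units.mul_inv, Matrix.mul_one]
    choose x hx1 hx2 using hx
    have hle : Nat.card (Fin 255) ≤ Nat.card (MulAction.orbit H0 tg) := by
      refine Nat.card_le_card_of_injective (fun k => ⟨x k, hx1 k⟩) fun k l h => ?_
      have h' : x k = x l := congrArg Subtype.val h
      have e := hx2 k
      rw [h'] at e
      exact Fin.ext (inj_of_succ (fun k => D.tOrbit.getD k 0) (fun i hi => ho2 i (by omega)) k.isLt
        l.isLt (tm_inj hω (ho1 k k.isLt).1.1 (ho1 l l.isLt).1.1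
          ((show ((x l : GL F9 F) : Matrix F9 F9 F) = _ from e).symm.trans (hx2 l))))
    rw [Nat.card_fin, Nat.card_coe_set_eq] at hle
    by_contra hlt
    have := Nat.mul_le_mul (Nat.succ_le_of_lt (not_le.1 hlt)) hle
    omega
  have hcK : Nat.card K0 ≤ 7296 := by
    let img : K0 → {i : Fin 6156 // tFixI i = true} := fun g => ⟨rho hω C g z0, hfix g g.2⟩
    have hrep : ∀ i, ∃ r : K0, ∀ g, img g = i → img r = i := fun i => by
      by_cases h : ∃ g, img g = i
      · exact ⟨h.choose, fun _ _ => h.choose_spec⟩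
      · exact ⟨1, fun g hg => absurd ⟨g, hg⟩ h⟩
    choose r hr using hrep
    have hin : ∀ g : K0, ((r (img g))⁻¹ * g : K0).1 ∈ K0 ⊓ H0 := by
      intro g
      refine ⟨((r (img g))⁻¹ * g).2, ?_⟩
      have h1 : rho hω C (r (img g)).1 z0 = rho hω C g.1 z0 := congrArg Subtype.val (hr (img g) g rfl)
      refine (rho_fix_iff hω C ((r (img g)).1⁻¹ * g.1)).1 ?_
      rw [map_mul, map_inv, Equiv.Perm.mul_apply, Equiv.Perm.inv_eq_iff_eq]
      exact h1.symm
    have hinj : Function.Injective fun g => (img g, (⟨_, hin g⟩ : ↥(K0 ⊓ H0))) := by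
      intro x y hxy
      simp only [Prod.mk.injEq, Subtype.mk.injEq] at hxy
      obtain ⟨h1, h2⟩ := hxy
      rw [h1] at h2
      exact Subtype.ext (mul_left_cancel (a := ((r (img y))⁻¹ : K0).1) (by simpa using h2))
    have := Nat.card_le_card_of_injective _ hinj
    rw [Nat.card_prod, card_countP, tFix_count] at this
    exact this.trans (Nat.mul_le_mul_left 76 hcH)
  have hcard : Nat.card Cn = 1920 := by
    have hmap : K0.map π = Cn := by
      ext x
      obtain ⟨g, rfl⟩ := QuotientGroup.mk'_surjective _ x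
      constructor
      · rintro ⟨k, hk, hke⟩
        rw [hK0, SetLike.mem_coe, Subgroup.mem_centralizer_singleton_iff] at hk
        rw [← hke, hCn, Subgroup.mem_centralizer_singleton_iff, ht, ← map_mul, ← map_mul, hk]
      · exact fun h => ⟨g, hlift g h, rfl⟩
    have h3 : Subgroup.center C.G ≤ K0 := Subgroup.center_le_centralizer _
    have hi : Nat.card Cn * 3 = Nat.card K0 := by
      have h1 := Subgroup.relIndex_mul_relIndex ⊥ (Subgroup.center C.G) K0 bot_le h3
      rw [Subgroup.relIndex_bot_left, Subgroup.relIndex_bot_left, card_center hω C hF] at h1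
      rw [← h1, mul_comm]
      congr 1
      rw [← hmap, ← Subgroup.relIndex_ker, QuotientGroup.ker_mk']
    have hle : prodSubgroup Qs As hQn ≤ Cn := by
      rintro _ ⟨p, hp, k, hk, rfl⟩
      exact Cn.mul_mem (hQle hp) (hAle hk)
    have hdv : 1920 ∣ Nat.card Cn := by
      have h := Subgroup.card_dvd_of_le hle
      rwa [card_prodSubgroup hdis, cQ, cA] at h
    have hpos : 0 < Nat.card Cn := Nat.card_pos
    omega
  refine ⟨?_, t, hord, Qs.subgroupOf Cn, ?_⟩
  · -- one class: a Sylow 2-subgroup is covered by the class of `t`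
    haveI : Fact (Nat.Prime 2) := ⟨Nat.prime_two⟩
    have hv := v_ok
    unfold vSub at hv
    simp only [Bool.and_eq_true, List.all_eq_true, List.mem_range, decide_eq_true_eq,
      List.contains_iff_mem, Bool.or_eq_true, beq_iff_eq, bne_iff_ne] at hv
    let v : Fin 4 → Fin 60 := fun i => ⟨D.vFour.getD i 0, (hv i i.isLt).1⟩
    have hvinj : Function.Injective v := fun i j h => Fin.ext
      (((hv i i.isLt).2 j j.isLt).2.resolve_right fun hne => hne (congrArg Fin.val h))
    let Vs : Subgroup (C.G ⧸ Subgroup.center C.G) := listSubgroup (fun i => π (a (v i)))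
      (by
        have : v 0 = 0 := Fin.ext vFour_zero
        simp only [this, ha00, map_one])
      (fun i j => by
        obtain ⟨k, hk, hke⟩ := List.getElem_of_mem ((hv i i.isLt).2 j j.isLt).1
        have hk4 : k < 4 := by
          have : D.vFour.length = 4 := by decide +kernel
          omega
        refine ⟨⟨k, hk4⟩, ?_⟩
        rw [← map_mul, ham]
        refine congrArg (fun x => π (a x)) (Fin.ext ?_)
        show aM _ _ = D.vFour.getD k 0
        rw [List.getD_eq_getElem _ _ hk, hke])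
    have hVle : Vs ≤ As := by
      rintro x ⟨i, rfl⟩
      exact ⟨v i, rfl⟩
    have cV : Nat.card Vs = 4 := card_listSubgroup (hainj.comp hvinj)
    let Sy : Subgroup (C.G ⧸ Subgroup.center C.G) :=
      prodSubgroup Qs Vs fun k hk => hQn k (hVle hk)
    have cS : Nat.card Sy = 128 := by
      rw [card_prodSubgroup (hdis.mono_right hVle), cQ, cV]
    have hSyl : Nat.card Sy = 2 ^ (Nat.card (C.G ⧸ Subgroup.center C.G)).factorization 2 := by
      rw [cS, card_quot hω C hF,
        show (50232960 : ℕ) = 2 ^ 7 * 392445 by norm_num,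
        Nat.factorization_mul (by norm_num) (by norm_num), Finsupp.add_apply,
        Nat.Prime.factorization_pow Nat.prime_two, Finsupp.single_eq_same,
        Nat.factorization_eq_zero_of_not_dvd (by norm_num)]
      norm_num
    have key : ∀ x : C.G ⧸ Subgroup.center C.G, orderOf x = 2 → IsConj t x := by
      intro x hx
      have hp2 : IsPGroup 2 (Subgroup.zpowers x) := by
        refine IsPGroup.of_card (n := 1) ?_
        rw [Nat.card_zpowers, hx, pow_one]
      obtain ⟨P2, hP2⟩ := hp2.exists_le_sylow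
      obtain ⟨g, hg⟩ := MulAction.exists_smul_eq (C.G ⧸ Subgroup.center C.G) P2 (Sylow.ofCard Sy hSyl)
      have hxS : g * x * g⁻¹ ∈ Sy := by
        have hxP : x ∈ (P2 : Subgroup _) := hP2 (Subgroup.mem_zpowers x)
        rw [← Sylow.coe_ofCard Sy hSyl, ← hg, Sylow.coe_subgroup_smul]
        exact ⟨x, hxP, rfl⟩
      obtain ⟨_, ⟨i, rfl⟩, _, ⟨j, rfl⟩, he⟩ := hxS
      have hs := syl_ok
      unfold sylAll at hs
      simp only [List.all_eq_true, List.mem_range] at hs
      have h' := hs i i.isLt j j.isLt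
      unfold sylChk at h'
      set sc := mul (qE i) (aE (D.vFour.getD j 0)) with hsc
      have hsr : Rep ω ((q i * a (v j) : C.G) : GL F9 F) sc := (hqr i).mul hω (har (v j))
      rw [← map_mul] at he
      have hconj : IsConj x (π (q i * a (v j))) := isConj_iff.2 ⟨g, he⟩
      by_cases h1 : sc = eye
      · exfalso
        have : q i * a (v j) = 1 := Subtype.ext (Rep.eq ω hsr (by rw [h1]; exact rep_one ω))
        rw [this, map_one] at hconj
        rw [isConj_one_left.1 hconj] at hx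
        simp at hx
      · simp only [show (sc == eye) = false from beq_eq_false_iff_ne.2 h1, cond_false] at h'
        by_cases h2 : mul sc sc = eye
        · simp only [show (mul sc sc == eye) = true from beq_iff_eq.2 h2, cond_true, Bool.and_eq_true,
            decide_eq_true_eq, beq_iff_eq] at h'
          obtain ⟨⟨hw1, hw2⟩, hw3⟩ := h'
          obtain ⟨l, hl, hr⟩ := wordHK_rep hω C hw2
          set g' : C.G := ⟨C.u ⟨_, hw1⟩ * l, C.G.mul_mem (C.u_mem _) (C.H_le hl)⟩
          have hr' : Rep ω (g' : GL F9 F) (wordG (D.sConj.getD (4 * i + j) 0)) :=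
            by rw [wordG_eq]; exact (C.rep_u ⟨_, hw1⟩).mul hω hr
          refine (IsConj.trans ?_ hconj.symm)
          refine isConj_iff.2 ⟨π g', ?_⟩
          rw [mul_inv_eq_iff_eq_mul, ht, ← map_mul, ← map_mul]
          congr 1
          refine Subtype.ext (Rep.eq ω (hr'.mul hω htr) ?_)
          rw [hw3]
          exact hsr.mul hω hr'
        · exfalso
          simp only [show (mul sc sc == eye) = false from beq_eq_false_iff_ne.2 h2, cond_false,
            Bool.not_eq_true'] at h'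
          obtain ⟨d, hd⟩ := isConj_iff.1 hconj
          have hsq : π (q i * a (v j)) ^ 2 = 1 := by
            rw [← hd, conj_pow, show x ^ 2 = 1 from (congrArg (fun n => x ^ n) hx).symm.trans (pow_orderOf_eq_one x)]
            group
          have hm := pi_eq_iff hω C hF (g := (q i * a (v j)) * (q i * a (v j))) (g' := 1)
            (hsr.mul hω hsr) (rep_one ω) (by rw [map_mul, map_one, ← pow_two, hsq])
          unfold isScal at h'
          simp only [Bool.or_eq_false_iff, beq_eq_false_iff_ne] at h'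
          have hw : ∀ c, tm ω (mul c eye) = tm ω c := fun c => by rw [tm_mul hω, tm_eye, mul_one]
          rw [hw, hw] at hm
          rcases hm with hm | hm | hm
          · exact h'.1.1 (tm_inj hω (mul_lt _ _) (by decide) hm)
          · exact h'.1.2 (tm_inj hω (mul_lt _ _) (by decide +kernel) hm)
          · exact h'.2 (tm_inj hω (mul_lt _ _) (mul_lt _ _) hm)
    exact fun x y hx hy => (key x hx).symm.trans (key y hy)
  · have hsup : ∀ x ∈ Cn, ∃ p ∈ Qs, ∃ k ∈ As, x = p * k := by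
      intro x hx
      have hi' : Function.Injective fun p : Qs × As =>
          (⟨p.1.1 * p.2.1, Cn.mul_mem (hQle p.1.2) (hAle p.2.2)⟩ : Cn) :=
        fun x y hxy => Subgroup.mul_injective_of_disjoint hdis (congrArg Subtype.val hxy)
      obtain ⟨⟨p, k⟩, hpk⟩ := (hi'.bijective_of_nat_card_le
        (by rw [Nat.card_prod, cQ, cA, hcard])).2 ⟨x, hx⟩
      exact ⟨p, p.2, k, k.2, (congrArg Subtype.val hpk).symm⟩
    have hN : (Qs.subgroupOf Cn).Normal := by
      refine ⟨fun x hx y => ?_⟩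
      obtain ⟨p, hp, k, ⟨i, rfl⟩, hy⟩ := hsup y y.2
      rw [Subgroup.mem_subgroupOf] at hx ⊢
      obtain ⟨j, hj⟩ := hx
      obtain ⟨hlt, he, -⟩ := (a_spec i).2.2.2.2 j
      have hconj : π (a i) * π (q j) * (π (a i))⁻¹ = π (q ⟨_, hlt⟩) := by
        rw [mul_inv_eq_iff_eq_mul, ← map_mul, ← map_mul]
        congr 1
        refine Subtype.ext (Rep.eq ω ((har i).mul hω (hqr j)) ?_)
        rw [he]
        exact (hqr ⟨_, hlt⟩).mul hω (har i)
      show (y : C.G ⧸ Subgroup.center C.G) * x * (y : C.G ⧸ Subgroup.center C.G)⁻¹ ∈ Qs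
      rw [hy, ← hj, mul_inv_rev]
      have : p * π (a i) * π (q j) * ((π (a i))⁻¹ * p⁻¹) =
          p * (π (a i) * π (q j) * (π (a i))⁻¹) * p⁻¹ := by group
      rw [this, hconj]
      exact Qs.mul_mem (Qs.mul_mem hp ⟨_, rfl⟩) (Qs.inv_mem hp)
    refine ⟨hN, ?_⟩
    let Q' := Qs.subgroupOf Cn
    have hp : ∀ i, π (q i) ∈ Qs := fun i => ⟨i, rfl⟩
    let qq : Fin 32 → Q' := fun i => ⟨⟨π (q i), hQle (hp i)⟩, hp i⟩
    have qbij : Function.Bijective qq := by
      refine ⟨fun i j h => hqinj (congrArg (fun z : Q' => ((z : Cn) : C.G ⧸ Subgroup.center C.G)) h), ?_⟩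
      rintro ⟨⟨x, hx⟩, i, hi⟩
      exact ⟨i, Subtype.ext (Subtype.ext hi)⟩
    have cQ' : Nat.card Q' = 32 := by
      rw [← Nat.card_eq_of_bijective qq qbij, Nat.card_fin]
    have qone : qq 0 = 1 := Subtype.ext (Subtype.ext (by show π (q 0) = 1; rw [hq00, map_one]))
    obtain ⟨hQex, hE⟩ := q_group qq qbij qone fun i j => ⟨((q_spec i).2.2.2 j).1,
      Subtype.ext (Subtype.ext (by show π (q i) * π (q j) = _; rw [← map_mul, hqm]))⟩
    have hcomp : Q'.IsComplement' (As.subgroupOf Cn) := by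
      refine Subgroup.isComplement'_of_card_mul_and_disjoint ?_ ?_
      · rw [cQ', Nat.card_congr (Subgroup.subgroupOfEquivOfLe hAle).toEquiv, cA, hcard]
      · rw [disjoint_iff_inf_le]
        rintro x ⟨h1, h2⟩
        rw [Subgroup.mem_bot]
        exact Subtype.ext (Subgroup.mem_bot.1 (hdis.le_bot ⟨h1, h2⟩))
    refine ⟨hQex, cQ', hE, ⟨_, hcomp⟩, ?_⟩
    let aa : Fin 60 → As := fun i => ⟨π (a i), i, rfl⟩
    obtain ⟨e⟩ := a_group aa ⟨fun i j h => hainj (congrArg Subtype.val h),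
      fun ⟨x, i, hi⟩ => ⟨i, Subtype.ext hi⟩⟩
      (Subtype.ext (by show π (a 0) = 1; rw [ha00, map_one]))
      (fun i j => ⟨((a_spec i).2.2.2.1 j).1,
        Subtype.ext (by show π (a i) * π (a j) = _; rw [← map_mul, ham])⟩)
    exact ⟨(hcomp.symm.QuotientMulEquiv).trans ((Subgroup.subgroupOfEquivOfLe hAle).trans e)⟩

end H94.J3
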