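import Mathlib

/-! Bit-packed 9×9 matrices over the field with four elements. -/

namespace H94.J3

def colMask : ℕ := (2 ^ 81 - 1) / (2 ^ 9 - 1)

/-- `sp n f` has bit `9 i` equal to `f i` for `i < n`. -/
def sp : ℕ → (ℕ → Bool) → ℕ
  | 0, _ => 0
  | n + 1, f => 2 ^ 9 * sp n (fun i => f (i + 1)) + (f 0).toNat

theorem sp_mul_testBit (r : ℕ) (hr : r < 2 ^ 9) :
    ∀ (n : ℕ) (f : ℕ → Bool) (t : ℕ),
      (sp n f * r).testBit t = (decide (t / 9 < n) && f (t / 9) && r.testBit (t % 9))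
  | 0, f, t => by simp [sp]
  | n + 1, f, t => by
    have hlt : (f 0).toNat * r < 2 ^ 9 := by cases f 0 <;> simpa using hr
    rw [sp, Nat.add_mul, mul_assoc, Nat.testBit_two_pow_mul_add _ hlt]
    split_ifs with h
    · rw [Nat.div_eq_of_lt h, Nat.mod_eq_of_lt h]
      cases f 0 <;> simp
    · rw [sp_mul_testBit r hr n _ (t - 9)]
      have h1 : t / 9 = (t - 9) / 9 + 1 := by omega
      have h2 : t % 9 = (t - 9) % 9 := by omega
      rw [h1, h2]
      simp

theorem sp_testBit (n : ℕ) (f : ℕ → Bool) (t : ℕ) :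
    (sp n f).testBit t = (decide (t / 9 < n) && f (t / 9) && decide (t % 9 = 0)) := by
  have h := sp_mul_testBit 1 (by norm_num) n f t
  rw [mul_one] at h
  rw [h]
  congr 1
  rw [Bool.eq_iff_iff, Nat.testBit_one_eq_true_iff_self_eq_zero, decide_eq_true_iff]

theorem colMask_eq : colMask = sp 9 (fun _ => true) := by decide

theorem colsel_eq (a k : ℕ) (hk : k < 9) :
    (a >>> k) &&& colMask = sp 9 (fun i => a.testBit (9 * i + k)) := by
  apply Nat.eq_of_testBit_eq
  intro t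
  rw [Nat.testBit_and, Nat.testBit_shiftRight, colMask_eq, sp_testBit, sp_testBit]
  by_cases h : t % 9 = 0
  · have : 9 * (t / 9) + k = k + t := by omega
    rw [this]
    simp [h, Bool.and_comm]
  · simp [h]

def term (a b k : ℕ) : ℕ := ((a >>> k) &&& colMask) * ((b >>> (9 * k)) &&& 511)

theorem term_testBit (a b : ℕ) (k i j : Fin 9) :
    (term a b k).testBit (9 * i + j) = (a.testBit (9 * i + k) && b.testBit (9 * k + j)) := by
  have hr : (b >>> (9 * (k : ℕ))) &&& 511 < 2 ^ 9 := Nat.lt_succ_of_le Nat.and_le_right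
  have h1 : (9 * (i : ℕ) + j) / 9 = i := by omega
  have h2 : (9 * (i : ℕ) + j) % 9 = j := by omega
  rw [term, colsel_eq a k k.isLt, sp_mul_testBit _ hr, h1, h2, Nat.testBit_and,
    Nat.testBit_shiftRight, show (511 : ℕ) = 2 ^ 9 - 1 from rfl, Nat.testBit_two_pow_sub_one]
  simp [i.isLt, j.isLt]

/-- Product of two binary 9×9 matrices (row `i` in bits `9 i … 9 i + 8`). -/
def bmul (a b : ℕ) : ℕ :=
  term a b 0 ^^^ term a b 1 ^^^ term a b 2 ^^^ term a b 3 ^^^ term a b 4 ^^^ term a b 5 ^^^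
    term a b 6 ^^^ term a b 7 ^^^ term a b 8

def lo (x : ℕ) : ℕ := x &&& (2 ^ 81 - 1)
def hi (x : ℕ) : ℕ := x >>> 81

def mk2 (c0 c1 : ℕ) : ℕ := (c0 &&& (2 ^ 81 - 1)) ^^^ (c1 <<< 81)

/-- Product of two matrices over `F₄ = F₂ + F₂ ω`. -/
def mul (x y : ℕ) : ℕ :=
  mk2 (bmul (lo x) (lo y) ^^^ bmul (hi x) (hi y))
    (bmul (lo x ^^^ hi x) (lo y ^^^ hi y) ^^^ bmul (lo x) (lo y))

def eye : ℕ := 2 ^ 0 + 2 ^ 10 + 2 ^ 20 + 2 ^ 30 + 2 ^ 40 + 2 ^ 50 + 2 ^ 60 + 2 ^ 70 + 2 ^ 80

variable {F : Type*} [Field F]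

def bcast (b : Bool) : F := if b then 1 else 0

theorem bcast_and (a b : Bool) : (bcast (a && b) : F) = bcast a * bcast b := by
  cases a <;> cases b <;> simp [bcast]

def ent (ω : F) (x t : ℕ) : F :=
  bcast ((lo x).testBit t) + bcast ((hi x).testBit t) * ω

def toMat (ω : F) (x : ℕ) : Matrix (Fin 9) (Fin 9) F := fun i j => ent ω x (9 * (i : ℕ) + j)

theorem lo_mk2 (a b : ℕ) {t : ℕ} (ht : t < 81) : (lo (mk2 a b)).testBit t = a.testBit t := by
  simp only [lo, mk2, Nat.testBit_and, Nat.testBit_xor, Nat.testBit_shiftLeft,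
    Nat.testBit_two_pow_sub_one]
  simp [ht, Nat.not_le.2 ht]

theorem hi_mk2 (a b : ℕ) (t : ℕ) : (hi (mk2 a b)).testBit t = b.testBit t := by
  simp only [hi, mk2, Nat.testBit_shiftRight, Nat.testBit_and, Nat.testBit_xor,
    Nat.testBit_shiftLeft, Nat.testBit_two_pow_sub_one]
  simp

variable [CharP F 2]

theorem bcast_xor (a b : Bool) : (bcast (a ^^ b) : F) = bcast a + bcast b := by
  cases a <;> cases b <;> simp [bcast, CharTwo.add_self_eq_zero]

theorem bcast_bmul (a b : ℕ) (i j : Fin 9) :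
    (bcast ((bmul a b).testBit (9 * (i : ℕ) + j)) : F)
      = ∑ k : Fin 9, bcast (a.testBit (9 * (i : ℕ) + k)) * bcast (b.testBit (9 * (k : ℕ) + j)) := by
  simp only [bmul, Nat.testBit_xor, bcast_xor, Fin.sum_univ_succ, Fin.sum_univ_zero, add_zero,
    ← add_assoc]
  simp only [← bcast_and]
  simp only [← term_testBit]
  rfl

theorem toMat_mul {ω : F} (hω : ω ^ 2 + ω + 1 = 0) (x y : ℕ) :
    toMat ω (mul x y) = toMat ω x * toMat ω y := by
  have h2 : (2 : F) = 0 := CharTwo.two_eq_zero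
  ext i j
  rw [Matrix.mul_apply]
  have ht : 9 * (i : ℕ) + j < 81 := by omega
  simp only [toMat, ent, mul, lo_mk2 _ _ ht, hi_mk2, Nat.testBit_xor, bcast_xor, bcast_bmul,
    Finset.sum_mul, ← Finset.sum_add_distrib]
  refine Finset.sum_congr rfl fun k _ => ?_
  linear_combination
    (-(bcast ((hi x).testBit (9 * (i : ℕ) + k)) * bcast ((hi y).testBit (9 * (k : ℕ) + j)))) * hω
    + (bcast ((lo x).testBit (9 * (i : ℕ) + k)) * bcast ((lo y).testBit (9 * (k : ℕ) + j)) * ω
      + bcast ((hi x).testBit (9 * (i : ℕ) + k)) * bcast ((hi y).testBit (9 * (k : ℕ) + j)) * (ω + 1)) * h2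

theorem bcast_lin_inj {ω : F} (hω : ω ^ 2 + ω + 1 = 0) :
    ∀ a b c d : Bool, bcast a + bcast b * ω = bcast c + bcast d * ω → a = c ∧ b = d := by
  have h2 : (2 : F) = 0 := CharTwo.two_eq_zero
  have h0 : ω ≠ 0 := fun h => by simp [h] at hω
  have h1 : ω ≠ 1 := fun h => by
    rw [h] at hω
    exact one_ne_zero (show (1 : F) = 0 by linear_combination hω - h2)
  have h3 : (1 : F) + ω ≠ 0 := fun h => h1 (by linear_combination h - h2)
  intro a b c d
  cases a <;> cases b <;> cases c <;> cases d <;>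
    simp [bcast, h0, h1, h0.symm, h1.symm, h3, h3.symm]

theorem toMat_inj {ω : F} (hω : ω ^ 2 + ω + 1 = 0) {x y : ℕ}
    (hx : x < 2 ^ 162) (hy : y < 2 ^ 162) (h : toMat ω x = toMat ω y) : x = y := by
  have key : ∀ t, t < 81 →
      (lo x).testBit t = (lo y).testBit t ∧ (hi x).testBit t = (hi y).testBit t := by
    intro t ht
    have h' := congrFun (congrFun h ⟨t / 9, by omega⟩) ⟨t % 9, by omega⟩
    simp only [toMat, ent] at h'
    rw [show 9 * (t / 9) + t % 9 = t by omega] at h'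
    exact bcast_lin_inj hω _ _ _ _ h'
  apply Nat.eq_of_testBit_eq
  intro t
  by_cases h1 : t < 81
  · have := (key t h1).1
    simpa [lo, Nat.testBit_and, Nat.testBit_two_pow_sub_one, h1, -Nat.reducePow, -Nat.reduceSub] using this
  · by_cases h2 : t < 162
    · have := (key (t - 81) (by omega)).2
      simpa [hi, Nat.testBit_shiftRight, show 81 + (t - 81) = t by omega] using this
    · have hp : (2 : ℕ) ^ 162 ≤ 2 ^ t := Nat.pow_le_pow_right (by norm_num) (by omega)
      rw [Nat.testBit_eq_false_of_lt (lt_of_lt_of_le hx hp),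
        Nat.testBit_eq_false_of_lt (lt_of_lt_of_le hy hp)]

omit [CharP F 2] in
theorem toMat_eye (ω : F) : toMat ω eye = 1 := by
  have key : ∀ i j : Fin 9, (lo eye).testBit (9 * (i : ℕ) + j) = decide (i = j) ∧
      (hi eye).testBit (9 * (i : ℕ) + j) = false := by decide
  ext i j
  simp only [toMat, ent, (key i j).1, (key i j).2, Matrix.one_apply]
  by_cases h : i = j <;> simp [h, bcast]

end H94.J3
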