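import Mathlib
import Cfsg.Agent.H94.J3.Code

/-! A generic two-sided orbit/stabiliser certificate layer. -/

namespace H94.J3

/-- Binary trie used for tables. -/
inductive Tr where
  | lf (v : ℕ)
  | nd (l r : Tr)

/-- Lookup: branch on the lowest bit first. -/
def Tr.get : Tr → ℕ → ℕ
  | .lf v, _ => v
  | .nd l r, i => bif i % 2 == 0 then Tr.get l (i / 2) else Tr.get r (i / 2)

def allIn (lo len : ℕ) (f : ℕ → Bool) : Bool := (List.range' lo len).all f

theorem allIn_spec {lo len : ℕ} {f : ℕ → Bool} (h : allIn lo len f = true) {i : ℕ}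
    (h1 : lo ≤ i) (h2 : i < lo + len) : f i = true := by
  rw [allIn, List.all_eq_true] at h
  exact h i (List.mem_range'_1.2 ⟨h1, h2⟩)

section Level
variable {Γ : Type*} [Group Γ] [Finite Γ]

theorem level {ι : Type*} (S : Set Γ) (L : Subgroup Γ) (U : ι → Γ) (i₀ : ι) (h1 : U i₀ = 1)
    (hS : ∀ s ∈ S, ∀ i, ∃ j, ∃ l ∈ L, s * U i = U j * l) {g : Γ} (hg : g ∈ Subgroup.closure S) :
    ∃ i, ∃ l ∈ L, g = U i * l := by
  rw [← Subgroup.mem_toSubmonoid, Subgroup.closure_toSubmonoid_of_finite] at hg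
  induction hg using Submonoid.closure_induction_left with
  | one => exact ⟨i₀, 1, L.one_mem, by rw [h1, one_mul]⟩
  | mul_left s hs y _ ih =>
    obtain ⟨i, l, hl, rfl⟩ := ih
    obtain ⟨j, l', hl', he⟩ := hS s hs i
    exact ⟨j, l' * l, L.mul_mem hl' hl, by rw [← mul_assoc, he, mul_assoc]⟩

/-- Every element of a finite list closed under left multiplication by `S` and containing `1`. -/
theorem level_bot {ι : Type*} (S : Set Γ) (U : ι → Γ) (i₀ : ι) (h1 : U i₀ = 1)
    (hS : ∀ s ∈ S, ∀ i, ∃ j, s * U i = U j) {g : Γ} (hg : g ∈ Subgroup.closure S) :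
    ∃ i, g = U i := by
  obtain ⟨i, l, hl, rfl⟩ := level S ⊥ U i₀ h1
    (fun s hs i => (hS s hs i).imp fun j hj => ⟨1, Subgroup.one_mem _, by rw [mul_one]; exact hj⟩) hg
  exact ⟨i, by rw [Subgroup.mem_bot.1 hl, mul_one]⟩

theorem card_eq_mul {ι : Type*} [Fintype ι] (G L : Subgroup Γ) (U : ι → Γ)
    (hU : ∀ i, U i ∈ G) (hL : L ≤ G)
    (hcov : ∀ g ∈ G, ∃ i, ∃ l ∈ L, g = U i * l)
    (hinj : ∀ i j, (U i)⁻¹ * U j ∈ L → i = j) :
    Nat.card G = Fintype.card ι * Nat.card L := by
  rw [← Nat.card_eq_fintype_card, ← Nat.card_prod]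
  refine (Nat.card_congr (Equiv.ofBijective
    (fun p : ι × L => (⟨U p.1 * p.2.1, G.mul_mem (hU p.1) (hL p.2.2)⟩ : G)) ⟨?_, ?_⟩)).symm
  · rintro ⟨i, l, hl⟩ ⟨j, m, hm⟩ h
    have h' : U i * l = U j * m := congrArg Subtype.val h
    have hij : i = j := hinj i j (by
      have : (U i)⁻¹ * U j = l * m⁻¹ := by
        have h2 : U j = U i * l * m⁻¹ := by rw [h']; group
        rw [h2]; group
      rw [this]
      exact L.mul_mem hl (L.inv_mem hm))
    subst hij
    have : l = m := mul_left_cancel h'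
    subst this
    rfl
  · rintro ⟨g, hg⟩
    obtain ⟨i, l, hl, rfl⟩ := hcov g hg
    exact ⟨(i, ⟨l, hl⟩), rfl⟩

end Level

section Sys
variable {M : Type*} [Monoid M] {n : ℕ}

def Maps (P : Fin n → M) (g : Mˣ) (i j : Fin n) : Prop :=
  P j * (g * P i) = g * P i

structure Rigid (P : Fin n → M) : Prop where
  rigid : ∀ i k, P k * P i = P i → i = k

variable {P : Fin n → M}

theorem Maps.mul {g h : Mˣ} {i j k : Fin n} (h1 : Maps P g i j) (h2 : Maps P h j k) :
    Maps P (h * g) i k := by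
  unfold Maps at *
  calc P k * (((h * g : Mˣ) : M) * P i)
      = P k * ((h : M) * (P j * ((g : M) * P i))) := by rw [h1, Units.val_mul]; simp only [mul_assoc]
    _ = P k * ((h : M) * P j) * ((g : M) * P i) := by simp only [mul_assoc]
    _ = (h : M) * P j * ((g : M) * P i) := by rw [h2]
    _ = (h : M) * (P j * ((g : M) * P i)) := by simp only [mul_assoc]
    _ = ((h * g : Mˣ) : M) * P i := by rw [h1, Units.val_mul]; simp only [mul_assoc]

theorem maps_one (hidem : ∀ i, P i * P i = P i) (i : Fin n) : Maps P 1 i i := by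
  simp [Maps, hidem]

theorem Maps.back (hr : Rigid P) {g : Mˣ} {i j k : Fin n} (h1 : Maps P g i j)
    (h2 : Maps P g⁻¹ j k) : i = k := by
  have h := h1.mul h2
  rw [inv_mul_cancel] at h
  exact hr.rigid i k (by simpa [Maps] using h)

theorem Maps.unique (hr : Rigid P) {g : Mˣ} {i j j' : Fin n} (h1 : Maps P g i j)
    (h1' : Maps P g i j') (h2 : ∀ a, ∃ b, Maps P g⁻¹ a b) : j = j' := by
  obtain ⟨k, hk⟩ := h2 j
  obtain rfl := h1.back hr hk
  obtain ⟨k', hk'⟩ := h2 j'
  obtain rfl := h1'.back hr hk'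
  refine (hr.rigid j' j ?_).symm
  unfold Maps at h1 hk'
  calc P j * P j' = P j * ((g : M) * (((g⁻¹ : Mˣ) : M) * P j')) := by rw [Units.mul_inv_cancel_left]
    _ = P j * ((g : M) * (P i * (((g⁻¹ : Mˣ) : M) * P j'))) := by rw [hk']
    _ = P j * ((g : M) * P i) * (((g⁻¹ : Mˣ) : M) * P j') := by simp only [mul_assoc]
    _ = (g : M) * P i * (((g⁻¹ : Mˣ) : M) * P j') := by rw [h1]
    _ = (g : M) * (P i * (((g⁻¹ : Mˣ) : M) * P j')) := by simp only [mul_assoc]
    _ = P j' := by rw [hk', Units.mul_inv_cancel_left]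

variable [Finite Mˣ]

theorem maps_exists (hidem : ∀ i, P i * P i = P i) {S : Set Mˣ}
    (hS : ∀ s ∈ S, ∀ i, ∃ j, Maps P s i j) {g : Mˣ} (hg : g ∈ Subgroup.closure S) :
    ∀ i, ∃ j, Maps P g i j := by
  rw [← Subgroup.mem_toSubmonoid, Subgroup.closure_toSubmonoid_of_finite] at hg
  induction hg using Submonoid.closure_induction_left with
  | one => exact fun i => ⟨i, maps_one hidem i⟩
  | mul_left s hs y _ ih =>
    intro i
    obtain ⟨j, hj⟩ := ih i
    obtain ⟨k, hk⟩ := hS s hs j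
    exact ⟨k, hj.mul hk⟩

/-- Data giving an action of a subgroup on `Fin n`. -/
structure Act (P : Fin n → M) (G : Subgroup Mˣ) : Prop where
  rigid : Rigid P
  idem : ∀ i, P i * P i = P i
  total : ∀ g ∈ G, ∀ i, ∃ j, Maps P g i j

variable {G : Subgroup Mˣ}

noncomputable def Act.img (A : Act P G) (g : G) (i : Fin n) : Fin n := (A.total g g.2 i).choose

omit [Finite Mˣ] in
theorem Act.img_spec (A : Act P G) (g : G) (i : Fin n) : Maps P (g : Mˣ) i (A.img g i) :=
  (A.total g g.2 i).choose_spec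

omit [Finite Mˣ] in
theorem Act.img_eq (A : Act P G) {g : G} {i j : Fin n} (h : Maps P (g : Mˣ) i j) : A.img g i = j :=
  (A.img_spec g i).unique A.rigid h fun a => A.total _ (G.inv_mem g.2) a

omit [Finite Mˣ] in
theorem Act.img_one (A : Act P G) (i : Fin n) : A.img 1 i = i :=
  A.img_eq (by simpa using maps_one A.idem i)

omit [Finite Mˣ] in
theorem Act.img_mul (A : Act P G) (g h : G) (i : Fin n) : A.img (g * h) i = A.img g (A.img h i) :=
  A.img_eq (by simpa using (A.img_spec h i).mul (A.img_spec g (A.img h i)))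

/-- The permutation representation. -/
noncomputable def Act.hom (A : Act P G) : G →* Equiv.Perm (Fin n) where
  toFun g :=
    { toFun := A.img g
      invFun := A.img g⁻¹
      left_inv := fun i => by rw [← A.img_mul, inv_mul_cancel, A.img_one]
      right_inv := fun i => by rw [← A.img_mul, mul_inv_cancel, A.img_one] }
  map_one' := Equiv.ext fun i => A.img_one i
  map_mul' g h := Equiv.ext fun i => A.img_mul g h i

omit [Finite Mˣ] in
theorem Act.hom_apply (A : Act P G) (g : G) (i : Fin n) : A.hom g i = A.img g i := rfl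

end Sys

end H94.J3
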