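import Mathlib
import Cfsg.Prelude.Def_Spor_J3
import Cfsg.Agent.H94.J3.Code
import Cfsg.Agent.H94.J3.Gen

/-! Codes as matrices indexed by `F9`, projector families and tree certificates. -/

namespace H94.J3

open Cfsg.Spor

def e9 : F9 ≃ Fin 9 := finProdFinEquiv

variable {F : Type*} [Field F] (ω : F)

def tm (x : ℕ) : Matrix F9 F9 F := (toMat ω x).submatrix e9 e9

theorem tm_apply (x : ℕ) (w z : F9) :
    tm ω x w z = ent ω x (9 * (e9 w : ℕ) + (e9 z : ℕ)) := rfl

theorem tm_eye : tm ω eye = 1 := by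
  rw [tm, toMat_eye]
  exact Matrix.submatrix_one_equiv e9

/-- `g` has matrix code `x`. -/
def Rep (g : GL F9 F) (x : ℕ) : Prop := (g : Matrix F9 F9 F) = tm ω x

theorem rep_one : Rep ω (1 : GL F9 F) eye := (tm_eye ω).symm

theorem Rep.eq {g h : GL F9 F} {x : ℕ} (hg : Rep ω g x) (hh : Rep ω h x) : g = h :=
  Units.ext (hg.trans hh.symm)

variable [CharP F 2] {ω} (hω : ω ^ 2 + ω + 1 = 0)
include hω

theorem tm_mul (x y : ℕ) : tm ω (mul x y) = tm ω x * tm ω y := by
  rw [tm, toMat_mul hω]
  exact (Matrix.submatrix_mul_equiv _ _ _ _ _).symm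

theorem tm_inj {x y : ℕ} (hx : x < 2 ^ 162) (hy : y < 2 ^ 162) (h : tm ω x = tm ω y) : x = y := by
  refine toMat_inj hω hx hy ?_
  ext i j
  have := congrFun (congrFun h (e9.symm i)) (e9.symm j)
  simpa [tm] using this

theorem Rep.mul {g h : GL F9 F} {x y : ℕ} (hg : Rep ω g x) (hh : Rep ω h y) :
    Rep ω (g * h) (H94.J3.mul x y) := by
  unfold Rep at *
  rw [Units.val_mul, hg, hh, tm_mul hω]

theorem rep_cancel {g h : GL F9 F} {x y z : ℕ} (hg : Rep ω g x) (hh : Rep ω h y)
    (he : H94.J3.mul x z = y) : Rep ω (g⁻¹ * h) z := by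
  unfold Rep at *
  rw [Units.val_mul, hh, ← he, tm_mul hω, ← hg, Units.inv_mul_cancel_left]

theorem exists_rep {x y : ℕ} (h1 : H94.J3.mul x y = eye) (h2 : H94.J3.mul y x = eye) :
    ∃ g : GL F9 F, Rep ω g x :=
  ⟨⟨tm ω x, tm ω y, by rw [← tm_mul hω, h1, tm_eye], by rw [← tm_mul hω, h2, tm_eye]⟩, rfl⟩

/-- Tree certificate: entry `0` is `1`, entry `i` is `gens k * (entry q)` with `q < i`. -/
def treeChk (ng : ℕ) (gens U par : ℕ → ℕ) (tab : ℕ → ℕ → ℕ) (i : ℕ) : Bool :=
  bif i == 0 then U i == eye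
  else decide (par i % 8192 < i) && decide (par i / 8192 < ng) &&
    (U i == H94.J3.mul (gens (par i / 8192)) (U (par i % 8192))) &&
    (tab (par i / 8192) (par i % 8192) == i)

theorem tree_rec {ng n : ℕ} {gens U par : ℕ → ℕ} {tab : ℕ → ℕ → ℕ} (g : Fin ng → GL F9 F)
    (hg : ∀ k, Rep ω (g k) (gens k)) (hchk : ∀ i < n, treeChk ng gens U par tab i = true)
    (Q : ℕ → GL F9 F → Prop) (h0 : Q 0 1)
    (hstep : ∀ (k : Fin ng) (q : ℕ) (v : GL F9 F), q < n → Rep ω v (U q) → Q q v →
      tab k q < n → Q (tab k q) (g k * v)) :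
    ∀ i < n, ∃ u : GL F9 F, Rep ω u (U i) ∧ u ∈ Subgroup.closure (Set.range g) ∧ Q i u := by
  intro i
  induction i using Nat.strong_induction_on with
  | _ i ih =>
    intro hi
    have h := hchk i hi
    unfold treeChk at h
    rcases Nat.eq_zero_or_pos i with rfl | hpos
    · simp at h
      exact ⟨1, by rw [h]; exact rep_one ω, Subgroup.one_mem _, h0⟩
    · have hne : (i == 0) = false := by simp; omega
      simp only [hne, cond_false, Bool.and_eq_true, decide_eq_true_eq, beq_iff_eq] at h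
      obtain ⟨⟨⟨hq, hk⟩, hU⟩, ht⟩ := h
      obtain ⟨v, hv, hvm, hvQ⟩ := ih _ hq (by omega)
      refine ⟨g ⟨_, hk⟩ * v, ?_, Subgroup.mul_mem _ (Subgroup.subset_closure ⟨_, rfl⟩) hvm, ?_⟩
      · rw [hU]; exact (hg ⟨_, hk⟩).mul hω hv
      · have := hstep ⟨_, hk⟩ _ v (by omega) hv hvQ (by simpa [ht] using hi)
        simpa [ht] using this

omit hω

/-- Bits strictly above the diagonal, both planes. -/
def upperMask : ℕ :=
  let m := 0x1FE + (0x1FC <<< 9) + (0x1F8 <<< 18) + (0x1F0 <<< 27) + (0x1E0 <<< 36)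
    + (0x1C0 <<< 45) + (0x180 <<< 54) + (0x100 <<< 63)
  m + (m <<< 81)

def diagCode (c : ℕ) : ℕ := lo c &&& eye

def diagBit (c p : ℕ) : Bool := (lo c).testBit (10 * p)

def rankOf (c : ℕ) : ℕ := (List.range 9).countP fun p => diagBit c p

/-- A canonical (echelon) projector code of rank `d`. -/
def projChk (d c : ℕ) : Bool :=
  decide (c < 2 ^ 162) && (c &&& upperMask == 0) && (hi c &&& eye == 0) &&
    (H94.J3.mul c (diagCode c) == c) &&
    (H94.J3.mul (diagCode c) c == diagCode c) && (H94.J3.mul c c == c) && (rankOf c == d)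

theorem upper_bits : ∀ i j : Fin 9, i < j →
    upperMask.testBit (9 * (i : ℕ) + j) = true ∧
      upperMask.testBit (81 + (9 * (i : ℕ) + j)) = true := by decide

theorem eye_bits : ∀ i j : Fin 9, (eye).testBit (9 * (i : ℕ) + j) = decide (i = j) := by decide

omit [CharP F 2] in
theorem toMat_diagCode (c : ℕ) :
    toMat ω (diagCode c) = Matrix.diagonal fun p : Fin 9 => bcast (diagBit c p) := by
  ext i j
  have ht : 9 * (i : ℕ) + j < 81 := by omega
  have hhi : (hi (diagCode c)).testBit (9 * (i : ℕ) + j) = false := by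
    simp only [hi, diagCode, lo, Nat.testBit_shiftRight, Nat.testBit_and,
      Nat.testBit_two_pow_sub_one]
    simp
  have hlo : (lo (diagCode c)).testBit (9 * (i : ℕ) + j) =
      ((lo c).testBit (9 * (i : ℕ) + j) && decide (i = j)) := by
    simp only [lo, diagCode, Nat.testBit_and, Nat.testBit_two_pow_sub_one, eye_bits i j]
    simp [ht]
  simp only [toMat, ent, hhi, hlo, Matrix.diagonal_apply]
  by_cases h : i = j
  · subst h
    simp [diagBit, show 9 * (i : ℕ) + i = 10 * i by omega, bcast]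
    try rfl
  · simp [h, bcast]

include hω

theorem proj_facts {d c : ℕ} (h : projChk d c = true) :
    c < 2 ^ 162 ∧ (∀ i j : Fin 9, i < j → toMat ω c i j = 0) ∧
      (∀ p : Fin 9, toMat ω c p p = bcast (diagBit c p)) ∧
      toMat ω c * toMat ω (diagCode c) = toMat ω c ∧
      toMat ω (diagCode c) * toMat ω c = toMat ω (diagCode c) ∧
      toMat ω c * toMat ω c = toMat ω c ∧
      ((Finset.univ : Finset (Fin 9)).filter fun p : Fin 9 => diagBit c p = true).card = d := by
  simp only [projChk, Bool.and_eq_true, decide_eq_true_eq, beq_iff_eq] at h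
  obtain ⟨⟨⟨⟨⟨⟨h1, h2⟩, h3⟩, h4⟩, h5⟩, h6⟩, h7⟩ := h
  refine ⟨h1, ?_, ?_, by rw [← toMat_mul hω, h4], by rw [← toMat_mul hω, h5],
    by rw [← toMat_mul hω, h6], ?_⟩
  · intro i j hij
    have ht : 9 * (i : ℕ) + j < 81 := by omega
    have e1 := congrArg (fun x => Nat.testBit x (9 * (i : ℕ) + j)) h2
    have e2 := congrArg (fun x => Nat.testBit x (81 + (9 * (i : ℕ) + j))) h2
    simp only [Nat.testBit_and, (upper_bits i j hij).1, (upper_bits i j hij).2, Bool.and_true,
      Nat.zero_testBit] at e1 e2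
    have g1 : (lo c).testBit (9 * (i : ℕ) + j) = false := by simp [lo, Nat.testBit_and, e1]
    have g2 : (hi c).testBit (9 * (i : ℕ) + j) = false := by simp [hi, Nat.testBit_shiftRight, e2]
    simp [toMat, ent, g1, g2, bcast]
  · intro p
    have e := congrArg (fun x => Nat.testBit x (9 * (p : ℕ) + p)) h3
    simp only [Nat.testBit_and, eye_bits p p, decide_true, Bool.and_true, Nat.zero_testBit] at e
    rw [show 9 * (p : ℕ) + p = 10 * p by omega] at e
    simp only [toMat, ent, e, diagBit, show 9 * (p : ℕ) + p = 10 * p by omega]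
    rw [show (bcast false : F) = 0 from rfl, zero_mul, add_zero]
  · rw [← h7, rankOf]
    simp only [Fin.univ_def, Finset.filter, Finset.card]
    rw [show List.range 9 = (List.finRange 9).map Fin.val by decide, List.countP_map]
    simp [List.countP_eq_length_filter, Function.comp_def]

theorem proj_rigid {d a b : ℕ} (ha : projChk d a = true) (hb : projChk d b = true)
    (h : toMat ω b * toMat ω a = toMat ω a) : a = b := by
  obtain ⟨ha1, ha2, ha3, -, ha5, -, ha7⟩ := proj_facts hω ha
  obtain ⟨hb1, hb2, hb3, hb4, hb5, -, hb7⟩ := proj_facts hω hb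
  have hsub : ∀ p : Fin 9, diagBit a p = true → diagBit b p = true := by
    intro p hp
    by_contra hq
    have e1 : toMat ω a p p = 1 := by rw [ha3 p, hp]; rfl
    have e2 : (toMat ω b * toMat ω a) p p = 0 := by
      rw [Matrix.mul_apply]
      refine Finset.sum_eq_zero fun r _ => ?_
      rcases lt_trichotomy r p with hr | rfl | hr
      · rw [ha2 r p hr, mul_zero]
      · rw [hb3 r, Bool.eq_false_iff.2 hq]; simp [bcast]
      · rw [hb2 p r hr, zero_mul]
    rw [h, e1] at e2
    exact one_ne_zero e2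
  have heq : ∀ p : Fin 9, diagBit a p = diagBit b p := by
    have := Finset.eq_of_subset_of_card_le
      (Finset.monotone_filter_right (Finset.univ : Finset (Fin 9))
        (p := fun p => diagBit a p = true) (q := fun p => diagBit b p = true) fun p _ => hsub p)
      (by rw [ha7, hb7])
    intro p
    have := Finset.ext_iff.1 this p
    simpa using this
  have hD : toMat ω (diagCode a) = toMat ω (diagCode b) := by
    rw [toMat_diagCode, toMat_diagCode]
    simp only [heq]
  refine toMat_inj hω ha1 hb1 ?_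
  calc toMat ω a = toMat ω b * toMat ω a := h.symm
    _ = toMat ω b * toMat ω (diagCode b) * toMat ω a := by rw [hb4]
    _ = toMat ω b * (toMat ω (diagCode a) * toMat ω a) := by rw [hD, mul_assoc]
    _ = toMat ω b := by rw [ha5, hD, hb4]

omit hω

/-- Checks on a family of projector codes: validity and injectivity through a sorting. -/
def famChk (d n : ℕ) (P rk srt : ℕ → ℕ) (i : ℕ) : Bool :=
  projChk d (P i) && decide (rk i < n) && (srt (rk i) == i) &&
    (i + 1 == n || decide (P (srt i) < P (srt (i + 1))))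

def mapsChk (n x : ℕ) (P tab : ℕ → ℕ) (i : ℕ) : Bool :=
  decide (tab i < n) &&
    (H94.J3.mul (P (tab i)) (H94.J3.mul x (P i)) == H94.J3.mul x (P i))

def projFam (ω : F) (P : ℕ → ℕ) (n : ℕ) (i : Fin n) : Matrix F9 F9 F := tm ω (P i)

theorem sorted_inj {n : ℕ} {P rk srt : ℕ → ℕ}
    (h1 : ∀ i < n, rk i < n ∧ srt (rk i) = i ∧ (i + 1 = n ∨ P (srt i) < P (srt (i + 1))))
    {i j : ℕ} (hi : i < n) (hj : j < n) (h : P i = P j) : i = j := by
  have hmono : ∀ b, b < n → ∀ a < b, P (srt a) < P (srt b) := by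
    intro b
    induction b with
    | zero => omega
    | succ b ih =>
      intro hb a hab
      have hs : P (srt b) < P (srt (b + 1)) := (h1 b (by omega)).2.2.resolve_left (by omega)
      rcases Nat.lt_succ_iff_lt_or_eq.1 hab with hab' | rfl
      · exact lt_trans (ih (by omega) a hab') hs
      · exact hs
  obtain ⟨hri, hsi, -⟩ := h1 i hi
  obtain ⟨hrj, hsj, -⟩ := h1 j hj
  rcases lt_trichotomy (rk i) (rk j) with hl | hl | hl
  · have := hmono _ hrj _ hl
    rw [hsi, hsj, h] at this
    exact absurd this (lt_irrefl _)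
  · rw [← hsi, ← hsj, hl]
  · have := hmono _ hri _ hl
    rw [hsi, hsj, h] at this
    exact absurd this (lt_irrefl _)

include hω

theorem fam_rigid {d n : ℕ} {P rk srt : ℕ → ℕ} (h : ∀ i < n, famChk d n P rk srt i = true) :
    Rigid (projFam ω P n) ∧ ∀ i, projFam ω P n i * projFam ω P n i = projFam ω P n i := by
  simp only [famChk, Bool.and_eq_true, Bool.or_eq_true, decide_eq_true_eq, beq_iff_eq] at h
  refine ⟨⟨fun i k hik => ?_⟩, fun i => ?_⟩
  · simp only [projFam, tm, Matrix.submatrix_mul_equiv] at hik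
    have hik' : toMat ω (P k) * toMat ω (P i) = toMat ω (P i) := by
      ext a b
      simpa using congrFun (congrFun hik (e9.symm a)) (e9.symm b)
    have := proj_rigid hω (h i i.isLt).1.1.1 (h k k.isLt).1.1.1 hik'
    exact Fin.ext (sorted_inj (fun a ha => ⟨(h a ha).1.1.2, (h a ha).1.2, (h a ha).2⟩)
      i.isLt k.isLt this)
  · rw [projFam, tm, Matrix.submatrix_mul_equiv]
    rw [(proj_facts hω (h i i.isLt).1.1.1).2.2.2.2.2.1]

theorem maps_of_chk {n x : ℕ} {P tab : ℕ → ℕ} {g : GL F9 F} (hg : Rep ω g x) {i : ℕ} (hi : i < n)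
    (h : mapsChk n x P tab i = true) :
    ∃ hj : tab i < n, Maps (projFam ω P n) g ⟨i, hi⟩ ⟨tab i, hj⟩ := by
  simp only [mapsChk, Bool.and_eq_true, decide_eq_true_eq, beq_iff_eq] at h
  refine ⟨h.1, ?_⟩
  show tm ω (P (tab i)) * ((g : Matrix F9 F9 F) * tm ω (P i)) = (g : Matrix F9 F9 F) * tm ω (P i)
  rw [show (g : Matrix F9 F9 F) = tm ω x from hg, ← tm_mul hω, ← tm_mul hω, h.2]

omit hω

end H94.J3
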