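import Cfsg.Agent.H94.J3.Gen

/-! Generated certificate data. -/

namespace H94.J3.D

def vT_na : Tr := (.nd (.nd (.nd (.nd (.nd (.nd (.nd (.lf 0x100401004010040100401) (.lf 0x1586c204fcb7e63b9fa1ca5b3d423521838fe18cd)) (.nd (.lf 0x441a4196f9c5060e69a621fd6e6f34d4e4e39356) (.lf 0))) (.nd (.nd (.lf 0x37ef952795db5ab812ec2c9459b08f3e1b2ce49cc) (.lf 0)) (.nd (.lf 0x2b10b05378600637586e935d9b3328ce9ee3124f1) (.lf 0)))) (.nd (.nd (.nd (.lf 0x135af5f5eda1a6651e3d54cee885adb3106458dee) (.lf 0)) (.nd (.lf 0xb2fbab560750fd1e5f9e5bc28b2d67850bca43ce) (.lf 0))) (.nd (.nd (.lf 0x3409de0db435f949a6624f9e86fee328731ac19e8) (.lf 0)) (.nd (.lf 0x2392745ad2ed292a8068e83f2ce0fd0cda2cf316b) (.lf 0))))) (.nd (.nd (.nd (.nd (.lf 0x624f45b8d6fed006e87e85acd6ee43f19af02869) (.lf 0)) (.nd (.lf 0x13cc35c880c79deed4207efa02bba6b7c5eba4e6f)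 (.lf 0))) (.nd (.nd (.lf 0x1107ae6cf59b483998627c479f3b97a50339e36d7) (.lf 0)) (.nd (.lf 0x3a9daa12c13144bc6387b31cb3ce1af30703ac883) (.lf 0)))) (.nd (.nd (.nd (.lf 0x8da2f4c85f928174bcb2d217d1721f0a56cb5a45) (.lf 0)) (.nd (.lf 0x2e77a85fd9f67aae0c4f39e322c536491d3ae5324) (.lf 0))) (.nd (.nd (.lf 0x177079c44c9e7b0dc2f657506008f769c2e19ffac) (.lf 0)) (.nd (.lf 0x35ff77c7697957896fec9345b0f146464fa63c1b) (.lf 0)))))) (.nd (.nd (.nd (.nd (.nd (.lf 0x32e4653ee160ede87abdec245442f433e93d8195f) (.lf 0x4dfec5b147576f73597b46c8f8d540355d90c21b)) (.nd (.lf 0x37dcaededddb817b18e196d0464ab724706afe5ea) (.lf 0))) (.nd (.nd (.lf 0x220daa2f73bd9be81fa395a27e4ee72bace959d6d) (.lf 0)) (.nd (.lf 0x2e034321efff661c7333a6b13c7b0e4aa8b8fe9ac) (.lf 0)))) (.nd (.nd (.nd (.lf 0xc236acf63013cbf4223722e4b6ae354767bdda60)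 (.lf 0)) (.nd (.lf 0x38abf97fddfb6521839e444e3a8138b163ab5201c) (.lf 0))) (.nd (.nd (.lf 0xa6f2c83e1efe819b8325da5c84d8b4e992bde86d) (.lf 0)) (.nd (.lf 0x189f024b85968380a98b640256e0864a6900d7a26) (.lf 0))))) (.nd (.nd (.nd (.nd (.lf 0x9c4182fe3869bdcd64038d8fee77f40ca069ef35) (.lf 0)) (.nd (.lf 0xeef97122bb52b00931246d804447f2271409b86b) (.lf 0))) (.nd (.nd (.lf 0x31986f06d6fbc7747c429fb8094d5aeaeb9060afd) (.lf 0)) (.nd (.lf 0x36120bfd793083773f42637a7fbf3dddb3061a13d) (.lf 0)))) (.nd (.nd (.nd (.lf 0x36c7363e3e6b63a382c6093fe3abf4b3b706dbdef) (.lf 0)) (.nd (.lf 0x591e9fac1780435398667cec44f239e231ca5c9c) (.lf 0))) (.nd (.nd (.lf 0x9f0b3a2f50aba28309f7879bdcfac4994a553e49) (.lf 0)) (.nd (.lf 0x198fb6cbc7e79910511dad40542e726291c887b61) (.lf 0))))))) (.nd (.nd (.nd (.nd (.nd (.nd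 (.lf 0x31baae324aeb08b5ffaae1a48f86115958708db31) (.lf 0x2cd7ad6308a462bf5abc271de9ed35c9039b2e6ea)) (.nd (.lf 0x16168d33de6171e9dc419e67e3165eaee7f80a322) (.lf 0))) (.nd (.nd (.lf 0xe7a4e224cc05415b5620e6082c4d7bfc2477386b) (.lf 0)) (.nd (.lf 0x9cb6eb3f5649015582c2ccba4fe36ccedf6973c0) (.lf 0)))) (.nd (.nd (.nd (.lf 0xec84a4fb29171ce075e5b4e2b4fe96ae42887229) (.lf 0)) (.nd (.lf 0x54c8c61478182e668d1a0af8bd2890a706971a6e) (.lf 0))) (.nd (.nd (.lf 0x2b3a90a52b83f12529e8f19bcb2fccdb07461a7e4) (.lf 0)) (.nd (.lf 0xa32f2443129f2f38c8a601a67970d375228fc6b6) (.lf 0))))) (.nd (.nd (.nd (.nd (.lf 0x10e9be7b4f6f246a976c2ee440c4196b5ccd17081) (.lf 0)) (.nd (.lf 0x13c33251d165081f7ecfd3a4fbed88e71cc8639d1) (.lf 0))) (.nd (.nd (.lf 0x18124df31338f0edf42ff8c64b4fe3c6af96c2381) (.lf 0)) (.nd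 (.lf 0x1aa764f6231a0c5bb8ab313c924035d980645c256) (.lf 0)))) (.nd (.nd (.nd (.lf 0x209f86fa9a7cb67f0e5630faf92d851d9aab3ee2e) (.lf 0)) (.nd (.lf 0x25a25da6d1efcdb2233ab37386f80e513978e49bb) (.lf 0))) (.nd (.nd (.lf 0x3c5f33b1ce39dbd69704ba271505cf6d577eaec48) (.lf 0)) (.nd (.lf 0x9940809c13ba706fd75ff4bba960924337cd1cd6) (.lf 0)))))) (.nd (.nd (.nd (.nd (.nd (.lf 0xb095ca80750623c77ffa975d09f16b3229fe6386) (.lf 0x108e8e69e072399a8445085f8e63c96c233165d6a)) (.nd (.lf 0x3fe53883140d2915b446bff880754183242809033) (.lf 0))) (.nd (.nd (.lf 0x3f73853100e75bd00eb36767a5175b192e75b1607) (.lf 0)) (.nd (.lf 0xfc73dd7038d448c745049ae144fbcae3ccbc48ce) (.lf 0)))) (.nd (.nd (.nd (.lf 0x2519070e265e0b2f24a5be66a6064c14265b0541e) (.lf 0)) (.nd (.lf 0x58be76ff16280848c10cf19f0710101a5418ecbf)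 (.lf 0))) (.nd (.nd (.lf 0x3c199d7ff563b86b973aa3ac75c75ebee928bd697) (.lf 0)) (.nd (.lf 0x15cce07f9dbc8c3a1628ea96aff664ba9d2bacc0) (.lf 0))))) (.nd (.nd (.nd (.nd (.lf 0x15d638ff80d5d4615f9f0ed7f3e06021dc2de4816) (.lf 0)) (.nd (.lf 0x237bce04a5b802dca9d321a46e8b788032981347b) (.lf 0))) (.nd (.nd (.lf 0x1d87ac126861ecc95beab9f99e77d5ef4507e46fa) (.lf 0)) (.nd (.lf 0x38428cfb06a743674811f08c9a7d82c6a5a5639a7) (.lf 0)))) (.nd (.nd (.nd (.lf 0x3d3c9ee3d8a6c6803c1e49e2768e459bcaf31c275) (.lf 0)) (.nd (.lf 0x2af59a050a114010211e262246b5e639de1202fa4) (.lf 0))) (.nd (.nd (.lf 0x1312dd8b4c9522742e056ccaecabe34380797d249) (.lf 0)) (.nd (.lf 0x1f01de4dcd82aeb51a8ca359de72b615df6afc9b1) (.lf 0))))))))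
def vT_nb : Tr := (.nd (.nd (.nd (.nd (.nd (.nd (.nd (.lf 0x119f255830f215ac40a1812da2763de1f0ceffaba) (.lf 0x32f0b9e50d37a460f012e56d9c10919c07b00145e)) (.nd (.lf 0x87af0a2feb1e78100d1c25d532effb7ef9b5ee0d) (.lf 0))) (.nd (.nd (.lf 0xf1f8d60d932654f39a3b61eb45c8d13c1ced1a8) (.lf 0)) (.nd (.lf 0xa2d01bbac6b47296d5da462fc3a006e5e18d1bcd) (.lf 0)))) (.nd (.nd (.nd (.lf 0x2f2efc5eced04b1f9a735899b51398918a1994fef) (.lf 0)) (.nd (.lf 0x1f79acae41f5c565e05d61e01212dabae76cbafe) (.lf 0))) (.nd (.nd (.lf 0x4fef5b44e89abb8fe9acac587d36d90b1722fc) (.lf 0)) (.nd (.lf 0x22b06b09241b2f4734c9dfaaea2f712854187dcdd) (.lf 0))))) (.nd (.nd (.nd (.nd (.lf 0x31e8021fa6b0349487e0b4431f51c9d0f919c2eb7) (.lf 0)) (.nd (.lf 0x1983d3611aba9f0718c4738476df76c567188bdac) (.lf 0))) (.nd (.nd (.lf 0x6dd67bfa930f3692a4b1cdbfcffb40662b883dce)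 (.lf 0)) (.nd (.lf 0x32612e0c310b2253e854c352beffddd6b7fe18c2c) (.lf 0)))) (.nd (.nd (.nd (.lf 0x2d0c616d6960e7a29fdaed40fa792c05ed4dcf1ef) (.lf 0)) (.nd (.lf 0x1e2b8c194508e2ced59eb9f18bc17ba2269cdecc6) (.lf 0))) (.nd (.nd (.lf 0x31b0ed55c61b480ac0e49fba00a0c224ec6558536) (.lf 0)) (.nd (.lf 0x22dd718b1c2692f9cc60bf9c0c3af5aa818be48f4) (.lf 0)))))) (.nd (.nd (.nd (.nd (.nd (.lf 0x14205839d0d6c7f7cd87afd704487f2d0d64617f3) (.lf 0x3da6eb3c0abe2ca242e7261d9a70a90dc269edc3f)) (.nd (.lf 0x16340b086c208e42fa9bdc23196d4bcd9e1e647c0) (.lf 0))) (.nd (.nd (.lf 0x326cd66126cf62c7b9a133aa7c6ac111acfd22831) (.lf 0)) (.nd (.lf 0x18926406940322d671d223973df19214240e713e9) (.lf 0)))) (.nd (.nd (.nd (.lf 0x30acff4383c2bc96aad26b96fafe82346cb49cc98) (.lf 0)) (.nd (.lf 0x3392bae508413dd899ae6f49a55e00ad2ebe43a06)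 (.lf 0))) (.nd (.nd (.lf 0x3fecccdfcf012bda786c21c8d300876dfab48bf8c) (.lf 0)) (.nd (.lf 0x141247036940e4553f417a0af2ab081a09ab9c800) (.lf 0))))) (.nd (.nd (.nd (.nd (.lf 0xf031e6857b7c3f84dcdd0d225866ba41556a12b4) (.lf 0)) (.nd (.lf 0x1fb68eec99452622eab96c833e1771b06b1edb00d) (.lf 0))) (.nd (.nd (.lf 0xf448cef93f7bf0328d1fb2bb47b0e3d62db743cd) (.lf 0)) (.nd (.lf 0x397eed633c4e08520ab18febe9eddfb15ca0da231) (.lf 0)))) (.nd (.nd (.nd (.lf 0x1217d392d6691a7aabc337049c5fe3744e9e467cb) (.lf 0)) (.nd (.lf 0x102472774bc2ccec4f2e60f31c7721d8c8ca63828) (.lf 0))) (.nd (.nd (.lf 0xbb94ddc1432121e391571f00aa8e678f1db8c560) (.lf 0)) (.nd (.lf 0x100ad2be21a49ca78ccdf682a6b67af7fe3f96288) (.lf 0))))))) (.nd (.nd (.nd (.nd (.nd (.nd (.lf 0x154c811cb456981360332a3607433358590005496) (.lf 0x3f6054bbff89f4e7a4436567b756de8c53700e1c2))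 (.nd (.lf 0x1e9c4900e0833e98c292d51c678b2a3812d9e7e97) (.lf 0))) (.nd (.nd (.lf 0x3bddc15c28afe141c5bc0ad95f7973598ad6656d5) (.lf 0)) (.nd (.lf 0x1a87df9739b3037f80ace8b0f85bf633f5d399d53) (.lf 0)))) (.nd (.nd (.nd (.lf 0x258a5295778dd401498b25acb3581763ea60aea20) (.lf 0)) (.nd (.lf 0x1cb1ba41f4aac6fe135e9a360a0ae1732730f1e29) (.lf 0))) (.nd (.nd (.lf 0x27532d6f91f3ad9ef95457ccce560f47819f57db0) (.lf 0)) (.nd (.lf 0x19a1e2b42953967623dc248466ed9fdfa54dc7add) (.lf 0))))) (.nd (.nd (.nd (.nd (.lf 0x236c87d9dfc31c50322290b0a020f121bd01fe56a) (.lf 0)) (.nd (.lf 0x3d7e3aaebf9329653bf6f094f82a4c308695cd35d) (.lf 0))) (.nd (.nd (.lf 0x297188c2c49097f07482043e7093caa1498dbe9cd) (.lf 0)) (.nd (.lf 0x2aac39308f09e71602a09059475328a893bbd012e) (.lf 0)))) (.nd (.nd (.nd (.lf 0x3b4baf7f927ff0b1d727aafffa69c607f669865bd)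 (.lf 0)) (.nd (.lf 0x396beab8b7c1246f8bf3fa0f8d634cb914861d7f8) (.lf 0))) (.nd (.nd (.lf 0x199516ef53ea14d5d4d283a93ffed8deb81790ec6) (.lf 0)) (.nd (.lf 0x3c08b3c2a82a9d0e112db7c2e03e5eabb5f24d5da) (.lf 0)))))) (.nd (.nd (.nd (.nd (.nd (.lf 0x35eddfbecfc8afc770da70432b63ba9894158f88d) (.lf 0x3fd0e951e89fed8ff65091d07cca672259e3ccd3a)) (.nd (.lf 0x7ea39cd6ca5888b880cc62b3b2228abaee834df4) (.lf 0))) (.nd (.nd (.lf 0xa67151e6ba38325fa87565a074398755637c1ca5) (.lf 0)) (.nd (.lf 0x2a2be082272bf17d8ff2b181889e662872d7794c9) (.lf 0)))) (.nd (.nd (.nd (.lf 0x2692f3853cde52044f0b7a71bd763360282b71562) (.lf 0)) (.nd (.lf 0xf95e4398e3394c6fc0b7c4f5fee4673e01a07390) (.lf 0))) (.nd (.nd (.lf 0xf371d9826dfe1b9eb3c8d2c177960f7303f43b0d) (.lf 0)) (.nd (.lf 0x46d6545a3ead5f4a964d3cfed9a12f19560a5df0)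 (.lf 0))))) (.nd (.nd (.nd (.nd (.lf 0x1813a3dbd8031f9c0d22518b1f7f7f352822ec6fa) (.lf 0)) (.nd (.lf 0x1298c0459c49dac2092a0a55283b028761b958e6) (.lf 0))) (.nd (.nd (.lf 0x22872e571cb29e99343a8a007fa7169f941e7ecf8) (.lf 0)) (.nd (.lf 0x14b123b805f576050383c2d010beb223b0d05a37e) (.lf 0)))) (.nd (.nd (.nd (.lf 0x1213a770ba370a04b33854b9c60b6460657fbf63d) (.lf 0)) (.nd (.lf 0x21716776e8381666bc0c91853b3e1cb7630c5e460) (.lf 0))) (.nd (.nd (.lf 0x304fb35130e0bea048381740dc281158c57a042db) (.lf 0)) (.nd (.lf 0xbec2a69f2c7154a0c88c28dc62d222dee6fb45b2) (.lf 0))))))))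
def vT : Tr := (.nd vT_na vT_nb)
def qT_na : Tr := (.nd (.nd (.nd (.nd (.nd (.nd (.nd (.lf 0x1000000000000000000008040000000040000000) (.lf 0x201000040200008000000000040000000000001)) (.nd (.lf 0x200000040000008040001000000001) (.lf 0))) (.nd (.nd (.lf 0x200008040001000040001000000001000000201) (.lf 0)) (.nd (.lf 0x20100004000000000020000000000100000) (.lf 0)))) (.nd (.nd (.nd (.lf 0x1000040001008000200000040001) (.lf 0)) (.nd (.lf 0x200000040200000000000008000200008040001) (.lf 0))) (.nd (.nd (.lf 0x200000000000008040000008000000000000201) (.lf 0)) (.nd (.lf 0x200008000001008000001008040201000000201) (.lf 0))))) (.nd (.nd (.nd (.nd (.lf 0x200008040001000040000000040001000000001) (.lf 0)) (.nd (.lf 0x402000000400000000000010000402010080400) (.lf 0))) (.nd (.nd (.lf 0x2000000002010000002000080002000080400)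 (.lf 0)) (.nd (.lf 0x200008040000008000000000040201) (.lf 0)))) (.nd (.nd (.nd (.lf 0x200000040001000000001008040001008000001) (.lf 0)) (.nd (.lf 0x201008040001008040000008000201008040001) (.lf 0))) (.nd (.nd (.lf 0x2000080000000000400) (.lf 0)) (.nd (.lf 0x201008000201008000000008040000000040001) (.lf 0)))))) (.nd (.nd (.nd (.nd (.nd (.lf 0x200008000201008000001000000201008040001) (.lf 0x201008040200008040001008040000008000001)) (.nd (.lf 0x400010080400010000000000000400010080400) (.lf 0))) (.nd (.nd (.lf 0x200008040201000040001008040001008040001) (.lf 0)) (.nd (.lf 0x8040000000040000008000001) (.lf 0)))) (.nd (.nd (.nd (.lf 0x40000000000001008040200008000201) (.lf 0)) (.nd (.lf 0x1008000200000000001008040200000000201) (.lf 0))) (.nd (.nd (.lf 0x200008040000000040000008000200008000001)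 (.lf 0)) (.nd (.lf 0x8000201008000001008040201000040201) (.lf 0))))) (.nd (.nd (.nd (.nd (.lf 0x201008040001000040000008040200008000201) (.lf 0)) (.nd (.lf 0x200008040201000040000008000001008040201) (.lf 0))) (.nd (.nd (.lf 0x1000040201000000000000000201008040000000) (.lf 0)) (.nd (.lf 0x201000000201008040000000000000008040201) (.lf 0)))) (.nd (.nd (.nd (.lf 0x200008040000000040001008040200008000201) (.lf 0)) (.nd (.lf 0x800000000800000000000000000000000100000) (.lf 0))) (.nd (.nd (.lf 0x8040201000040000000040001000040001) (.lf 0)) (.nd (.lf 0x201008000001000000000000040001008040001) (.lf 0))))))) (.nd (.nd (.nd (.nd (.nd (.nd (.lf 0x8000200008000000000040000008040001) (.lf 0x200000040000008000000000000201000040001)) (.nd (.lf 0x1008000001000000000008000001000040201) (.lf 0)))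 (.nd (.nd (.lf 0x2010080402000000002010000402000000400) (.lf 0)) (.nd (.lf 0x201008040201008040001000000201000000001) (.lf 0)))) (.nd (.nd (.nd (.lf 0x200008000201000000001000040200008000201) (.lf 0)) (.nd (.lf 0x201000040001008000001000000201000040001) (.lf 0))) (.nd (.nd (.lf 0x200000040001000000000008000001008000201) (.lf 0)) (.nd (.lf 0x1008040000008000201000000001) (.lf 0))))) (.nd (.nd (.nd (.nd (.lf 0x10080402010000002000080002010080400) (.lf 0)) (.nd (.lf 0x400010080002010000002000080002010000400) (.lf 0))) (.nd (.nd (.lf 0x200000040001008000001000000201) (.lf 0)) (.nd (.lf 0x201008000201000000000008000001000000201) (.lf 0)))) (.nd (.nd (.nd (.lf 0x8000201000000001008000200000000001) (.lf 0)) (.nd (.lf 0x402000000000000000402000080400) (.lf 0))) (.nd (.nd (.lf 0x1008000000008000001000040201008000201)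 (.lf 0)) (.nd (.lf 0x2000000000000000000010000402010000400) (.lf 0)))))) (.nd (.nd (.nd (.nd (.nd (.lf 0x1000000000000040001008040200000040201) (.lf 0x400000000000000000000010080000010000400)) (.nd (.lf 0x400000000402000000002010000402010080400) (.lf 0))) (.nd (.nd (.lf 0x1000040201000000001000040200000040201) (.lf 0)) (.nd (.lf 0x200008040001008040000000040001) (.lf 0)))) (.nd (.nd (.nd (.lf 0x200000000201000040001008000200000000001) (.lf 0)) (.nd (.lf 0x200008000200000000000008040001000000001) (.lf 0))) (.nd (.nd (.lf 0x1008040001008040201000000201) (.lf 0)) (.nd (.lf 0x804020100004000000000020100804000100000) (.lf 0))))) (.nd (.nd (.nd (.nd (.lf 0x4000000800000000000000100804000100000) (.lf 0)) (.nd (.lf 0x200000000000000040000008040001000040001) (.lf 0))) (.nd (.nd (.lf 0x200000040200008000001008000201008000001)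 (.lf 0)) (.nd (.lf 0x200008040001008040001000040000000040001) (.lf 0)))) (.nd (.nd (.nd (.lf 0x200008040200000040001000000200000040001) (.lf 0)) (.nd (.lf 0x400000000000010000002010080002010080400) (.lf 0))) (.nd (.nd (.lf 0x1008000201008000000000000000008040201) (.lf 0)) (.nd (.lf 0x40001000000000000040001000000001) (.lf 0))))))))
def qT_nb : Tr := (.nd (.nd (.nd (.nd (.nd (.nd (.nd (.lf 0x1000000001008040000000000000008000201) (.lf 0x1000000001000040001000000001008040201)) (.nd (.lf 0x1000040000000000000000000001000000201) (.lf 0))) (.nd (.nd (.lf 0x201008040000000040000000000001000000201) (.lf 0)) (.nd (.lf 0x8000201000000000008040200000000201) (.lf 0)))) (.nd (.nd (.nd (.lf 0x1000000001000040000000040001008040001) (.lf 0)) (.nd (.lf 0x201000040201008000001008040201008000201)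 (.lf 0))) (.nd (.nd (.lf 0x8000200000000001000040001008000001) (.lf 0)) (.nd (.lf 0x1008040001000040001000040200000000201) (.lf 0))))) (.nd (.nd (.nd (.nd (.lf 0x400010000002010080002010000400) (.lf 0)) (.nd (.lf 0x201000000200008040001008000201000040001) (.lf 0))) (.nd (.nd (.lf 0x200000040001008000001008000000008040201) (.lf 0)) (.nd (.lf 0x8040001000000000008000201) (.lf 0)))) (.nd (.nd (.nd (.lf 0x201008040200008040000008000000008000201) (.lf 0)) (.nd (.lf 0x200008000000008000000000040000008000001) (.lf 0))) (.nd (.nd (.lf 0x40200000000001000000200000040001) (.lf 0)) (.nd (.lf 0x2000000402000000002010080000010080400) (.lf 0)))))) (.nd (.nd (.nd (.nd (.nd (.lf 0x402010080000000000002000080000010080400) (.lf 0x200008040200008040001000040201000000201)) (.nd (.lf 0x1000040200008000000008000000008000201)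 (.lf 0))) (.nd (.nd (.lf 0x201008040200000040000008040001008040001) (.lf 0)) (.nd (.lf 0x200000040000000000001000000200000000001) (.lf 0)))) (.nd (.nd (.nd (.lf 0x200008040200000040000000040200000040201) (.lf 0)) (.nd (.lf 0x40001008000000000000000000040201) (.lf 0))) (.nd (.nd (.lf 0x40201000000000008000001008040201) (.lf 0)) (.nd (.lf 0x1000000200000040000000040200008000201) (.lf 0))))) (.nd (.nd (.nd (.nd (.lf 0x8000001008000000000040201008000201) (.lf 0)) (.nd (.lf 0x2010080000000000000010080000000080400) (.lf 0))) (.nd (.nd (.lf 0x1000040000008000000000040000000040001) (.lf 0)) (.nd (.lf 0x1000000201008040001008000000000040201) (.lf 0)))) (.nd (.nd (.nd (.lf 0x1008000201008000001000040000008040001) (.lf 0)) (.nd (.lf 0x400000000002010000002000000400000080400) (.lf 0))) (.nd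 (.nd (.lf 0x8040001000040000008000001008000201) (.lf 0)) (.nd (.lf 0x8040201008040000000000000000000201) (.lf 0))))))) (.nd (.nd (.nd (.nd (.nd (.nd (.lf 0x402000000002000000002010080000010000400) (.lf 0x402000000400010000002010000400010000400)) (.nd (.lf 0x200000000200008040000000040000008040001) (.lf 0))) (.nd (.nd (.lf 0x201008040000000040001000040001000000001) (.lf 0)) (.nd (.lf 0x1008000000000000001000000200008040001) (.lf 0)))) (.nd (.nd (.nd (.lf 0x8000001000000001000040200008040201) (.lf 0)) (.nd (.lf 0x1008040000000040000008040001008000001) (.lf 0))) (.nd (.nd (.lf 0x402000000002010000000010080002010080400) (.lf 0)) (.nd (.lf 0x200008040201008040001008000000008000201) (.lf 0))))) (.nd (.nd (.nd (.nd (.lf 0x200008040001008040000000000000000040201) (.lf 0)) (.nd (.lf 0x201000040000000000001008000001008000201)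 (.lf 0))) (.nd (.nd (.lf 0x40001000040001008040001) (.lf 0)) (.nd (.lf 0x200000040000008000001000040201000040201) (.lf 0)))) (.nd (.nd (.nd (.lf 0x400010080000000000000010000402000080400) (.lf 0)) (.nd (.lf 0x200008000200008000000008000000000040201) (.lf 0))) (.nd (.nd (.lf 0x201000040000000000000008040001008000001) (.lf 0)) (.nd (.lf 0x10080002000000002010080000000080400) (.lf 0)))))) (.nd (.nd (.nd (.nd (.nd (.lf 0x8000200008000001000000000008040201) (.lf 0x402000000000000000002000000402000000400)) (.nd (.lf 0x1008000001008000001008000000000000201) (.lf 0))) (.nd (.nd (.lf 0x40000008000001008000201008040001) (.lf 0)) (.nd (.lf 0x201008040001000000201008040001) (.lf 0)))) (.nd (.nd (.nd (.lf 0x201008000000008000001008000201000000001) (.lf 0)) (.nd (.lf 0x10080402000000000000080000010000400)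 (.lf 0))) (.nd (.nd (.lf 0x201000040201000000001008000200008040001) (.lf 0)) (.nd (.lf 0x201000040200000000001000040001000040001) (.lf 0))))) (.nd (.nd (.nd (.nd (.lf 0x201008040000000040201008040201) (.lf 0)) (.nd (.lf 0x8040000008040001000040201000040201) (.lf 0))) (.nd (.nd (.lf 0x1008000201000000000000040001008000001) (.lf 0)) (.nd (.lf 0x2010080002010000002000000400010000400) (.lf 0)))) (.nd (.nd (.nd (.lf 0x1000000201008040000008040000000040001) (.lf 0)) (.nd (.lf 0x400000000002000000000000000402000000400) (.lf 0))) (.nd (.nd (.lf 0x1000000200008040000000000201008040001) (.lf 0)) (.nd (.lf 0x201000040000008000000008000000008040201) (.lf 0))))))))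
def qT : Tr := (.nd qT_na qT_nb)
def rk2T_na : Tr := (.nd (.nd (.nd (.nd (.nd (.nd (.nd (.lf 0x86) (.lf 0x67)) (.nd (.lf 0x7) (.lf 0))) (.nd (.nd (.lf 0x57) (.lf 0)) (.nd (.lf 0x24) (.lf 0)))) (.nd (.nd (.nd (.lf 0x4) (.lf 0)) (.nd (.lf 0x4c) (.lf 0))) (.nd (.nd (.lf 0x43) (.lf 0)) (.nd (.lf 0x4f) (.lf 0))))) (.nd (.nd (.nd (.nd (.lf 0x56) (.lf 0)) (.nd (.lf 0x81) (.lf 0))) (.nd (.nd (.lf 0x3c) (.lf 0)) (.nd (.lf 0x9) (.lf 0)))) (.nd (.nd (.nd (.lf 0x4a) (.lf 0)) (.nd (.lf 0x71) (.lf 0))) (.nd (.nd (.lf 0x0) (.lf 0)) (.nd (.lf 0x6d) (.lf 0)))))) (.nd (.nd (.nd (.nd (.nd (.lf 0x53) (.lf 0x74)) (.nd (.lf 0x7d) (.lf 0))) (.nd (.nd (.lf 0x5e) (.lf 0)) (.nd (.lf 0x2) (.lf 0)))) (.nd (.nd (.nd (.lf 0xf) (.lf 0)) (.nd (.lf 0x35) (.lf 0))) (.nd (.nd (.lf 0x54) (.lf 0)) (.nd (.lf 0x1c)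 (.lf 0))))) (.nd (.nd (.nd (.nd (.lf 0x70) (.lf 0)) (.nd (.lf 0x5d) (.lf 0))) (.nd (.nd (.lf 0x87) (.lf 0)) (.nd (.lf 0x61) (.lf 0)))) (.nd (.nd (.nd (.lf 0x55) (.lf 0)) (.nd (.lf 0x84) (.lf 0))) (.nd (.nd (.lf 0x1f) (.lf 0)) (.nd (.lf 0x6b) (.lf 0))))))) (.nd (.nd (.nd (.nd (.nd (.nd (.lf 0x18) (.lf 0x47)) (.nd (.lf 0x33) (.lf 0))) (.nd (.nd (.lf 0x40) (.lf 0)) (.nd (.lf 0x75) (.lf 0)))) (.nd (.nd (.nd (.lf 0x52) (.lf 0)) (.nd (.lf 0x65) (.lf 0))) (.nd (.nd (.lf 0x49) (.lf 0)) (.nd (.lf 0x5) (.lf 0))))) (.nd (.nd (.nd (.nd (.lf 0x23) (.lf 0)) (.nd (.lf 0x7c) (.lf 0))) (.nd (.nd (.lf 0x8) (.lf 0)) (.nd (.lf 0x6c) (.lf 0)))) (.nd (.nd (.nd (.lf 0x1b) (.lf 0)) (.nd (.lf 0xe) (.lf 0))) (.nd (.nd (.lf 0x32) (.lf 0)) (.nd (.lf 0x3b) (.lf 0)))))) (.nd (.nd (.nd (.nd (.nd (.lf 0x25)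 (.lf 0x76)) (.nd (.lf 0x7a) (.lf 0))) (.nd (.nd (.lf 0x30) (.lf 0)) (.nd (.lf 0xa) (.lf 0)))) (.nd (.nd (.nd (.lf 0x45) (.lf 0)) (.nd (.lf 0x50) (.lf 0))) (.nd (.nd (.lf 0x6) (.lf 0)) (.nd (.lf 0x85) (.lf 0))))) (.nd (.nd (.nd (.nd (.lf 0x41) (.lf 0)) (.nd (.lf 0x42) (.lf 0))) (.nd (.nd (.lf 0x4d) (.lf 0)) (.nd (.lf 0x59) (.lf 0)))) (.nd (.nd (.nd (.lf 0x5b) (.lf 0)) (.nd (.lf 0x77) (.lf 0))) (.nd (.nd (.lf 0x37) (.lf 0)) (.nd (.lf 0x11) (.lf 0))))))))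
def rk2T_nb : Tr := (.nd (.nd (.nd (.nd (.nd (.nd (.nd (.lf 0x28) (.lf 0x27)) (.nd (.lf 0x2d) (.lf 0))) (.nd (.nd (.lf 0x6e) (.lf 0)) (.nd (.lf 0x1a) (.lf 0)))) (.nd (.nd (.nd (.lf 0x26) (.lf 0)) (.nd (.lf 0x69) (.lf 0))) (.nd (.nd (.lf 0x17) (.lf 0)) (.nd (.lf 0x3a) (.lf 0))))) (.nd (.nd (.nd (.nd (.lf 0xd) (.lf 0)) (.nd (.lf 0x60) (.lf 0))) (.nd (.nd (.lf 0x4b) (.lf 0)) (.nd (.lf 0x3) (.lf 0)))) (.nd (.nd (.nd (.lf 0x73) (.lf 0)) (.nd (.lf 0x4e) (.lf 0))) (.nd (.nd (.lf 0x13) (.lf 0)) (.nd (.lf 0x3d) (.lf 0)))))) (.nd (.nd (.nd (.nd (.nd (.lf 0x83) (.lf 0x5c)) (.nd (.lf 0x2f) (.lf 0))) (.nd (.nd (.lf 0x72) (.lf 0)) (.nd (.lf 0x46) (.lf 0)))) (.nd (.nd (.nd (.lf 0x5a) (.lf 0)) (.nd (.lf 0x12) (.lf 0))) (.nd (.nd (.lf 0x14) (.lf 0)) (.nd (.lf 0x29) (.lf 0))))) (.nd (.nd (.nd (.nd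 (.lf 0x16) (.lf 0)) (.nd (.lf 0x3e) (.lf 0))) (.nd (.nd (.lf 0x2e) (.lf 0)) (.nd (.lf 0x2c) (.lf 0)))) (.nd (.nd (.nd (.lf 0x38) (.lf 0)) (.nd (.lf 0x79) (.lf 0))) (.nd (.nd (.lf 0x1e) (.lf 0)) (.nd (.lf 0x20) (.lf 0))))))) (.nd (.nd (.nd (.nd (.nd (.nd (.lf 0x7f) (.lf 0x82)) (.nd (.lf 0x44) (.lf 0))) (.nd (.nd (.lf 0x6f) (.lf 0)) (.nd (.lf 0x31) (.lf 0)))) (.nd (.nd (.nd (.lf 0x15) (.lf 0)) (.nd (.lf 0x39) (.lf 0))) (.nd (.nd (.lf 0x80) (.lf 0)) (.nd (.lf 0x5f) (.lf 0))))) (.nd (.nd (.nd (.nd (.lf 0x58) (.lf 0)) (.nd (.lf 0x63) (.lf 0))) (.nd (.nd (.lf 0x1) (.lf 0)) (.nd (.lf 0x48) (.lf 0)))) (.nd (.nd (.nd (.lf 0x7b) (.lf 0)) (.nd (.lf 0x51) (.lf 0))) (.nd (.nd (.lf 0x62) (.lf 0)) (.nd (.lf 0x21) (.lf 0)))))) (.nd (.nd (.nd (.nd (.nd (.lf 0x19) (.lf 0x7e)) (.nd (.lf 0x34) (.lf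 0))) (.nd (.nd (.lf 0x10) (.lf 0)) (.nd (.lf 0xc) (.lf 0)))) (.nd (.nd (.nd (.lf 0x6a) (.lf 0)) (.nd (.lf 0x22) (.lf 0))) (.nd (.nd (.lf 0x68) (.lf 0)) (.nd (.lf 0x66) (.lf 0))))) (.nd (.nd (.nd (.nd (.lf 0xb) (.lf 0)) (.nd (.lf 0x1d) (.lf 0))) (.nd (.nd (.lf 0x36) (.lf 0)) (.nd (.lf 0x3f) (.lf 0)))) (.nd (.nd (.nd (.lf 0x2b) (.lf 0)) (.nd (.lf 0x78) (.lf 0))) (.nd (.nd (.lf 0x2a) (.lf 0)) (.nd (.lf 0x64) (.lf 0))))))))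
def rk2T : Tr := (.nd rk2T_na rk2T_nb)
def srt2T_na : Tr := (.nd (.nd (.nd (.nd (.nd (.nd (.nd (.lf 0x38) (.lf 0x33)) (.nd (.lf 0x22) (.lf 0))) (.nd (.nd (.lf 0x7d) (.lf 0)) (.nd (.lf 0x49) (.lf 0)))) (.nd (.nd (.nd (.lf 0x27) (.lf 0)) (.nd (.lf 0x56) (.lf 0))) (.nd (.nd (.lf 0x26) (.lf 0)) (.nd (.lf 0xc) (.lf 0))))) (.nd (.nd (.nd (.nd (.lf 0x2a) (.lf 0)) (.nd (.lf 0x6b) (.lf 0))) (.nd (.nd (.lf 0x1) (.lf 0)) (.nd (.lf 0x37) (.lf 0)))) (.nd (.nd (.nd (.lf 0x2) (.lf 0)) (.nd (.lf 0xb) (.lf 0))) (.nd (.nd (.lf 0x1d) (.lf 0)) (.nd (.lf 0x5f) (.lf 0)))))) (.nd (.nd (.nd (.nd (.nd (.lf 0x10) (.lf 0x5c)) (.nd (.lf 0x43) (.lf 0))) (.nd (.nd (.lf 0x60) (.lf 0)) (.nd (.lf 0x7f) (.lf 0)))) (.nd (.nd (.nd (.lf 0x35) (.lf 0)) (.nd (.lf 0x34) (.lf 0))) (.nd (.nd (.lf 0x47) (.lf 0)) (.nd (.lf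 0x84) (.lf 0))))) (.nd (.nd (.nd (.nd (.lf 0x67) (.lf 0)) (.nd (.lf 0x50) (.lf 0))) (.nd (.nd (.lf 0x6d) (.lf 0)) (.nd (.lf 0x6a) (.lf 0)))) (.nd (.nd (.nd (.lf 0x74) (.lf 0)) (.nd (.lf 0x85) (.lf 0))) (.nd (.nd (.lf 0x28) (.lf 0)) (.nd (.lf 0x4a) (.lf 0))))))) (.nd (.nd (.nd (.nd (.nd (.nd (.lf 0x64) (.lf 0x83)) (.nd (.lf 0x4e) (.lf 0))) (.nd (.nd (.lf 0x57) (.lf 0)) (.nd (.lf 0x3b) (.lf 0)))) (.nd (.nd (.nd (.lf 0x55) (.lf 0)) (.nd (.lf 0x12) (.lf 0))) (.nd (.nd (.lf 0x3a) (.lf 0)) (.nd (.lf 0x25) (.lf 0))))) (.nd (.nd (.nd (.nd (.lf 0x66) (.lf 0)) (.nd (.lf 0x18) (.lf 0))) (.nd (.nd (.lf 0x3f) (.lf 0)) (.nd (.lf 0x17) (.lf 0)))) (.nd (.nd (.nd (.lf 0x61) (.lf 0)) (.nd (.lf 0x15) (.lf 0))) (.nd (.nd (.lf 0x71) (.lf 0)) (.nd (.lf 0x46) (.lf 0)))))) (.nd (.nd (.nd (.nd (.nd (.lf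 0x36) (.lf 0x0)) (.nd (.lf 0x65) (.lf 0))) (.nd (.nd (.lf 0x11) (.lf 0)) (.nd (.lf 0x77) (.lf 0)))) (.nd (.nd (.nd (.lf 0xd) (.lf 0)) (.nd (.lf 0x8) (.lf 0))) (.nd (.nd (.lf 0x2f) (.lf 0)) (.nd (.lf 0x86) (.lf 0))))) (.nd (.nd (.nd (.nd (.lf 0x5a) (.lf 0)) (.nd (.lf 0x59) (.lf 0))) (.nd (.nd (.lf 0x2d) (.lf 0)) (.nd (.lf 0x21) (.lf 0)))) (.nd (.nd (.nd (.lf 0x3d) (.lf 0)) (.nd (.lf 0x24) (.lf 0))) (.nd (.nd (.lf 0x4d) (.lf 0)) (.nd (.lf 0x87) (.lf 0))))))))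
def srt2T_nb : Tr := (.nd (.nd (.nd (.nd (.nd (.nd (.nd (.lf 0x2b) (.lf 0x48)) (.nd (.lf 0xe) (.lf 0))) (.nd (.nd (.lf 0x7b) (.lf 0)) (.nd (.lf 0x6c) (.lf 0)))) (.nd (.nd (.nd (.lf 0x7e) (.lf 0)) (.nd (.lf 0x5b) (.lf 0))) (.nd (.nd (.lf 0x63) (.lf 0)) (.nd (.lf 0x58) (.lf 0))))) (.nd (.nd (.nd (.nd (.lf 0x68) (.lf 0)) (.nd (.lf 0x32) (.lf 0))) (.nd (.nd (.lf 0x75) (.lf 0)) (.nd (.lf 0x51) (.lf 0)))) (.nd (.nd (.nd (.lf 0x7) (.lf 0)) (.nd (.lf 0x6e) (.lf 0))) (.nd (.nd (.lf 0x53) (.lf 0)) (.nd (.lf 0x5d) (.lf 0)))))) (.nd (.nd (.nd (.nd (.nd (.lf 0x72) (.lf 0x76)) (.nd (.lf 0x16) (.lf 0))) (.nd (.nd (.lf 0x6) (.lf 0)) (.nd (.lf 0x52) (.lf 0)))) (.nd (.nd (.nd (.lf 0x13) (.lf 0)) (.nd (.lf 0x1c) (.lf 0))) (.nd (.nd (.lf 0x54) (.lf 0)) (.nd (.lf 0x62) (.lf 0))))) (.nd (.nd (.nd (.nd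 (.lf 0x9) (.lf 0)) (.nd (.lf 0x2e) (.lf 0))) (.nd (.nd (.lf 0x41) (.lf 0)) (.nd (.lf 0x78) (.lf 0)))) (.nd (.nd (.nd (.lf 0x4f) (.lf 0)) (.nd (.lf 0x4c) (.lf 0))) (.nd (.nd (.lf 0x79) (.lf 0)) (.nd (.lf 0x44) (.lf 0))))))) (.nd (.nd (.nd (.nd (.nd (.nd (.lf 0x69) (.lf 0x5)) (.nd (.lf 0x30) (.lf 0))) (.nd (.nd (.lf 0xa) (.lf 0)) (.nd (.lf 0x4b) (.lf 0)))) (.nd (.nd (.nd (.lf 0x39) (.lf 0)) (.nd (.lf 0x4) (.lf 0))) (.nd (.nd (.lf 0x42) (.lf 0)) (.nd (.lf 0x19) (.lf 0))))) (.nd (.nd (.nd (.nd (.lf 0xf) (.lf 0)) (.nd (.lf 0x29) (.lf 0))) (.nd (.nd (.lf 0x1f) (.lf 0)) (.nd (.lf 0x7c) (.lf 0)))) (.nd (.nd (.nd (.lf 0x1a) (.lf 0)) (.nd (.lf 0x1e) (.lf 0))) (.nd (.nd (.lf 0x7a) (.lf 0)) (.nd (.lf 0x1b) (.lf 0)))))) (.nd (.nd (.nd (.nd (.nd (.lf 0x40) (.lf 0x2c)) (.nd (.lf 0x82) (.lf 0)))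 (.nd (.nd (.lf 0x81) (.lf 0)) (.nd (.lf 0x80) (.lf 0)))) (.nd (.nd (.nd (.lf 0x31) (.lf 0)) (.nd (.lf 0x20) (.lf 0))) (.nd (.nd (.lf 0x3e) (.lf 0)) (.nd (.lf 0x5e) (.lf 0))))) (.nd (.nd (.nd (.nd (.lf 0x14) (.lf 0)) (.nd (.lf 0x70) (.lf 0))) (.nd (.nd (.lf 0x45) (.lf 0)) (.nd (.lf 0x23) (.lf 0)))) (.nd (.nd (.nd (.lf 0x3c) (.lf 0)) (.nd (.lf 0x73) (.lf 0))) (.nd (.nd (.lf 0x6f) (.lf 0)) (.nd (.lf 0x3) (.lf 0))))))))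
def srt2T : Tr := (.nd srt2T_na srt2T_nb)
def par2T_na : Tr := (.nd (.nd (.nd (.nd (.nd (.nd (.nd (.lf 0x0) (.lf 0x66)) (.nd (.lf 0x2024) (.lf 0))) (.nd (.nd (.lf 0x200f) (.lf 0)) (.nd (.lf 0x42) (.lf 0)))) (.nd (.nd (.nd (.lf 0x2007) (.lf 0)) (.nd (.lf 0x33) (.lf 0))) (.nd (.nd (.lf 0x18) (.lf 0)) (.nd (.lf 0x204d) (.lf 0))))) (.nd (.nd (.nd (.nd (.lf 0x2003) (.lf 0)) (.nd (.lf 0x29) (.lf 0))) (.nd (.nd (.lf 0x2013) (.lf 0)) (.nd (.lf 0x47) (.lf 0)))) (.nd (.nd (.nd (.lf 0x200b) (.lf 0)) (.nd (.lf 0x3a) (.lf 0))) (.nd (.nd (.lf 0x1e) (.lf 0)) (.nd (.lf 0x59) (.lf 0)))))) (.nd (.nd (.nd (.nd (.nd (.lf 0x2001) (.lf 0x206f)) (.nd (.lf 0x2026) (.lf 0))) (.nd (.nd (.lf 0x2011) (.lf 0)) (.nd (.lf 0x44) (.lf 0)))) (.nd (.nd (.nd (.lf 0x2009) (.lf 0)) (.nd (.lf 0x2036) (.lf 0))) (.nd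 (.nd (.lf 0x201a) (.lf 0)) (.nd (.lf 0x56) (.lf 0))))) (.nd (.nd (.nd (.nd (.lf 0x2005) (.lf 0)) (.nd (.lf 0x2d) (.lf 0))) (.nd (.nd (.lf 0x16) (.lf 0)) (.nd (.lf 0x49) (.lf 0)))) (.nd (.nd (.nd (.lf 0x200d) (.lf 0)) (.nd (.lf 0x3f) (.lf 0))) (.nd (.nd (.lf 0x2021) (.lf 0)) (.nd (.lf 0x64) (.lf 0))))))) (.nd (.nd (.nd (.nd (.nd (.nd (.lf 0x2000) (.lf 0x68)) (.nd (.lf 0x2025) (.lf 0))) (.nd (.nd (.lf 0x2010) (.lf 0)) (.nd (.lf 0x43) (.lf 0)))) (.nd (.nd (.nd (.lf 0x2008) (.lf 0)) (.nd (.lf 0x2035) (.lf 0))) (.nd (.nd (.lf 0x19) (.lf 0)) (.nd (.lf 0x52) (.lf 0))))) (.nd (.nd (.nd (.nd (.lf 0x2004) (.lf 0)) (.nd (.lf 0x2b) (.lf 0))) (.nd (.nd (.lf 0x15) (.lf 0)) (.nd (.lf 0x48) (.lf 0)))) (.nd (.nd (.nd (.lf 0x200c) (.lf 0)) (.nd (.lf 0x3c) (.lf 0))) (.nd (.nd (.lf 0x1f) (.lf 0))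 (.nd (.lf 0x205d) (.lf 0)))))) (.nd (.nd (.nd (.nd (.nd (.lf 0x2002) (.lf 0x74)) (.nd (.lf 0x28) (.lf 0))) (.nd (.nd (.lf 0x2012) (.lf 0)) (.nd (.lf 0x46) (.lf 0)))) (.nd (.nd (.nd (.lf 0x200a) (.lf 0)) (.nd (.lf 0x38) (.lf 0))) (.nd (.nd (.lf 0x1c) (.lf 0)) (.nd (.lf 0x2057) (.lf 0))))) (.nd (.nd (.nd (.nd (.lf 0x2006) (.lf 0)) (.nd (.lf 0x32) (.lf 0))) (.nd (.nd (.lf 0x17) (.lf 0)) (.nd (.lf 0x204b) (.lf 0)))) (.nd (.nd (.nd (.lf 0x200e) (.lf 0)) (.nd (.lf 0x2040) (.lf 0))) (.nd (.nd (.lf 0x23) (.lf 0)) (.nd (.lf 0x65) (.lf 0))))))))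
def par2T_nb : Tr := (.nd (.nd (.nd (.nd (.nd (.nd (.nd (.lf 0x0) (.lf 0x67)) (.nd (.lf 0x25) (.lf 0))) (.nd (.nd (.lf 0x10) (.lf 0)) (.nd (.lf 0x2042) (.lf 0)))) (.nd (.nd (.nd (.lf 0x8) (.lf 0)) (.nd (.lf 0x35) (.lf 0))) (.nd (.nd (.lf 0x2018) (.lf 0)) (.nd (.lf 0x204e) (.lf 0))))) (.nd (.nd (.nd (.nd (.lf 0x4) (.lf 0)) (.nd (.lf 0x202a) (.lf 0))) (.nd (.nd (.lf 0x14) (.lf 0)) (.nd (.lf 0x2047) (.lf 0)))) (.nd (.nd (.nd (.lf 0xc) (.lf 0)) (.nd (.lf 0x203b) (.lf 0))) (.nd (.nd (.lf 0x201e) (.lf 0)) (.nd (.lf 0x5a) (.lf 0)))))) (.nd (.nd (.nd (.nd (.nd (.lf 0x2) (.lf 0x71)) (.nd (.lf 0x27) (.lf 0))) (.nd (.nd (.lf 0x12) (.lf 0)) (.nd (.lf 0x2044) (.lf 0)))) (.nd (.nd (.nd (.lf 0xa) (.lf 0)) (.nd (.lf 0x2037) (.lf 0))) (.nd (.nd (.lf 0x1b) (.lf 0)) (.nd (.lf 0x2056) (.lf 0)))))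 (.nd (.nd (.nd (.nd (.lf 0x6) (.lf 0)) (.nd (.lf 0x2e) (.lf 0))) (.nd (.nd (.lf 0x2016) (.lf 0)) (.nd (.lf 0x4a) (.lf 0)))) (.nd (.nd (.nd (.lf 0xe) (.lf 0)) (.nd (.lf 0x40) (.lf 0))) (.nd (.nd (.lf 0x2022) (.lf 0)) (.nd (.lf 0x2064) (.lf 0))))))) (.nd (.nd (.nd (.nd (.nd (.nd (.lf 0x1) (.lf 0x206b)) (.nd (.lf 0x26) (.lf 0))) (.nd (.nd (.lf 0x11) (.lf 0)) (.nd (.lf 0x2043) (.lf 0)))) (.nd (.nd (.nd (.lf 0x9) (.lf 0)) (.nd (.lf 0x36) (.lf 0))) (.nd (.nd (.lf 0x2019) (.lf 0)) (.nd (.lf 0x2054) (.lf 0))))) (.nd (.nd (.nd (.nd (.lf 0x5) (.lf 0)) (.nd (.lf 0x202c) (.lf 0))) (.nd (.nd (.lf 0x2015) (.lf 0)) (.nd (.lf 0x2048) (.lf 0)))) (.nd (.nd (.nd (.lf 0xd) (.lf 0)) (.nd (.lf 0x3d) (.lf 0))) (.nd (.nd (.lf 0x201f) (.lf 0)) (.nd (.lf 0x63) (.lf 0)))))) (.nd (.nd (.nd (.nd (.nd (.lf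 0x3) (.lf 0x7c)) (.nd (.lf 0x2028) (.lf 0))) (.nd (.nd (.lf 0x13) (.lf 0)) (.nd (.lf 0x2046) (.lf 0)))) (.nd (.nd (.nd (.lf 0xb) (.lf 0)) (.nd (.lf 0x2039) (.lf 0))) (.nd (.nd (.lf 0x201c) (.lf 0)) (.nd (.lf 0x58) (.lf 0))))) (.nd (.nd (.nd (.nd (.lf 0x7) (.lf 0)) (.nd (.lf 0x2032) (.lf 0))) (.nd (.nd (.lf 0x2017) (.lf 0)) (.nd (.lf 0x4c) (.lf 0)))) (.nd (.nd (.nd (.lf 0xf) (.lf 0)) (.nd (.lf 0x2041) (.lf 0))) (.nd (.nd (.lf 0x24) (.lf 0)) (.nd (.lf 0x2065) (.lf 0))))))))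
def par2T : Tr := (.nd par2T_na par2T_nb)
def tab2A_na : Tr := (.nd (.nd (.nd (.nd (.nd (.nd (.nd (.lf 0x1) (.lf 0x4f)) (.nd (.lf 0x5d) (.lf 0))) (.nd (.nd (.lf 0x28) (.lf 0)) (.nd (.lf 0x5f) (.lf 0)))) (.nd (.nd (.nd (.lf 0x21) (.lf 0)) (.nd (.lf 0x2) (.lf 0))) (.nd (.nd (.lf 0x47) (.lf 0)) (.nd (.lf 0x12) (.lf 0))))) (.nd (.nd (.nd (.nd (.lf 0x11) (.lf 0)) (.nd (.lf 0x6a) (.lf 0))) (.nd (.nd (.lf 0x46) (.lf 0)) (.nd (.lf 0x82) (.lf 0)))) (.nd (.nd (.nd (.lf 0x30) (.lf 0)) (.nd (.lf 0x77) (.lf 0))) (.nd (.nd (.lf 0x56) (.lf 0)) (.nd (.lf 0x6e) (.lf 0)))))) (.nd (.nd (.nd (.nd (.nd (.lf 0x9) (.lf 0x57)) (.nd (.lf 0x64) (.lf 0))) (.nd (.nd (.lf 0x3f) (.lf 0)) (.nd (.lf 0x7c) (.lf 0)))) (.nd (.nd (.nd (.lf 0x29) (.lf 0)) (.nd (.lf 0x6b) (.lf 0))) (.nd (.nd (.lf 0xa) (.lf 0)) (.nd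 (.lf 0x86) (.lf 0))))) (.nd (.nd (.nd (.nd (.lf 0x19) (.lf 0)) (.nd (.lf 0x6f) (.lf 0))) (.nd (.nd (.lf 0x44) (.lf 0)) (.nd (.lf 0x16) (.lf 0)))) (.nd (.nd (.nd (.lf 0x36) (.lf 0)) (.nd (.lf 0x75) (.lf 0))) (.nd (.nd (.lf 0x5a) (.lf 0)) (.nd (.lf 0x87) (.lf 0))))))) (.nd (.nd (.nd (.nd (.nd (.nd (.lf 0x5) (.lf 0x7a)) (.nd (.lf 0x60) (.lf 0))) (.nd (.nd (.lf 0x3c) (.lf 0)) (.nd (.lf 0x52) (.lf 0)))) (.nd (.nd (.nd (.lf 0x25) (.lf 0)) (.nd (.lf 0x72) (.lf 0))) (.nd (.nd (.lf 0x4e) (.lf 0)) (.nd (.lf 0x71) (.lf 0))))) (.nd (.nd (.nd (.nd (.lf 0x15) (.lf 0)) (.nd (.lf 0x6d) (.lf 0))) (.nd (.nd (.lf 0x24) (.lf 0)) (.nd (.lf 0x7d) (.lf 0)))) (.nd (.nd (.nd (.lf 0x18) (.lf 0)) (.nd (.lf 0x79) (.lf 0))) (.nd (.nd (.lf 0x58) (.lf 0)) (.nd (.lf 0x65) (.lf 0)))))) (.nd (.nd (.nd (.nd (.nd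 (.lf 0xd) (.lf 0x5e)) (.nd (.lf 0x66) (.lf 0))) (.nd (.nd (.lf 0x43) (.lf 0)) (.nd (.lf 0x80) (.lf 0)))) (.nd (.nd (.nd (.lf 0x2c) (.lf 0)) (.nd (.lf 0x74) (.lf 0))) (.nd (.nd (.lf 0x53) (.lf 0)) (.nd (.lf 0x63) (.lf 0))))) (.nd (.nd (.nd (.nd (.lf 0x1d) (.lf 0)) (.nd (.lf 0x26) (.lf 0))) (.nd (.nd (.lf 0x4d) (.lf 0)) (.nd (.lf 0x2d) (.lf 0)))) (.nd (.nd (.nd (.lf 0x38) (.lf 0)) (.nd (.lf 0x49) (.lf 0))) (.nd (.nd (.lf 0x3d) (.lf 0)) (.nd (.lf 0x69) (.lf 0))))))))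
def tab2A_nb : Tr := (.nd (.nd (.nd (.nd (.nd (.nd (.nd (.lf 0x3) (.lf 0x54)) (.nd (.lf 0x33) (.lf 0))) (.nd (.nd (.lf 0x2b) (.lf 0)) (.nd (.lf 0x1a) (.lf 0)))) (.nd (.nd (.nd (.lf 0x23) (.lf 0)) (.nd (.lf 0x70) (.lf 0))) (.nd (.nd (.lf 0x1e) (.lf 0)) (.nd (.lf 0x85) (.lf 0))))) (.nd (.nd (.nd (.nd (.lf 0x13) (.lf 0)) (.nd (.lf 0x6c) (.lf 0))) (.nd (.nd (.lf 0x48) (.lf 0)) (.nd (.lf 0x59) (.lf 0)))) (.nd (.nd (.nd (.lf 0x32) (.lf 0)) (.nd (.lf 0x78) (.lf 0))) (.nd (.nd (.lf 0x40) (.lf 0)) (.nd (.lf 0x84) (.lf 0)))))) (.nd (.nd (.nd (.nd (.nd (.lf 0xb) (.lf 0x20)) (.nd (.lf 0x34) (.lf 0))) (.nd (.nd (.lf 0x41) (.lf 0)) (.nd (.lf 0x7e) (.lf 0)))) (.nd (.nd (.nd (.lf 0x2a) (.lf 0)) (.nd (.lf 0x39) (.lf 0))) (.nd (.nd (.lf 0x51) (.lf 0)) (.nd (.lf 0x55) (.lf 0))))) (.nd (.nd (.nd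 (.nd (.lf 0x1b) (.lf 0)) (.nd (.lf 0x6) (.lf 0))) (.nd (.nd (.lf 0x4c) (.lf 0)) (.nd (.lf 0x83) (.lf 0)))) (.nd (.nd (.nd (.lf 0x14) (.lf 0)) (.nd (.lf 0x4) (.lf 0))) (.nd (.nd (.lf 0x5b) (.lf 0)) (.nd (.lf 0x67) (.lf 0))))))) (.nd (.nd (.nd (.nd (.nd (.nd (.lf 0x7) (.lf 0x22)) (.nd (.lf 0x62) (.lf 0))) (.nd (.nd (.lf 0x3e) (.lf 0)) (.nd (.lf 0x7b) (.lf 0)))) (.nd (.nd (.nd (.lf 0x27) (.lf 0)) (.nd (.lf 0x2f) (.lf 0))) (.nd (.nd (.lf 0x50) (.lf 0)) (.nd (.lf 0x37) (.lf 0))))) (.nd (.nd (.nd (.nd (.lf 0x17) (.lf 0)) (.nd (.lf 0x31) (.lf 0))) (.nd (.nd (.lf 0x4a) (.lf 0)) (.nd (.lf 0x8) (.lf 0)))) (.nd (.nd (.nd (.lf 0x35) (.lf 0)) (.nd (.lf 0xe) (.lf 0))) (.nd (.nd (.lf 0x0) (.lf 0)) (.nd (.lf 0x1c) (.lf 0)))))) (.nd (.nd (.nd (.nd (.nd (.lf 0xf) (.lf 0x7f)) (.nd (.lf 0x68) (.lf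 0))) (.nd (.nd (.lf 0x45) (.lf 0)) (.nd (.lf 0x81) (.lf 0)))) (.nd (.nd (.nd (.lf 0x2e) (.lf 0)) (.nd (.lf 0x73) (.lf 0))) (.nd (.nd (.lf 0x42) (.lf 0)) (.nd (.lf 0x76) (.lf 0))))) (.nd (.nd (.nd (.nd (.lf 0x1f) (.lf 0)) (.nd (.lf 0xc) (.lf 0))) (.nd (.nd (.lf 0x3b) (.lf 0)) (.nd (.lf 0x61) (.lf 0)))) (.nd (.nd (.nd (.lf 0x3a) (.lf 0)) (.nd (.lf 0x10) (.lf 0))) (.nd (.nd (.lf 0x5c) (.lf 0)) (.nd (.lf 0x4b) (.lf 0))))))))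
def tab2A : Tr := (.nd tab2A_na tab2A_nb)
def tab2B_na : Tr := (.nd (.nd (.nd (.nd (.nd (.nd (.nd (.lf 0x2) (.lf 0x5)) (.nd (.lf 0x5e) (.lf 0))) (.nd (.nd (.lf 0xd) (.lf 0)) (.nd (.lf 0x56) (.lf 0)))) (.nd (.nd (.nd (.lf 0x22) (.lf 0)) (.nd (.lf 0xf) (.lf 0))) (.nd (.nd (.lf 0x2c) (.lf 0)) (.nd (.lf 0x3a) (.lf 0))))) (.nd (.nd (.nd (.nd (.lf 0x12) (.lf 0)) (.nd (.lf 0x6b) (.lf 0))) (.nd (.nd (.lf 0x47) (.lf 0)) (.nd (.lf 0x1f) (.lf 0)))) (.nd (.nd (.nd (.lf 0x31) (.lf 0)) (.nd (.lf 0x53) (.lf 0))) (.nd (.nd (.lf 0x13) (.lf 0)) (.nd (.lf 0x62) (.lf 0)))))) (.nd (.nd (.nd (.nd (.nd (.lf 0xa) (.lf 0x17)) (.nd (.lf 0x65) (.lf 0))) (.nd (.nd (.lf 0x40) (.lf 0)) (.nd (.lf 0x7d) (.lf 0)))) (.nd (.nd (.nd (.lf 0x11) (.lf 0)) (.nd (.lf 0x73) (.lf 0))) (.nd (.nd (.lf 0x4c) (.lf 0)) (.nd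 (.lf 0x7e) (.lf 0))))) (.nd (.nd (.nd (.nd (.lf 0x1a) (.lf 0)) (.nd (.lf 0x19) (.lf 0))) (.nd (.nd (.lf 0x4b) (.lf 0)) (.nd (.lf 0x3e) (.lf 0)))) (.nd (.nd (.nd (.lf 0x37) (.lf 0)) (.nd (.lf 0x58) (.lf 0))) (.nd (.nd (.lf 0x1) (.lf 0)) (.nd (.lf 0x7c) (.lf 0))))))) (.nd (.nd (.nd (.nd (.nd (.nd (.lf 0x6) (.lf 0x78)) (.nd (.lf 0x61) (.lf 0))) (.nd (.nd (.lf 0x3d) (.lf 0)) (.nd (.lf 0x2a) (.lf 0)))) (.nd (.nd (.nd (.lf 0x26) (.lf 0)) (.nd (.lf 0x0) (.lf 0))) (.nd (.nd (.lf 0x4f) (.lf 0)) (.nd (.lf 0x74) (.lf 0))))) (.nd (.nd (.nd (.nd (.lf 0x16) (.lf 0)) (.nd (.lf 0x64) (.lf 0))) (.nd (.nd (.lf 0x49) (.lf 0)) (.nd (.lf 0x77) (.lf 0)))) (.nd (.nd (.nd (.lf 0x34) (.lf 0)) (.nd (.lf 0xb) (.lf 0))) (.nd (.nd (.lf 0x25) (.lf 0)) (.nd (.lf 0x86) (.lf 0)))))) (.nd (.nd (.nd (.nd (.nd (.lf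 0xe) (.lf 0x85)) (.nd (.lf 0x67) (.lf 0))) (.nd (.nd (.lf 0x44) (.lf 0)) (.nd (.lf 0x2e) (.lf 0)))) (.nd (.nd (.nd (.lf 0x2d) (.lf 0)) (.nd (.lf 0x75) (.lf 0))) (.nd (.nd (.lf 0x54) (.lf 0)) (.nd (.lf 0x35) (.lf 0))))) (.nd (.nd (.nd (.nd (.lf 0x1e) (.lf 0)) (.nd (.lf 0x71) (.lf 0))) (.nd (.nd (.lf 0x29) (.lf 0)) (.nd (.lf 0x1b) (.lf 0)))) (.nd (.nd (.nd (.lf 0x39) (.lf 0)) (.nd (.lf 0x79) (.lf 0))) (.nd (.nd (.lf 0x51) (.lf 0)) (.nd (.lf 0x5c) (.lf 0))))))))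
def tab2B_nb : Tr := (.nd (.nd (.nd (.nd (.nd (.nd (.nd (.lf 0x4) (.lf 0x87)) (.nd (.lf 0x5f) (.lf 0))) (.nd (.nd (.lf 0x3c) (.lf 0)) (.nd (.lf 0x6f) (.lf 0)))) (.nd (.nd (.nd (.lf 0x24) (.lf 0)) (.nd (.lf 0x50) (.lf 0))) (.nd (.nd (.lf 0x45) (.lf 0)) (.nd (.lf 0x80) (.lf 0))))) (.nd (.nd (.nd (.nd (.lf 0x14) (.lf 0)) (.nd (.lf 0x38) (.lf 0))) (.nd (.nd (.lf 0x3) (.lf 0)) (.nd (.lf 0x82) (.lf 0)))) (.nd (.nd (.nd (.lf 0x33) (.lf 0)) (.nd (.lf 0x4a) (.lf 0))) (.nd (.nd (.lf 0x57) (.lf 0)) (.nd (.lf 0x60) (.lf 0)))))) (.nd (.nd (.nd (.nd (.nd (.lf 0xc) (.lf 0x72)) (.nd (.lf 0x3f) (.lf 0))) (.nd (.nd (.lf 0x42) (.lf 0)) (.nd (.lf 0x7f) (.lf 0)))) (.nd (.nd (.nd (.lf 0x2b) (.lf 0)) (.nd (.lf 0x6c) (.lf 0))) (.nd (.nd (.lf 0x52) (.lf 0)) (.nd (.lf 0x9) (.lf 0))))) (.nd (.nd (.nd (.nd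 (.lf 0x1c) (.lf 0)) (.nd (.lf 0x70) (.lf 0))) (.nd (.nd (.lf 0x41) (.lf 0)) (.nd (.lf 0x68) (.lf 0)))) (.nd (.nd (.nd (.lf 0x32) (.lf 0)) (.nd (.lf 0x7a) (.lf 0))) (.nd (.nd (.lf 0x5a) (.lf 0)) (.nd (.lf 0x81) (.lf 0))))))) (.nd (.nd (.nd (.nd (.nd (.nd (.lf 0x8) (.lf 0x27)) (.nd (.lf 0x63) (.lf 0))) (.nd (.nd (.lf 0x15) (.lf 0)) (.nd (.lf 0x7b) (.lf 0)))) (.nd (.nd (.nd (.lf 0x28) (.lf 0)) (.nd (.lf 0x5d) (.lf 0))) (.nd (.nd (.lf 0x4e) (.lf 0)) (.nd (.lf 0x6a) (.lf 0))))) (.nd (.nd (.nd (.nd (.lf 0x18) (.lf 0)) (.nd (.lf 0x6e) (.lf 0))) (.nd (.nd (.lf 0x48) (.lf 0)) (.nd (.lf 0x83) (.lf 0)))) (.nd (.nd (.nd (.lf 0x30) (.lf 0)) (.nd (.lf 0x21) (.lf 0))) (.nd (.nd (.lf 0x59) (.lf 0)) (.nd (.lf 0x46) (.lf 0)))))) (.nd (.nd (.nd (.nd (.nd (.lf 0x10) (.lf 0x6d)) (.nd (.lf 0x69) (.lf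 0))) (.nd (.nd (.lf 0x1d) (.lf 0)) (.nd (.lf 0x43) (.lf 0)))) (.nd (.nd (.nd (.lf 0x2f) (.lf 0)) (.nd (.lf 0x76) (.lf 0))) (.nd (.nd (.lf 0x55) (.lf 0)) (.nd (.lf 0x36) (.lf 0))))) (.nd (.nd (.nd (.nd (.lf 0x20) (.lf 0)) (.nd (.lf 0x23) (.lf 0))) (.nd (.nd (.lf 0x4d) (.lf 0)) (.nd (.lf 0x84) (.lf 0)))) (.nd (.nd (.nd (.lf 0x3b) (.lf 0)) (.nd (.lf 0x5b) (.lf 0))) (.nd (.nd (.lf 0x7) (.lf 0)) (.nd (.lf 0x66) (.lf 0))))))))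
def tab2B : Tr := (.nd tab2B_na tab2B_nb)
def wit2A_na : Tr := (.nd (.nd (.nd (.nd (.nd (.nd (.nd (.lf 0x0) (.lf 0x5a)) (.nd (.lf 0x0) (.lf 0))) (.nd (.nd (.lf 0x73) (.lf 0)) (.nd (.lf 0x8f) (.lf 0)))) (.nd (.nd (.nd (.lf 0x0) (.lf 0)) (.nd (.lf 0x2d) (.lf 0))) (.nd (.nd (.lf 0x20) (.lf 0)) (.nd (.lf 0x4c) (.lf 0))))) (.nd (.nd (.nd (.nd (.lf 0x0) (.lf 0)) (.nd (.lf 0x0) (.lf 0))) (.nd (.nd (.lf 0x0) (.lf 0)) (.nd (.lf 0x0) (.lf 0)))) (.nd (.nd (.nd (.lf 0x0) (.lf 0)) (.nd (.lf 0x0) (.lf 0))) (.nd (.nd (.lf 0x0) (.lf 0)) (.nd (.lf 0x94) (.lf 0)))))) (.nd (.nd (.nd (.nd (.nd (.lf 0x0) (.lf 0x9a)) (.nd (.lf 0x0) (.lf 0))) (.nd (.nd (.lf 0x0) (.lf 0)) (.nd (.lf 0x0) (.lf 0)))) (.nd (.nd (.nd (.lf 0x0) (.lf 0)) (.nd (.lf 0x64) (.lf 0))) (.nd (.nd (.lf 0x96) (.lf 0)) (.nd (.lf 0x0)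 (.lf 0))))) (.nd (.nd (.nd (.nd (.lf 0x0) (.lf 0)) (.nd (.lf 0x0) (.lf 0))) (.nd (.nd (.lf 0x94) (.lf 0)) (.nd (.lf 0x4f) (.lf 0)))) (.nd (.nd (.nd (.lf 0x0) (.lf 0)) (.nd (.lf 0x83) (.lf 0))) (.nd (.nd (.lf 0x0) (.lf 0)) (.nd (.lf 0x0) (.lf 0))))))) (.nd (.nd (.nd (.nd (.nd (.nd (.lf 0x0) (.lf 0x8b)) (.nd (.lf 0x0) (.lf 0))) (.nd (.nd (.lf 0x61) (.lf 0)) (.nd (.lf 0x36) (.lf 0)))) (.nd (.nd (.nd (.lf 0x0) (.lf 0)) (.nd (.lf 0x0) (.lf 0))) (.nd (.nd (.lf 0x0) (.lf 0)) (.nd (.lf 0x44) (.lf 0))))) (.nd (.nd (.nd (.nd (.lf 0x0) (.lf 0)) (.nd (.lf 0x0) (.lf 0))) (.nd (.nd (.lf 0xf) (.lf 0)) (.nd (.lf 0x66) (.lf 0)))) (.nd (.nd (.nd (.lf 0x2) (.lf 0)) (.nd (.lf 0x0) (.lf 0))) (.nd (.nd (.lf 0x0) (.lf 0)) (.nd (.lf 0x3) (.lf 0)))))) (.nd (.nd (.nd (.nd (.nd (.lf 0x0) (.lf 0x3f)) (.nd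 (.lf 0x0) (.lf 0))) (.nd (.nd (.lf 0x0) (.lf 0)) (.nd (.lf 0x0) (.lf 0)))) (.nd (.nd (.nd (.lf 0x0) (.lf 0)) (.nd (.lf 0x0) (.lf 0))) (.nd (.nd (.lf 0x0) (.lf 0)) (.nd (.lf 0x9b) (.lf 0))))) (.nd (.nd (.nd (.nd (.lf 0x0) (.lf 0)) (.nd (.lf 0x3a) (.lf 0))) (.nd (.nd (.lf 0x0) (.lf 0)) (.nd (.lf 0x47) (.lf 0)))) (.nd (.nd (.nd (.lf 0x0) (.lf 0)) (.nd (.lf 0x2c) (.lf 0))) (.nd (.nd (.lf 0x7c) (.lf 0)) (.nd (.lf 0x45) (.lf 0))))))))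
def wit2A_nb : Tr := (.nd (.nd (.nd (.nd (.nd (.nd (.nd (.lf 0x0) (.lf 0x5c)) (.nd (.lf 0x86) (.lf 0))) (.nd (.nd (.lf 0x7d) (.lf 0)) (.nd (.lf 0x1b) (.lf 0)))) (.nd (.nd (.nd (.lf 0x0) (.lf 0)) (.nd (.lf 0x95) (.lf 0))) (.nd (.nd (.lf 0x33) (.lf 0)) (.nd (.lf 0x0) (.lf 0))))) (.nd (.nd (.nd (.nd (.lf 0x0) (.lf 0)) (.nd (.lf 0x0) (.lf 0))) (.nd (.nd (.lf 0x0) (.lf 0)) (.nd (.lf 0x3e) (.lf 0)))) (.nd (.nd (.nd (.lf 0x0) (.lf 0)) (.nd (.lf 0x0) (.lf 0))) (.nd (.nd (.lf 0xb0) (.lf 0)) (.nd (.lf 0x65) (.lf 0)))))) (.nd (.nd (.nd (.nd (.nd (.lf 0x0) (.lf 0xa7)) (.nd (.lf 0xad) (.lf 0))) (.nd (.nd (.lf 0x0) (.lf 0)) (.nd (.lf 0x0) (.lf 0)))) (.nd (.nd (.nd (.lf 0x0) (.lf 0)) (.nd (.lf 0x51) (.lf 0))) (.nd (.nd (.lf 0x0) (.lf 0)) (.nd (.lf 0x12) (.lf 0))))) (.nd (.nd (.nd (.nd (.lf 0x0)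 (.lf 0)) (.nd (.lf 0x83) (.lf 0))) (.nd (.nd (.lf 0x0) (.lf 0)) (.nd (.lf 0x63) (.lf 0)))) (.nd (.nd (.nd (.lf 0x27) (.lf 0)) (.nd (.lf 0x40) (.lf 0))) (.nd (.nd (.lf 0x0) (.lf 0)) (.nd (.lf 0x52) (.lf 0))))))) (.nd (.nd (.nd (.nd (.nd (.nd (.lf 0x0) (.lf 0x90)) (.nd (.lf 0x0) (.lf 0))) (.nd (.nd (.lf 0x0) (.lf 0)) (.nd (.lf 0x0) (.lf 0)))) (.nd (.nd (.nd (.lf 0x0) (.lf 0)) (.nd (.lf 0x6f) (.lf 0))) (.nd (.nd (.lf 0x0) (.lf 0)) (.nd (.lf 0x71) (.lf 0))))) (.nd (.nd (.nd (.nd (.lf 0x0) (.lf 0)) (.nd (.lf 0xa6) (.lf 0))) (.nd (.nd (.lf 0x0) (.lf 0)) (.nd (.lf 0x2e) (.lf 0)))) (.nd (.nd (.nd (.lf 0x0) (.lf 0)) (.nd (.lf 0x6d) (.lf 0))) (.nd (.nd (.lf 0x27) (.lf 0)) (.nd (.lf 0x25) (.lf 0)))))) (.nd (.nd (.nd (.nd (.nd (.lf 0x0) (.lf 0xc)) (.nd (.lf 0x0) (.lf 0))) (.nd (.nd (.lf 0x0)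 (.lf 0)) (.nd (.lf 0x0) (.lf 0)))) (.nd (.nd (.nd (.lf 0x0) (.lf 0)) (.nd (.lf 0x1d) (.lf 0))) (.nd (.nd (.lf 0x5d) (.lf 0)) (.nd (.lf 0x71) (.lf 0))))) (.nd (.nd (.nd (.nd (.lf 0x0) (.lf 0)) (.nd (.lf 0x5) (.lf 0))) (.nd (.nd (.lf 0x17) (.lf 0)) (.nd (.lf 0x21) (.lf 0)))) (.nd (.nd (.nd (.lf 0x0) (.lf 0)) (.nd (.lf 0x90) (.lf 0))) (.nd (.nd (.lf 0x0) (.lf 0)) (.nd (.lf 0x6c) (.lf 0))))))))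
def wit2A : Tr := (.nd wit2A_na wit2A_nb)
def wit2B_na : Tr := (.nd (.nd (.nd (.nd (.nd (.nd (.nd (.lf 0x0) (.lf 0x10)) (.nd (.lf 0x0) (.lf 0))) (.nd (.nd (.lf 0x95) (.lf 0)) (.nd (.lf 0x8c) (.lf 0)))) (.nd (.nd (.nd (.lf 0x0) (.lf 0)) (.nd (.lf 0x7e) (.lf 0))) (.nd (.nd (.lf 0x8f) (.lf 0)) (.nd (.lf 0xd) (.lf 0))))) (.nd (.nd (.nd (.nd (.lf 0x0) (.lf 0)) (.nd (.lf 0x0) (.lf 0))) (.nd (.nd (.lf 0x0) (.lf 0)) (.nd (.lf 0x99) (.lf 0)))) (.nd (.nd (.nd (.lf 0x0) (.lf 0)) (.nd (.lf 0x4e) (.lf 0))) (.nd (.nd (.lf 0xa7) (.lf 0)) (.nd (.lf 0x6c) (.lf 0)))))) (.nd (.nd (.nd (.nd (.nd (.lf 0x0) (.lf 0xe)) (.nd (.lf 0x0) (.lf 0))) (.nd (.nd (.lf 0x0) (.lf 0)) (.nd (.lf 0x0) (.lf 0)))) (.nd (.nd (.nd (.lf 0x1) (.lf 0)) (.nd (.lf 0x0) (.lf 0))) (.nd (.nd (.lf 0x65) (.lf 0)) (.nd (.lf 0x92)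 (.lf 0))))) (.nd (.nd (.nd (.nd (.lf 0x0) (.lf 0)) (.nd (.lf 0x84) (.lf 0))) (.nd (.nd (.lf 0x0) (.lf 0)) (.nd (.lf 0x20) (.lf 0)))) (.nd (.nd (.nd (.lf 0x0) (.lf 0)) (.nd (.lf 0x9b) (.lf 0))) (.nd (.nd (.lf 0x45) (.lf 0)) (.nd (.lf 0x5c) (.lf 0))))))) (.nd (.nd (.nd (.nd (.nd (.nd (.lf 0x0) (.lf 0x4e)) (.nd (.lf 0x0) (.lf 0))) (.nd (.nd (.lf 0x0) (.lf 0)) (.nd (.lf 0x98) (.lf 0)))) (.nd (.nd (.nd (.lf 0x0) (.lf 0)) (.nd (.lf 0x3f) (.lf 0))) (.nd (.nd (.lf 0x0) (.lf 0)) (.nd (.lf 0x99) (.lf 0))))) (.nd (.nd (.nd (.nd (.lf 0x0) (.lf 0)) (.nd (.lf 0x53) (.lf 0))) (.nd (.nd (.lf 0x0) (.lf 0)) (.nd (.lf 0x62) (.lf 0)))) (.nd (.nd (.nd (.lf 0x0) (.lf 0)) (.nd (.lf 0x9f) (.lf 0))) (.nd (.nd (.lf 0x1d) (.lf 0)) (.nd (.lf 0x26) (.lf 0)))))) (.nd (.nd (.nd (.nd (.nd (.lf 0x0) (.lf 0x92))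 (.nd (.lf 0x0) (.lf 0))) (.nd (.nd (.lf 0x0) (.lf 0)) (.nd (.lf 0x6d) (.lf 0)))) (.nd (.nd (.nd (.lf 0x0) (.lf 0)) (.nd (.lf 0x0) (.lf 0))) (.nd (.nd (.lf 0x0) (.lf 0)) (.nd (.lf 0x15) (.lf 0))))) (.nd (.nd (.nd (.nd (.lf 0x0) (.lf 0)) (.nd (.lf 0x0) (.lf 0))) (.nd (.nd (.lf 0x77) (.lf 0)) (.nd (.lf 0x2d) (.lf 0)))) (.nd (.nd (.nd (.lf 0x0) (.lf 0)) (.nd (.lf 0x88) (.lf 0))) (.nd (.nd (.lf 0x7e) (.lf 0)) (.nd (.lf 0x11) (.lf 0))))))))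
def wit2B_nb : Tr := (.nd (.nd (.nd (.nd (.nd (.nd (.nd (.lf 0x0) (.lf 0x95)) (.nd (.lf 0x0) (.lf 0))) (.nd (.nd (.lf 0x0) (.lf 0)) (.nd (.lf 0x5) (.lf 0)))) (.nd (.nd (.nd (.lf 0x0) (.lf 0)) (.nd (.lf 0x77) (.lf 0))) (.nd (.nd (.lf 0x45) (.lf 0)) (.nd (.lf 0x12) (.lf 0))))) (.nd (.nd (.nd (.nd (.lf 0x0) (.lf 0)) (.nd (.lf 0x38) (.lf 0))) (.nd (.nd (.lf 0x83) (.lf 0)) (.nd (.lf 0x98) (.lf 0)))) (.nd (.nd (.nd (.lf 0x0) (.lf 0)) (.nd (.lf 0xa9) (.lf 0))) (.nd (.nd (.lf 0x0) (.lf 0)) (.nd (.lf 0x79) (.lf 0)))))) (.nd (.nd (.nd (.nd (.nd (.lf 0x0) (.lf 0x25)) (.nd (.lf 0x77) (.lf 0))) (.nd (.nd (.lf 0x0) (.lf 0)) (.nd (.lf 0x0) (.lf 0)))) (.nd (.nd (.nd (.lf 0x0) (.lf 0)) (.nd (.lf 0x7f) (.lf 0))) (.nd (.nd (.lf 0x0) (.lf 0)) (.nd (.lf 0x48) (.lf 0))))) (.nd (.nd (.nd (.nd (.lf 0x0)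 (.lf 0)) (.nd (.lf 0x0) (.lf 0))) (.nd (.nd (.lf 0x9d) (.lf 0)) (.nd (.lf 0xb2) (.lf 0)))) (.nd (.nd (.nd (.lf 0xa1) (.lf 0)) (.nd (.lf 0x0) (.lf 0))) (.nd (.nd (.lf 0x7c) (.lf 0)) (.nd (.lf 0x3b) (.lf 0))))))) (.nd (.nd (.nd (.nd (.nd (.nd (.lf 0x0) (.lf 0x8c)) (.nd (.lf 0x0) (.lf 0))) (.nd (.nd (.lf 0xa1) (.lf 0)) (.nd (.lf 0x9) (.lf 0)))) (.nd (.nd (.nd (.lf 0x0) (.lf 0)) (.nd (.lf 0x72) (.lf 0))) (.nd (.nd (.lf 0x8c) (.lf 0)) (.nd (.lf 0x55) (.lf 0))))) (.nd (.nd (.nd (.nd (.lf 0x0) (.lf 0)) (.nd (.lf 0x0) (.lf 0))) (.nd (.nd (.lf 0x96) (.lf 0)) (.nd (.lf 0x0) (.lf 0)))) (.nd (.nd (.nd (.lf 0x3) (.lf 0)) (.nd (.lf 0x66) (.lf 0))) (.nd (.nd (.lf 0x0) (.lf 0)) (.nd (.lf 0x13) (.lf 0)))))) (.nd (.nd (.nd (.nd (.nd (.lf 0x0) (.lf 0x96)) (.nd (.lf 0x0) (.lf 0))) (.nd (.nd (.lf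 0x8a) (.lf 0)) (.nd (.lf 0xa6) (.lf 0)))) (.nd (.nd (.nd (.lf 0x0) (.lf 0)) (.nd (.lf 0x0) (.lf 0))) (.nd (.nd (.lf 0x0) (.lf 0)) (.nd (.lf 0xb) (.lf 0))))) (.nd (.nd (.nd (.nd (.lf 0x0) (.lf 0)) (.nd (.lf 0x20) (.lf 0))) (.nd (.nd (.lf 0x51) (.lf 0)) (.nd (.lf 0x0) (.lf 0)))) (.nd (.nd (.nd (.lf 0x0) (.lf 0)) (.nd (.lf 0xd) (.lf 0))) (.nd (.nd (.lf 0x65) (.lf 0)) (.nd (.lf 0x3a) (.lf 0))))))))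
def wit2B : Tr := (.nd wit2B_na wit2B_nb)
def kT_na : Tr := (.nd (.nd (.nd (.nd (.nd (.nd (.nd (.lf 0x100401004010040100401) (.lf 0x4d44038e5504bd558f88a1a8a321e883b9ac5bae)) (.nd (.lf 0x15c8a85e7a1b7ce66a976d096c1d2b2441bc092ea) (.lf 0))) (.nd (.nd (.lf 0x240d1dcd315a392204ca44038a573243289d404ee) (.lf 0xb459d613f19f038c854cf3e58e634f78c98d2f79)) (.nd (.lf 0x73a5d65f2d5e9930538efd648e7f922bc39c2b89) (.lf 0)))) (.nd (.nd (.nd (.lf 0x205059973d23110900b9716046a96a32c094676a) (.lf 0x1c71785c21107745f3398830bc1e20373e1503a1e)) (.nd (.lf 0x3d11b69652b82109746fbd2e965f3989593a75fff) (.lf 0))) (.nd (.nd (.lf 0x24ebe303c6e3a363e43193a0d8c3e6f5da786ae0e) (.lf 0x1cfea98dedca6d1fbc35ded8b593fb95fdc875f2)) (.nd (.lf 0x2fe9f97eeed18eeed4791e68dcdc9bceb21f8745b) (.lf 0))))) (.nd (.nd (.nd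 (.nd (.lf 0x1773a0667759f43de164d759c42c361e85da3fc4f) (.lf 0x1b920406354b109eafccdec7d605272a5740c6a76)) (.nd (.lf 0x2c0d052d6196781a00db54058ce3ba272c9c42026) (.lf 0))) (.nd (.nd (.lf 0x57e59c6fcc3a973c17eeef6de7586c8bc60143dd) (.lf 0x2741b187cdebb4f0d5c1c1d5294205840bc998f82)) (.nd (.lf 0x1a32d9bb5ec687741e3f07baead306a5820dabc49) (.lf 0)))) (.nd (.nd (.nd (.lf 0xc1049b9c5aa83e7b5fe76ff3ad06bb507822d3ce) (.lf 0x2a8d3d62a4b2197ae8cac161a8e59fc430ec240e8)) (.nd (.lf 0x929b637e93facda193d47e78694be2418f7c62c3) (.lf 0))) (.nd (.nd (.lf 0x3e7ffc283fd23731f2cafb3b154e12f7c88c5888b) (.lf 0)) (.nd (.lf 0x19dbb0c4128306605a7e373554bcb87d7656e4fce) (.lf 0)))))) (.nd (.nd (.nd (.nd (.nd (.lf 0x1ebe2cbc2d461bbd2fb8a0cea5164568d4d4ca199) (.lf 0x3d082c8b651b168784ce57ce54857a745540d5854))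 (.nd (.lf 0x331931b3aca109c3ee17f8a081d0a48f006a05abd) (.lf 0))) (.nd (.nd (.lf 0x38777cb8863ca969241bd95fcd153fff9d5a2deb8) (.lf 0x20080200802008020080200000000000000000000)) (.nd (.lf 0x1ed31726d9670ef613c8241f968e898746296d050) (.lf 0)))) (.nd (.nd (.nd (.lf 0x15974a3fd3600eb74e9265ed439265310254bd5c7) (.lf 0x1d6ad4aff4c36853c977ea6ad4b1eea858f990a5c)) (.nd (.lf 0x39c0283e1b64ff899eed2bb9d0333bacfa1ef0b26) (.lf 0))) (.nd (.nd (.lf 0x2acc2580d2d00c7b0315d1062e50eb640dcbf0a00) (.lf 0)) (.nd (.lf 0x177858ba0d83c29462127fc860aab3f59fd4c9fc5) (.lf 0))))) (.nd (.nd (.nd (.nd (.lf 0x1cbd3c2e5a9c2ea1bfaf218ad54f5dc99ba0db534) (.lf 0x851681c617c7d6fe63aca18083a0001219089b9a)) (.nd (.lf 0x1c617868617e3e4ef5498428b40e30be3eb7f31d6) (.lf 0))) (.nd (.nd (.lf 0xc26bd1f000a860db37ad8cb2d1ee032c67413f15)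 (.lf 0x2e726631fe2b318fdc28cecb3697aa2b8afa92a7a)) (.nd (.lf 0x1b3b258784369ff0ab3727c2ee520dc2c27ac6884) (.lf 0)))) (.nd (.nd (.nd (.lf 0x2e6aa97970faecadc9f9dbd88cdeb13cf566c9c3f) (.lf 0x326d1c1fc8e10ffce2774c50fcdec273023589e7f)) (.nd (.lf 0x15fe252c79dea9f8ac7f66c2fce3f245f848b6ed6) (.lf 0))) (.nd (.nd (.lf 0x1f152c0c6b5736052f0a19c744073e874c4fd1626) (.lf 0)) (.nd (.lf 0x2c290d4c5e9469021ce6c10282ccb9e918884805c) (.lf 0))))))) (.nd (.nd (.nd (.nd (.nd (.nd (.lf 0x28e899ef6a68fd3df1eacbbc2c5d06c1e14a31093) (.lf 0x178bc460a8553c3fba5b2b4bfa2f29a761ecdbade)) (.nd (.lf 0x13000001005080a0cb0089849004416440802101) (.lf 0))) (.nd (.nd (.lf 0x143010740002432113734e30bc3430bf1f277aa4c) (.lf 0xf7a5ca34d639f7e25326c97fc93297f8633a53b9)) (.nd (.lf 0x1597280a5e1d269b80c6df84d20219ad5f0f17c50)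 (.lf 0)))) (.nd (.nd (.nd (.lf 0x3aa52840b08179331f05275f181e371d1b1f218c) (.lf 0x236af3a7e16481c2e327835499090948806785f8a)) (.nd (.lf 0x14bef9239fb31b052627ad9d92c3c21b4ff8559b9) (.lf 0))) (.nd (.nd (.lf 0x2a9e8c0e6d479885af4ccacb94052f0e934dc0636) (.lf 0x15470c1d538d836f49b62d196cddaf6343ba0f1f8)) (.nd (.lf 0x3f09a404335abe1e2f8a154f460736a3cc42d7a66) (.lf 0))))) (.nd (.nd (.nd (.nd (.lf 0xf85dca41b8584f58d108a5f7c91cfd98d829313d) (.lf 0x2f9ca90af4e8aa81ab0a894a42c0c8f9de0317e26)) (.nd (.lf 0x1d966d2f545715f5254f59f2058f553e123d7cb3c) (.lf 0))) (.nd (.nd (.lf 0x3f90c15567eb3fa993f8b4744cf7b5347e9ef8f56) (.lf 0x4b883a1be30810ce5e6ba4d210a5d7504ecf1c0b)) (.nd (.lf 0x36762a9c25ef9118b1116404eb5a0d1ed314a1edc) (.lf 0)))) (.nd (.nd (.nd (.lf 0x349a4214baea09d9e381781160da826d446a8333e)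 (.lf 0x197f4962c598d971cdbda6e15ee6dcebf064d0eb2)) (.nd (.lf 0x1dedbceb0d9178c0287bac49f296f8a968d9f482a) (.lf 0))) (.nd (.nd (.lf 0x2c0a096355dc6818845792068ee698ad1c9102652) (.lf 0)) (.nd (.lf 0x3bdb16b27f72bfb90ebe5d0a7e1550d70cb47abe8) (.lf 0)))))) (.nd (.nd (.nd (.nd (.nd (.lf 0x1e4dcd1b19020a1e342a8acba51fe9b0075ba7493) (.lf 0xd238637d6349d95753fe4462e97b5ae925d24a6f)) (.nd (.lf 0x88c5d2f6b5d24ba494de2d7ed8c5eb4dc979e390) (.lf 0))) (.nd (.nd (.lf 0x6e6bb1e95779d3595652494db1bf49fd66d0c9ea) (.lf 0x143514643d1077358b75c870aa2e6c201e7069c6a)) (.nd (.lf 0x3b1109ed398eb7be75dc37f56c5ee1a6fef33d1e6) (.lf 0)))) (.nd (.nd (.nd (.lf 0x1294858191f3bc062fc4de841645b28d8b43c2672) (.lf 0x31da71818fa72b22b955a8a5914049321e05baabe)) (.nd (.lf 0x36d86286d0282bd919c3a9345182c2575a58c452f)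 (.lf 0))) (.nd (.nd (.lf 0xc100060617e0b6ff47a4e38bc2e10883ba2f99cc) (.lf 0)) (.nd (.lf 0x3d795157340c752a17ce50b94cf452532527f4e23) (.lf 0))))) (.nd (.nd (.nd (.nd (.lf 0xfcf0d297c4831ef8c5863735d8f4abbce9acab29) (.lf 0xca1f8d475cee1d8347759baa6a6a758dccdfe8d7)) (.nd (.lf 0x32bf9a2a7fff3ab45bd7056473497ce1c9eebfe66) (.lf 0))) (.nd (.nd (.lf 0x2e2c08d52d4658128ced561486a62f4a34810e736) (.lf 0xa06a90c7b919e9f8cc842c392c3b0e69144d3804)) (.nd (.lf 0x6a93212129100cf0bf152e1e0daf9fac086f46b6) (.lf 0)))) (.nd (.nd (.nd (.lf 0x587258761cd2289a70087c0c6458d2e5e0b15e46) (.lf 0xdc2bdcdb9d7e0c9a1d64a5efa57be279cdc3635f)) (.nd (.lf 0x18a1f9bd84e6046b13cff56672d1260385cbf8dc5) (.lf 0))) (.nd (.nd (.lf 0x3022c1b504da88d50667c25c41d0df18408672f35) (.lf 0)) (.nd (.lf 0x3a5d2cbe7312b274ebffe3a64d1410d549becfc82)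 (.lf 0))))))))
def kT_nb : Tr := (.nd (.nd (.nd (.nd (.nd (.nd (.nd (.lf 0x114b228092643c0b7557d048a9808ee18b94e6013) (.lf 0xbda8724ca6204a97ab8ef26e68d8c81050f1a154)) (.nd (.lf 0x192ff92652ff0c674a772b2ad2c28fce498cb7a2a) (.lf 0))) (.nd (.nd (.lf 0x315aa9ebb933741b6a68fd44b5870878cf00484d) (.lf 0x25c3c1b5f3f5810de8d6d1b579d3f0b240e17193c)) (.nd (.lf 0x100092009829801a0890209800000802840506580) (.lf 0)))) (.nd (.nd (.nd (.lf 0x1a12d83a56488378125d47ed38321629ffcf3c651) (.lf 0x1268a30584aeb4b188a5f25860c1aa434fb448b32)) (.nd (.lf 0x3fd4b5993b7f5843c96da650fc6a3ae770ec1a3ba) (.lf 0))) (.nd (.nd (.lf 0x1896ccaa009091e08049c39d2eb2f96af4c9829c7) (.lf 0x1e7cb1cc69ef1931a5ef2a9c9656ab7b7484b6ddf)) (.nd (.lf 0x338e880e7d0e989fa2c4d64dd2010b2cd74d46e76) (.lf 0))))) (.nd (.nd (.nd (.nd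 (.lf 0x3d8fac0a4e54ae818d4ed30ed4063d8fdf0f91410) (.lf 0x14fbd150fac34a580fe0fd8884f69cc75bdf3aee1)) (.nd (.lf 0x11c303efb1bffe60d00ebc5e230542a9e1fdd2d9) (.lf 0))) (.nd (.nd (.lf 0x388aac8dea63aa99a30c94cf8486026b9a0711e76) (.lf 0x74c9a2821aa937d9f905e88db4b295c1084ba37d)) (.nd (.lf 0x2e73a0764b2d7db08fcdfbc184371fba6596fe70f) (.lf 0)))) (.nd (.nd (.nd (.lf 0x2c351cb3f8861d8481d14273654cd9d3c51506be) (.lf 0x3a14fc2aa1ae1968f57d00e7f54c6f6e5368fde1a)) (.nd (.lf 0x16ec3a3bca6982a4c9c22f698b936cb3877b09e41) (.lf 0))) (.nd (.nd (.lf 0x2dfe75a0d76a0f045a79d0f71e0c89604671f7c3d) (.lf 0)) (.nd (.lf 0x314103a1491e00d40b57a12c190972df848bf2a02) (.lf 0)))))) (.nd (.nd (.nd (.nd (.nd (.lf 0x280b19c7744e59388404c2030e750aec1091426fc) (.lf 0x1c0bc8bf90aa3f65fe0a3ebca8ab9a063a950be72)) (.nd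 (.lf 0x80714ae6486513a809dd60504b1aaee340c422bc) (.lf 0))) (.nd (.nd (.lf 0x13b2e03a6e5fb4ec3c2e107af23111ada5836f46d) (.lf 0x1697f45e534ec3d9b75bc08e181f7d8dfff306807)) (.nd (.lf 0xf818c8b1a5cbc162bc8c50354863dc8cf4fc6642) (.lf 0)))) (.nd (.nd (.nd (.lf 0x8c07921041817ece255d56612c06968063d818ae) (.lf 0x1655a5851f9c93196f4547bd2e51a6b1cfbf12993)) (.nd (.lf 0x33e538d565eab941d58b6fda7ea6830ee864523e6) (.lf 0))) (.nd (.nd (.lf 0x24b0c18354869f6891665b6c3143681415ec8ce1d) (.lf 0)) (.nd (.lf 0x3cd1b9b9379d643f0e8b699c2063eca67568ed793) (.lf 0))))) (.nd (.nd (.nd (.nd (.lf 0x334704584d04ffeae2a3a9d9701d372fda761e170) (.lf 0xac8e692f9c393dd7fccdc3bbe5c431e54b4920de)) (.nd (.lf 0x2c51c59863f7698971f7b9f29c6ab2f55ca0eac5b) (.lf 0))) (.nd (.nd (.lf 0x1f236690a797b214bb8b8f5f165e16a30dde97dc5)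 (.lf 0x3db0e722c06f0ae5949866135e8f80054306d9bd6)) (.nd (.lf 0x15392cad56f6e9096dbbe5a2ceb09f8cf81c642a6) (.lf 0)))) (.nd (.nd (.nd (.lf 0x2fead8bdc34dfde67a3cca7de8a87d61a52c07f07) (.lf 0x14d5a963dd50b1f3214b84dfbee614c9ecd0741e3)) (.nd (.lf 0x31965a3dc0658ce827e2bed8739160378572ca4c3) (.lf 0))) (.nd (.nd (.lf 0x284e6ca99b3a78a2a0d7d5469eb152590cbd74656) (.lf 0)) (.nd (.lf 0x3783086e3f74cb2dfce1ecf8540c3a2cdb4eb9960) (.lf 0))))))) (.nd (.nd (.nd (.nd (.nd (.nd (.lf 0x1115a581eeb49e9780c25c455646f531d54cd1864) (.lf 0x33e40b1eaa7c247af96797393318ff1598c7ee146)) (.nd (.lf 0x37b119bd6279eacd9387ecedd862094183302d3f1) (.lf 0))) (.nd (.nd (.lf 0x1fb4fd4d061dd0c8a47cd628e2cc31fbb4c4b8fbd) (.lf 0x1061783c406e7c2a0743c608003030bf05b7fa3d2)) (.nd (.lf 0x384060c38ca9ec2347fefa0d04be928fb12faa7aa)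 (.lf 0)))) (.nd (.nd (.nd (.lf 0x4061cea15d8212284df96068296b0cb3c0d006da) (.lf 0x2acce5a24c070b97f1b8b9368e0fe47087fe713ba)) (.nd (.lf 0x11092009828801a0890281841004812c40406181) (.lf 0))) (.nd (.nd (.lf 0xc5a69bea9b68e7c130bbc203061c654f611a3ff7) (.lf 0x31a581e2a53cbfe7a846fe570392f049f210d6d9)) (.nd (.lf 0x341a097d251f625f54f5462d34df54db473e0985d) (.lf 0))))) (.nd (.nd (.nd (.nd (.lf 0x11201000080d081204a0008849004c14400d04481) (.lf 0x1893e52df152d1b3e90542bf2ce37e61d4b9e0bf7)) (.nd (.lf 0x1fa896b0e10f19e00909ae5e9e172d4e1750dfd79) (.lf 0))) (.nd (.nd (.lf 0x187bdceb9d555969c1a5aaff12963cef54fc563fb) (.lf 0x33754d4d4eb1b99bfd1affea5acc9dbfac21e4b6d)) (.nd (.lf 0x1fac91cff245787385712c4b6655004848f04024e) (.lf 0)))) (.nd (.nd (.nd (.lf 0x261da80c7b1fbe1f22820dc902031aa5884f57e66)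 (.lf 0xf75d5a60d4b041b57892aa3860ea9c6c1b7a4db1)) (.nd (.lf 0x299f090c04d7340e23cec88ad2c0f75a4f4bc0612) (.lf 0))) (.nd (.nd (.lf 0x133840c7d94cead1daf277f4fcbf7768c7776a3c8) (.lf 0)) (.nd (.lf 0x1fcae0725e093e421adb2e685c363a2d7ade302fa) (.lf 0)))))) (.nd (.nd (.nd (.nd (.nd (.lf 0x209153011dc31729cc0278ed38c0c7d395915caad) (.lf 0xd85f9c7e48bf0916ddacc3dee75ceaaacb4e0d2d)) (.nd (.lf 0x10e1545cd8403ce0d38d426a201c72a825eaac7c4) (.lf 0))) (.nd (.nd (.lf 0x83f2d1d130e8c52da0a0b761d1de534c15264e11) (.lf 0x1cd0b86c745af5bc605f418d2c0f1529e5ff3d423)) (.nd (.lf 0x14bdf4af7c4f39b86c6becbfa4b162cc6cb8e6ded) (.lf 0)))) (.nd (.nd (.nd (.lf 0x217299e8a4a64a4fe9c46e05e45fc8551fb2ff051) (.lf 0x11309200882c88100420280049004c14c00d04481)) (.nd (.lf 0x20f5e462235b4b06de8db9a3822c26827ff57151d)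 (.lf 0))) (.nd (.nd (.lf 0x19f0a8187459b69d732c1739d03b2596bed847e6f) (.lf 0)) (.nd (.lf 0x20080200802008020080300401004010040100401) (.lf 0))))) (.nd (.nd (.nd (.nd (.lf 0x19d4a2c8ad1a9a994332f91b34853cbd90a5dc5c) (.lf 0x10308200902588080c30289008000406840902500)) (.nd (.lf 0x2eb388586c3d0bb47f89fce0141f0db27fc4cf769) (.lf 0))) (.nd (.nd (.lf 0xfda70642c53ff9e78ca2ae4542f3d0dbe73354bb) (.lf 0x2c9ba4021659ae9a8dcecf8a960635ab9b0297850)) (.nd (.lf 0x21ee3c1912c08ce3ef87a60824dce2d541f3daff3) (.lf 0)))) (.nd (.nd (.nd (.lf 0x2583212e5bf0917e540598c98d9d65084e1f70bf) (.lf 0x809d6b41a3da62943db9f3ffe141fe91b98f9657)) (.nd (.lf 0x9bf7dcc2993d9a0e83c6eb56a57fa61b429e4bbf) (.lf 0))) (.nd (.nd (.lf 0x220c5ca1d6c81b97e14004603c90820c0bf6712ae) (.lf 0)) (.nd (.lf 0x5afdb18bd69b92f3c720691c31beb1a4ecaba9ff)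 (.lf 0))))))))
def kT : Tr := (.nd kT_na kT_nb)
def rk3T_na : Tr := (.nd (.nd (.nd (.nd (.nd (.nd (.nd (.lf 0x0) (.lf 0xe)) (.nd (.lf 0x46) (.lf 0))) (.nd (.nd (.lf 0x74) (.lf 0x20)) (.nd (.lf 0x14) (.lf 0)))) (.nd (.nd (.nd (.lf 0x6) (.lf 0x5c)) (.nd (.lf 0xac) (.lf 0))) (.nd (.nd (.lf 0x76) (.lf 0x5)) (.nd (.lf 0x8e) (.lf 0))))) (.nd (.nd (.nd (.nd (.lf 0x4b) (.lf 0x59)) (.nd (.lf 0x83) (.lf 0))) (.nd (.nd (.lf 0xf) (.lf 0x79)) (.nd (.lf 0x57) (.lf 0)))) (.nd (.nd (.nd (.lf 0x23) (.lf 0x7e)) (.nd (.lf 0x1c) (.lf 0))) (.nd (.nd (.lf 0xb0) (.lf 0)) (.nd (.lf 0x54) (.lf 0)))))) (.nd (.nd (.nd (.nd (.nd (.lf 0x64) (.lf 0xab)) (.nd (.lf 0x96) (.lf 0))) (.nd (.nd (.lf 0xa3) (.lf 0x6c)) (.nd (.lf 0x65) (.lf 0)))) (.nd (.nd (.nd (.lf 0x45) (.lf 0x5f)) (.nd (.lf 0xa5) (.lf 0))) (.nd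 (.nd (.lf 0x80) (.lf 0)) (.nd (.lf 0x4c) (.lf 0))))) (.nd (.nd (.nd (.nd (.lf 0x5d) (.lf 0x19)) (.nd (.lf 0x5b) (.lf 0))) (.nd (.nd (.lf 0x24) (.lf 0x8a)) (.nd (.lf 0x58) (.lf 0)))) (.nd (.nd (.nd (.lf 0x89) (.lf 0x94)) (.nd (.lf 0x47) (.lf 0))) (.nd (.nd (.lf 0x66) (.lf 0)) (.nd (.lf 0x84) (.lf 0))))))) (.nd (.nd (.nd (.nd (.nd (.nd (.lf 0x7c) (.lf 0x4d)) (.nd (.lf 0x3) (.lf 0))) (.nd (.nd (.lf 0x3c) (.lf 0x2b)) (.nd (.lf 0x44) (.lf 0)))) (.nd (.nd (.nd (.lf 0xb) (.lf 0x73)) (.nd (.lf 0x3f) (.lf 0))) (.nd (.nd (.lf 0x7f) (.lf 0x43)) (.nd (.lf 0xb1) (.lf 0))))) (.nd (.nd (.nd (.nd (.lf 0x2d) (.lf 0x8d)) (.nd (.lf 0x60) (.lf 0))) (.nd (.nd (.lf 0xb2) (.lf 0xd)) (.nd (.lf 0x9e) (.lf 0)))) (.nd (.nd (.nd (.lf 0x9d) (.lf 0x53)) (.nd (.lf 0x61) (.lf 0))) (.nd (.nd (.lf 0x82) (.lf 0))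 (.nd (.lf 0xa9) (.lf 0)))))) (.nd (.nd (.nd (.nd (.nd (.lf 0x62) (.lf 0x27)) (.nd (.lf 0x1a) (.lf 0))) (.nd (.nd (.lf 0x13) (.lf 0x3d)) (.nd (.lf 0xa8) (.lf 0)))) (.nd (.nd (.nd (.lf 0x39) (.lf 0x93)) (.nd (.lf 0x9f) (.lf 0))) (.nd (.nd (.lf 0x22) (.lf 0)) (.nd (.lf 0xad) (.lf 0))))) (.nd (.nd (.nd (.nd (.lf 0x2e) (.lf 0x26)) (.nd (.lf 0x95) (.lf 0))) (.nd (.nd (.lf 0x88) (.lf 0x1e)) (.nd (.lf 0x12) (.lf 0)))) (.nd (.nd (.nd (.lf 0x10) (.lf 0x29)) (.nd (.lf 0x51) (.lf 0))) (.nd (.nd (.lf 0x90) (.lf 0)) (.nd (.lf 0xa7) (.lf 0))))))))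
def rk3T_nb : Tr := (.nd (.nd (.nd (.nd (.nd (.nd (.nd (.lf 0x37) (.lf 0x21)) (.nd (.lf 0x52) (.lf 0))) (.nd (.nd (.lf 0x9) (.lf 0x77)) (.nd (.lf 0x30) (.lf 0)))) (.nd (.nd (.nd (.lf 0x56) (.lf 0x38)) (.nd (.lf 0xb3) (.lf 0))) (.nd (.nd (.lf 0x50) (.lf 0x63)) (.nd (.lf 0x99) (.lf 0))))) (.nd (.nd (.nd (.nd (.lf 0xae) (.lf 0x41)) (.nd (.lf 0x2) (.lf 0))) (.nd (.nd (.lf 0xa4) (.lf 0x15)) (.nd (.lf 0x8b) (.lf 0)))) (.nd (.nd (.nd (.lf 0x8) (.lf 0xa6)) (.nd (.lf 0x4a) (.lf 0))) (.nd (.nd (.lf 0x87) (.lf 0)) (.nd (.lf 0x91) (.lf 0)))))) (.nd (.nd (.nd (.nd (.nd (.lf 0x7a) (.lf 0x5a)) (.nd (.lf 0x16) (.lf 0))) (.nd (.nd (.lf 0x3b) (.lf 0x49)) (.nd (.lf 0x2c) (.lf 0)))) (.nd (.nd (.nd (.lf 0x1b) (.lf 0x48)) (.nd (.lf 0x9b) (.lf 0))) (.nd (.nd (.lf 0x75) (.lf 0)) (.nd (.lf 0xaa) (.lf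 0))))) (.nd (.nd (.nd (.nd (.lf 0x97) (.lf 0x1f)) (.nd (.lf 0x85) (.lf 0))) (.nd (.nd (.lf 0x67) (.lf 0xaf)) (.nd (.lf 0x42) (.lf 0)))) (.nd (.nd (.nd (.lf 0x8f) (.lf 0x40)) (.nd (.lf 0x92) (.lf 0))) (.nd (.nd (.lf 0x7b) (.lf 0)) (.nd (.lf 0xa0) (.lf 0))))))) (.nd (.nd (.nd (.nd (.nd (.nd (.lf 0x34) (.lf 0x9a)) (.nd (.lf 0xa1) (.lf 0))) (.nd (.nd (.lf 0x6a) (.lf 0x32)) (.nd (.lf 0xa2) (.lf 0)))) (.nd (.nd (.nd (.lf 0xc) (.lf 0x81)) (.nd (.lf 0x1) (.lf 0))) (.nd (.nd (.lf 0x25) (.lf 0xa)) (.nd (.lf 0x9c) (.lf 0))))) (.nd (.nd (.nd (.nd (.lf 0x35) (.lf 0x4f)) (.nd (.lf 0x68) (.lf 0))) (.nd (.nd (.lf 0x4e) (.lf 0x98)) (.nd (.lf 0x69) (.lf 0)))) (.nd (.nd (.nd (.lf 0x78) (.lf 0x2a)) (.nd (.lf 0x7d) (.lf 0))) (.nd (.nd (.lf 0x3a) (.lf 0)) (.nd (.lf 0x6b) (.lf 0)))))) (.nd (.nd (.nd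 (.nd (.nd (.lf 0x6e) (.lf 0x28)) (.nd (.lf 0x33) (.lf 0))) (.nd (.nd (.lf 0x18) (.lf 0x5e)) (.nd (.lf 0x3e) (.lf 0)))) (.nd (.nd (.nd (.lf 0x70) (.lf 0x36)) (.nd (.lf 0x6f) (.lf 0))) (.nd (.nd (.lf 0x55) (.lf 0)) (.nd (.lf 0x6d) (.lf 0))))) (.nd (.nd (.nd (.nd (.lf 0x4) (.lf 0x31)) (.nd (.lf 0x8c) (.lf 0))) (.nd (.nd (.lf 0x2f) (.lf 0x86)) (.nd (.lf 0x71) (.lf 0)))) (.nd (.nd (.nd (.lf 0x7) (.lf 0x17)) (.nd (.lf 0x1d) (.lf 0))) (.nd (.nd (.lf 0x72) (.lf 0)) (.nd (.lf 0x11) (.lf 0))))))))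
def rk3T : Tr := (.nd rk3T_na rk3T_nb)
def srt3T_na : Tr := (.nd (.nd (.nd (.nd (.nd (.nd (.nd (.lf 0x0) (.lf 0x34)) (.nd (.lf 0x9d) (.lf 0))) (.nd (.nd (.lf 0xa0) (.lf 0x7d)) (.nd (.lf 0x4a) (.lf 0)))) (.nd (.nd (.nd (.lf 0x1e) (.lf 0x3e)) (.nd (.lf 0x31) (.lf 0))) (.nd (.nd (.lf 0x61) (.lf 0x38)) (.nd (.lf 0x17) (.lf 0))))) (.nd (.nd (.nd (.nd (.lf 0x19) (.lf 0x2e)) (.nd (.lf 0x95) (.lf 0))) (.nd (.nd (.lf 0x87) (.lf 0x66)) (.nd (.lf 0x4b) (.lf 0)))) (.nd (.nd (.nd (.lf 0x27) (.lf 0xab)) (.nd (.lf 0x6c) (.lf 0))) (.nd (.nd (.lf 0x91) (.lf 0)) (.nd (.lf 0x1b) (.lf 0)))))) (.nd (.nd (.nd (.nd (.nd (.lf 0xf) (.lf 0x7c)) (.nd (.lf 0x62) (.lf 0))) (.nd (.nd (.lf 0x2c) (.lf 0x29)) (.nd (.lf 0x4) (.lf 0)))) (.nd (.nd (.nd (.lf 0x60) (.lf 0x9c)) (.nd (.lf 0x78) (.lf 0))) (.nd (.nd (.lf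 0x3) (.lf 0)) (.nd (.lf 0x20) (.lf 0))))) (.nd (.nd (.nd (.nd (.lf 0x13) (.lf 0x4f)) (.nd (.lf 0x74) (.lf 0))) (.nd (.nd (.lf 0x65) (.lf 0x50)) (.nd (.lf 0xa4) (.lf 0)))) (.nd (.nd (.nd (.lf 0x58) (.lf 0x73)) (.nd (.lf 0x90) (.lf 0))) (.nd (.nd (.lf 0x22) (.lf 0)) (.nd (.lf 0x2) (.lf 0))))))) (.nd (.nd (.nd (.nd (.nd (.nd (.lf 0x49) (.lf 0x3a)) (.nd (.lf 0x6d) (.lf 0))) (.nd (.nd (.lf 0x36) (.lf 0x63)) (.nd (.lf 0x6) (.lf 0)))) (.nd (.nd (.nd (.lf 0x6e) (.lf 0x5d)) (.nd (.lf 0x41) (.lf 0))) (.nd (.nd (.lf 0xa3) (.lf 0x2a)) (.nd (.lf 0x3f) (.lf 0))))) (.nd (.nd (.nd (.nd (.lf 0xb3) (.lf 0xac)) (.nd (.lf 0x59) (.lf 0))) (.nd (.nd (.lf 0x9b) (.lf 0x75)) (.nd (.lf 0x23) (.lf 0)))) (.nd (.nd (.nd (.lf 0x46) (.lf 0x83)) (.nd (.lf 0x85) (.lf 0))) (.nd (.nd (.lf 0x3b) (.lf 0)) (.nd (.lf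 0x5) (.lf 0)))))) (.nd (.nd (.nd (.nd (.nd (.lf 0x10) (.lf 0xaf)) (.nd (.lf 0x40) (.lf 0))) (.nd (.nd (.lf 0x8e) (.lf 0x99)) (.nd (.lf 0x3c) (.lf 0)))) (.nd (.nd (.nd (.lf 0x45) (.lf 0x44)) (.nd (.lf 0x11) (.lf 0))) (.nd (.nd (.lf 0x97) (.lf 0)) (.nd (.lf 0x30) (.lf 0))))) (.nd (.nd (.nd (.nd (.lf 0x80) (.lf 0x70)) (.nd (.lf 0x2b) (.lf 0))) (.nd (.nd (.lf 0xe) (.lf 0x9)) (.nd (.lf 0x7) (.lf 0)))) (.nd (.nd (.nd (.lf 0xae) (.lf 0x6a)) (.nd (.lf 0xa7) (.lf 0))) (.nd (.nd (.lf 0x67) (.lf 0)) (.nd (.lf 0x98) (.lf 0))))))))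
def srt3T_nb : Tr := (.nd (.nd (.nd (.nd (.nd (.nd (.nd (.lf 0x53) (.lf 0x93)) (.nd (.lf 0x89) (.lf 0))) (.nd (.nd (.lf 0x81) (.lf 0x43)) (.nd (.lf 0x5a) (.lf 0)))) (.nd (.nd (.nd (.lf 0x7f) (.lf 0x79)) (.nd (.lf 0x5e) (.lf 0))) (.nd (.nd (.lf 0x8f) (.lf 0x72)) (.nd (.lf 0x6f) (.lf 0))))) (.nd (.nd (.nd (.nd (.lf 0x21) (.lf 0x1c)) (.nd (.lf 0xa5) (.lf 0))) (.nd (.nd (.lf 0x9e) (.lf 0x7a)) (.nd (.lf 0x6b) (.lf 0)))) (.nd (.nd (.nd (.lf 0x8c) (.lf 0x71)) (.nd (.lf 0x88) (.lf 0))) (.nd (.nd (.lf 0x16) (.lf 0)) (.nd (.lf 0xa8) (.lf 0)))))) (.nd (.nd (.nd (.nd (.nd (.lf 0xb0) (.lf 0x4d)) (.nd (.lf 0x14) (.lf 0))) (.nd (.nd (.lf 0x33) (.lf 0x54)) (.nd (.lf 0x64) (.lf 0)))) (.nd (.nd (.nd (.lf 0xa9) (.lf 0x4e)) (.nd (.lf 0x37) (.lf 0))) (.nd (.nd (.lf 0xb) (.lf 0)) (.nd (.lf 0x35) (.lf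 0))))) (.nd (.nd (.nd (.nd (.lf 0xaa) (.lf 0x8a)) (.nd (.lf 0x82) (.lf 0))) (.nd (.nd (.lf 0xa) (.lf 0x76)) (.nd (.lf 0x77) (.lf 0)))) (.nd (.nd (.nd (.lf 0x5f) (.lf 0x1a)) (.nd (.lf 0xc) (.lf 0))) (.nd (.nd (.lf 0xa6) (.lf 0)) (.nd (.lf 0x5b) (.lf 0))))))) (.nd (.nd (.nd (.nd (.nd (.nd (.lf 0x42) (.lf 0x48)) (.nd (.lf 0xb2) (.lf 0))) (.nd (.nd (.lf 0x18) (.lf 0x24)) (.nd (.lf 0xb1) (.lf 0)))) (.nd (.nd (.nd (.lf 0x26) (.lf 0x96)) (.nd (.lf 0x9a) (.lf 0))) (.nd (.nd (.lf 0x47) (.lf 0x51)) (.nd (.lf 0x92) (.lf 0))))) (.nd (.nd (.nd (.nd (.lf 0x12) (.lf 0x69)) (.nd (.lf 0x8) (.lf 0))) (.nd (.nd (.lf 0xa2) (.lf 0x84)) (.nd (.lf 0x7b) (.lf 0)))) (.nd (.nd (.nd (.lf 0x15) (.lf 0x55)) (.nd (.lf 0x4c) (.lf 0))) (.nd (.nd (.lf 0x25) (.lf 0)) (.nd (.lf 0x3d) (.lf 0)))))) (.nd (.nd (.nd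 (.nd (.nd (.lf 0x1f) (.lf 0x39)) (.nd (.lf 0x5c) (.lf 0))) (.nd (.nd (.lf 0x86) (.lf 0x7e)) (.nd (.lf 0x2d) (.lf 0)))) (.nd (.nd (.nd (.lf 0x9f) (.lf 0xd)) (.nd (.lf 0x68) (.lf 0))) (.nd (.nd (.lf 0x1) (.lf 0)) (.nd (.lf 0xa1) (.lf 0))))) (.nd (.nd (.nd (.nd (.lf 0x28) (.lf 0x1d)) (.nd (.lf 0x8b) (.lf 0))) (.nd (.nd (.lf 0x2f) (.lf 0xad)) (.nd (.lf 0x57) (.lf 0)))) (.nd (.nd (.nd (.lf 0x8d) (.lf 0x56)) (.nd (.lf 0x94) (.lf 0))) (.nd (.nd (.lf 0x52) (.lf 0)) (.nd (.lf 0x32) (.lf 0))))))))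
def srt3T : Tr := (.nd srt3T_na srt3T_nb)
def par3T_na : Tr := (.nd (.nd (.nd (.nd (.nd (.nd (.nd (.lf 0x0) (.lf 0x404c)) (.nd (.lf 0x401d) (.lf 0))) (.nd (.nd (.lf 0x200c) (.lf 0x2071)) (.nd (.lf 0x2032) (.lf 0)))) (.nd (.nd (.nd (.lf 0x4005) (.lf 0x205d)) (.nd (.lf 0x2028) (.lf 0))) (.nd (.nd (.lf 0x4014) (.lf 0x409b)) (.nd (.lf 0x203e) (.lf 0))))) (.nd (.nd (.nd (.nd (.lf 0x4002) (.lf 0x2052)) (.nd (.lf 0x4023) (.lf 0))) (.nd (.nd (.lf 0x4010) (.lf 0x4081)) (.nd (.lf 0x4038) (.lf 0)))) (.nd (.nd (.nd (.lf 0x9) (.lf 0x4067)) (.nd (.lf 0x402d) (.lf 0))) (.nd (.nd (.lf 0x4018) (.lf 0)) (.nd (.lf 0x2044) (.lf 0)))))) (.nd (.nd (.nd (.nd (.nd (.lf 0x1) (.lf 0x204f)) (.nd (.lf 0x2020) (.lf 0))) (.nd (.nd (.lf 0x400e) (.lf 0x2078)) (.nd (.lf 0x4035) (.lf 0)))) (.nd (.nd (.nd (.lf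 0x4007) (.lf 0x4060)) (.nd (.lf 0x402a) (.lf 0))) (.nd (.nd (.lf 0x2016) (.lf 0)) (.nd (.lf 0x4040) (.lf 0))))) (.nd (.nd (.nd (.nd (.lf 0x4) (.lf 0x4057)) (.nd (.lf 0x4025) (.lf 0))) (.nd (.nd (.lf 0x4012) (.lf 0x408d)) (.nd (.lf 0x403b) (.lf 0)))) (.nd (.nd (.nd (.lf 0x400a) (.lf 0x206b)) (.nd (.lf 0x2030) (.lf 0))) (.nd (.nd (.lf 0x401a) (.lf 0)) (.nd (.lf 0x4048) (.lf 0))))))) (.nd (.nd (.nd (.nd (.nd (.nd (.lf 0x2000) (.lf 0x204e)) (.nd (.lf 0x401e) (.lf 0))) (.nd (.nd (.lf 0x400d) (.lf 0x4073)) (.nd (.lf 0x2034) (.lf 0)))) (.nd (.nd (.nd (.lf 0x4006) (.lf 0x205f)) (.nd (.lf 0x2029) (.lf 0))) (.nd (.nd (.lf 0x2015) (.lf 0x409f)) (.nd (.lf 0x203f) (.lf 0))))) (.nd (.nd (.nd (.nd (.lf 0x2003) (.lf 0x2054)) (.nd (.lf 0x4024) (.lf 0))) (.nd (.nd (.lf 0x4011) (.lf 0x4088)) (.nd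 (.lf 0x4039) (.lf 0)))) (.nd (.nd (.nd (.lf 0x4009) (.lf 0x206a)) (.nd (.lf 0x402e) (.lf 0))) (.nd (.nd (.lf 0x4019) (.lf 0)) (.nd (.lf 0x2047) (.lf 0)))))) (.nd (.nd (.nd (.nd (.nd (.lf 0x4001) (.lf 0x4050)) (.nd (.lf 0x2022) (.lf 0))) (.nd (.nd (.lf 0x400f) (.lf 0x207e)) (.nd (.lf 0x4036) (.lf 0)))) (.nd (.nd (.nd (.lf 0x2008) (.lf 0x4064)) (.nd (.lf 0x402c) (.lf 0))) (.nd (.nd (.lf 0x4017) (.lf 0)) (.nd (.lf 0x2042) (.lf 0))))) (.nd (.nd (.nd (.nd (.lf 0x4004) (.lf 0x405a)) (.nd (.lf 0x4026) (.lf 0))) (.nd (.nd (.lf 0x4013) (.lf 0x408f)) (.nd (.lf 0x403c) (.lf 0)))) (.nd (.nd (.nd (.lf 0x400b) (.lf 0x406d)) (.nd (.lf 0x2031) (.lf 0))) (.nd (.nd (.lf 0x401b) (.lf 0)) (.nd (.lf 0x404a) (.lf 0))))))))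
def par3T_nb : Tr := (.nd (.nd (.nd (.nd (.nd (.nd (.nd (.lf 0x0) (.lf 0x204d)) (.nd (.lf 0x201e) (.lf 0))) (.nd (.nd (.lf 0x200d) (.lf 0x4071)) (.nd (.lf 0x2033) (.lf 0)))) (.nd (.nd (.nd (.lf 0x2006) (.lf 0x405d)) (.nd (.lf 0x4028) (.lf 0))) (.nd (.nd (.lf 0x15) (.lf 0x409d)) (.nd (.lf 0x403e) (.lf 0))))) (.nd (.nd (.nd (.nd (.lf 0x3) (.lf 0x2053)) (.nd (.lf 0x2024) (.lf 0))) (.nd (.nd (.lf 0x2011) (.lf 0x4083)) (.nd (.lf 0x2039) (.lf 0)))) (.nd (.nd (.nd (.lf 0x2009) (.lf 0x4068)) (.nd (.lf 0x202e) (.lf 0))) (.nd (.nd (.lf 0x2019) (.lf 0)) (.nd (.lf 0x2045) (.lf 0)))))) (.nd (.nd (.nd (.nd (.nd (.lf 0x2001) (.lf 0x404f)) (.nd (.lf 0x2021) (.lf 0))) (.nd (.nd (.lf 0x200f) (.lf 0x407b)) (.nd (.lf 0x2036) (.lf 0)))) (.nd (.nd (.nd (.lf 0x8) (.lf 0x4063)) (.nd (.lf 0x402b) (.lf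 0))) (.nd (.nd (.lf 0x2017) (.lf 0)) (.nd (.lf 0x4041) (.lf 0))))) (.nd (.nd (.nd (.nd (.lf 0x2004) (.lf 0x4058)) (.nd (.lf 0x2026) (.lf 0))) (.nd (.nd (.lf 0x2013) (.lf 0x208e)) (.nd (.lf 0x203c) (.lf 0)))) (.nd (.nd (.nd (.lf 0x200b) (.lf 0x406b)) (.nd (.lf 0x4030) (.lf 0))) (.nd (.nd (.lf 0x201b) (.lf 0)) (.nd (.lf 0x4049) (.lf 0))))))) (.nd (.nd (.nd (.nd (.nd (.nd (.lf 0x4000) (.lf 0x404e)) (.nd (.lf 0x201f) (.lf 0))) (.nd (.nd (.lf 0x200e) (.lf 0x4076)) (.nd (.lf 0x4034) (.lf 0)))) (.nd (.nd (.nd (.lf 0x2007) (.lf 0x2060)) (.nd (.lf 0x4029) (.lf 0))) (.nd (.nd (.lf 0x4015) (.lf 0x40a6)) (.nd (.lf 0x403f) (.lf 0))))) (.nd (.nd (.nd (.nd (.lf 0x4003) (.lf 0x2056)) (.nd (.lf 0x2025) (.lf 0))) (.nd (.nd (.lf 0x2012) (.lf 0x408b)) (.nd (.lf 0x403a) (.lf 0)))) (.nd (.nd (.nd (.lf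 0x200a) (.lf 0x406a)) (.nd (.lf 0x202f) (.lf 0))) (.nd (.nd (.lf 0x201a) (.lf 0)) (.nd (.lf 0x4047) (.lf 0)))))) (.nd (.nd (.nd (.nd (.nd (.lf 0x2002) (.lf 0x4051)) (.nd (.lf 0x4022) (.lf 0))) (.nd (.nd (.lf 0x2010) (.lf 0x4080)) (.nd (.lf 0x2038) (.lf 0)))) (.nd (.nd (.nd (.lf 0x4008) (.lf 0x4065)) (.nd (.lf 0x202d) (.lf 0))) (.nd (.nd (.lf 0x2018) (.lf 0)) (.nd (.lf 0x2043) (.lf 0))))) (.nd (.nd (.nd (.nd (.lf 0x2005) (.lf 0x405b)) (.nd (.lf 0x2027) (.lf 0))) (.nd (.nd (.lf 0x2014) (.lf 0x2095)) (.nd (.lf 0x203d) (.lf 0)))) (.nd (.nd (.nd (.lf 0xc) (.lf 0x406f)) (.nd (.lf 0x4031) (.lf 0))) (.nd (.nd (.lf 0x401c) (.lf 0)) (.nd (.lf 0x204c) (.lf 0))))))))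
def par3T : Tr := (.nd par3T_na par3T_nb)
def tab3_0_na : Tr := (.nd (.nd (.nd (.nd (.nd (.nd (.nd (.lf 0x1) (.lf 0x94)) (.nd (.lf 0x6c) (.lf 0))) (.nd (.nd (.lf 0x43) (.lf 0xa7)) (.nd (.lf 0x4c) (.lf 0)))) (.nd (.nd (.nd (.lf 0x8) (.lf 0x95)) (.nd (.lf 0x7a) (.lf 0))) (.nd (.nd (.lf 0x4e) (.lf 0xa1)) (.nd (.lf 0x89) (.lf 0))))) (.nd (.nd (.nd (.nd (.lf 0x15) (.lf 0x6f)) (.nd (.lf 0x57) (.lf 0))) (.nd (.nd (.lf 0x47) (.lf 0x8d)) (.nd (.lf 0x4a) (.lf 0)))) (.nd (.nd (.nd (.lf 0xe) (.lf 0x7d)) (.nd (.lf 0x81) (.lf 0))) (.nd (.nd (.lf 0x1a) (.lf 0)) (.nd (.lf 0x74) (.lf 0)))))) (.nd (.nd (.nd (.nd (.nd (.lf 0xc) (.lf 0x62)) (.nd (.lf 0x77) (.lf 0))) (.nd (.nd (.lf 0x38) (.lf 0x96)) (.nd (.lf 0x8a) (.lf 0)))) (.nd (.nd (.nd (.lf 0x29) (.lf 0x63)) (.nd (.lf 0x3f) (.lf 0))) (.nd (.nd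 (.lf 0x60) (.lf 0)) (.nd (.lf 0x13) (.lf 0))))) (.nd (.nd (.nd (.nd (.lf 0x1f) (.lf 0x7c)) (.nd (.lf 0x2e) (.lf 0))) (.nd (.nd (.lf 0x1e) (.lf 0xad)) (.nd (.lf 0x98) (.lf 0)))) (.nd (.nd (.nd (.lf 0x2a) (.lf 0x86)) (.nd (.lf 0x82) (.lf 0))) (.nd (.nd (.lf 0x68) (.lf 0)) (.nd (.lf 0x54) (.lf 0))))))) (.nd (.nd (.nd (.nd (.nd (.nd (.lf 0x5) (.lf 0x9a)) (.nd (.lf 0x56) (.lf 0))) (.nd (.nd (.lf 0x10) (.lf 0xb1)) (.nd (.lf 0x93) (.lf 0)))) (.nd (.nd (.nd (.lf 0x24) (.lf 0x61)) (.nd (.lf 0x3d) (.lf 0))) (.nd (.nd (.lf 0x5e) (.lf 0xac)) (.nd (.lf 0x9c) (.lf 0))))) (.nd (.nd (.nd (.nd (.lf 0x19) (.lf 0x72)) (.nd (.lf 0x2c) (.lf 0))) (.nd (.nd (.lf 0x48) (.lf 0x8f)) (.nd (.lf 0x3e) (.lf 0)))) (.nd (.nd (.nd (.lf 0xb) (.lf 0x70)) (.nd (.lf 0x80) (.lf 0))) (.nd (.nd (.lf 0x1c) (.lf 0)) (.nd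 (.lf 0x92) (.lf 0)))))) (.nd (.nd (.nd (.nd (.nd (.lf 0x3) (.lf 0x64)) (.nd (.lf 0x27) (.lf 0))) (.nd (.nd (.lf 0x14) (.lf 0x9d)) (.nd (.lf 0x87) (.lf 0)))) (.nd (.nd (.nd (.lf 0x32) (.lf 0x2d)) (.nd (.lf 0x7e) (.lf 0))) (.nd (.nd (.lf 0x41) (.lf 0)) (.nd (.lf 0x8b) (.lf 0))))) (.nd (.nd (.nd (.nd (.lf 0x6) (.lf 0x90)) (.nd (.lf 0x6a) (.lf 0))) (.nd (.nd (.lf 0x4f) (.lf 0xaf)) (.nd (.lf 0x42) (.lf 0)))) (.nd (.nd (.nd (.lf 0x3c) (.lf 0x75)) (.nd (.lf 0x46) (.lf 0))) (.nd (.nd (.lf 0x53) (.lf 0)) (.nd (.lf 0x99) (.lf 0))))))))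
def tab3_0_nb : Tr := (.nd (.nd (.nd (.nd (.nd (.nd (.nd (.lf 0x4) (.lf 0x5b)) (.nd (.lf 0x6d) (.lf 0))) (.nd (.nd (.lf 0x44) (.lf 0x97)) (.nd (.lf 0x35) (.lf 0)))) (.nd (.nd (.nd (.lf 0xa) (.lf 0xa9)) (.nd (.lf 0x36) (.lf 0))) (.nd (.nd (.lf 0x22) (.lf 0xb3)) (.nd (.lf 0x9b) (.lf 0))))) (.nd (.nd (.nd (.nd (.lf 0x18) (.lf 0x5c)) (.nd (.lf 0x67) (.lf 0))) (.nd (.nd (.lf 0x1b) (.lf 0xb0)) (.nd (.lf 0x4d) (.lf 0)))) (.nd (.nd (.nd (.lf 0x37) (.lf 0x6e)) (.nd (.lf 0x84) (.lf 0))) (.nd (.nd (.lf 0x26) (.lf 0)) (.nd (.lf 0xa4) (.lf 0)))))) (.nd (.nd (.nd (.nd (.nd (.lf 0xd) (.lf 0x5a)) (.nd (.lf 0x78) (.lf 0))) (.nd (.nd (.lf 0x45) (.lf 0x9e)) (.nd (.lf 0x71) (.lf 0)))) (.nd (.nd (.nd (.lf 0x31) (.lf 0xa0)) (.nd (.lf 0x40) (.lf 0))) (.nd (.nd (.lf 0x50) (.lf 0)) (.nd (.lf 0x66) (.lf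 0))))) (.nd (.nd (.nd (.nd (.lf 0x20) (.lf 0x9f)) (.nd (.lf 0x2f) (.lf 0))) (.nd (.nd (.lf 0x4b) (.lf 0xae)) (.nd (.lf 0x7b) (.lf 0)))) (.nd (.nd (.nd (.lf 0x2b) (.lf 0x73)) (.nd (.lf 0x65) (.lf 0))) (.nd (.nd (.lf 0x69) (.lf 0)) (.nd (.lf 0x55) (.lf 0))))))) (.nd (.nd (.nd (.nd (.nd (.nd (.lf 0x9) (.lf 0x5d)) (.nd (.lf 0x2) (.lf 0))) (.nd (.nd (.lf 0x11) (.lf 0xa2)) (.nd (.lf 0x85) (.lf 0)))) (.nd (.nd (.nd (.lf 0x25) (.lf 0x7f)) (.nd (.lf 0x30) (.lf 0))) (.nd (.nd (.lf 0x17) (.lf 0xab)) (.nd (.lf 0x76) (.lf 0))))) (.nd (.nd (.nd (.nd (.lf 0x12) (.lf 0xa6)) (.nd (.lf 0x79) (.lf 0))) (.nd (.nd (.lf 0x49) (.lf 0xa3)) (.nd (.lf 0x8c) (.lf 0)))) (.nd (.nd (.nd (.lf 0x39) (.lf 0x83)) (.nd (.lf 0x88) (.lf 0))) (.nd (.nd (.lf 0x1d) (.lf 0)) (.nd (.lf 0x51) (.lf 0)))))) (.nd (.nd (.nd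 (.nd (.nd (.lf 0xf) (.lf 0xa5)) (.nd (.lf 0x5f) (.lf 0))) (.nd (.nd (.lf 0x16) (.lf 0x8e)) (.nd (.lf 0x3b) (.lf 0)))) (.nd (.nd (.nd (.lf 0x28) (.lf 0x91)) (.nd (.lf 0x3a) (.lf 0))) (.nd (.nd (.lf 0x23) (.lf 0)) (.nd (.lf 0x7) (.lf 0))))) (.nd (.nd (.nd (.nd (.lf 0x21) (.lf 0xa8)) (.nd (.lf 0x34) (.lf 0))) (.nd (.nd (.lf 0x52) (.lf 0xb2)) (.nd (.lf 0x58) (.lf 0)))) (.nd (.nd (.nd (.lf 0x0) (.lf 0xaa)) (.nd (.lf 0x33) (.lf 0))) (.nd (.nd (.lf 0x6b) (.lf 0)) (.nd (.lf 0x59) (.lf 0))))))))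
def tab3_0 : Tr := (.nd tab3_0_na tab3_0_nb)
def tab3_1_na : Tr := (.nd (.nd (.nd (.nd (.nd (.nd (.nd (.lf 0x2) (.lf 0x99)) (.nd (.lf 0x3) (.lf 0))) (.nd (.nd (.lf 0x44) (.lf 0xb2)) (.nd (.lf 0x93) (.lf 0)))) (.nd (.nd (.nd (.lf 0x27) (.lf 0xae)) (.nd (.lf 0x80) (.lf 0))) (.nd (.nd (.lf 0x5c) (.lf 0x5f)) (.nd (.lf 0x8f) (.lf 0))))) (.nd (.nd (.nd (.nd (.lf 0x16) (.lf 0x98)) (.nd (.lf 0x4) (.lf 0))) (.nd (.nd (.lf 0x50) (.lf 0x87)) (.nd (.lf 0x7b) (.lf 0)))) (.nd (.nd (.nd (.lf 0x37) (.lf 0x18)) (.nd (.lf 0x55) (.lf 0))) (.nd (.nd (.lf 0x67) (.lf 0)) (.nd (.lf 0xa4) (.lf 0)))))) (.nd (.nd (.nd (.nd (.nd (.lf 0xd) (.lf 0x3f)) (.nd (.lf 0x78) (.lf 0))) (.nd (.nd (.lf 0x49) (.lf 0x2a)) (.nd (.lf 0x8) (.lf 0)))) (.nd (.nd (.nd (.lf 0x2f) (.lf 0x6e)) (.nd (.lf 0x8a) (.lf 0))) (.nd (.nd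 (.lf 0x62) (.lf 0)) (.nd (.lf 0x96) (.lf 0))))) (.nd (.nd (.nd (.nd (.lf 0x20) (.lf 0x86)) (.nd (.lf 0x7f) (.lf 0))) (.nd (.nd (.lf 0x36) (.lf 0xab)) (.nd (.lf 0x9) (.lf 0)))) (.nd (.nd (.nd (.lf 0x0) (.lf 0x22)) (.nd (.lf 0x8d) (.lf 0))) (.nd (.nd (.lf 0x6d) (.lf 0)) (.nd (.lf 0x64) (.lf 0))))))) (.nd (.nd (.nd (.nd (.nd (.nd (.lf 0x7) (.lf 0x9f)) (.nd (.lf 0x76) (.lf 0))) (.nd (.nd (.lf 0x46) (.lf 0x3c)) (.nd (.lf 0x6b) (.lf 0)))) (.nd (.nd (.nd (.lf 0x2b) (.lf 0x63)) (.nd (.lf 0x88) (.lf 0))) (.nd (.nd (.lf 0x60) (.lf 0xb3)) (.nd (.lf 0x31) (.lf 0))))) (.nd (.nd (.nd (.nd (.lf 0x1b) (.lf 0x15)) (.nd (.lf 0x51) (.lf 0))) (.nd (.nd (.lf 0x1) (.lf 0x75)) (.nd (.lf 0x9a) (.lf 0)))) (.nd (.nd (.nd (.lf 0x3b) (.lf 0xaa)) (.nd (.lf 0x7e) (.lf 0))) (.nd (.nd (.lf 0x1f) (.lf 0)) (.nd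 (.lf 0x94) (.lf 0)))))) (.nd (.nd (.nd (.nd (.nd (.lf 0x11) (.lf 0x10)) (.nd (.lf 0x2e) (.lf 0))) (.nd (.nd (.lf 0x4d) (.lf 0xb0)) (.nd (.lf 0x12) (.lf 0)))) (.nd (.nd (.nd (.lf 0x34) (.lf 0x48)) (.nd (.lf 0x8b) (.lf 0))) (.nd (.nd (.lf 0x65) (.lf 0)) (.nd (.lf 0x91) (.lf 0))))) (.nd (.nd (.nd (.nd (.lf 0x23) (.lf 0xad)) (.nd (.lf 0x82) (.lf 0))) (.nd (.nd (.lf 0x59) (.lf 0xa2)) (.nd (.lf 0x73) (.lf 0)))) (.nd (.nd (.nd (.lf 0x41) (.lf 0x1a)) (.nd (.lf 0x4c) (.lf 0))) (.nd (.nd (.lf 0x70) (.lf 0)) (.nd (.lf 0xa6) (.lf 0))))))))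
def tab3_1_nb : Tr := (.nd (.nd (.nd (.nd (.nd (.nd (.nd (.lf 0x5) (.lf 0x40)) (.nd (.lf 0x71) (.lf 0))) (.nd (.nd (.lf 0x45) (.lf 0x33)) (.nd (.lf 0x85) (.lf 0)))) (.nd (.nd (.nd (.lf 0x29) (.lf 0x28)) (.nd (.lf 0x5d) (.lf 0))) (.nd (.nd (.lf 0x5e) (.lf 0x68)) (.nd (.lf 0xa0) (.lf 0))))) (.nd (.nd (.nd (.nd (.lf 0x19) (.lf 0xa8)) (.nd (.lf 0x6a) (.lf 0))) (.nd (.nd (.lf 0x52) (.lf 0x47)) (.nd (.lf 0x58) (.lf 0)))) (.nd (.nd (.nd (.lf 0x39) (.lf 0x9d)) (.nd (.lf 0x54) (.lf 0))) (.nd (.nd (.lf 0x69) (.lf 0)) (.nd (.lf 0x1c) (.lf 0)))))) (.nd (.nd (.nd (.nd (.nd (.lf 0xf) (.lf 0x56)) (.nd (.lf 0x79) (.lf 0))) (.nd (.nd (.lf 0x4b) (.lf 0x38)) (.nd (.lf 0x95) (.lf 0)))) (.nd (.nd (.nd (.lf 0x32) (.lf 0xaf)) (.nd (.lf 0x6) (.lf 0))) (.nd (.nd (.lf 0x5a) (.lf 0)) (.nd (.lf 0xb) (.lf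 0))))) (.nd (.nd (.nd (.nd (.lf 0x21) (.lf 0xa5)) (.nd (.lf 0x81) (.lf 0))) (.nd (.nd (.lf 0x57) (.lf 0xa3)) (.nd (.lf 0x9b) (.lf 0)))) (.nd (.nd (.nd (.lf 0x30) (.lf 0xa1)) (.nd (.lf 0x90) (.lf 0))) (.nd (.nd (.lf 0x6f) (.lf 0)) (.nd (.lf 0xe) (.lf 0))))))) (.nd (.nd (.nd (.nd (.nd (.nd (.lf 0xa) (.lf 0x8e)) (.nd (.lf 0x77) (.lf 0))) (.nd (.nd (.lf 0x14) (.lf 0x1e)) (.nd (.lf 0x42) (.lf 0)))) (.nd (.nd (.nd (.lf 0x2d) (.lf 0x8c)) (.nd (.lf 0x89) (.lf 0))) (.nd (.nd (.lf 0x61) (.lf 0x4a)) (.nd (.lf 0x97) (.lf 0))))) (.nd (.nd (.nd (.nd (.lf 0x1d) (.lf 0xa9)) (.nd (.lf 0x3a) (.lf 0))) (.nd (.nd (.lf 0x4e) (.lf 0x2c)) (.nd (.lf 0x9c) (.lf 0)))) (.nd (.nd (.nd (.lf 0x3d) (.lf 0xa7)) (.nd (.lf 0x6c) (.lf 0))) (.nd (.nd (.lf 0x53) (.lf 0)) (.nd (.lf 0x83) (.lf 0)))))) (.nd (.nd (.nd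 (.nd (.nd (.lf 0x13) (.lf 0x24)) (.nd (.lf 0x7a) (.lf 0))) (.nd (.nd (.lf 0x4f) (.lf 0xac)) (.nd (.lf 0x3e) (.lf 0)))) (.nd (.nd (.nd (.lf 0x35) (.lf 0x17)) (.nd (.lf 0xc) (.lf 0))) (.nd (.nd (.lf 0x26) (.lf 0)) (.nd (.lf 0x74) (.lf 0))))) (.nd (.nd (.nd (.nd (.lf 0x25) (.lf 0x66)) (.nd (.lf 0x84) (.lf 0))) (.nd (.nd (.lf 0x5b) (.lf 0xb1)) (.nd (.lf 0x7d) (.lf 0)))) (.nd (.nd (.nd (.lf 0x43) (.lf 0x9e)) (.nd (.lf 0x92) (.lf 0))) (.nd (.nd (.lf 0x72) (.lf 0)) (.nd (.lf 0x7c) (.lf 0))))))))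
def tab3_1 : Tr := (.nd tab3_1_na tab3_1_nb)
def tab3_2_na : Tr := (.nd (.nd (.nd (.nd (.nd (.nd (.nd (.lf 0x3) (.lf 0xa7)) (.nd (.lf 0x74) (.lf 0))) (.nd (.nd (.lf 0x31) (.lf 0x67)) (.nd (.lf 0x94) (.lf 0)))) (.nd (.nd (.nd (.lf 0x28) (.lf 0x1d)) (.nd (.lf 0x86) (.lf 0))) (.nd (.nd (.lf 0x5d) (.lf 0x93)) (.nd (.lf 0xa) (.lf 0))))) (.nd (.nd (.nd (.nd (.lf 0x17) (.lf 0xaa)) (.nd (.lf 0x7c) (.lf 0))) (.nd (.nd (.lf 0x51) (.lf 0xad)) (.nd (.lf 0x99) (.lf 0)))) (.nd (.nd (.nd (.lf 0x38) (.lf 0x45)) (.nd (.lf 0x8d) (.lf 0))) (.nd (.nd (.lf 0x68) (.lf 0)) (.nd (.lf 0x34) (.lf 0)))))) (.nd (.nd (.nd (.nd (.nd (.lf 0xe) (.lf 0x77)) (.nd (.lf 0x1b) (.lf 0))) (.nd (.nd (.lf 0x4a) (.lf 0x5b)) (.nd (.lf 0x96) (.lf 0)))) (.nd (.nd (.nd (.lf 0x30) (.lf 0xa0)) (.nd (.lf 0x76) (.lf 0))) (.nd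 (.nd (.lf 0x63) (.lf 0)) (.nd (.lf 0x4f) (.lf 0))))) (.nd (.nd (.nd (.nd (.lf 0x18) (.lf 0xa6)) (.nd (.lf 0x80) (.lf 0))) (.nd (.nd (.lf 0x56) (.lf 0x50)) (.nd (.lf 0x78) (.lf 0)))) (.nd (.nd (.nd (.lf 0x3f) (.lf 0x4b)) (.nd (.lf 0x23) (.lf 0))) (.nd (.nd (.lf 0x6e) (.lf 0)) (.nd (.lf 0x8b) (.lf 0))))))) (.nd (.nd (.nd (.nd (.nd (.nd (.lf 0x8) (.lf 0x37)) (.nd (.lf 0x16) (.lf 0))) (.nd (.nd (.lf 0x47) (.lf 0x70)) (.nd (.lf 0x44) (.lf 0)))) (.nd (.nd (.nd (.lf 0x2c) (.lf 0x72)) (.nd (.lf 0x43) (.lf 0))) (.nd (.nd (.lf 0x1f) (.lf 0x7a)) (.nd (.lf 0x79) (.lf 0))))) (.nd (.nd (.nd (.nd (.lf 0x1c) (.lf 0xa4)) (.nd (.lf 0x7e) (.lf 0))) (.nd (.nd (.lf 0x54) (.lf 0xaf)) (.nd (.lf 0x9b) (.lf 0)))) (.nd (.nd (.nd (.lf 0x3c) (.lf 0x19)) (.nd (.lf 0x8e) (.lf 0))) (.nd (.nd (.lf 0x6b) (.lf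 0)) (.nd (.lf 0x9c) (.lf 0)))))) (.nd (.nd (.nd (.nd (.nd (.lf 0x12) (.lf 0x2d)) (.nd (.lf 0x4) (.lf 0))) (.nd (.nd (.lf 0x4e) (.lf 0xb3)) (.nd (.lf 0x2f) (.lf 0)))) (.nd (.nd (.nd (.lf 0x0) (.lf 0x81)) (.nd (.lf 0x27) (.lf 0))) (.nd (.nd (.lf 0x66) (.lf 0)) (.nd (.lf 0xa3) (.lf 0))))) (.nd (.nd (.nd (.nd (.lf 0x24) (.lf 0x2b)) (.nd (.lf 0x83) (.lf 0))) (.nd (.nd (.lf 0x5a) (.lf 0x61)) (.nd (.lf 0x32) (.lf 0)))) (.nd (.nd (.nd (.lf 0x42) (.lf 0x3d)) (.nd (.lf 0xc) (.lf 0))) (.nd (.nd (.lf 0x71) (.lf 0)) (.nd (.lf 0x46) (.lf 0))))))))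
def tab3_2_nb : Tr := (.nd (.nd (.nd (.nd (.nd (.nd (.nd (.lf 0x6) (.lf 0xa8)) (.nd (.lf 0x75) (.lf 0))) (.nd (.nd (.lf 0x39) (.lf 0x62)) (.nd (.lf 0x8a) (.lf 0)))) (.nd (.nd (.nd (.lf 0x2a) (.lf 0x59)) (.nd (.lf 0x87) (.lf 0))) (.nd (.nd (.lf 0x5f) (.lf 0x9a)) (.nd (.lf 0xa1) (.lf 0))))) (.nd (.nd (.nd (.nd (.lf 0x1a) (.lf 0x11)) (.nd (.lf 0x7d) (.lf 0))) (.nd (.nd (.lf 0x53) (.lf 0x7f)) (.nd (.lf 0xd) (.lf 0)))) (.nd (.nd (.nd (.lf 0x3a) (.lf 0x5e)) (.nd (.lf 0x7) (.lf 0))) (.nd (.nd (.lf 0x6a) (.lf 0)) (.nd (.lf 0x88) (.lf 0)))))) (.nd (.nd (.nd (.nd (.nd (.lf 0x10) (.lf 0x90)) (.nd (.lf 0x60) (.lf 0))) (.nd (.nd (.lf 0x4c) (.lf 0x69)) (.nd (.lf 0x97) (.lf 0)))) (.nd (.nd (.nd (.lf 0x33) (.lf 0x3b)) (.nd (.lf 0x13) (.lf 0))) (.nd (.nd (.lf 0x64) (.lf 0)) (.nd (.lf 0x52) (.lf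 0))))) (.nd (.nd (.nd (.nd (.lf 0x22) (.lf 0xac)) (.nd (.lf 0x5) (.lf 0))) (.nd (.nd (.lf 0x58) (.lf 0x35)) (.nd (.lf 0x9e) (.lf 0)))) (.nd (.nd (.nd (.lf 0x40) (.lf 0xb1)) (.nd (.lf 0x91) (.lf 0))) (.nd (.nd (.lf 0x20) (.lf 0)) (.nd (.lf 0x25) (.lf 0))))))) (.nd (.nd (.nd (.nd (.nd (.nd (.lf 0xb) (.lf 0xa9)) (.nd (.lf 0x15) (.lf 0))) (.nd (.nd (.lf 0x48) (.lf 0x89)) (.nd (.lf 0x95) (.lf 0)))) (.nd (.nd (.nd (.lf 0x2e) (.lf 0x21)) (.nd (.lf 0x65) (.lf 0))) (.nd (.nd (.lf 0x41) (.lf 0x82)) (.nd (.lf 0xa2) (.lf 0))))) (.nd (.nd (.nd (.nd (.lf 0x1e) (.lf 0xab)) (.nd (.lf 0x6f) (.lf 0))) (.nd (.nd (.lf 0x55) (.lf 0x5c)) (.nd (.lf 0x9d) (.lf 0)))) (.nd (.nd (.nd (.lf 0x3e) (.lf 0xb0)) (.nd (.lf 0x8f) (.lf 0))) (.nd (.nd (.lf 0x6c) (.lf 0)) (.nd (.lf 0xa5) (.lf 0)))))) (.nd (.nd (.nd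 (.nd (.nd (.lf 0x14) (.lf 0x4d)) (.nd (.lf 0x7b) (.lf 0))) (.nd (.nd (.lf 0x1) (.lf 0x49)) (.nd (.lf 0x98) (.lf 0)))) (.nd (.nd (.nd (.lf 0x36) (.lf 0x84)) (.nd (.lf 0x8c) (.lf 0))) (.nd (.nd (.lf 0x57) (.lf 0)) (.nd (.lf 0x29) (.lf 0))))) (.nd (.nd (.nd (.nd (.lf 0x26) (.lf 0xae)) (.nd (.lf 0x85) (.lf 0))) (.nd (.nd (.lf 0x2) (.lf 0x92)) (.nd (.lf 0x9f) (.lf 0)))) (.nd (.nd (.nd (.lf 0x9) (.lf 0xb2)) (.nd (.lf 0x6d) (.lf 0))) (.nd (.nd (.lf 0x73) (.lf 0)) (.nd (.lf 0xf) (.lf 0))))))))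
def tab3_2 : Tr := (.nd tab3_2_na tab3_2_nb)
def sgen : ℕ → ℕ
  | 0 => 0x808000000000000000004002002100009000420
  | _ => 0x190d00396130231309401

def sinv : ℕ → ℕ
  | 0 => 0x80800000010200100220400000408
  | _ => 0x190d00396130231309401

def hgen : ℕ → ℕ
  | 0 => 0x119f255830f215ac40a1812da2763de1f0ceffaba
  | _ => 0x31baae324aeb08b5ffaae1a48f86115958708db31

def kgen : ℕ → ℕ
  | 0 => 0x114b228092643c0b7557d048a9808ee18b94e6013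
  | 1 => 0x28e899ef6a68fd3df1eacbbc2c5d06c1e14a31093
  | _ => 0x1115a581eeb49e9780c25c455646f531d54cd1864

/-- `(k, i)` with the generator `(U tab)⁻¹ * s_k * U i`. -/
def hsrc : ℕ → ℕ × ℕ
  | 0 => (0, 5700)
  | _ => (1, 3648)

def ksrc : ℕ → ℕ × ℕ
  | 0 => (1, 20)
  | 1 => (0, 26)
  | _ => (1, 27)

def genT : Tr := (.nd (.nd (.nd (.nd (.nd (.nd (.lf 0x100401004010040100401) (.lf 0x4200401002802004001)) (.nd (.lf 0x20000200802008020080200400004000040100001) (.lf 0))) (.nd (.nd (.lf 0x20000200002008020080100400004000040000401) (.lf 0xe252c09846d04c32001)) (.nd (.lf 0x4010000000000004010040080200802008) (.lf 0)))) (.nd (.nd (.nd (.lf 0x20000200002008020080000401004010000100001) (.lf 0x100401004010040100401)) (.nd (.lf 0x100000004000000000040802001000080040802) (.lf 0))) (.nd (.nd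 (.lf 0x20080200802000020080300400000000040100400) (.lf 0x4626680940e586426001)) (.nd (.lf 0x800800a0020021001001) (.lf 0))))) (.nd (.nd (.nd (.nd (.lf 0x20080000802000020080000401000010040000401) (.lf 0x2044008004080810001)) (.nd (.lf 0x100401004010040100401) (.lf 0))) (.nd (.nd (.lf 0x20080200802008020000300001004000040000400) (.lf 0x1305811b4190071289801)) (.nd (.lf 0x10000000040000001020008100400204010) (.lf 0)))) (.nd (.nd (.nd (.lf 0x20080200802008000000000000004010040100401) (.lf 0xb0c813261a0251181c01)) (.nd (.lf 0x4001000010040800401002008100) (.lf 0))) (.nd (.nd (.lf 0x20080200002008020080200401004000000000401) (.lf 0)) (.nd (.lf 0x100401004010040100401) (.lf 0)))))) (.nd (.nd (.nd (.nd (.nd (.lf 0x20080000802000020080100001004000040100001) (.lf 0x10100210100200080801))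 (.nd (.lf 0x80200802008020080300000000010040000401) (.lf 0))) (.nd (.nd (.lf 0x20080200802008020080100400004010000000001) (.lf 0x4c074c08c4ac86816001)) (.nd (.lf 0x20000000000200002008110040800400020) (.lf 0)))) (.nd (.nd (.nd (.lf 0x80200800008020080100001004010000000401) (.lf 0x1a09812b20b0260388c01)) (.nd (.lf 0x401000000000000000002000020080200c010040) (.lf 0))) (.nd (.nd (.lf 0x20080200800008020080300001000010000100001) (.lf 0)) (.nd (.lf 0x20800102080010208001) (.lf 0))))) (.nd (.nd (.nd (.nd (.lf 0x20080200802008000000100401000000000100401) (.lf 0x8022000440104002001)) (.nd (.lf 0x10000000400000000000000204002008100080204) (.lf 0))) (.nd (.nd (.lf 0x20080200802008000080200401000010040100000) (.lf 0x4a236401c4c982c34001)) (.nd (.lf 0x100401004010040100401) (.lf 0)))) (.nd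 (.nd (.nd (.lf 0x80200800008020080100400000010040100001) (.lf 0x190d00396130231309401)) (.nd (.lf 0x2200000008100400204010020080) (.lf 0))) (.nd (.nd (.lf 0x20080000802008020080200001004010000100400) (.lf 0)) (.nd (.lf 0x40010800808400420001) (.lf 0)))))))
def genW : Tr := (.nd (.nd (.nd (.nd (.nd (.nd (.lf 0x0) (.lf 0x145e646f)) (.nd (.lf 0x5af5904) (.lf 0))) (.nd (.nd (.lf 0xf3e3f69) (.lf 0x6b26d0c)) (.nd (.lf 0x9f15d8d) (.lf 0)))) (.nd (.nd (.nd (.lf 0x16167aa1) (.lf 0x0)) (.nd (.lf 0x2666956) (.lf 0))) (.nd (.nd (.lf 0x6d52f79) (.lf 0x10c8646f)) (.nd (.lf 0x11010e48) (.lf 0))))) (.nd (.nd (.nd (.nd (.lf 0x965601b) (.lf 0x46b6d0c)) (.nd (.lf 0x0) (.lf 0))) (.nd (.nd (.lf 0x8b63824) (.lf 0x7d75310)) (.nd (.lf 0x4ef4150) (.lf 0)))) (.nd (.nd (.nd (.lf 0x14935f4a) (.lf 0x148e0e48))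 (.nd (.lf 0x5b66f3e) (.lf 0))) (.nd (.nd (.lf 0x5793528) (.lf 0)) (.nd (.lf 0x0) (.lf 0)))))) (.nd (.nd (.nd (.nd (.nd (.lf 0xa144f62) (.lf 0x5435310)) (.nd (.lf 0x39a1a0e) (.lf 0))) (.nd (.nd (.lf 0xacd7308) (.lf 0x1285e21)) (.nd (.lf 0xf122c66) (.lf 0)))) (.nd (.nd (.nd (.lf 0x4846732) (.lf 0x15700b34)) (.nd (.lf 0x6b16d0c) (.lf 0))) (.nd (.nd (.lf 0x15c20047) (.lf 0)) (.nd (.lf 0x123c0b34) (.lf 0))))) (.nd (.nd (.nd (.nd (.lf 0x9007f42) (.lf 0xbb5e21)) (.nd (.lf 0x4ff79a9) (.lf 0))) (.nd (.nd (.lf 0x5e050a) (.lf 0x267f80)) (.nd (.lf 0x0) (.lf 0)))) (.nd (.nd (.nd (.lf 0xfe10094) (.lf 0x20000)) (.nd (.lf 0xd7f80) (.lf 0))) (.nd (.nd (.lf 0xef37390) (.lf 0)) (.nd (.lf 0x167f80) (.lf 0)))))))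
def wScal : ℕ := 0x20080200802008020080200000000000000000000
def wScalW : ℕ := 164

end H94.J3.D
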