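import Cfsg.Agent.H94.J3.Gen

/-! Generated certificate data. -/

namespace H94.J3.D

def parT_naaaaaa : Tr := (.nd (.nd (.nd (.nd (.nd (.nd (.nd (.lf 0x0) (.lf 0xc0a)) (.nd (.lf 0x562) (.lf 0x17af))) (.nd (.nd (.lf 0x297) (.lf 0x105d)) (.nd (.lf 0x877) (.lf 0)))) (.nd (.nd (.nd (.lf 0x145) (.lf 0x2e0d)) (.nd (.lf 0x6df) (.lf 0))) (.nd (.nd (.lf 0x23ee) (.lf 0x332f)) (.nd (.lf 0xa35) (.lf 0))))) (.nd (.nd (.nd (.nd (.lf 0xa1) (.lf 0xcff)) (.nd (.lf 0x61c) (.lf 0))) (.nd (.nd (.lf 0x341) (.lf 0x319c)) (.nd (.lf 0x2950) (.lf 0)))) (.nd (.nd (.nd (.lf 0x21ec) (.lf 0xf1a)) (.nd (.lf 0x27a2) (.lf 0))) (.nd (.nd (.lf 0x24a4) (.lf 0x14b1)) (.nd (.lf 0xb18) (.lf 0)))))) (.nd (.nd (.nd (.nd (.nd (.lf 0x50) (.lf 0xc8b)) (.nd (.lf 0x5bc)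 (.lf 0))) (.nd (.nd (.lf 0x22e9) (.lf 0x10f0)) (.nd (.lf 0x8e6) (.lf 0)))) (.nd (.nd (.nd (.lf 0x2198) (.lf 0xe96)) (.nd (.lf 0x746) (.lf 0))) (.nd (.nd (.lf 0x2449) (.lf 0x13d9)) (.nd (.lf 0xaa6) (.lf 0))))) (.nd (.nd (.nd (.nd (.lf 0xf4) (.lf 0xd86)) (.nd (.lf 0x67f) (.lf 0))) (.nd (.nd (.lf 0x399) (.lf 0x125d)) (.nd (.lf 0x9bc) (.lf 0)))) (.nd (.nd (.nd (.lf 0x2242) (.lf 0x2fc3)) (.nd (.lf 0x80f) (.lf 0))) (.nd (.nd (.lf 0x2500) (.lf 0x35d8)) (.nd (.lf 0xb8f) (.lf 0))))))) (.nd (.nd (.nd (.nd (.nd (.nd (.lf 0x27) (.lf 0xc4c)) (.nd (.lf 0x258e) (.lf 0))) (.nd (.nd (.lf 0x2c0) (.lf 0x30a3)) (.nd (.lf 0x28aa) (.lf 0)))) (.nd (.nd (.nd (.lf 0x16f) (.lf 0xe50)) (.nd (.lf 0x2713) (.lf 0))) (.nd (.nd (.lf 0x241a) (.lf 0x1384))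 (.nd (.lf 0xa6d) (.lf 0))))) (.nd (.nd (.nd (.nd (.lf 0x20ca) (.lf 0xd47)) (.nd (.lf 0x64c) (.lf 0))) (.nd (.nd (.lf 0x36c) (.lf 0x11f7)) (.nd (.lf 0x987) (.lf 0)))) (.nd (.nd (.nd (.lf 0x2218) (.lf 0x2f6a)) (.nd (.lf 0x7d8) (.lf 0))) (.nd (.nd (.lf 0x4d5) (.lf 0x3532)) (.nd (.lf 0xb59) (.lf 0)))))) (.nd (.nd (.nd (.nd (.nd (.lf 0x79) (.lf 0xcc4)) (.nd (.lf 0x5ef) (.lf 0))) (.nd (.nd (.lf 0x316) (.lf 0x113e)) (.nd (.lf 0x91d) (.lf 0)))) (.nd (.nd (.nd (.lf 0x1c2) (.lf 0x2ed8)) (.nd (.lf 0x773) (.lf 0))) (.nd (.nd (.lf 0x476) (.lf 0x3444)) (.nd (.lf 0xae0) (.lf 0))))) (.nd (.nd (.nd (.nd (.lf 0x211c) (.lf 0xdc6)) (.nd (.lf 0x6ae) (.lf 0))) (.nd (.nd (.lf 0x3c4) (.lf 0x12bd)) (.nd (.lf 0x9f6) (.lf 0)))) (.nd (.nd (.nd (.lf 0x26c)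 (.lf 0x3013)) (.nd (.lf 0x847) (.lf 0))) (.nd (.nd (.lf 0x2534) (.lf 0x3679)) (.nd (.lf 0xbcd) (.lf 0))))))))
def parT_naaaaab : Tr := (.nd (.nd (.nd (.nd (.nd (.nd (.nd (.lf 0x13) (.lf 0xc28)) (.nd (.lf 0x2578) (.lf 0))) (.nd (.nd (.lf 0x22ab) (.lf 0x1082)) (.nd (.lf 0x288e) (.lf 0)))) (.nd (.nd (.nd (.lf 0x15a) (.lf 0x2e30)) (.nd (.lf 0x6f9) (.lf 0))) (.nd (.nd (.lf 0x2403) (.lf 0x135a)) (.nd (.lf 0xa4e) (.lf 0))))) (.nd (.nd (.nd (.nd (.lf 0x20b6) (.lf 0xd22)) (.nd (.lf 0x2635) (.lf 0))) (.nd (.nd (.lf 0x2356) (.lf 0x31cb)) (.nd (.lf 0x296a) (.lf 0)))) (.nd (.nd (.nd (.lf 0x2203) (.lf 0x2f43)) (.nd (.lf 0x7bd) (.lf 0))) (.nd (.nd (.lf 0x24bb) (.lf 0x34ed)) (.nd (.lf 0x2b35) (.lf 0)))))) (.nd (.nd (.nd (.nd (.nd (.lf 0x64)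 (.lf 0xca4)) (.nd (.lf 0x5d7) (.lf 0))) (.nd (.nd (.lf 0x2ff) (.lf 0x1117)) (.nd (.lf 0x901) (.lf 0)))) (.nd (.nd (.nd (.lf 0x1ac) (.lf 0xeb8)) (.nd (.lf 0x75d) (.lf 0))) (.nd (.nd (.lf 0x460) (.lf 0x3415)) (.nd (.lf 0xac3) (.lf 0))))) (.nd (.nd (.nd (.nd (.lf 0x108) (.lf 0xda3)) (.nd (.lf 0x697) (.lf 0))) (.nd (.nd (.lf 0x3ad) (.lf 0x1294)) (.nd (.lf 0x9d8) (.lf 0)))) (.nd (.nd (.nd (.lf 0x258) (.lf 0x2fec)) (.nd (.lf 0x282c) (.lf 0))) (.nd (.nd (.lf 0x2518) (.lf 0x161b)) (.nd (.lf 0x2baa) (.lf 0))))))) (.nd (.nd (.nd (.nd (.nd (.nd (.lf 0x3c) (.lf 0xc67)) (.nd (.lf 0x5a5) (.lf 0))) (.nd (.nd (.lf 0x2d5) (.lf 0x10ce)) (.nd (.lf 0x8c7) (.lf 0)))) (.nd (.nd (.nd (.lf 0x183) (.lf 0xe70)) (.nd (.lf 0x272c) (.lf 0))) (.nd (.nd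 (.lf 0x434) (.lf 0x13a7)) (.nd (.lf 0x2a88) (.lf 0))))) (.nd (.nd (.nd (.nd (.lf 0x20df) (.lf 0x2d6b)) (.nd (.lf 0x666) (.lf 0))) (.nd (.nd (.lf 0x2384) (.lf 0x1221)) (.nd (.lf 0x9a2) (.lf 0)))) (.nd (.nd (.nd (.lf 0x222d) (.lf 0xf99)) (.nd (.lf 0x27f0) (.lf 0))) (.nd (.nd (.lf 0x24eb) (.lf 0x3586)) (.nd (.lf 0xb74) (.lf 0)))))) (.nd (.nd (.nd (.nd (.nd (.lf 0x208c) (.lf 0x2cdf)) (.nd (.lf 0x2605) (.lf 0))) (.nd (.nd (.lf 0x232a) (.lf 0x316b)) (.nd (.lf 0x2935) (.lf 0)))) (.nd (.nd (.nd (.lf 0x21d6) (.lf 0xefa)) (.nd (.lf 0x78b) (.lf 0))) (.nd (.nd (.lf 0x48d) (.lf 0x347d)) (.nd (.lf 0x2af8) (.lf 0))))) (.nd (.nd (.nd (.nd (.lf 0x131) (.lf 0xde8)) (.nd (.lf 0x6c7) (.lf 0))) (.nd (.nd (.lf 0x23d9) (.lf 0x12f8)) (.nd (.lf 0x2a18)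 (.lf 0)))) (.nd (.nd (.nd (.lf 0x282) (.lf 0x1039)) (.nd (.lf 0x285e) (.lf 0))) (.nd (.nd (.lf 0x549) (.lf 0x16f5)) (.nd (.lf 0xbea) (.lf 0))))))))
def parT_naaaaba : Tr := (.nd (.nd (.nd (.nd (.nd (.nd (.nd (.lf 0x9) (.lf 0x2c19)) (.nd (.lf 0x256d) (.lf 0))) (.nd (.nd (.lf 0x2a2) (.lf 0x106e)) (.nd (.lf 0x883) (.lf 0)))) (.nd (.nd (.nd (.lf 0x150) (.lf 0x2e1e)) (.nd (.lf 0x6eb) (.lf 0))) (.nd (.nd (.lf 0x3f9) (.lf 0x3345)) (.nd (.lf 0xa3f) (.lf 0))))) (.nd (.nd (.nd (.nd (.lf 0xac) (.lf 0xd12)) (.nd (.lf 0x628) (.lf 0))) (.nd (.nd (.lf 0x34b) (.lf 0x11b6)) (.nd (.lf 0x95e) (.lf 0)))) (.nd (.nd (.nd (.lf 0x21f7) (.lf 0x2f2d)) (.nd (.lf 0x27af) (.lf 0))) (.nd (.nd (.lf 0x4b1) (.lf 0x14cd)) (.nd (.lf 0xb26) (.lf 0)))))) (.nd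 (.nd (.nd (.nd (.nd (.lf 0x5a) (.lf 0xc98)) (.nd (.lf 0x25c9) (.lf 0))) (.nd (.nd (.lf 0x22f4) (.lf 0x1103)) (.nd (.lf 0x28f1) (.lf 0)))) (.nd (.nd (.nd (.lf 0x21a2) (.lf 0xea9)) (.nd (.lf 0x751) (.lf 0))) (.nd (.nd (.lf 0x2453) (.lf 0x33f5)) (.nd (.lf 0x2ab5) (.lf 0))))) (.nd (.nd (.nd (.nd (.lf 0xfe) (.lf 0xd96)) (.nd (.lf 0x268a) (.lf 0))) (.nd (.nd (.lf 0x3a3) (.lf 0x1277)) (.nd (.lf 0x9cc) (.lf 0)))) (.nd (.nd (.nd (.lf 0x224c) (.lf 0xfdb)) (.nd (.lf 0x81e) (.lf 0))) (.nd (.nd (.lf 0x250d) (.lf 0x35ff)) (.nd (.lf 0x2b9b) (.lf 0))))))) (.nd (.nd (.nd (.nd (.nd (.nd (.lf 0x2030) (.lf 0x2c5b)) (.nd (.lf 0x599) (.lf 0))) (.nd (.nd (.lf 0x2cb) (.lf 0x30b4)) (.nd (.lf 0x8b8) (.lf 0)))) (.nd (.nd (.nd (.lf 0x179) (.lf 0x2e61))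 (.nd (.lf 0x720) (.lf 0))) (.nd (.nd (.lf 0x429) (.lf 0x3395)) (.nd (.lf 0x2a7a) (.lf 0))))) (.nd (.nd (.nd (.nd (.lf 0x20d5) (.lf 0x2d56)) (.nd (.lf 0x65a) (.lf 0))) (.nd (.nd (.lf 0x379) (.lf 0x320c)) (.nd (.lf 0x995) (.lf 0)))) (.nd (.nd (.nd (.lf 0x2223) (.lf 0xf83)) (.nd (.lf 0x7e5) (.lf 0))) (.nd (.nd (.lf 0x24df) (.lf 0x1561)) (.nd (.lf 0x2b67) (.lf 0)))))) (.nd (.nd (.nd (.nd (.nd (.lf 0x83) (.lf 0xcd0)) (.nd (.lf 0x5fb) (.lf 0))) (.nd (.nd (.lf 0x321) (.lf 0x1154)) (.nd (.lf 0x92a) (.lf 0)))) (.nd (.nd (.nd (.lf 0x21cc) (.lf 0x2ee5)) (.nd (.lf 0x277f) (.lf 0))) (.nd (.nd (.lf 0x482) (.lf 0x1465)) (.nd (.lf 0xaeb) (.lf 0))))) (.nd (.nd (.nd (.nd (.lf 0x2126) (.lf 0x2dd7)) (.nd (.lf 0x6ba) (.lf 0))) (.nd (.nd (.lf 0x3cf)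 (.lf 0x12d8)) (.nd (.lf 0xa04) (.lf 0)))) (.nd (.nd (.nd (.lf 0x277) (.lf 0x3025)) (.nd (.lf 0x2850) (.lf 0))) (.nd (.nd (.lf 0x53f) (.lf 0x16af)) (.nd (.lf 0x2bd9) (.lf 0))))))))
def parT_naaaabb : Tr := (.nd (.nd (.nd (.nd (.nd (.nd (.nd (.lf 0x1d) (.lf 0xc3e)) (.nd (.lf 0x583) (.lf 0))) (.nd (.nd (.lf 0x2b6) (.lf 0x1093)) (.nd (.lf 0x289c) (.lf 0)))) (.nd (.nd (.nd (.lf 0x164) (.lf 0xe41)) (.nd (.lf 0x706) (.lf 0))) (.nd (.nd (.lf 0x410) (.lf 0x1369)) (.nd (.lf 0xa5e) (.lf 0))))) (.nd (.nd (.nd (.nd (.lf 0x20c0) (.lf 0xd39)) (.nd (.lf 0x641) (.lf 0))) (.nd (.nd (.lf 0x361) (.lf 0x31e3)) (.nd (.lf 0x2978) (.lf 0)))) (.nd (.nd (.nd (.lf 0x220e) (.lf 0xf57)) (.nd (.lf 0x7c9) (.lf 0))) (.nd (.nd (.lf 0x24c9) (.lf 0x151a)) (.nd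 (.lf 0xb46) (.lf 0)))))) (.nd (.nd (.nd (.nd (.nd (.lf 0x6e) (.lf 0xcb6)) (.nd (.lf 0x25e2) (.lf 0))) (.nd (.nd (.lf 0x230a) (.lf 0x112b)) (.nd (.lf 0x90d) (.lf 0)))) (.nd (.nd (.nd (.lf 0x1b6) (.lf 0x2ec6)) (.nd (.lf 0x769) (.lf 0))) (.nd (.nd (.lf 0x246a) (.lf 0x342b)) (.nd (.lf 0xad2) (.lf 0))))) (.nd (.nd (.nd (.nd (.lf 0x2112) (.lf 0x2db6)) (.nd (.lf 0x26a2) (.lf 0))) (.nd (.nd (.lf 0x3b8) (.lf 0x32a2)) (.nd (.lf 0x29e7) (.lf 0)))) (.nd (.nd (.nd (.lf 0x262) (.lf 0x1003)) (.nd (.lf 0x83a) (.lf 0))) (.nd (.nd (.lf 0x2526) (.lf 0x364c)) (.nd (.lf 0xbbb) (.lf 0))))))) (.nd (.nd (.nd (.nd (.nd (.nd (.lf 0x46) (.lf 0xc79)) (.nd (.lf 0x25b1) (.lf 0))) (.nd (.nd (.lf 0x2df) (.lf 0x30dd)) (.nd (.lf 0x8d5) (.lf 0)))) (.nd (.nd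 (.nd (.lf 0x218d) (.lf 0xe83)) (.nd (.lf 0x73b) (.lf 0))) (.nd (.nd (.lf 0x43e) (.lf 0x13be)) (.nd (.lf 0xa98) (.lf 0))))) (.nd (.nd (.nd (.nd (.lf 0x20e9) (.lf 0xd79)) (.nd (.lf 0x673) (.lf 0))) (.nd (.nd (.lf 0x38e) (.lf 0x323c)) (.nd (.lf 0x9ae) (.lf 0)))) (.nd (.nd (.nd (.lf 0x238) (.lf 0x2fb1)) (.nd (.lf 0x801) (.lf 0))) (.nd (.nd (.lf 0x24f5) (.lf 0x15b1)) (.nd (.lf 0x2b81) (.lf 0)))))) (.nd (.nd (.nd (.nd (.nd (.lf 0x97) (.lf 0xcf1)) (.nd (.lf 0x2610) (.lf 0))) (.nd (.nd (.lf 0x336) (.lf 0x3182)) (.nd (.lf 0x945) (.lf 0)))) (.nd (.nd (.nd (.lf 0x21e2) (.lf 0x2f09)) (.nd (.lf 0x798) (.lf 0))) (.nd (.nd (.lf 0x2498) (.lf 0x149a)) (.nd (.lf 0x2b08) (.lf 0))))) (.nd (.nd (.nd (.nd (.lf 0x13b) (.lf 0xdfb)) (.nd (.lf 0x26d2)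 (.lf 0))) (.nd (.nd (.lf 0x23e4) (.lf 0x330d)) (.nd (.lf 0x2a25) (.lf 0)))) (.nd (.nd (.nd (.lf 0x28d) (.lf 0x104b)) (.nd (.lf 0x86a) (.lf 0))) (.nd (.nd (.lf 0x555) (.lf 0x3745)) (.nd (.lf 0x2bfa) (.lf 0))))))))
def parT_naaabaa : Tr := (.nd (.nd (.nd (.nd (.nd (.nd (.nd (.lf 0x4) (.lf 0x2c12)) (.nd (.lf 0x2567) (.lf 0x17e4))) (.nd (.nd (.lf 0x29d) (.lf 0x3066)) (.nd (.lf 0x287e) (.lf 0)))) (.nd (.nd (.nd (.lf 0x14b) (.lf 0x2e16)) (.nd (.lf 0x6e5) (.lf 0))) (.nd (.nd (.lf 0x3f4) (.lf 0x3339)) (.nd (.lf 0xa3a) (.lf 0))))) (.nd (.nd (.nd (.nd (.lf 0xa6) (.lf 0xd08)) (.nd (.lf 0x2621) (.lf 0))) (.nd (.nd (.lf 0x2345) (.lf 0x11a9)) (.nd (.lf 0x2957) (.lf 0)))) (.nd (.nd (.nd (.lf 0x21f2) (.lf 0x2f24)) (.nd (.lf 0x7aa) (.lf 0)))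 (.nd (.nd (.lf 0x24aa) (.lf 0x14bb)) (.nd (.lf 0x2b1f) (.lf 0)))))) (.nd (.nd (.nd (.nd (.nd (.lf 0x55) (.lf 0xc91)) (.nd (.lf 0x25c3) (.lf 0))) (.nd (.nd (.lf 0x22ee) (.lf 0x30fe)) (.nd (.lf 0x8eb) (.lf 0)))) (.nd (.nd (.nd (.lf 0x219d) (.lf 0x2e9e)) (.nd (.lf 0x74b) (.lf 0))) (.nd (.nd (.lf 0x44e) (.lf 0x13e6)) (.nd (.lf 0xaad) (.lf 0))))) (.nd (.nd (.nd (.nd (.lf 0x20f8) (.lf 0xd8e)) (.nd (.lf 0x685) (.lf 0))) (.nd (.nd (.lf 0x39e) (.lf 0x1269)) (.nd (.lf 0x29c3) (.lf 0)))) (.nd (.nd (.nd (.lf 0x247) (.lf 0xfd3)) (.nd (.lf 0x817) (.lf 0))) (.nd (.nd (.lf 0x508) (.lf 0x35ea)) (.nd (.lf 0xb94) (.lf 0))))))) (.nd (.nd (.nd (.nd (.nd (.nd (.lf 0x202b) (.lf 0xc54)) (.nd (.lf 0x2593) (.lf 0))) (.nd (.nd (.lf 0x22c5) (.lf 0x10ad))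 (.nd (.lf 0x8b2) (.lf 0)))) (.nd (.nd (.nd (.lf 0x174) (.lf 0x2e57)) (.nd (.lf 0x719) (.lf 0))) (.nd (.nd (.lf 0x423) (.lf 0x338c)) (.nd (.lf 0x2a73) (.lf 0))))) (.nd (.nd (.nd (.nd (.lf 0xd0) (.lf 0xd4e)) (.nd (.lf 0x654) (.lf 0))) (.nd (.nd (.lf 0x374) (.lf 0x31ff)) (.nd (.lf 0x98e) (.lf 0)))) (.nd (.nd (.nd (.lf 0x21e) (.lf 0xf78)) (.nd (.lf 0x27de) (.lf 0))) (.nd (.nd (.lf 0x4da) (.lf 0x3549)) (.nd (.lf 0xb61) (.lf 0)))))) (.nd (.nd (.nd (.nd (.nd (.lf 0x7e) (.lf 0xcca)) (.nd (.lf 0x5f5) (.lf 0))) (.nd (.nd (.lf 0x31b) (.lf 0x114a)) (.nd (.lf 0x924) (.lf 0)))) (.nd (.nd (.nd (.lf 0x1c7) (.lf 0xedf)) (.nd (.lf 0x779) (.lf 0))) (.nd (.nd (.lf 0x47b) (.lf 0x1455)) (.nd (.lf 0x2ae5) (.lf 0))))) (.nd (.nd (.nd (.nd (.lf 0x2121)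 (.lf 0xdcf)) (.nd (.lf 0x6b4) (.lf 0))) (.nd (.nd (.lf 0x23c9) (.lf 0x32cb)) (.nd (.lf 0x9fc) (.lf 0)))) (.nd (.nd (.nd (.lf 0x2271) (.lf 0x301c)) (.nd (.lf 0x284b) (.lf 0))) (.nd (.nd (.lf 0x53a) (.lf 0x1695)) (.nd (.lf 0x2bd2) (.lf 0))))))))
def parT_naaabab : Tr := (.nd (.nd (.nd (.nd (.nd (.nd (.nd (.lf 0x18) (.lf 0xc35)) (.nd (.lf 0x57e) (.lf 0))) (.nd (.nd (.lf 0x2b1) (.lf 0x1089)) (.nd (.lf 0x2894) (.lf 0)))) (.nd (.nd (.nd (.lf 0x15f) (.lf 0xe37)) (.nd (.lf 0x701) (.lf 0))) (.nd (.nd (.lf 0x409) (.lf 0x1361)) (.nd (.lf 0x2a58) (.lf 0))))) (.nd (.nd (.nd (.nd (.lf 0x20bb) (.lf 0xd2e)) (.nd (.lf 0x63b) (.lf 0))) (.nd (.nd (.lf 0x35b) (.lf 0x11d9)) (.nd (.lf 0x971) (.lf 0)))) (.nd (.nd (.nd (.lf 0x2209) (.lf 0x2f4d))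 (.nd (.lf 0x7c3) (.lf 0))) (.nd (.nd (.lf 0x4c3) (.lf 0x1507)) (.nd (.lf 0x2b3e) (.lf 0)))))) (.nd (.nd (.nd (.nd (.nd (.lf 0x2069) (.lf 0xcac)) (.nd (.lf 0x5dd) (.lf 0))) (.nd (.nd (.lf 0x2305) (.lf 0x3120)) (.nd (.lf 0x909) (.lf 0)))) (.nd (.nd (.nd (.lf 0x1b1) (.lf 0x2ebe)) (.nd (.lf 0x2762) (.lf 0))) (.nd (.nd (.lf 0x465) (.lf 0x1424)) (.nd (.lf 0xac8) (.lf 0))))) (.nd (.nd (.nd (.nd (.lf 0x210d) (.lf 0xda9)) (.nd (.lf 0x269b) (.lf 0))) (.nd (.nd (.lf 0x3b3) (.lf 0x129c)) (.nd (.lf 0x9e0) (.lf 0)))) (.nd (.nd (.nd (.lf 0x25d) (.lf 0x2ff7)) (.nd (.lf 0x2832) (.lf 0))) (.nd (.nd (.lf 0x520) (.lf 0x1631)) (.nd (.lf 0x2bb2) (.lf 0))))))) (.nd (.nd (.nd (.nd (.nd (.nd (.lf 0x2040) (.lf 0x2c70)) (.nd (.lf 0x5ac) (.lf 0))) (.nd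 (.nd (.lf 0x2da) (.lf 0x10d6)) (.nd (.lf 0x28cd) (.lf 0)))) (.nd (.nd (.nd (.lf 0x188) (.lf 0xe79)) (.nd (.lf 0x733) (.lf 0))) (.nd (.nd (.lf 0x2438) (.lf 0x33b0)) (.nd (.lf 0x2a90) (.lf 0))))) (.nd (.nd (.nd (.nd (.lf 0x20e4) (.lf 0xd73)) (.nd (.lf 0x266d) (.lf 0))) (.nd (.nd (.lf 0x2389) (.lf 0x122f)) (.nd (.lf 0x29a9) (.lf 0)))) (.nd (.nd (.nd (.lf 0x2232) (.lf 0xfa6)) (.nd (.lf 0x7f9) (.lf 0))) (.nd (.nd (.lf 0x4f0) (.lf 0x1593)) (.nd (.lf 0xb7b) (.lf 0)))))) (.nd (.nd (.nd (.nd (.nd (.lf 0x2091) (.lf 0xce7)) (.nd (.lf 0x60a) (.lf 0))) (.nd (.nd (.lf 0x330) (.lf 0x1176)) (.nd (.lf 0x93c) (.lf 0)))) (.nd (.nd (.nd (.lf 0x1dc) (.lf 0xf02)) (.nd (.lf 0x791) (.lf 0))) (.nd (.nd (.lf 0x2493) (.lf 0x1488)) (.nd (.lf 0x2b01)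 (.lf 0))))) (.nd (.nd (.nd (.nd (.lf 0x136) (.lf 0x2df3)) (.nd (.lf 0x26cc) (.lf 0))) (.nd (.nd (.lf 0x23de) (.lf 0x3300)) (.nd (.lf 0x2a20) (.lf 0)))) (.nd (.nd (.nd (.lf 0x2287) (.lf 0x3042)) (.nd (.lf 0x864) (.lf 0))) (.nd (.nd (.lf 0x54e) (.lf 0x171b)) (.nd (.lf 0xbf1) (.lf 0))))))))
def parT_naaabba : Tr := (.nd (.nd (.nd (.nd (.nd (.nd (.nd (.lf 0xe) (.lf 0x2c21)) (.nd (.lf 0x572) (.lf 0))) (.nd (.nd (.lf 0x2a7) (.lf 0x107c)) (.nd (.lf 0x2889) (.lf 0)))) (.nd (.nd (.nd (.lf 0x155) (.lf 0x2e29)) (.nd (.lf 0x6f2) (.lf 0))) (.nd (.nd (.lf 0x23fe) (.lf 0x3352)) (.nd (.lf 0xa48) (.lf 0))))) (.nd (.nd (.nd (.nd (.lf 0x20b1) (.lf 0x2d1a)) (.nd (.lf 0x262d) (.lf 0))) (.nd (.nd (.lf 0x351) (.lf 0x31c2)) (.nd (.lf 0x2964) (.lf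 0)))) (.nd (.nd (.nd (.lf 0x21fc) (.lf 0x2f36)) (.nd (.lf 0x7b6) (.lf 0))) (.nd (.nd (.lf 0x4b6) (.lf 0x14dd)) (.nd (.lf 0xb2d) (.lf 0)))))) (.nd (.nd (.nd (.nd (.nd (.lf 0x5f) (.lf 0xc9d)) (.nd (.lf 0x25cf) (.lf 0))) (.nd (.nd (.lf 0x2fa) (.lf 0x310d)) (.nd (.lf 0x8fa) (.lf 0)))) (.nd (.nd (.nd (.lf 0x1a7) (.lf 0xeae)) (.nd (.lf 0x757) (.lf 0))) (.nd (.nd (.lf 0x45b) (.lf 0x1402)) (.nd (.lf 0x2abc) (.lf 0))))) (.nd (.nd (.nd (.nd (.lf 0x103) (.lf 0x2d9b)) (.nd (.lf 0x691) (.lf 0))) (.nd (.nd (.lf 0x3a8) (.lf 0x1287)) (.nd (.lf 0x9d1) (.lf 0)))) (.nd (.nd (.nd (.lf 0x252) (.lf 0xfe5)) (.nd (.lf 0x2824) (.lf 0))) (.nd (.nd (.lf 0x513) (.lf 0x360d)) (.nd (.lf 0xba4) (.lf 0))))))) (.nd (.nd (.nd (.nd (.nd (.nd (.lf 0x36) (.lf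 0x2c60)) (.nd (.lf 0x5a0) (.lf 0))) (.nd (.nd (.lf 0x2d0) (.lf 0x10c4)) (.nd (.lf 0x28bf) (.lf 0)))) (.nd (.nd (.nd (.lf 0x17e) (.lf 0xe6b)) (.nd (.lf 0x727) (.lf 0))) (.nd (.nd (.lf 0x242e) (.lf 0x339e)) (.nd (.lf 0x2a80) (.lf 0))))) (.nd (.nd (.nd (.nd (.lf 0x20da) (.lf 0xd5f)) (.nd (.lf 0x65f) (.lf 0))) (.nd (.nd (.lf 0x237e) (.lf 0x3215)) (.nd (.lf 0x299c) (.lf 0)))) (.nd (.nd (.nd (.lf 0x2228) (.lf 0xf8c)) (.nd (.lf 0x27e9) (.lf 0))) (.nd (.nd (.lf 0x4e6) (.lf 0x357a)) (.nd (.lf 0x2b6c) (.lf 0)))))) (.nd (.nd (.nd (.nd (.nd (.lf 0x88) (.lf 0xcd8)) (.nd (.lf 0x600) (.lf 0))) (.nd (.nd (.lf 0x325) (.lf 0x1160)) (.nd (.lf 0x92f) (.lf 0)))) (.nd (.nd (.nd (.lf 0x21d1) (.lf 0x2ef1)) (.nd (.lf 0x785) (.lf 0))) (.nd (.nd (.lf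 0x2487) (.lf 0x346e)) (.nd (.lf 0xaf1) (.lf 0))))) (.nd (.nd (.nd (.nd (.lf 0x12c) (.lf 0xddf)) (.nd (.lf 0x6bf) (.lf 0))) (.nd (.nd (.lf 0x23d5) (.lf 0x12e6)) (.nd (.lf 0x2a0d) (.lf 0)))) (.nd (.nd (.nd (.lf 0x27d) (.lf 0x102f)) (.nd (.lf 0x857) (.lf 0))) (.nd (.nd (.lf 0x2544) (.lf 0x16d3)) (.nd (.lf 0x2be1) (.lf 0))))))))
def parT_naaabbb : Tr := (.nd (.nd (.nd (.nd (.nd (.nd (.nd (.lf 0x22) (.lf 0xc46)) (.nd (.lf 0x2588) (.lf 0))) (.nd (.nd (.lf 0x2bb) (.lf 0x309a)) (.nd (.lf 0x8a4) (.lf 0)))) (.nd (.nd (.nd (.lf 0x2169) (.lf 0xe49)) (.nd (.lf 0x70d) (.lf 0))) (.nd (.nd (.lf 0x415) (.lf 0x1373)) (.nd (.lf 0xa65) (.lf 0))))) (.nd (.nd (.nd (.nd (.lf 0x20c5) (.lf 0x2d41)) (.nd (.lf 0x2646) (.lf 0))) (.nd (.nd (.lf 0x2366)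 (.lf 0x31f0)) (.nd (.lf 0x2980) (.lf 0)))) (.nd (.nd (.nd (.lf 0x2213) (.lf 0xf5f)) (.nd (.lf 0x7d1) (.lf 0))) (.nd (.nd (.lf 0x4cf) (.lf 0x1527)) (.nd (.lf 0xb4e) (.lf 0)))))) (.nd (.nd (.nd (.nd (.nd (.lf 0x2073) (.lf 0x2cbc)) (.nd (.lf 0x25e9) (.lf 0))) (.nd (.nd (.lf 0x310) (.lf 0x3130)) (.nd (.lf 0x2914) (.lf 0)))) (.nd (.nd (.nd (.lf 0x21bc) (.lf 0xecf)) (.nd (.lf 0x76e) (.lf 0))) (.nd (.nd (.lf 0x2470) (.lf 0x143a)) (.nd (.lf 0x2ada) (.lf 0))))) (.nd (.nd (.nd (.nd (.lf 0x2117) (.lf 0xdbf)) (.nd (.lf 0x6a8) (.lf 0))) (.nd (.nd (.lf 0x23bd) (.lf 0x12b3)) (.nd (.lf 0x9ee) (.lf 0)))) (.nd (.nd (.nd (.lf 0x267) (.lf 0x100a)) (.nd (.lf 0x283f) (.lf 0))) (.nd (.nd (.lf 0x52d) (.lf 0x165e)) (.nd (.lf 0xbc6) (.lf 0))))))) (.nd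 (.nd (.nd (.nd (.nd (.nd (.lf 0x4b) (.lf 0xc81)) (.nd (.lf 0x25b6) (.lf 0))) (.nd (.nd (.lf 0x2e5) (.lf 0x10e9)) (.nd (.lf 0x8dc) (.lf 0)))) (.nd (.nd (.nd (.lf 0x2193) (.lf 0xe89)) (.nd (.lf 0x740) (.lf 0))) (.nd (.nd (.lf 0x444) (.lf 0x13d0)) (.nd (.lf 0x2a9d) (.lf 0))))) (.nd (.nd (.nd (.nd (.lf 0xef) (.lf 0xd7f)) (.nd (.lf 0x679) (.lf 0))) (.nd (.nd (.lf 0x393) (.lf 0x324a)) (.nd (.lf 0x9b6) (.lf 0)))) (.nd (.nd (.nd (.lf 0x23e) (.lf 0x2fbc)) (.nd (.lf 0x806) (.lf 0))) (.nd (.nd (.lf 0x24fb) (.lf 0x35c3)) (.nd (.lf 0x2b87) (.lf 0)))))) (.nd (.nd (.nd (.nd (.nd (.lf 0x9c) (.lf 0xcf9)) (.nd (.lf 0x617) (.lf 0))) (.nd (.nd (.lf 0x33b) (.lf 0x318c)) (.nd (.lf 0x94a) (.lf 0)))) (.nd (.nd (.nd (.lf 0x21e7) (.lf 0xf11)) (.nd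 (.lf 0x79d) (.lf 0))) (.nd (.nd (.lf 0x49e) (.lf 0x34a7)) (.nd (.lf 0x2b11) (.lf 0))))) (.nd (.nd (.nd (.nd (.lf 0x140) (.lf 0xe02)) (.nd (.lf 0x6d8) (.lf 0))) (.nd (.nd (.lf 0x23e9) (.lf 0x131d)) (.nd (.lf 0x2a2d) (.lf 0)))) (.nd (.nd (.nd (.lf 0x292) (.lf 0x1055)) (.nd (.lf 0x870) (.lf 0))) (.nd (.nd (.lf 0x255d) (.lf 0x1788)) (.nd (.lf 0xc00) (.lf 0))))))))
def parT_naabaaa : Tr := (.nd (.nd (.nd (.nd (.nd (.nd (.nd (.lf 0x2001) (.lf 0xc0d)) (.nd (.lf 0x2564) (.lf 0x37c9))) (.nd (.nd (.lf 0x29a) (.lf 0x1063)) (.nd (.lf 0x87a) (.lf 0)))) (.nd (.nd (.nd (.lf 0x2148) (.lf 0x2e13)) (.nd (.lf 0x26e2) (.lf 0))) (.nd (.nd (.lf 0x23f1) (.lf 0x1335)) (.nd (.lf 0x2a37) (.lf 0))))) (.nd (.nd (.nd (.nd (.lf 0x20a3) (.lf 0xd03)) (.nd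 (.lf 0x61f) (.lf 0))) (.nd (.nd (.lf 0x343) (.lf 0x11a4)) (.nd (.lf 0x2953) (.lf 0)))) (.nd (.nd (.nd (.lf 0x21ef) (.lf 0xf20)) (.nd (.lf 0x7a6) (.lf 0))) (.nd (.nd (.lf 0x4a7) (.lf 0x34b5)) (.nd (.lf 0xb1c) (.lf 0)))))) (.nd (.nd (.nd (.nd (.nd (.lf 0x2052) (.lf 0xc8e)) (.nd (.lf 0x25c0) (.lf 0))) (.nd (.nd (.lf 0x2ec) (.lf 0x10f5)) (.nd (.lf 0x28e8) (.lf 0)))) (.nd (.nd (.nd (.lf 0x19b) (.lf 0xe9a)) (.nd (.lf 0x2748) (.lf 0))) (.nd (.nd (.lf 0x244b) (.lf 0x33e1)) (.nd (.lf 0x2aaa) (.lf 0))))) (.nd (.nd (.nd (.nd (.lf 0xf6) (.lf 0x2d89)) (.nd (.lf 0x2681) (.lf 0))) (.nd (.nd (.lf 0x39c) (.lf 0x3266)) (.nd (.lf 0x29c0) (.lf 0)))) (.nd (.nd (.nd (.lf 0x245) (.lf 0xfca)) (.nd (.lf 0x814) (.lf 0))) (.nd (.nd (.lf 0x504) (.lf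 0x15e4)) (.nd (.lf 0x2b91) (.lf 0))))))) (.nd (.nd (.nd (.nd (.nd (.nd (.lf 0x29) (.lf 0x2c4e)) (.nd (.lf 0x591) (.lf 0))) (.nd (.nd (.lf 0x2c3) (.lf 0x10a9)) (.nd (.lf 0x28af) (.lf 0)))) (.nd (.nd (.nd (.lf 0x2171) (.lf 0x2e54)) (.nd (.lf 0x717) (.lf 0))) (.nd (.nd (.lf 0x420) (.lf 0x138a)) (.nd (.lf 0xa71) (.lf 0))))) (.nd (.nd (.nd (.nd (.lf 0xcd) (.lf 0xd4a)) (.nd (.lf 0x650) (.lf 0))) (.nd (.nd (.lf 0x36f) (.lf 0x31fb)) (.nd (.lf 0x98a) (.lf 0)))) (.nd (.nd (.nd (.lf 0x221b) (.lf 0xf70)) (.nd (.lf 0x27db) (.lf 0))) (.nd (.nd (.lf 0x4d8) (.lf 0x353a)) (.nd (.lf 0x2b5e) (.lf 0)))))) (.nd (.nd (.nd (.nd (.nd (.lf 0x207b) (.lf 0x2cc7)) (.nd (.lf 0x5f3) (.lf 0))) (.nd (.nd (.lf 0x319) (.lf 0x1143)) (.nd (.lf 0x291f) (.lf 0))))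 (.nd (.nd (.nd (.lf 0x21c4) (.lf 0x2edc)) (.nd (.lf 0x776) (.lf 0))) (.nd (.nd (.lf 0x2478) (.lf 0x144c)) (.nd (.lf 0xae3) (.lf 0))))) (.nd (.nd (.nd (.nd (.lf 0x11f) (.lf 0xdcb)) (.nd (.lf 0x6b1) (.lf 0))) (.nd (.nd (.lf 0x3c7) (.lf 0x12c8)) (.nd (.lf 0x29f9) (.lf 0)))) (.nd (.nd (.nd (.lf 0x226e) (.lf 0x3017)) (.nd (.lf 0x2849) (.lf 0))) (.nd (.nd (.lf 0x2537) (.lf 0x3688)) (.nd (.lf 0x2bcf) (.lf 0))))))))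
def parT_naabaab : Tr := (.nd (.nd (.nd (.nd (.nd (.nd (.nd (.lf 0x2015) (.lf 0x2c2d)) (.nd (.lf 0x57b) (.lf 0))) (.nd (.nd (.lf 0x2af) (.lf 0x1085)) (.nd (.lf 0x891) (.lf 0)))) (.nd (.nd (.nd (.lf 0x215c) (.lf 0x2e33)) (.nd (.lf 0x26fc) (.lf 0))) (.nd (.nd (.lf 0x406) (.lf 0x135c)) (.nd (.lf 0x2a51) (.lf 0))))) (.nd (.nd (.nd (.nd (.lf 0xb9) (.lf 0xd29)) (.nd (.lf 0x2638) (.lf 0))) (.nd (.nd (.lf 0x359) (.lf 0x11d3)) (.nd (.lf 0x296d) (.lf 0)))) (.nd (.nd (.nd (.lf 0x207) (.lf 0x2f47)) (.nd (.lf 0x7c0) (.lf 0))) (.nd (.nd (.lf 0x24be) (.lf 0x14fe)) (.nd (.lf 0xb3a) (.lf 0)))))) (.nd (.nd (.nd (.nd (.nd (.lf 0x67) (.lf 0x2ca8)) (.nd (.lf 0x5da) (.lf 0))) (.nd (.nd (.lf 0x303) (.lf 0x311c)) (.nd (.lf 0x906) (.lf 0)))) (.nd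 (.nd (.nd (.lf 0x21ae) (.lf 0xebb)) (.nd (.lf 0x275f) (.lf 0))) (.nd (.nd (.lf 0x462) (.lf 0x1420)) (.nd (.lf 0x2ac5) (.lf 0))))) (.nd (.nd (.nd (.nd (.lf 0x210a) (.lf 0x2da6)) (.nd (.lf 0x699) (.lf 0))) (.nd (.nd (.lf 0x3b0) (.lf 0x1296)) (.nd (.lf 0x9db) (.lf 0)))) (.nd (.nd (.nd (.lf 0x25a) (.lf 0xff3)) (.nd (.lf 0x830) (.lf 0))) (.nd (.nd (.lf 0x51d) (.lf 0x1623)) (.nd (.lf 0xbad) (.lf 0))))))) (.nd (.nd (.nd (.nd (.nd (.nd (.lf 0x3e) (.lf 0xc6a)) (.nd (.lf 0x25a8) (.lf 0))) (.nd (.nd (.lf 0x22d7) (.lf 0x30d1)) (.nd (.lf 0x28c9) (.lf 0)))) (.nd (.nd (.nd (.lf 0x2185) (.lf 0x2e72)) (.nd (.lf 0x731) (.lf 0))) (.nd (.nd (.lf 0x436) (.lf 0x33ab)) (.nd (.lf 0x2a8d) (.lf 0))))) (.nd (.nd (.nd (.nd (.lf 0xe2) (.lf 0x2d6f)) (.nd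 (.lf 0x66a) (.lf 0))) (.nd (.nd (.lf 0x387) (.lf 0x3225)) (.nd (.lf 0x29a4) (.lf 0)))) (.nd (.nd (.nd (.lf 0x230) (.lf 0xfa0)) (.nd (.lf 0x7f4) (.lf 0))) (.nd (.nd (.lf 0x4ee) (.lf 0x158b)) (.nd (.lf 0x2b78) (.lf 0)))))) (.nd (.nd (.nd (.nd (.nd (.lf 0x8f) (.lf 0x2ce2)) (.nd (.lf 0x608) (.lf 0))) (.nd (.nd (.lf 0x32d) (.lf 0x3170)) (.nd (.lf 0x2939) (.lf 0)))) (.nd (.nd (.nd (.lf 0x1d9) (.lf 0xeff)) (.nd (.lf 0x278e) (.lf 0))) (.nd (.nd (.lf 0x248f) (.lf 0x1481)) (.nd (.lf 0xafe) (.lf 0))))) (.nd (.nd (.nd (.nd (.lf 0x133) (.lf 0xdee)) (.nd (.lf 0x26c9) (.lf 0))) (.nd (.nd (.lf 0x3dc) (.lf 0x12fc)) (.nd (.lf 0xa1d) (.lf 0)))) (.nd (.nd (.nd (.lf 0x285) (.lf 0x303d)) (.nd (.lf 0x861) (.lf 0))) (.nd (.nd (.lf 0x254b) (.lf 0x1703))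 (.nd (.lf 0xbef) (.lf 0))))))))
def parT_naababa : Tr := (.nd (.nd (.nd (.nd (.nd (.nd (.nd (.lf 0x200b) (.lf 0xc1d)) (.nd (.lf 0x570) (.lf 0))) (.nd (.nd (.lf 0x2a4) (.lf 0x1078)) (.nd (.lf 0x887) (.lf 0)))) (.nd (.nd (.nd (.lf 0x2152) (.lf 0x2e23)) (.nd (.lf 0x6ef) (.lf 0))) (.nd (.nd (.lf 0x23fb) (.lf 0x134f)) (.nd (.lf 0x2a43) (.lf 0))))) (.nd (.nd (.nd (.nd (.lf 0x20ae) (.lf 0xd15)) (.nd (.lf 0x62a) (.lf 0))) (.nd (.nd (.lf 0x234d) (.lf 0x11bc)) (.nd (.lf 0x2960) (.lf 0)))) (.nd (.nd (.nd (.lf 0x21f9) (.lf 0x2f31)) (.nd (.lf 0x7b3) (.lf 0))) (.nd (.nd (.lf 0x24b3) (.lf 0x14d8)) (.nd (.lf 0x2b29) (.lf 0)))))) (.nd (.nd (.nd (.nd (.nd (.lf 0x205c) (.lf 0x2c9a)) (.nd (.lf 0x5cc) (.lf 0))) (.nd (.nd (.lf 0x22f7) (.lf 0x1109))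 (.nd (.lf 0x8f5) (.lf 0)))) (.nd (.nd (.nd (.lf 0x1a5) (.lf 0xeab)) (.nd (.lf 0x2753) (.lf 0))) (.nd (.nd (.lf 0x2458) (.lf 0x13ff)) (.nd (.lf 0xab9) (.lf 0))))) (.nd (.nd (.nd (.nd (.lf 0x2100) (.lf 0xd99)) (.nd (.lf 0x268d) (.lf 0))) (.nd (.nd (.lf 0x23a5) (.lf 0x1284)) (.nd (.lf 0x29ce) (.lf 0)))) (.nd (.nd (.nd (.lf 0x250) (.lf 0xfe1)) (.nd (.lf 0x2821) (.lf 0))) (.nd (.nd (.lf 0x2510) (.lf 0x3603)) (.nd (.lf 0xb9f) (.lf 0))))))) (.nd (.nd (.nd (.nd (.nd (.nd (.lf 0x33) (.lf 0x2c5d)) (.nd (.lf 0x59c) (.lf 0))) (.nd (.nd (.lf 0x2ce) (.lf 0x30b9)) (.nd (.lf 0x8bb) (.lf 0)))) (.nd (.nd (.nd (.lf 0x17c) (.lf 0x2e66)) (.nd (.lf 0x2722) (.lf 0))) (.nd (.nd (.lf 0x42c) (.lf 0x139b)) (.nd (.lf 0xa7d) (.lf 0))))) (.nd (.nd (.nd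 (.nd (.lf 0xd8) (.lf 0xd5a)) (.nd (.lf 0x265c) (.lf 0))) (.nd (.nd (.lf 0x37c) (.lf 0x1211)) (.nd (.lf 0x99a) (.lf 0)))) (.nd (.nd (.nd (.lf 0x226) (.lf 0xf86)) (.nd (.lf 0x27e7) (.lf 0))) (.nd (.nd (.lf 0x24e2) (.lf 0x1573)) (.nd (.lf 0x2b69) (.lf 0)))))) (.nd (.nd (.nd (.nd (.nd (.lf 0x2085) (.lf 0xcd5)) (.nd (.lf 0x25fd) (.lf 0))) (.nd (.nd (.lf 0x323) (.lf 0x3158)) (.nd (.lf 0x92c) (.lf 0)))) (.nd (.nd (.nd (.lf 0x1cf) (.lf 0xeed)) (.nd (.lf 0x2782) (.lf 0))) (.nd (.nd (.lf 0x2484) (.lf 0x146a)) (.nd (.lf 0xaee) (.lf 0))))) (.nd (.nd (.nd (.nd (.lf 0x129) (.lf 0x2dda)) (.nd (.lf 0x26bc) (.lf 0))) (.nd (.nd (.lf 0x23d2) (.lf 0x12df)) (.nd (.lf 0x2a08) (.lf 0)))) (.nd (.nd (.nd (.lf 0x2279) (.lf 0x102b)) (.nd (.lf 0x854)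 (.lf 0))) (.nd (.nd (.lf 0x541) (.lf 0x36c7)) (.nd (.lf 0x2bdd) (.lf 0))))))))
def parT_naababb : Tr := (.nd (.nd (.nd (.nd (.nd (.nd (.nd (.lf 0x1f) (.lf 0xc42)) (.nd (.lf 0x585) (.lf 0))) (.nd (.nd (.lf 0x2b8) (.lf 0x3097)) (.nd (.lf 0x8a1) (.lf 0)))) (.nd (.nd (.nd (.lf 0x167) (.lf 0x2e44)) (.nd (.lf 0x270a) (.lf 0))) (.nd (.nd (.lf 0x2412) (.lf 0x136e)) (.nd (.lf 0x2a61) (.lf 0))))) (.nd (.nd (.nd (.nd (.lf 0xc3) (.lf 0xd3e)) (.nd (.lf 0x2643) (.lf 0))) (.nd (.nd (.lf 0x363) (.lf 0x11ee)) (.nd (.lf 0x97d) (.lf 0)))) (.nd (.nd (.nd (.lf 0x211) (.lf 0x2f5a)) (.nd (.lf 0x7cc) (.lf 0))) (.nd (.nd (.lf 0x4cc) (.lf 0x151e)) (.nd (.lf 0xb4a) (.lf 0)))))) (.nd (.nd (.nd (.nd (.nd (.lf 0x71) (.lf 0xcba)) (.nd (.lf 0x5e6) (.lf 0)))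 (.nd (.nd (.lf 0x30e) (.lf 0x312d)) (.nd (.lf 0x911) (.lf 0)))) (.nd (.nd (.nd (.lf 0x21b9) (.lf 0xecc)) (.nd (.lf 0x76b) (.lf 0))) (.nd (.nd (.lf 0x46d) (.lf 0x1435)) (.nd (.lf 0x2ad5) (.lf 0))))) (.nd (.nd (.nd (.nd (.lf 0x115) (.lf 0x2dbb)) (.nd (.lf 0x26a5) (.lf 0))) (.nd (.nd (.lf 0x3bb) (.lf 0x32ab)) (.nd (.lf 0x29ea) (.lf 0)))) (.nd (.nd (.nd (.lf 0x265) (.lf 0x1006)) (.nd (.lf 0x283d) (.lf 0))) (.nd (.nd (.lf 0x52a) (.lf 0x1652)) (.nd (.lf 0xbbf) (.lf 0))))))) (.nd (.nd (.nd (.nd (.nd (.nd (.lf 0x49) (.lf 0x2c7e)) (.nd (.lf 0x5b4) (.lf 0))) (.nd (.nd (.lf 0x22e1) (.lf 0x10e4)) (.nd (.lf 0x28d9) (.lf 0)))) (.nd (.nd (.nd (.lf 0x191) (.lf 0x2e86)) (.nd (.lf 0x273d) (.lf 0))) (.nd (.nd (.lf 0x441) (.lf 0x13c9)) (.nd (.lf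 0x2a9a) (.lf 0))))) (.nd (.nd (.nd (.nd (.lf 0xec) (.lf 0xd7c)) (.nd (.lf 0x676) (.lf 0))) (.nd (.nd (.lf 0x391) (.lf 0x3243)) (.nd (.lf 0x9b2) (.lf 0)))) (.nd (.nd (.nd (.lf 0x223a) (.lf 0xfb8)) (.nd (.lf 0x2803) (.lf 0))) (.nd (.nd (.lf 0x24f8) (.lf 0x15bb)) (.nd (.lf 0x2b84) (.lf 0)))))) (.nd (.nd (.nd (.nd (.nd (.lf 0x99) (.lf 0xcf4)) (.nd (.lf 0x613) (.lf 0))) (.nd (.nd (.lf 0x338) (.lf 0x1188)) (.nd (.lf 0x947) (.lf 0)))) (.nd (.nd (.nd (.lf 0x1e5) (.lf 0x2f0e)) (.nd (.lf 0x279a) (.lf 0))) (.nd (.nd (.lf 0x249b) (.lf 0x14a1)) (.nd (.lf 0xb0b) (.lf 0))))) (.nd (.nd (.nd (.nd (.lf 0x13d) (.lf 0xdfe)) (.nd (.lf 0x6d5) (.lf 0))) (.nd (.nd (.lf 0x3e7) (.lf 0x1318)) (.nd (.lf 0xa2a) (.lf 0)))) (.nd (.nd (.nd (.lf 0x228f) (.lf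 0x1050)) (.nd (.lf 0x86e) (.lf 0))) (.nd (.nd (.lf 0x55a) (.lf 0x3755)) (.nd (.lf 0xbfd) (.lf 0))))))))
def parT_naabbaa : Tr := (.nd (.nd (.nd (.nd (.nd (.nd (.nd (.lf 0x2006) (.lf 0xc17)) (.nd (.lf 0x56b) (.lf 0))) (.nd (.nd (.lf 0x29f) (.lf 0x1069)) (.nd (.lf 0x881) (.lf 0)))) (.nd (.nd (.nd (.lf 0x14e) (.lf 0xe1c)) (.nd (.lf 0x26e7) (.lf 0))) (.nd (.nd (.lf 0x23f6) (.lf 0x3341)) (.nd (.lf 0x2a3c) (.lf 0))))) (.nd (.nd (.nd (.nd (.lf 0x20a9) (.lf 0xd0c)) (.nd (.lf 0x625) (.lf 0))) (.nd (.nd (.lf 0x2348) (.lf 0x11af)) (.nd (.lf 0x295b) (.lf 0)))) (.nd (.nd (.nd (.lf 0x1f5) (.lf 0xf28)) (.nd (.lf 0x7ac) (.lf 0))) (.nd (.nd (.lf 0x24ad) (.lf 0x14c9)) (.nd (.lf 0xb22) (.lf 0)))))) (.nd (.nd (.nd (.nd (.nd (.lf 0x58) (.lf 0x2c94))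 (.nd (.lf 0x5c6) (.lf 0))) (.nd (.nd (.lf 0x22f1) (.lf 0x3100)) (.nd (.lf 0x28ee) (.lf 0)))) (.nd (.nd (.nd (.lf 0x1a0) (.lf 0x2ea3)) (.nd (.lf 0x274e) (.lf 0))) (.nd (.nd (.lf 0x2450) (.lf 0x13ec)) (.nd (.lf 0xab1) (.lf 0))))) (.nd (.nd (.nd (.nd (.lf 0x20fb) (.lf 0xd93)) (.nd (.lf 0x687) (.lf 0))) (.nd (.nd (.lf 0x23a0) (.lf 0x1271)) (.nd (.lf 0x9c7) (.lf 0)))) (.nd (.nd (.nd (.lf 0x224a) (.lf 0xfd7)) (.nd (.lf 0x81b) (.lf 0))) (.nd (.nd (.lf 0x50b) (.lf 0x35f4)) (.nd (.lf 0x2b97) (.lf 0))))))) (.nd (.nd (.nd (.nd (.nd (.nd (.lf 0x2e) (.lf 0x2c57)) (.nd (.lf 0x2596) (.lf 0))) (.nd (.nd (.lf 0x22c8) (.lf 0x10b2)) (.nd (.lf 0x8b5) (.lf 0)))) (.nd (.nd (.nd (.lf 0x177) (.lf 0x2e5c)) (.nd (.lf 0x271c) (.lf 0))) (.nd (.nd (.lf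 0x2426) (.lf 0x1391)) (.nd (.lf 0xa76) (.lf 0))))) (.nd (.nd (.nd (.nd (.lf 0xd3) (.lf 0xd52)) (.nd (.lf 0x656) (.lf 0))) (.nd (.nd (.lf 0x377) (.lf 0x3206)) (.nd (.lf 0x2992) (.lf 0)))) (.nd (.nd (.nd (.lf 0x2220) (.lf 0x2f7d)) (.nd (.lf 0x7e2) (.lf 0))) (.nd (.nd (.lf 0x4dd) (.lf 0x3552)) (.nd (.lf 0xb64) (.lf 0)))))) (.nd (.nd (.nd (.nd (.nd (.lf 0x2080) (.lf 0x2ccc)) (.nd (.lf 0x25f7) (.lf 0))) (.nd (.nd (.lf 0x31e) (.lf 0x3151)) (.nd (.lf 0x927) (.lf 0)))) (.nd (.nd (.nd (.lf 0x1ca) (.lf 0xee3)) (.nd (.lf 0x277c) (.lf 0))) (.nd (.nd (.lf 0x47e) (.lf 0x345c)) (.nd (.lf 0xae8) (.lf 0))))) (.nd (.nd (.nd (.nd (.lf 0x124) (.lf 0x2dd1)) (.nd (.lf 0x6b7) (.lf 0))) (.nd (.nd (.lf 0x3cc) (.lf 0x32d2)) (.nd (.lf 0x2a00) (.lf 0))))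 (.nd (.nd (.nd (.lf 0x274) (.lf 0x1023)) (.nd (.lf 0x84e) (.lf 0))) (.nd (.nd (.lf 0x253c) (.lf 0x16a5)) (.nd (.lf 0x2bd6) (.lf 0))))))))
def parT_naabbab : Tr := (.nd (.nd (.nd (.nd (.nd (.nd (.nd (.lf 0x201a) (.lf 0xc38)) (.nd (.lf 0x580) (.lf 0))) (.nd (.nd (.lf 0x22b3) (.lf 0x108d)) (.nd (.lf 0x2897) (.lf 0)))) (.nd (.nd (.nd (.lf 0x2161) (.lf 0xe3c)) (.nd (.lf 0x703) (.lf 0))) (.nd (.nd (.lf 0x240c) (.lf 0x3365)) (.nd (.lf 0xa5b) (.lf 0))))) (.nd (.nd (.nd (.nd (.lf 0xbe) (.lf 0xd32)) (.nd (.lf 0x263d) (.lf 0))) (.nd (.nd (.lf 0x235e) (.lf 0x11dd)) (.nd (.lf 0x975) (.lf 0)))) (.nd (.nd (.nd (.lf 0x20c) (.lf 0xf51)) (.nd (.lf 0x7c6) (.lf 0))) (.nd (.nd (.lf 0x4c5) (.lf 0x350d)) (.nd (.lf 0xb42) (.lf 0)))))) (.nd (.nd (.nd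 (.nd (.nd (.lf 0x6c) (.lf 0xcb0)) (.nd (.lf 0x25df) (.lf 0))) (.nd (.nd (.lf 0x308) (.lf 0x1127)) (.nd (.lf 0x90b) (.lf 0)))) (.nd (.nd (.nd (.lf 0x21b3) (.lf 0x2ec2)) (.nd (.lf 0x765) (.lf 0))) (.nd (.nd (.lf 0x467) (.lf 0x1428)) (.nd (.lf 0x2acb) (.lf 0))))) (.nd (.nd (.nd (.nd (.lf 0x110) (.lf 0xdb2)) (.nd (.lf 0x69f) (.lf 0))) (.nd (.nd (.lf 0x3b5) (.lf 0x32a0)) (.nd (.lf 0x29e3) (.lf 0)))) (.nd (.nd (.nd (.lf 0x260) (.lf 0xffa)) (.nd (.lf 0x836) (.lf 0))) (.nd (.nd (.lf 0x524) (.lf 0x363b)) (.nd (.lf 0xbb6) (.lf 0))))))) (.nd (.nd (.nd (.nd (.nd (.nd (.lf 0x43) (.lf 0xc74)) (.nd (.lf 0x5af) (.lf 0))) (.nd (.nd (.lf 0x22dc) (.lf 0x10da)) (.nd (.lf 0x28d2) (.lf 0)))) (.nd (.nd (.nd (.lf 0x18b) (.lf 0xe7e)) (.nd (.lf 0x738)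 (.lf 0))) (.nd (.nd (.lf 0x243b) (.lf 0x33b8)) (.nd (.lf 0xa95) (.lf 0))))) (.nd (.nd (.nd (.nd (.lf 0xe7) (.lf 0x2d76)) (.nd (.lf 0x2670) (.lf 0))) (.nd (.nd (.lf 0x238b) (.lf 0x3233)) (.nd (.lf 0x29ab) (.lf 0)))) (.nd (.nd (.nd (.lf 0x235) (.lf 0x2faf)) (.nd (.lf 0x7fc) (.lf 0))) (.nd (.nd (.lf 0x4f3) (.lf 0x159b)) (.nd (.lf 0x2b7e) (.lf 0)))))) (.nd (.nd (.nd (.nd (.nd (.lf 0x94) (.lf 0xcec)) (.nd (.lf 0x60e) (.lf 0))) (.nd (.nd (.lf 0x2332) (.lf 0x117b)) (.nd (.lf 0x941) (.lf 0)))) (.nd (.nd (.nd (.lf 0x1df) (.lf 0xf05)) (.nd (.lf 0x795) (.lf 0))) (.nd (.nd (.lf 0x496) (.lf 0x1491)) (.nd (.lf 0x2b05) (.lf 0))))) (.nd (.nd (.nd (.nd (.lf 0x138) (.lf 0xdf8)) (.nd (.lf 0x6d0) (.lf 0))) (.nd (.nd (.lf 0x3e1) (.lf 0x3305))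 (.nd (.lf 0xa23) (.lf 0)))) (.nd (.nd (.nd (.lf 0x28b) (.lf 0x3046)) (.nd (.lf 0x867) (.lf 0))) (.nd (.nd (.lf 0x551) (.lf 0x3728)) (.nd (.lf 0xbf4) (.lf 0))))))))
def parT_naabbba : Tr := (.nd (.nd (.nd (.nd (.nd (.nd (.nd (.lf 0x2010) (.lf 0xc24)) (.nd (.lf 0x575) (.lf 0))) (.nd (.nd (.lf 0x2a9) (.lf 0x107e)) (.nd (.lf 0x88c) (.lf 0)))) (.nd (.nd (.nd (.lf 0x2157) (.lf 0xe2d)) (.nd (.lf 0x6f4) (.lf 0))) (.nd (.nd (.lf 0x401) (.lf 0x3355)) (.nd (.lf 0x2a4a) (.lf 0))))) (.nd (.nd (.nd (.nd (.lf 0xb4) (.lf 0xd1d)) (.nd (.lf 0x2632) (.lf 0))) (.nd (.nd (.lf 0x353) (.lf 0x11c6)) (.nd (.lf 0x967) (.lf 0)))) (.nd (.nd (.nd (.lf 0x1ff) (.lf 0xf3c)) (.nd (.lf 0x7b9) (.lf 0))) (.nd (.nd (.lf 0x4b9) (.lf 0x34e8)) (.nd (.lf 0xb32) (.lf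 0)))))) (.nd (.nd (.nd (.nd (.nd (.lf 0x61) (.lf 0xca1)) (.nd (.lf 0x5d3) (.lf 0))) (.nd (.nd (.lf 0x22fc) (.lf 0x1113)) (.nd (.lf 0x8fd) (.lf 0)))) (.nd (.nd (.nd (.lf 0x21a9) (.lf 0xeb2)) (.nd (.lf 0x759) (.lf 0))) (.nd (.nd (.lf 0x245d) (.lf 0x140d)) (.nd (.lf 0xac0) (.lf 0))))) (.nd (.nd (.nd (.nd (.lf 0x2105) (.lf 0xda0)) (.nd (.lf 0x694) (.lf 0))) (.nd (.nd (.lf 0x3ab) (.lf 0x328e)) (.nd (.lf 0x9d4) (.lf 0)))) (.nd (.nd (.nd (.lf 0x255) (.lf 0xfe9)) (.nd (.lf 0x828) (.lf 0))) (.nd (.nd (.lf 0x2515) (.lf 0x3614)) (.nd (.lf 0xba8) (.lf 0))))))) (.nd (.nd (.nd (.nd (.nd (.nd (.lf 0x39) (.lf 0xc64)) (.nd (.lf 0x5a2) (.lf 0))) (.nd (.nd (.lf 0x22d2) (.lf 0x10c7)) (.nd (.lf 0x8c2) (.lf 0)))) (.nd (.nd (.nd (.lf 0x2180) (.lf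 0xe6d)) (.nd (.lf 0x729) (.lf 0))) (.nd (.nd (.lf 0x431) (.lf 0x33a2)) (.nd (.lf 0xa84) (.lf 0))))) (.nd (.nd (.nd (.nd (.lf 0xdd) (.lf 0x2d63)) (.nd (.lf 0x664) (.lf 0))) (.nd (.nd (.lf 0x2381) (.lf 0x321c)) (.nd (.lf 0x299f) (.lf 0)))) (.nd (.nd (.nd (.lf 0x22b) (.lf 0xf93)) (.nd (.lf 0x27ec) (.lf 0))) (.nd (.nd (.lf 0x4e9) (.lf 0x1582)) (.nd (.lf 0x2b71) (.lf 0)))))) (.nd (.nd (.nd (.nd (.nd (.lf 0x208a) (.lf 0xcdb)) (.nd (.lf 0x2602) (.lf 0))) (.nd (.nd (.lf 0x328) (.lf 0x3163)) (.nd (.lf 0x932) (.lf 0)))) (.nd (.nd (.nd (.lf 0x1d4) (.lf 0xef7)) (.nd (.lf 0x788) (.lf 0))) (.nd (.nd (.lf 0x48a) (.lf 0x1479)) (.nd (.lf 0xaf6) (.lf 0))))) (.nd (.nd (.nd (.nd (.lf 0x212e) (.lf 0xde5)) (.nd (.lf 0x6c4) (.lf 0))) (.nd (.nd (.lf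 0x23d7) (.lf 0x32ee)) (.nd (.lf 0xa12) (.lf 0)))) (.nd (.nd (.nd (.lf 0x227f) (.lf 0x3032)) (.nd (.lf 0x285a) (.lf 0))) (.nd (.nd (.lf 0x2546) (.lf 0x16e9)) (.nd (.lf 0xbe7) (.lf 0))))))))
def parT_naabbbb : Tr := (.nd (.nd (.nd (.nd (.nd (.nd (.nd (.lf 0x24) (.lf 0xc49)) (.nd (.lf 0x258b) (.lf 0))) (.nd (.nd (.lf 0x22bd) (.lf 0x10a1)) (.nd (.lf 0x8a6) (.lf 0)))) (.nd (.nd (.nd (.lf 0x16c) (.lf 0xe4c)) (.nd (.lf 0x70f) (.lf 0))) (.nd (.nd (.lf 0x2417) (.lf 0x3376)) (.nd (.lf 0x2a69) (.lf 0))))) (.nd (.nd (.nd (.nd (.lf 0xc8) (.lf 0xd44)) (.nd (.lf 0x64a) (.lf 0))) (.nd (.nd (.lf 0x369) (.lf 0x31f4)) (.nd (.lf 0x984) (.lf 0)))) (.nd (.nd (.nd (.lf 0x216) (.lf 0xf66)) (.nd (.lf 0x27d4) (.lf 0))) (.nd (.nd (.lf 0x4d1) (.lf 0x352d))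 (.nd (.lf 0x2b53) (.lf 0)))))) (.nd (.nd (.nd (.nd (.nd (.lf 0x2076) (.lf 0xcc0)) (.nd (.lf 0x25ec) (.lf 0))) (.nd (.nd (.lf 0x2313) (.lf 0x1137)) (.nd (.lf 0x917) (.lf 0)))) (.nd (.nd (.nd (.lf 0x21bf) (.lf 0xed2)) (.nd (.lf 0x771) (.lf 0))) (.nd (.nd (.lf 0x473) (.lf 0x1441)) (.nd (.lf 0xadd) (.lf 0))))) (.nd (.nd (.nd (.nd (.lf 0x11a) (.lf 0x2dc2)) (.nd (.lf 0x6ab) (.lf 0))) (.nd (.nd (.lf 0x23c0) (.lf 0x32b8)) (.nd (.lf 0x9f2) (.lf 0)))) (.nd (.nd (.nd (.lf 0x2269) (.lf 0x100c)) (.nd (.lf 0x843) (.lf 0))) (.nd (.nd (.lf 0x532) (.lf 0x1667)) (.nd (.lf 0xbca) (.lf 0))))))) (.nd (.nd (.nd (.nd (.nd (.nd (.lf 0x204d) (.lf 0xc85)) (.nd (.lf 0x25b9) (.lf 0))) (.nd (.nd (.lf 0x22e7) (.lf 0x30ec)) (.nd (.lf 0x8e0) (.lf 0)))) (.nd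 (.nd (.nd (.lf 0x196) (.lf 0x2e8d)) (.nd (.lf 0x742) (.lf 0))) (.nd (.nd (.lf 0x447) (.lf 0x33d3)) (.nd (.lf 0x2aa1) (.lf 0))))) (.nd (.nd (.nd (.nd (.lf 0xf1) (.lf 0xd82)) (.nd (.lf 0x267c) (.lf 0))) (.nd (.nd (.lf 0x396) (.lf 0x1259)) (.nd (.lf 0x29b8) (.lf 0)))) (.nd (.nd (.nd (.lf 0x240) (.lf 0xfc0)) (.nd (.lf 0x280c) (.lf 0))) (.nd (.nd (.lf 0x4fe) (.lf 0x35cb)) (.nd (.lf 0x2b8a) (.lf 0)))))) (.nd (.nd (.nd (.nd (.nd (.lf 0x9f) (.lf 0xcfb)) (.nd (.lf 0x2619) (.lf 0))) (.nd (.nd (.lf 0x233e) (.lf 0x3196)) (.nd (.lf 0x94d) (.lf 0)))) (.nd (.nd (.nd (.lf 0x1ea) (.lf 0xf16)) (.nd (.lf 0x7a0) (.lf 0))) (.nd (.nd (.lf 0x4a2) (.lf 0x34ac)) (.nd (.lf 0xb15) (.lf 0))))) (.nd (.nd (.nd (.nd (.lf 0x143) (.lf 0x2e08)) (.nd (.lf 0x6db)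 (.lf 0))) (.nd (.nd (.lf 0x23eb) (.lf 0x1326)) (.nd (.lf 0x2a30) (.lf 0)))) (.nd (.nd (.nd (.lf 0x2294) (.lf 0x1058)) (.nd (.lf 0x874) (.lf 0))) (.nd (.nd (.lf 0x255f) (.lf 0x37a0)) (.nd (.lf 0xc03) (.lf 0))))))))
def parT_nabaaaa : Tr := (.nd (.nd (.nd (.nd (.nd (.nd (.nd (.lf 0x2000) (.lf 0xc0b)) (.nd (.lf 0x563) (.lf 0x17c1))) (.nd (.nd (.lf 0x2298) (.lf 0x1062)) (.nd (.lf 0x878) (.lf 0)))) (.nd (.nd (.nd (.lf 0x2146) (.lf 0x2e0f)) (.nd (.lf 0x6e0) (.lf 0))) (.nd (.nd (.lf 0x3f0) (.lf 0x1333)) (.nd (.lf 0xa36) (.lf 0))))) (.nd (.nd (.nd (.nd (.lf 0xa2) (.lf 0x2d01)) (.nd (.lf 0x61d) (.lf 0))) (.nd (.nd (.lf 0x342) (.lf 0x11a3)) (.nd (.lf 0x2952) (.lf 0)))) (.nd (.nd (.nd (.lf 0x1ee) (.lf 0xf1e)) (.nd (.lf 0x7a4) (.lf 0)))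 (.nd (.nd (.lf 0x4a6) (.lf 0x14b3)) (.nd (.lf 0x2b1a) (.lf 0)))))) (.nd (.nd (.nd (.nd (.nd (.lf 0x2051) (.lf 0xc8c)) (.nd (.lf 0x5be) (.lf 0))) (.nd (.nd (.lf 0x2eb) (.lf 0x30f3)) (.nd (.lf 0x8e7) (.lf 0)))) (.nd (.nd (.nd (.lf 0x19a) (.lf 0xe97)) (.nd (.lf 0x747) (.lf 0))) (.nd (.nd (.lf 0x244a) (.lf 0x13df)) (.nd (.lf 0xaa7) (.lf 0))))) (.nd (.nd (.nd (.nd (.lf 0xf5) (.lf 0xd87)) (.nd (.lf 0x680) (.lf 0))) (.nd (.nd (.lf 0x239a) (.lf 0x1264)) (.nd (.lf 0x9bd) (.lf 0)))) (.nd (.nd (.nd (.lf 0x2243) (.lf 0x2fc6)) (.nd (.lf 0x813) (.lf 0))) (.nd (.nd (.lf 0x502) (.lf 0x35da)) (.nd (.lf 0x2b90) (.lf 0))))))) (.nd (.nd (.nd (.nd (.nd (.nd (.lf 0x28) (.lf 0xc4d)) (.nd (.lf 0x590) (.lf 0))) (.nd (.nd (.lf 0x2c2) (.lf 0x10a6))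 (.nd (.lf 0x28ab) (.lf 0)))) (.nd (.nd (.nd (.lf 0x170) (.lf 0xe53)) (.nd (.lf 0x715) (.lf 0))) (.nd (.nd (.lf 0x241c) (.lf 0x1386)) (.nd (.lf 0x2a6e) (.lf 0))))) (.nd (.nd (.nd (.nd (.lf 0x20cb) (.lf 0xd48)) (.nd (.lf 0x64e) (.lf 0))) (.nd (.nd (.lf 0x236d) (.lf 0x11f9)) (.nd (.lf 0x2988) (.lf 0)))) (.nd (.nd (.nd (.lf 0x21a) (.lf 0xf6d)) (.nd (.lf 0x7da) (.lf 0))) (.nd (.nd (.lf 0x24d6) (.lf 0x3534)) (.nd (.lf 0xb5b) (.lf 0)))))) (.nd (.nd (.nd (.nd (.nd (.lf 0x7a) (.lf 0x2cc5)) (.nd (.lf 0x25f1) (.lf 0))) (.nd (.nd (.lf 0x2317) (.lf 0x1141)) (.nd (.lf 0x291e) (.lf 0)))) (.nd (.nd (.nd (.lf 0x1c3) (.lf 0x2ed9)) (.nd (.lf 0x774) (.lf 0))) (.nd (.nd (.lf 0x477) (.lf 0x1449)) (.nd (.lf 0xae1) (.lf 0))))) (.nd (.nd (.nd (.nd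 (.lf 0x11e) (.lf 0xdc9)) (.nd (.lf 0x26af) (.lf 0))) (.nd (.nd (.lf 0x23c5) (.lf 0x12c3)) (.nd (.lf 0x9f8) (.lf 0)))) (.nd (.nd (.nd (.lf 0x26d) (.lf 0x1015)) (.nd (.lf 0x848) (.lf 0))) (.nd (.nd (.lf 0x536) (.lf 0x3682)) (.nd (.lf 0x2bce) (.lf 0))))))))
def parT_nabaaab : Tr := (.nd (.nd (.nd (.nd (.nd (.nd (.nd (.lf 0x14) (.lf 0x2c2a)) (.nd (.lf 0x2579) (.lf 0))) (.nd (.nd (.lf 0x2ad) (.lf 0x3083)) (.nd (.lf 0x288f) (.lf 0)))) (.nd (.nd (.nd (.lf 0x215b) (.lf 0x2e32)) (.nd (.lf 0x6fa) (.lf 0))) (.nd (.nd (.lf 0x2404) (.lf 0x135b)) (.nd (.lf 0xa50) (.lf 0))))) (.nd (.nd (.nd (.nd (.lf 0x20b7) (.lf 0xd28)) (.nd (.lf 0x2636) (.lf 0))) (.nd (.nd (.lf 0x2357) (.lf 0x31d1)) (.nd (.lf 0x96c) (.lf 0)))) (.nd (.nd (.nd (.lf 0x205)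 (.lf 0x2f45)) (.nd (.lf 0x7bf) (.lf 0))) (.nd (.nd (.lf 0x4bd) (.lf 0x34f3)) (.nd (.lf 0xb38) (.lf 0)))))) (.nd (.nd (.nd (.nd (.nd (.lf 0x2065) (.lf 0x2ca6)) (.nd (.lf 0x5d8) (.lf 0))) (.nd (.nd (.lf 0x301) (.lf 0x111b)) (.nd (.lf 0x904) (.lf 0)))) (.nd (.nd (.nd (.lf 0x1ad) (.lf 0xeba)) (.nd (.lf 0x275e) (.lf 0))) (.nd (.nd (.lf 0x461) (.lf 0x1418)) (.nd (.lf 0x2ac4) (.lf 0))))) (.nd (.nd (.nd (.nd (.lf 0x109) (.lf 0x2da5)) (.nd (.lf 0x698) (.lf 0))) (.nd (.nd (.lf 0x23ae) (.lf 0x1295)) (.nd (.lf 0x9da) (.lf 0)))) (.nd (.nd (.nd (.lf 0x259) (.lf 0xfef)) (.nd (.lf 0x82e) (.lf 0))) (.nd (.nd (.lf 0x51a) (.lf 0x161e)) (.nd (.lf 0xbac) (.lf 0))))))) (.nd (.nd (.nd (.nd (.nd (.nd (.lf 0x3d) (.lf 0xc68)) (.nd (.lf 0x25a6) (.lf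 0))) (.nd (.nd (.lf 0x22d6) (.lf 0x30d0)) (.nd (.lf 0x28c8) (.lf 0)))) (.nd (.nd (.nd (.lf 0x2184) (.lf 0xe71)) (.nd (.lf 0x272e) (.lf 0))) (.nd (.nd (.lf 0x435) (.lf 0x33a9)) (.nd (.lf 0x2a8b) (.lf 0))))) (.nd (.nd (.nd (.nd (.lf 0xe1) (.lf 0x2d6d)) (.nd (.lf 0x2667) (.lf 0))) (.nd (.nd (.lf 0x386) (.lf 0x1224)) (.nd (.lf 0x9a3) (.lf 0)))) (.nd (.nd (.nd (.lf 0x22f) (.lf 0xf9d)) (.nd (.lf 0x7f2) (.lf 0))) (.nd (.nd (.lf 0x4ed) (.lf 0x158a)) (.nd (.lf 0x2b75) (.lf 0)))))) (.nd (.nd (.nd (.nd (.nd (.lf 0x8e) (.lf 0xce1)) (.nd (.lf 0x2606) (.lf 0))) (.nd (.nd (.lf 0x32c) (.lf 0x316e)) (.nd (.lf 0x938) (.lf 0)))) (.nd (.nd (.nd (.lf 0x21d7) (.lf 0xefd)) (.nd (.lf 0x278c) (.lf 0))) (.nd (.nd (.lf 0x48e) (.lf 0x347e)) (.nd (.lf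 0xafd) (.lf 0))))) (.nd (.nd (.nd (.nd (.lf 0x132) (.lf 0xdeb)) (.nd (.lf 0x26c8) (.lf 0))) (.nd (.nd (.lf 0x3db) (.lf 0x12fa)) (.nd (.lf 0xa1c) (.lf 0)))) (.nd (.nd (.nd (.lf 0x283) (.lf 0x303c)) (.nd (.lf 0x860) (.lf 0))) (.nd (.nd (.lf 0x54a) (.lf 0x16f7)) (.nd (.lf 0x2bed) (.lf 0))))))))
def parT_nabaaba : Tr := (.nd (.nd (.nd (.nd (.nd (.nd (.nd (.lf 0xa) (.lf 0xc1b)) (.nd (.lf 0x256e) (.lf 0))) (.nd (.nd (.lf 0x2a3) (.lf 0x1074)) (.nd (.lf 0x884) (.lf 0)))) (.nd (.nd (.nd (.lf 0x2151) (.lf 0xe21)) (.nd (.lf 0x26ec) (.lf 0))) (.nd (.nd (.lf 0x3fa) (.lf 0x3349)) (.nd (.lf 0xa41) (.lf 0))))) (.nd (.nd (.nd (.nd (.lf 0xad) (.lf 0x2d13)) (.nd (.lf 0x629) (.lf 0))) (.nd (.nd (.lf 0x34c) (.lf 0x31b7)) (.nd (.lf 0x95f) (.lf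 0)))) (.nd (.nd (.nd (.lf 0x21f8) (.lf 0x2f2e)) (.nd (.lf 0x7b1) (.lf 0))) (.nd (.nd (.lf 0x4b2) (.lf 0x34d0)) (.nd (.lf 0x2b28) (.lf 0)))))) (.nd (.nd (.nd (.nd (.nd (.lf 0x205b) (.lf 0xc99)) (.nd (.lf 0x25ca) (.lf 0))) (.nd (.nd (.lf 0x22f6) (.lf 0x3104)) (.nd (.lf 0x8f3) (.lf 0)))) (.nd (.nd (.nd (.lf 0x21a3) (.lf 0xeaa)) (.nd (.lf 0x752) (.lf 0))) (.nd (.nd (.lf 0x2456) (.lf 0x33fc)) (.nd (.lf 0xab8) (.lf 0))))) (.nd (.nd (.nd (.nd (.lf 0xff) (.lf 0xd98)) (.nd (.lf 0x68c) (.lf 0))) (.nd (.nd (.lf 0x23a4) (.lf 0x327d)) (.nd (.lf 0x9cd) (.lf 0)))) (.nd (.nd (.nd (.lf 0x24e) (.lf 0x2fdc)) (.nd (.lf 0x281f) (.lf 0))) (.nd (.nd (.lf 0x250e) (.lf 0x3601)) (.nd (.lf 0x2b9c) (.lf 0))))))) (.nd (.nd (.nd (.nd (.nd (.nd (.lf 0x32)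 (.lf 0x2c5c)) (.nd (.lf 0x59b) (.lf 0))) (.nd (.nd (.lf 0x22cc) (.lf 0x10b7)) (.nd (.lf 0x28b9) (.lf 0)))) (.nd (.nd (.nd (.lf 0x217a) (.lf 0xe63)) (.nd (.lf 0x2721) (.lf 0))) (.nd (.nd (.lf 0x42b) (.lf 0x3399)) (.nd (.lf 0xa7c) (.lf 0))))) (.nd (.nd (.nd (.nd (.lf 0xd7) (.lf 0xd58)) (.nd (.lf 0x65b) (.lf 0))) (.nd (.nd (.lf 0x237a) (.lf 0x120f)) (.nd (.lf 0x997) (.lf 0)))) (.nd (.nd (.nd (.lf 0x225) (.lf 0xf84)) (.nd (.lf 0x7e6) (.lf 0))) (.nd (.nd (.lf 0x24e1) (.lf 0x1571)) (.nd (.lf 0x2b68) (.lf 0)))))) (.nd (.nd (.nd (.nd (.nd (.lf 0x84) (.lf 0x2cd2)) (.nd (.lf 0x5fc) (.lf 0))) (.nd (.nd (.lf 0x322) (.lf 0x1157)) (.nd (.lf 0x92b) (.lf 0)))) (.nd (.nd (.nd (.lf 0x1ce) (.lf 0xee8)) (.nd (.lf 0x781) (.lf 0))) (.nd (.nd (.lf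 0x483) (.lf 0x3466)) (.nd (.lf 0xaec) (.lf 0))))) (.nd (.nd (.nd (.nd (.lf 0x2127) (.lf 0xdd9)) (.nd (.lf 0x6bb) (.lf 0))) (.nd (.nd (.lf 0x3d1) (.lf 0x12db)) (.nd (.lf 0xa07) (.lf 0)))) (.nd (.nd (.nd (.lf 0x278) (.lf 0x3026)) (.nd (.lf 0x852) (.lf 0))) (.nd (.nd (.lf 0x540) (.lf 0x36b5)) (.nd (.lf 0xbdc) (.lf 0))))))))
def parT_nabaabb : Tr := (.nd (.nd (.nd (.nd (.nd (.nd (.nd (.lf 0x1e) (.lf 0xc40)) (.nd (.lf 0x584) (.lf 0))) (.nd (.nd (.lf 0x2b7) (.lf 0x3095)) (.nd (.lf 0x289e) (.lf 0)))) (.nd (.nd (.nd (.lf 0x165) (.lf 0x2e43)) (.nd (.lf 0x708) (.lf 0))) (.nd (.nd (.lf 0x411) (.lf 0x136b)) (.nd (.lf 0xa60) (.lf 0))))) (.nd (.nd (.nd (.nd (.lf 0xc2) (.lf 0xd3d)) (.nd (.lf 0x642) (.lf 0))) (.nd (.nd (.lf 0x362) (.lf 0x11ec))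 (.nd (.lf 0x297a) (.lf 0)))) (.nd (.nd (.nd (.lf 0x210) (.lf 0xf59)) (.nd (.lf 0x7ca) (.lf 0))) (.nd (.nd (.lf 0x4cb) (.lf 0x151c)) (.nd (.lf 0xb48) (.lf 0)))))) (.nd (.nd (.nd (.nd (.nd (.lf 0x70) (.lf 0xcb8)) (.nd (.lf 0x25e4) (.lf 0))) (.nd (.nd (.lf 0x230c) (.lf 0x112c)) (.nd (.lf 0x90f) (.lf 0)))) (.nd (.nd (.nd (.lf 0x1b8) (.lf 0x2ec7)) (.nd (.lf 0x76a) (.lf 0))) (.nd (.nd (.lf 0x246b) (.lf 0x1430)) (.nd (.lf 0xad3) (.lf 0))))) (.nd (.nd (.nd (.nd (.lf 0x2113) (.lf 0x2db8)) (.nd (.lf 0x6a4) (.lf 0))) (.nd (.nd (.lf 0x23b9) (.lf 0x12a6)) (.nd (.lf 0x9e9) (.lf 0)))) (.nd (.nd (.nd (.lf 0x2263) (.lf 0x3004)) (.nd (.lf 0x83c) (.lf 0))) (.nd (.nd (.lf 0x2528) (.lf 0x1650)) (.nd (.lf 0xbbe) (.lf 0))))))) (.nd (.nd (.nd (.nd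 (.nd (.nd (.lf 0x2047) (.lf 0xc7b)) (.nd (.lf 0x5b3) (.lf 0))) (.nd (.nd (.lf 0x2e0) (.lf 0x10e1)) (.nd (.lf 0x8d7) (.lf 0)))) (.nd (.nd (.nd (.lf 0x18f) (.lf 0xe85)) (.nd (.lf 0x273c) (.lf 0))) (.nd (.nd (.lf 0x243f) (.lf 0x13c6)) (.nd (.lf 0xa99) (.lf 0))))) (.nd (.nd (.nd (.nd (.lf 0x20ea) (.lf 0xd7b)) (.nd (.lf 0x2674) (.lf 0))) (.nd (.nd (.lf 0x238f) (.lf 0x3240)) (.nd (.lf 0x9b1) (.lf 0)))) (.nd (.nd (.nd (.lf 0x2239) (.lf 0xfb3)) (.nd (.lf 0x2802) (.lf 0))) (.nd (.nd (.lf 0x4f7) (.lf 0x35b6)) (.nd (.lf 0xb83) (.lf 0)))))) (.nd (.nd (.nd (.nd (.nd (.lf 0x98) (.lf 0x2cf2)) (.nd (.lf 0x612) (.lf 0))) (.nd (.nd (.lf 0x337) (.lf 0x1186)) (.nd (.lf 0x946) (.lf 0)))) (.nd (.nd (.nd (.lf 0x1e4) (.lf 0xf0c)) (.nd (.lf 0x799)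 (.lf 0))) (.nd (.nd (.lf 0x49a) (.lf 0x349c)) (.nd (.lf 0xb0a) (.lf 0))))) (.nd (.nd (.nd (.nd (.lf 0x13c) (.lf 0xdfc)) (.nd (.lf 0x26d3) (.lf 0))) (.nd (.nd (.lf 0x23e5) (.lf 0x3311)) (.nd (.lf 0x2a27) (.lf 0)))) (.nd (.nd (.nd (.lf 0x228e) (.lf 0x104e)) (.nd (.lf 0x286b) (.lf 0))) (.nd (.nd (.lf 0x558) (.lf 0x1754)) (.nd (.lf 0x2bfb) (.lf 0))))))))
def parT_nababaa : Tr := (.nd (.nd (.nd (.nd (.nd (.nd (.nd (.lf 0x2005) (.lf 0xc15)) (.nd (.lf 0x2569) (.lf 0x17f1))) (.nd (.nd (.lf 0x29e) (.lf 0x3067)) (.nd (.lf 0x880) (.lf 0)))) (.nd (.nd (.nd (.lf 0x214c) (.lf 0xe19)) (.nd (.lf 0x26e6) (.lf 0))) (.nd (.nd (.lf 0x23f5) (.lf 0x133c)) (.nd (.lf 0xa3b) (.lf 0))))) (.nd (.nd (.nd (.nd (.lf 0xa7) (.lf 0x2d0a)) (.nd (.lf 0x623)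 (.lf 0))) (.nd (.nd (.lf 0x2346) (.lf 0x31ac)) (.nd (.lf 0x95a) (.lf 0)))) (.nd (.nd (.nd (.lf 0x1f4) (.lf 0x2f26)) (.nd (.lf 0x7ab) (.lf 0))) (.nd (.nd (.lf 0x4ac) (.lf 0x34c4)) (.nd (.lf 0xb21) (.lf 0)))))) (.nd (.nd (.nd (.nd (.nd (.lf 0x56) (.lf 0xc93)) (.nd (.lf 0x25c4) (.lf 0))) (.nd (.nd (.lf 0x2f0) (.lf 0x30ff)) (.nd (.lf 0x8ed) (.lf 0)))) (.nd (.nd (.nd (.lf 0x219e) (.lf 0x2ea0)) (.nd (.lf 0x274c) (.lf 0))) (.nd (.nd (.lf 0x44f) (.lf 0x33e9)) (.nd (.lf 0x2aae) (.lf 0))))) (.nd (.nd (.nd (.nd (.lf 0xfa) (.lf 0xd91)) (.nd (.lf 0x686) (.lf 0))) (.nd (.nd (.lf 0x239f) (.lf 0x126e)) (.nd (.lf 0x9c6) (.lf 0)))) (.nd (.nd (.nd (.lf 0x249) (.lf 0xfd4)) (.nd (.lf 0x819) (.lf 0))) (.nd (.nd (.lf 0x2509) (.lf 0x15f1)) (.nd (.lf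 0x2b95) (.lf 0))))))) (.nd (.nd (.nd (.nd (.nd (.nd (.lf 0x2d) (.lf 0xc55)) (.nd (.lf 0x595) (.lf 0))) (.nd (.nd (.lf 0x2c7) (.lf 0x10b0)) (.nd (.lf 0x28b3) (.lf 0)))) (.nd (.nd (.nd (.lf 0x175) (.lf 0xe59)) (.nd (.lf 0x71b) (.lf 0))) (.nd (.nd (.lf 0x425) (.lf 0x1390)) (.nd (.lf 0xa75) (.lf 0))))) (.nd (.nd (.nd (.nd (.lf 0xd2) (.lf 0x2d50)) (.nd (.lf 0x655) (.lf 0))) (.nd (.nd (.lf 0x2375) (.lf 0x1201)) (.nd (.lf 0x990) (.lf 0)))) (.nd (.nd (.nd (.lf 0x21f) (.lf 0x2f79)) (.nd (.lf 0x7e0) (.lf 0))) (.nd (.nd (.lf 0x24db) (.lf 0x354a)) (.nd (.lf 0xb63) (.lf 0)))))) (.nd (.nd (.nd (.nd (.nd (.lf 0x7f) (.lf 0xccb)) (.nd (.lf 0x25f6) (.lf 0))) (.nd (.nd (.lf 0x231c) (.lf 0x114d)) (.nd (.lf 0x926) (.lf 0)))) (.nd (.nd (.nd (.lf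 0x1c9) (.lf 0xee1)) (.nd (.lf 0x277a) (.lf 0))) (.nd (.nd (.lf 0x47d) (.lf 0x3459)) (.nd (.lf 0xae7) (.lf 0))))) (.nd (.nd (.nd (.nd (.lf 0x123) (.lf 0x2dd0)) (.nd (.lf 0x26b5) (.lf 0))) (.nd (.nd (.lf 0x3cb) (.lf 0x32cf)) (.nd (.lf 0x9fd) (.lf 0)))) (.nd (.nd (.nd (.lf 0x2272) (.lf 0x1021)) (.nd (.lf 0x84d) (.lf 0))) (.nd (.nd (.lf 0x253b) (.lf 0x169c)) (.nd (.lf 0xbd4) (.lf 0))))))))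
def parT_nababab : Tr := (.nd (.nd (.nd (.nd (.nd (.nd (.nd (.lf 0x19) (.lf 0xc36)) (.nd (.lf 0x57f) (.lf 0))) (.nd (.nd (.lf 0x22b2) (.lf 0x308a)) (.nd (.lf 0x896) (.lf 0)))) (.nd (.nd (.nd (.lf 0x160) (.lf 0x2e3a)) (.nd (.lf 0x702) (.lf 0))) (.nd (.nd (.lf 0x240a) (.lf 0x3364)) (.nd (.lf 0xa5a) (.lf 0))))) (.nd (.nd (.nd (.nd (.lf 0xbd) (.lf 0x2d2f)) (.nd (.lf 0x63c) (.lf 0))) (.nd (.nd (.lf 0x35d) (.lf 0x31da)) (.nd (.lf 0x973) (.lf 0)))) (.nd (.nd (.nd (.lf 0x20b) (.lf 0xf4f)) (.nd (.lf 0x7c5) (.lf 0))) (.nd (.nd (.lf 0x4c4) (.lf 0x350b)) (.nd (.lf 0x2b40) (.lf 0)))))) (.nd (.nd (.nd (.nd (.nd (.lf 0x206a) (.lf 0xcae)) (.nd (.lf 0x5de) (.lf 0))) (.nd (.nd (.lf 0x307) (.lf 0x3122)) (.nd (.lf 0x90a) (.lf 0)))) (.nd (.nd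 (.nd (.lf 0x1b2) (.lf 0x2ec0)) (.nd (.lf 0x764) (.lf 0))) (.nd (.nd (.lf 0x466) (.lf 0x1425)) (.nd (.lf 0xaca) (.lf 0))))) (.nd (.nd (.nd (.nd (.lf 0x210e) (.lf 0xdab)) (.nd (.lf 0x69d) (.lf 0))) (.nd (.nd (.lf 0x3b4) (.lf 0x129d)) (.nd (.lf 0x9e1) (.lf 0)))) (.nd (.nd (.nd (.lf 0x225e) (.lf 0x2ff8)) (.nd (.lf 0x834) (.lf 0))) (.nd (.nd (.lf 0x522) (.lf 0x3636)) (.nd (.lf 0x2bb3) (.lf 0))))))) (.nd (.nd (.nd (.nd (.nd (.nd (.lf 0x42) (.lf 0x2c72)) (.nd (.lf 0x25ad) (.lf 0))) (.nd (.nd (.lf 0x2db) (.lf 0x10d7)) (.nd (.lf 0x28d0) (.lf 0)))) (.nd (.nd (.nd (.lf 0x18a) (.lf 0xe7c)) (.nd (.lf 0x737) (.lf 0))) (.nd (.nd (.lf 0x43a) (.lf 0x33b5)) (.nd (.lf 0xa93) (.lf 0))))) (.nd (.nd (.nd (.nd (.lf 0x20e5) (.lf 0x2d74)) (.nd (.lf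 0x66f) (.lf 0))) (.nd (.nd (.lf 0x238a) (.lf 0x3231)) (.nd (.lf 0x29aa) (.lf 0)))) (.nd (.nd (.nd (.lf 0x234) (.lf 0x2fac)) (.nd (.lf 0x7fb) (.lf 0))) (.nd (.nd (.lf 0x4f2) (.lf 0x3596)) (.nd (.lf 0xb7d) (.lf 0)))))) (.nd (.nd (.nd (.nd (.nd (.lf 0x93) (.lf 0xcea)) (.nd (.lf 0x60d) (.lf 0))) (.nd (.nd (.lf 0x2331) (.lf 0x3178)) (.nd (.lf 0x940) (.lf 0)))) (.nd (.nd (.nd (.lf 0x21dd) (.lf 0xf04)) (.nd (.lf 0x793) (.lf 0))) (.nd (.nd (.lf 0x495) (.lf 0x148f)) (.nd (.lf 0x2b02) (.lf 0))))) (.nd (.nd (.nd (.nd (.lf 0x137) (.lf 0xdf5)) (.nd (.lf 0x6cf) (.lf 0))) (.nd (.nd (.lf 0x3e0) (.lf 0x1304)) (.nd (.lf 0xa22) (.lf 0)))) (.nd (.nd (.nd (.lf 0x289) (.lf 0x3043)) (.nd (.lf 0x2865) (.lf 0))) (.nd (.nd (.lf 0x550) (.lf 0x1723))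 (.nd (.lf 0xbf2) (.lf 0))))))))
def parT_nababba : Tr := (.nd (.nd (.nd (.nd (.nd (.nd (.nd (.lf 0xf) (.lf 0xc23)) (.nd (.lf 0x574) (.lf 0))) (.nd (.nd (.lf 0x2a8) (.lf 0x107d)) (.nd (.lf 0x88b) (.lf 0)))) (.nd (.nd (.nd (.lf 0x2156) (.lf 0xe2c)) (.nd (.lf 0x6f3) (.lf 0))) (.nd (.nd (.lf 0x400) (.lf 0x3353)) (.nd (.lf 0xa49) (.lf 0))))) (.nd (.nd (.nd (.nd (.lf 0x20b2) (.lf 0xd1c)) (.nd (.lf 0x62f) (.lf 0))) (.nd (.nd (.lf 0x352) (.lf 0x11c4)) (.nd (.lf 0x966) (.lf 0)))) (.nd (.nd (.nd (.lf 0x1fe) (.lf 0xf38)) (.nd (.lf 0x7b8) (.lf 0))) (.nd (.nd (.lf 0x4b7) (.lf 0x14e4)) (.nd (.lf 0xb2f) (.lf 0)))))) (.nd (.nd (.nd (.nd (.nd (.lf 0x60) (.lf 0xc9e)) (.nd (.lf 0x5d1) (.lf 0))) (.nd (.nd (.lf 0x22fb) (.lf 0x3111)) (.nd (.lf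 0x8fb) (.lf 0)))) (.nd (.nd (.nd (.lf 0x1a8) (.lf 0x2eb0)) (.nd (.lf 0x758) (.lf 0))) (.nd (.nd (.lf 0x45c) (.lf 0x1404)) (.nd (.lf 0x2abe) (.lf 0))))) (.nd (.nd (.nd (.nd (.lf 0x104) (.lf 0xd9e)) (.nd (.lf 0x693) (.lf 0))) (.nd (.nd (.lf 0x3a9) (.lf 0x128a)) (.nd (.lf 0x29d2) (.lf 0)))) (.nd (.nd (.nd (.lf 0x254) (.lf 0xfe7)) (.nd (.lf 0x826) (.lf 0))) (.nd (.nd (.lf 0x514) (.lf 0x360e)) (.nd (.lf 0xba6) (.lf 0))))))) (.nd (.nd (.nd (.nd (.nd (.nd (.lf 0x2037) (.lf 0xc62)) (.nd (.lf 0x5a1) (.lf 0))) (.nd (.nd (.lf 0x22d1) (.lf 0x30c5)) (.nd (.lf 0x28c0) (.lf 0)))) (.nd (.nd (.nd (.lf 0x217f) (.lf 0xe6c)) (.nd (.lf 0x728) (.lf 0))) (.nd (.nd (.lf 0x430) (.lf 0x13a1)) (.nd (.lf 0xa83) (.lf 0))))) (.nd (.nd (.nd (.nd (.lf 0x20db)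 (.lf 0x2d60)) (.nd (.lf 0x2660) (.lf 0))) (.nd (.nd (.lf 0x237f) (.lf 0x121b)) (.nd (.lf 0x99e) (.lf 0)))) (.nd (.nd (.nd (.lf 0x22a) (.lf 0xf91)) (.nd (.lf 0x27ea) (.lf 0))) (.nd (.nd (.lf 0x4e8) (.lf 0x1581)) (.nd (.lf 0xb6e) (.lf 0)))))) (.nd (.nd (.nd (.nd (.nd (.lf 0x89) (.lf 0xcda)) (.nd (.lf 0x2601) (.lf 0))) (.nd (.nd (.lf 0x2326) (.lf 0x1162)) (.nd (.lf 0x930) (.lf 0)))) (.nd (.nd (.nd (.lf 0x1d3) (.lf 0xef4)) (.nd (.lf 0x786) (.lf 0))) (.nd (.nd (.lf 0x489) (.lf 0x3473)) (.nd (.lf 0xaf5) (.lf 0))))) (.nd (.nd (.nd (.nd (.lf 0x12d) (.lf 0xde1)) (.nd (.lf 0x6c2) (.lf 0))) (.nd (.nd (.lf 0x23d6) (.lf 0x12ec)) (.nd (.lf 0xa10) (.lf 0)))) (.nd (.nd (.nd (.lf 0x227e) (.lf 0x3030)) (.nd (.lf 0x859) (.lf 0))) (.nd (.nd (.lf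 0x2545) (.lf 0x16d9)) (.nd (.lf 0xbe6) (.lf 0))))))))
def parT_nababbb : Tr := (.nd (.nd (.nd (.nd (.nd (.nd (.nd (.lf 0x23) (.lf 0xc47)) (.nd (.lf 0x2589) (.lf 0))) (.nd (.nd (.lf 0x2bc) (.lf 0x109d)) (.nd (.lf 0x8a5) (.lf 0)))) (.nd (.nd (.nd (.lf 0x16b) (.lf 0xe4a)) (.nd (.lf 0x70e) (.lf 0))) (.nd (.nd (.lf 0x416) (.lf 0x1375)) (.nd (.lf 0xa68) (.lf 0))))) (.nd (.nd (.nd (.nd (.lf 0x20c6) (.lf 0xd43)) (.nd (.lf 0x648) (.lf 0))) (.nd (.nd (.lf 0x2367) (.lf 0x11f3)) (.nd (.lf 0x2982) (.lf 0)))) (.nd (.nd (.nd (.lf 0x215) (.lf 0xf65)) (.nd (.lf 0x27d2) (.lf 0))) (.nd (.nd (.lf 0x4d0) (.lf 0x152b)) (.nd (.lf 0xb51) (.lf 0)))))) (.nd (.nd (.nd (.nd (.nd (.lf 0x2074) (.lf 0xcbe)) (.nd (.lf 0x25ea) (.lf 0))) (.nd (.nd (.lf 0x2311)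 (.lf 0x1135)) (.nd (.lf 0x2915) (.lf 0)))) (.nd (.nd (.nd (.lf 0x21bd) (.lf 0x2ed0)) (.nd (.lf 0x276f) (.lf 0))) (.nd (.nd (.lf 0x472) (.lf 0x143c)) (.nd (.lf 0xadc) (.lf 0))))) (.nd (.nd (.nd (.nd (.lf 0x119) (.lf 0x2dc0)) (.nd (.lf 0x6aa) (.lf 0))) (.nd (.nd (.lf 0x23bf) (.lf 0x12b4)) (.nd (.lf 0x9ef) (.lf 0)))) (.nd (.nd (.nd (.lf 0x2268) (.lf 0x100b)) (.nd (.lf 0x841) (.lf 0))) (.nd (.nd (.lf 0x530) (.lf 0x1663)) (.nd (.lf 0x2bc7) (.lf 0))))))) (.nd (.nd (.nd (.nd (.nd (.nd (.lf 0x204c) (.lf 0x2c83)) (.nd (.lf 0x5b8) (.lf 0))) (.nd (.nd (.lf 0x2e6) (.lf 0x10eb)) (.nd (.lf 0x8df) (.lf 0)))) (.nd (.nd (.nd (.lf 0x195) (.lf 0xe8b)) (.nd (.lf 0x741) (.lf 0))) (.nd (.nd (.lf 0x446) (.lf 0x13d2)) (.nd (.lf 0x2a9f) (.lf 0)))))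 (.nd (.nd (.nd (.nd (.lf 0xf0) (.lf 0x2d80)) (.nd (.lf 0x67b) (.lf 0))) (.nd (.nd (.lf 0x2394) (.lf 0x1253)) (.nd (.lf 0x9b7) (.lf 0)))) (.nd (.nd (.nd (.lf 0x23f) (.lf 0x2fbe)) (.nd (.lf 0x280b) (.lf 0))) (.nd (.nd (.lf 0x4fd) (.lf 0x15c7)) (.nd (.lf 0x2b88) (.lf 0)))))) (.nd (.nd (.nd (.nd (.nd (.lf 0x209d) (.lf 0xcfa)) (.nd (.lf 0x618) (.lf 0))) (.nd (.nd (.lf 0x33d) (.lf 0x118f)) (.nd (.lf 0x94c) (.lf 0)))) (.nd (.nd (.nd (.lf 0x21e8) (.lf 0x2f13)) (.nd (.lf 0x79f) (.lf 0))) (.nd (.nd (.lf 0x24a0) (.lf 0x14aa)) (.nd (.lf 0x2b12) (.lf 0))))) (.nd (.nd (.nd (.nd (.lf 0x2141) (.lf 0x2e03)) (.nd (.lf 0x26d9) (.lf 0))) (.nd (.nd (.lf 0x23ea) (.lf 0x1322)) (.nd (.lf 0xa2f) (.lf 0)))) (.nd (.nd (.nd (.lf 0x2293) (.lf 0x1056))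 (.nd (.lf 0x872) (.lf 0))) (.nd (.nd (.lf 0x255e) (.lf 0x1799)) (.nd (.lf 0xc02) (.lf 0))))))))
def parT_nabbaaa : Tr := (.nd (.nd (.nd (.nd (.nd (.nd (.nd (.lf 0x3) (.lf 0xc10)) (.nd (.lf 0x566) (.lf 0x17d9))) (.nd (.nd (.lf 0x229b) (.lf 0x3064)) (.nd (.lf 0x287b) (.lf 0)))) (.nd (.nd (.nd (.lf 0x2149) (.lf 0xe15)) (.nd (.lf 0x26e3) (.lf 0))) (.nd (.nd (.lf 0x3f3) (.lf 0x3337)) (.nd (.lf 0x2a38) (.lf 0))))) (.nd (.nd (.nd (.nd (.lf 0x20a4) (.lf 0xd05)) (.nd (.lf 0x620) (.lf 0))) (.nd (.nd (.lf 0x344) (.lf 0x11a8)) (.nd (.lf 0x2955) (.lf 0)))) (.nd (.nd (.nd (.lf 0x21f0) (.lf 0x2f22)) (.nd (.lf 0x27a8) (.lf 0))) (.nd (.nd (.lf 0x24a9) (.lf 0x14b8)) (.nd (.lf 0x2b1e) (.lf 0)))))) (.nd (.nd (.nd (.nd (.nd (.lf 0x54) (.lf 0xc8f))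 (.nd (.lf 0x25c1) (.lf 0))) (.nd (.nd (.lf 0x2ed) (.lf 0x10fb)) (.nd (.lf 0x8ea) (.lf 0)))) (.nd (.nd (.nd (.lf 0x19c) (.lf 0x2e9c)) (.nd (.lf 0x2749) (.lf 0))) (.nd (.nd (.lf 0x44d) (.lf 0x13e3)) (.nd (.lf 0xaac) (.lf 0))))) (.nd (.nd (.nd (.nd (.lf 0x20f7) (.lf 0x2d8a)) (.nd (.lf 0x2683) (.lf 0))) (.nd (.nd (.lf 0x39d) (.lf 0x1268)) (.nd (.lf 0x9c2) (.lf 0)))) (.nd (.nd (.nd (.lf 0x246) (.lf 0xfd0)) (.nd (.lf 0x815) (.lf 0))) (.nd (.nd (.lf 0x2506) (.lf 0x15e8)) (.nd (.lf 0xb93) (.lf 0))))))) (.nd (.nd (.nd (.nd (.nd (.nd (.lf 0x202a) (.lf 0xc51)) (.nd (.lf 0x592) (.lf 0))) (.nd (.nd (.lf 0x2c4) (.lf 0x10ac)) (.nd (.lf 0x8b1) (.lf 0)))) (.nd (.nd (.nd (.lf 0x173) (.lf 0xe56)) (.nd (.lf 0x718) (.lf 0))) (.nd (.nd (.lf 0x422)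 (.lf 0x138b)) (.nd (.lf 0xa72) (.lf 0))))) (.nd (.nd (.nd (.nd (.lf 0xcf) (.lf 0xd4b)) (.nd (.lf 0x652) (.lf 0))) (.nd (.nd (.lf 0x371) (.lf 0x11fe)) (.nd (.lf 0x98b) (.lf 0)))) (.nd (.nd (.nd (.lf 0x21d) (.lf 0x2f72)) (.nd (.lf 0x7dd) (.lf 0))) (.nd (.nd (.lf 0x4d9) (.lf 0x3545)) (.nd (.lf 0x2b5f) (.lf 0)))))) (.nd (.nd (.nd (.nd (.nd (.lf 0x7d) (.lf 0x2cc8)) (.nd (.lf 0x5f4) (.lf 0))) (.nd (.nd (.lf 0x31a) (.lf 0x3146)) (.nd (.lf 0x2921) (.lf 0)))) (.nd (.nd (.nd (.lf 0x1c6) (.lf 0x2edd)) (.nd (.lf 0x2777) (.lf 0))) (.nd (.nd (.lf 0x47a) (.lf 0x1450)) (.nd (.lf 0xae4) (.lf 0))))) (.nd (.nd (.nd (.nd (.lf 0x120) (.lf 0x2dcd)) (.nd (.lf 0x6b2) (.lf 0))) (.nd (.nd (.lf 0x3c8) (.lf 0x32ca)) (.nd (.lf 0x9fb) (.lf 0)))) (.nd (.nd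 (.nd (.lf 0x226f) (.lf 0x3019)) (.nd (.lf 0x284a) (.lf 0))) (.nd (.nd (.lf 0x539) (.lf 0x3689)) (.nd (.lf 0xbd1) (.lf 0))))))))
def parT_nabbaab : Tr := (.nd (.nd (.nd (.nd (.nd (.nd (.nd (.lf 0x2016) (.lf 0xc31)) (.nd (.lf 0x257c) (.lf 0))) (.nd (.nd (.lf 0x2b0) (.lf 0x3086)) (.nd (.lf 0x2893) (.lf 0)))) (.nd (.nd (.nd (.lf 0x15e) (.lf 0x2e35)) (.nd (.lf 0x26fe) (.lf 0))) (.nd (.nd (.lf 0x408) (.lf 0x1360)) (.nd (.lf 0xa57) (.lf 0))))) (.nd (.nd (.nd (.nd (.lf 0xba) (.lf 0xd2a)) (.nd (.lf 0x63a) (.lf 0))) (.nd (.nd (.lf 0x35a) (.lf 0x11d7)) (.nd (.lf 0x296f) (.lf 0)))) (.nd (.nd (.nd (.lf 0x208) (.lf 0xf49)) (.nd (.lf 0x7c2) (.lf 0))) (.nd (.nd (.lf 0x4c0) (.lf 0x1503)) (.nd (.lf 0xb3c) (.lf 0)))))) (.nd (.nd (.nd (.nd (.nd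 (.lf 0x68) (.lf 0xcaa)) (.nd (.lf 0x25db) (.lf 0))) (.nd (.nd (.lf 0x304) (.lf 0x311f)) (.nd (.lf 0x907) (.lf 0)))) (.nd (.nd (.nd (.lf 0x21af) (.lf 0x2ebd)) (.nd (.lf 0x761) (.lf 0))) (.nd (.nd (.lf 0x2463) (.lf 0x1423)) (.nd (.lf 0xac7) (.lf 0))))) (.nd (.nd (.nd (.nd (.lf 0x10c) (.lf 0xda8)) (.nd (.lf 0x269a) (.lf 0))) (.nd (.nd (.lf 0x3b1) (.lf 0x1298)) (.nd (.lf 0x9dd) (.lf 0)))) (.nd (.nd (.nd (.lf 0x225b) (.lf 0xff5)) (.nd (.lf 0x831) (.lf 0))) (.nd (.nd (.lf 0x51e) (.lf 0x162f)) (.nd (.lf 0x2bb0) (.lf 0))))))) (.nd (.nd (.nd (.nd (.nd (.nd (.lf 0x203f) (.lf 0xc6d)) (.nd (.lf 0x25aa) (.lf 0))) (.nd (.nd (.lf 0x2d9) (.lf 0x10d3)) (.nd (.lf 0x8cc) (.lf 0)))) (.nd (.nd (.nd (.lf 0x187) (.lf 0xe76)) (.nd (.lf 0x732) (.lf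 0))) (.nd (.nd (.lf 0x2437) (.lf 0x33af)) (.nd (.lf 0xa8f) (.lf 0))))) (.nd (.nd (.nd (.nd (.lf 0xe3) (.lf 0xd72)) (.nd (.lf 0x66c) (.lf 0))) (.nd (.nd (.lf 0x2388) (.lf 0x122a)) (.nd (.lf 0x29a5) (.lf 0)))) (.nd (.nd (.nd (.lf 0x231) (.lf 0xfa3)) (.nd (.lf 0x27f7) (.lf 0))) (.nd (.nd (.lf 0x4ef) (.lf 0x358c)) (.nd (.lf 0x2b79) (.lf 0)))))) (.nd (.nd (.nd (.nd (.nd (.lf 0x2090) (.lf 0xce4)) (.nd (.lf 0x609) (.lf 0))) (.nd (.nd (.lf 0x232e) (.lf 0x1174)) (.nd (.lf 0x293a) (.lf 0)))) (.nd (.nd (.nd (.lf 0x21da) (.lf 0xf00)) (.nd (.lf 0x278f) (.lf 0))) (.nd (.nd (.lf 0x491) (.lf 0x1486)) (.nd (.lf 0x2aff) (.lf 0))))) (.nd (.nd (.nd (.nd (.lf 0x2134) (.lf 0xdf2)) (.nd (.lf 0x6cb) (.lf 0))) (.nd (.nd (.lf 0x23dd) (.lf 0x12ff))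 (.nd (.lf 0x2a1f) (.lf 0)))) (.nd (.nd (.nd (.lf 0x2286) (.lf 0x1041)) (.nd (.lf 0x862) (.lf 0))) (.nd (.nd (.lf 0x254c) (.lf 0x1709)) (.nd (.lf 0xbf0) (.lf 0))))))))
def parT_nabbaba : Tr := (.nd (.nd (.nd (.nd (.nd (.nd (.nd (.lf 0xd) (.lf 0x2c1f)) (.nd (.lf 0x571) (.lf 0))) (.nd (.nd (.lf 0x22a5) (.lf 0x3079)) (.nd (.lf 0x888) (.lf 0)))) (.nd (.nd (.nd (.lf 0x154) (.lf 0x2e25)) (.nd (.lf 0x6f0) (.lf 0))) (.nd (.nd (.lf 0x23fd) (.lf 0x3350)) (.nd (.lf 0xa45) (.lf 0))))) (.nd (.nd (.nd (.nd (.lf 0x20b0) (.lf 0xd17)) (.nd (.lf 0x262b) (.lf 0))) (.nd (.nd (.lf 0x234f) (.lf 0x31be)) (.nd (.lf 0x2961) (.lf 0)))) (.nd (.nd (.nd (.lf 0x21fb) (.lf 0xf33)) (.nd (.lf 0x7b4) (.lf 0))) (.nd (.nd (.lf 0x24b4) (.lf 0x14db)) (.nd (.lf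 0xb2b) (.lf 0)))))) (.nd (.nd (.nd (.nd (.nd (.lf 0x205d) (.lf 0x2c9b)) (.nd (.lf 0x25ce) (.lf 0))) (.nd (.nd (.lf 0x2f9) (.lf 0x110b)) (.nd (.lf 0x8f7) (.lf 0)))) (.nd (.nd (.nd (.lf 0x1a6) (.lf 0xead)) (.nd (.lf 0x755) (.lf 0))) (.nd (.nd (.lf 0x2459) (.lf 0x1401)) (.nd (.lf 0xaba) (.lf 0))))) (.nd (.nd (.nd (.nd (.lf 0x102) (.lf 0xd9a)) (.nd (.lf 0x268f) (.lf 0))) (.nd (.nd (.lf 0x3a7) (.lf 0x1285)) (.nd (.lf 0x9d0) (.lf 0)))) (.nd (.nd (.nd (.lf 0x251) (.lf 0x2fe3)) (.nd (.lf 0x2823) (.lf 0))) (.nd (.nd (.lf 0x512) (.lf 0x160b)) (.nd (.lf 0x2ba2) (.lf 0))))))) (.nd (.nd (.nd (.nd (.nd (.nd (.lf 0x2034) (.lf 0x2c5f)) (.nd (.lf 0x59d) (.lf 0))) (.nd (.nd (.lf 0x2cf) (.lf 0x10bf)) (.nd (.lf 0x28bd) (.lf 0)))) (.nd (.nd (.nd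 (.lf 0x17d) (.lf 0xe69)) (.nd (.lf 0x2725) (.lf 0))) (.nd (.nd (.lf 0x242d) (.lf 0x139c)) (.nd (.lf 0xa7f) (.lf 0))))) (.nd (.nd (.nd (.nd (.lf 0xd9) (.lf 0x2d5b)) (.nd (.lf 0x265d) (.lf 0))) (.nd (.nd (.lf 0x37d) (.lf 0x3213)) (.nd (.lf 0x99b) (.lf 0)))) (.nd (.nd (.nd (.lf 0x227) (.lf 0x2f89)) (.nd (.lf 0x27e8) (.lf 0))) (.nd (.nd (.lf 0x24e4) (.lf 0x3575)) (.nd (.lf 0x2b6a) (.lf 0)))))) (.nd (.nd (.nd (.nd (.nd (.lf 0x2086) (.lf 0xcd6)) (.nd (.lf 0x5ff) (.lf 0))) (.nd (.nd (.lf 0x324) (.lf 0x115f)) (.nd (.lf 0x92e) (.lf 0)))) (.nd (.nd (.nd (.lf 0x1d0) (.lf 0xeef)) (.nd (.lf 0x784) (.lf 0))) (.nd (.nd (.lf 0x2486) (.lf 0x346c)) (.nd (.lf 0xaf0) (.lf 0))))) (.nd (.nd (.nd (.nd (.lf 0x12a) (.lf 0x2ddc)) (.nd (.lf 0x26bd)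 (.lf 0))) (.nd (.nd (.lf 0x3d4) (.lf 0x12e1)) (.nd (.lf 0x2a0b) (.lf 0)))) (.nd (.nd (.nd (.lf 0x27b) (.lf 0x102d)) (.nd (.lf 0x855) (.lf 0))) (.nd (.nd (.lf 0x543) (.lf 0x36ce)) (.nd (.lf 0xbe0) (.lf 0))))))))
def parT_nabbabb : Tr := (.nd (.nd (.nd (.nd (.nd (.nd (.nd (.lf 0x2020) (.lf 0xc44)) (.nd (.lf 0x587) (.lf 0))) (.nd (.nd (.lf 0x22b9) (.lf 0x1099)) (.nd (.lf 0x28a2) (.lf 0)))) (.nd (.nd (.nd (.lf 0x168) (.lf 0xe46)) (.nd (.lf 0x270b) (.lf 0))) (.nd (.nd (.lf 0x414) (.lf 0x1371)) (.nd (.lf 0x2a63) (.lf 0))))) (.nd (.nd (.nd (.nd (.lf 0xc4) (.lf 0x2d40)) (.nd (.lf 0x2644) (.lf 0))) (.nd (.nd (.lf 0x365) (.lf 0x11ef)) (.nd (.lf 0x97e) (.lf 0)))) (.nd (.nd (.nd (.lf 0x212) (.lf 0xf5c)) (.nd (.lf 0x7cf) (.lf 0))) (.nd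 (.nd (.lf 0x24cd) (.lf 0x1522)) (.nd (.lf 0xb4c) (.lf 0)))))) (.nd (.nd (.nd (.nd (.nd (.lf 0x72) (.lf 0x2cbb)) (.nd (.lf 0x5e8) (.lf 0))) (.nd (.nd (.lf 0x30f) (.lf 0x312f)) (.nd (.lf 0x2912) (.lf 0)))) (.nd (.nd (.nd (.lf 0x1bb) (.lf 0xecd)) (.nd (.lf 0x276c) (.lf 0))) (.nd (.nd (.lf 0x246e) (.lf 0x1438)) (.nd (.lf 0xad7) (.lf 0))))) (.nd (.nd (.nd (.nd (.lf 0x116) (.lf 0xdbd)) (.nd (.lf 0x6a7) (.lf 0))) (.nd (.nd (.lf 0x3bc) (.lf 0x12ae)) (.nd (.lf 0x9ec) (.lf 0)))) (.nd (.nd (.nd (.lf 0x266) (.lf 0x3007)) (.nd (.lf 0x283e) (.lf 0))) (.nd (.nd (.lf 0x252b) (.lf 0x1659)) (.nd (.lf 0x2bc3) (.lf 0))))))) (.nd (.nd (.nd (.nd (.nd (.nd (.lf 0x4a) (.lf 0x2c7f)) (.nd (.lf 0x5b5) (.lf 0))) (.nd (.nd (.lf 0x2e4) (.lf 0x10e6)) (.nd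 (.lf 0x8db) (.lf 0)))) (.nd (.nd (.nd (.lf 0x2192) (.lf 0xe88)) (.nd (.lf 0x73f) (.lf 0))) (.nd (.nd (.lf 0x2442) (.lf 0x13cd)) (.nd (.lf 0x2a9c) (.lf 0))))) (.nd (.nd (.nd (.nd (.lf 0x20ed) (.lf 0x2d7d)) (.nd (.lf 0x678) (.lf 0))) (.nd (.nd (.lf 0x392) (.lf 0x1249)) (.nd (.lf 0x9b4) (.lf 0)))) (.nd (.nd (.nd (.lf 0x223c) (.lf 0xfb9)) (.nd (.lf 0x805) (.lf 0))) (.nd (.nd (.lf 0x24fa) (.lf 0x35c2)) (.nd (.lf 0x2b86) (.lf 0)))))) (.nd (.nd (.nd (.nd (.nd (.lf 0x209a) (.lf 0xcf7)) (.nd (.lf 0x614) (.lf 0))) (.nd (.nd (.lf 0x2339) (.lf 0x318a)) (.nd (.lf 0x2948) (.lf 0)))) (.nd (.nd (.nd (.lf 0x1e6) (.lf 0x2f0f)) (.nd (.lf 0x279b) (.lf 0))) (.nd (.nd (.lf 0x49d) (.lf 0x14a2)) (.nd (.lf 0x2b0e) (.lf 0))))) (.nd (.nd (.nd (.nd (.lf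 0x213e) (.lf 0xe00)) (.nd (.lf 0x6d7) (.lf 0))) (.nd (.nd (.lf 0x3e8) (.lf 0x3319)) (.nd (.lf 0x2a2c) (.lf 0)))) (.nd (.nd (.nd (.lf 0x291) (.lf 0x3051)) (.nd (.lf 0x86f) (.lf 0))) (.nd (.nd (.lf 0x255b) (.lf 0x177f)) (.nd (.lf 0x2bfe) (.lf 0))))))))
def parT_nabbbaa : Tr := (.nd (.nd (.nd (.nd (.nd (.nd (.nd (.lf 0x8) (.lf 0xc18)) (.nd (.lf 0x56c) (.lf 0))) (.nd (.nd (.lf 0x22a0) (.lf 0x106c)) (.nd (.lf 0x882) (.lf 0)))) (.nd (.nd (.nd (.lf 0x14f) (.lf 0x2e1d)) (.nd (.lf 0x6e9) (.lf 0))) (.nd (.nd (.lf 0x3f8) (.lf 0x1343)) (.nd (.lf 0x2a3d) (.lf 0))))) (.nd (.nd (.nd (.nd (.lf 0xab) (.lf 0xd0f)) (.nd (.lf 0x2626) (.lf 0))) (.nd (.nd (.lf 0x34a) (.lf 0x11b4)) (.nd (.lf 0x295c) (.lf 0)))) (.nd (.nd (.nd (.lf 0x1f6) (.lf 0xf2b))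 (.nd (.lf 0x7ad) (.lf 0))) (.nd (.nd (.lf 0x4af) (.lf 0x34ca)) (.nd (.lf 0xb24) (.lf 0)))))) (.nd (.nd (.nd (.nd (.nd (.lf 0x59) (.lf 0xc96)) (.nd (.lf 0x5c7) (.lf 0))) (.nd (.nd (.lf 0x22f2) (.lf 0x3101)) (.nd (.lf 0x8f0) (.lf 0)))) (.nd (.nd (.nd (.lf 0x1a1) (.lf 0xea8)) (.nd (.lf 0x274f) (.lf 0))) (.nd (.nd (.lf 0x2451) (.lf 0x13ef)) (.nd (.lf 0x2ab4) (.lf 0))))) (.nd (.nd (.nd (.nd (.lf 0x20fc) (.lf 0xd95)) (.nd (.lf 0x2688) (.lf 0))) (.nd (.nd (.lf 0x3a2) (.lf 0x1274)) (.nd (.lf 0x29c8) (.lf 0)))) (.nd (.nd (.nd (.lf 0x224b) (.lf 0x2fd9)) (.nd (.lf 0x81d) (.lf 0))) (.nd (.nd (.lf 0x50c) (.lf 0x15fb)) (.nd (.lf 0x2b9a) (.lf 0))))))) (.nd (.nd (.nd (.nd (.nd (.nd (.lf 0x202f) (.lf 0xc5a)) (.nd (.lf 0x598) (.lf 0))) (.nd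 (.nd (.lf 0x2ca) (.lf 0x10b3)) (.nd (.lf 0x8b7) (.lf 0)))) (.nd (.nd (.nd (.lf 0x178) (.lf 0x2e5f)) (.nd (.lf 0x71e) (.lf 0))) (.nd (.nd (.lf 0x428) (.lf 0x3393)) (.nd (.lf 0x2a78) (.lf 0))))) (.nd (.nd (.nd (.nd (.lf 0xd4) (.lf 0x2d53)) (.nd (.lf 0x658) (.lf 0))) (.nd (.nd (.lf 0x378) (.lf 0x120a)) (.nd (.lf 0x2993) (.lf 0)))) (.nd (.nd (.nd (.lf 0x2221) (.lf 0x2f7e)) (.nd (.lf 0x27e3) (.lf 0))) (.nd (.nd (.lf 0x4de) (.lf 0x155a)) (.nd (.lf 0xb66) (.lf 0)))))) (.nd (.nd (.nd (.nd (.nd (.lf 0x2081) (.lf 0xcce)) (.nd (.lf 0x25f9) (.lf 0))) (.nd (.nd (.lf 0x231f) (.lf 0x3152)) (.nd (.lf 0x2928) (.lf 0)))) (.nd (.nd (.nd (.lf 0x1cb) (.lf 0x2ee4)) (.nd (.lf 0x277d) (.lf 0))) (.nd (.nd (.lf 0x480) (.lf 0x1462)) (.nd (.lf 0xaea)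 (.lf 0))))) (.nd (.nd (.nd (.nd (.lf 0x125) (.lf 0x2dd3)) (.nd (.lf 0x6b8) (.lf 0))) (.nd (.nd (.lf 0x3cd) (.lf 0x12d5)) (.nd (.lf 0x2a02) (.lf 0)))) (.nd (.nd (.nd (.lf 0x2275) (.lf 0x1024)) (.nd (.lf 0x84f) (.lf 0))) (.nd (.nd (.lf 0x253d) (.lf 0x16aa)) (.nd (.lf 0x2bd8) (.lf 0))))))))
def parT_nabbbab : Tr := (.nd (.nd (.nd (.nd (.nd (.nd (.nd (.lf 0x201b) (.lf 0xc3b)) (.nd (.lf 0x581) (.lf 0))) (.nd (.nd (.lf 0x2b5) (.lf 0x1091)) (.nd (.lf 0x89b) (.lf 0)))) (.nd (.nd (.nd (.lf 0x2162) (.lf 0x2e3e)) (.nd (.lf 0x2704) (.lf 0))) (.nd (.nd (.lf 0x40e) (.lf 0x1367)) (.nd (.lf 0x2a5c) (.lf 0))))) (.nd (.nd (.nd (.nd (.lf 0xbf) (.lf 0x2d36)) (.nd (.lf 0x63f) (.lf 0))) (.nd (.nd (.lf 0x235f) (.lf 0x31e0)) (.nd (.lf 0x977) (.lf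 0)))) (.nd (.nd (.nd (.lf 0x20d) (.lf 0x2f55)) (.nd (.lf 0x7c8) (.lf 0))) (.nd (.nd (.lf 0x4c7) (.lf 0x350f)) (.nd (.lf 0xb45) (.lf 0)))))) (.nd (.nd (.nd (.nd (.nd (.lf 0x6d) (.lf 0xcb3)) (.nd (.lf 0x25e1) (.lf 0))) (.nd (.nd (.lf 0x2309) (.lf 0x3129)) (.nd (.lf 0x90c) (.lf 0)))) (.nd (.nd (.nd (.lf 0x21b4) (.lf 0x2ec4)) (.nd (.lf 0x767) (.lf 0))) (.nd (.nd (.lf 0x469) (.lf 0x142a)) (.nd (.lf 0xad0) (.lf 0))))) (.nd (.nd (.nd (.nd (.lf 0x111) (.lf 0xdb3)) (.nd (.lf 0x26a0) (.lf 0))) (.nd (.nd (.lf 0x23b6) (.lf 0x32a1)) (.nd (.lf 0x9e6) (.lf 0)))) (.nd (.nd (.nd (.lf 0x261) (.lf 0x2ffc)) (.nd (.lf 0x837) (.lf 0))) (.nd (.nd (.lf 0x525) (.lf 0x3644)) (.nd (.lf 0x2bb7) (.lf 0))))))) (.nd (.nd (.nd (.nd (.nd (.nd (.lf 0x2044)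 (.lf 0x2c75)) (.nd (.lf 0x5b0) (.lf 0))) (.nd (.nd (.lf 0x2de) (.lf 0x10dc)) (.nd (.lf 0x28d3) (.lf 0)))) (.nd (.nd (.nd (.lf 0x18c) (.lf 0xe82)) (.nd (.lf 0x73a) (.lf 0))) (.nd (.nd (.lf 0x43d) (.lf 0x33ba)) (.nd (.lf 0x2a96) (.lf 0))))) (.nd (.nd (.nd (.nd (.lf 0xe8) (.lf 0xd78)) (.nd (.lf 0x2671) (.lf 0))) (.nd (.nd (.lf 0x38d) (.lf 0x123a)) (.nd (.lf 0x29ac) (.lf 0)))) (.nd (.nd (.nd (.lf 0x2236) (.lf 0x2fb0)) (.nd (.lf 0x27fd) (.lf 0))) (.nd (.nd (.lf 0x24f4) (.lf 0x35a5)) (.nd (.lf 0xb80) (.lf 0)))))) (.nd (.nd (.nd (.nd (.nd (.lf 0x2095) (.lf 0xcef)) (.nd (.lf 0x60f) (.lf 0))) (.nd (.nd (.lf 0x334) (.lf 0x117e)) (.nd (.lf 0x944) (.lf 0)))) (.nd (.nd (.nd (.lf 0x1e0) (.lf 0xf07)) (.nd (.lf 0x2796) (.lf 0))) (.nd (.nd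 (.lf 0x497) (.lf 0x3496)) (.nd (.lf 0x2b07) (.lf 0))))) (.nd (.nd (.nd (.nd (.lf 0x2139) (.lf 0xdfa)) (.nd (.lf 0x6d1) (.lf 0))) (.nd (.nd (.lf 0x23e2) (.lf 0x130b)) (.nd (.lf 0xa24) (.lf 0)))) (.nd (.nd (.nd (.lf 0x28c) (.lf 0x1049)) (.nd (.lf 0x2868) (.lf 0))) (.nd (.nd (.lf 0x2553) (.lf 0x3737)) (.nd (.lf 0x2bf8) (.lf 0))))))))
def parT_nabbbba : Tr := (.nd (.nd (.nd (.nd (.nd (.nd (.nd (.lf 0x12) (.lf 0xc25)) (.nd (.lf 0x2576) (.lf 0))) (.nd (.nd (.lf 0x22aa) (.lf 0x1080)) (.nd (.lf 0x88d) (.lf 0)))) (.nd (.nd (.nd (.lf 0x159) (.lf 0x2e2f)) (.nd (.lf 0x6f7) (.lf 0))) (.nd (.nd (.lf 0x402) (.lf 0x1359)) (.nd (.lf 0xa4d) (.lf 0))))) (.nd (.nd (.nd (.nd (.lf 0xb5) (.lf 0xd1f)) (.nd (.lf 0x634) (.lf 0))) (.nd (.nd (.lf 0x2354)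 (.lf 0x11c8)) (.nd (.lf 0x968) (.lf 0)))) (.nd (.nd (.nd (.lf 0x2201) (.lf 0xf40)) (.nd (.lf 0x7bb) (.lf 0))) (.nd (.nd (.lf 0x4ba) (.lf 0x34eb)) (.nd (.lf 0xb33) (.lf 0)))))) (.nd (.nd (.nd (.nd (.nd (.lf 0x2062) (.lf 0x2ca2)) (.nd (.lf 0x5d5) (.lf 0))) (.nd (.nd (.lf 0x2fe) (.lf 0x1115)) (.nd (.lf 0x28ff) (.lf 0)))) (.nd (.nd (.nd (.lf 0x1ab) (.lf 0x2eb3)) (.nd (.lf 0x275a) (.lf 0))) (.nd (.nd (.lf 0x245e) (.lf 0x1412)) (.nd (.lf 0xac2) (.lf 0))))) (.nd (.nd (.nd (.nd (.lf 0x107) (.lf 0xda2)) (.nd (.lf 0x2695) (.lf 0))) (.nd (.nd (.lf 0x3ac) (.lf 0x1291)) (.nd (.lf 0x9d7) (.lf 0)))) (.nd (.nd (.nd (.lf 0x2256) (.lf 0xfeb)) (.nd (.lf 0x82a) (.lf 0))) (.nd (.nd (.lf 0x2517) (.lf 0x1618)) (.nd (.lf 0x2ba9) (.lf 0))))))) (.nd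 (.nd (.nd (.nd (.nd (.nd (.lf 0x203a) (.lf 0x2c65)) (.nd (.lf 0x5a4) (.lf 0))) (.nd (.nd (.lf 0x2d4) (.lf 0x30c8)) (.nd (.lf 0x8c4) (.lf 0)))) (.nd (.nd (.nd (.lf 0x182) (.lf 0xe6f)) (.nd (.lf 0x72b) (.lf 0))) (.nd (.nd (.lf 0x2432) (.lf 0x13a5)) (.nd (.lf 0xa86) (.lf 0))))) (.nd (.nd (.nd (.nd (.lf 0xde) (.lf 0xd66)) (.nd (.lf 0x665) (.lf 0))) (.nd (.nd (.lf 0x383) (.lf 0x121f)) (.nd (.lf 0x29a0) (.lf 0)))) (.nd (.nd (.nd (.lf 0x22c) (.lf 0xf96)) (.nd (.lf 0x7ef) (.lf 0))) (.nd (.nd (.lf 0x4ea) (.lf 0x1583)) (.nd (.lf 0xb73) (.lf 0)))))) (.nd (.nd (.nd (.nd (.nd (.lf 0x208b) (.lf 0x2cdc)) (.nd (.lf 0x2603) (.lf 0))) (.nd (.nd (.lf 0x2329) (.lf 0x1167)) (.nd (.lf 0x934) (.lf 0)))) (.nd (.nd (.nd (.lf 0x1d5) (.lf 0xef8)) (.nd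 (.lf 0x2789) (.lf 0))) (.nd (.nd (.lf 0x248b) (.lf 0x347a)) (.nd (.lf 0x2af7) (.lf 0))))) (.nd (.nd (.nd (.nd (.lf 0x212f) (.lf 0xde6)) (.nd (.lf 0x26c5) (.lf 0))) (.nd (.nd (.lf 0x23d8) (.lf 0x32f5)) (.nd (.lf 0xa16) (.lf 0)))) (.nd (.nd (.nd (.lf 0x281) (.lf 0x1035)) (.nd (.lf 0x285d) (.lf 0))) (.nd (.nd (.lf 0x548) (.lf 0x16f1)) (.nd (.lf 0xbe8) (.lf 0))))))))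
def parT_nabbbbb : Tr := (.nd (.nd (.nd (.nd (.nd (.nd (.nd (.lf 0x2025) (.lf 0xc4b)) (.nd (.lf 0x58d) (.lf 0))) (.nd (.nd (.lf 0x22be) (.lf 0x10a2)) (.nd (.lf 0x8a9) (.lf 0)))) (.nd (.nd (.nd (.lf 0x16d) (.lf 0x2e4d)) (.nd (.lf 0x2710) (.lf 0))) (.nd (.nd (.lf 0x2418) (.lf 0x1378)) (.nd (.lf 0xa6c) (.lf 0))))) (.nd (.nd (.nd (.nd (.lf 0xc9) (.lf 0xd45)) (.nd (.lf 0x64b) (.lf 0))) (.nd (.nd (.lf 0x236a) (.lf 0x11f6)) (.nd (.lf 0x2985) (.lf 0)))) (.nd (.nd (.nd (.lf 0x217) (.lf 0xf69)) (.nd (.lf 0x7d6) (.lf 0))) (.nd (.nd (.lf 0x24d2) (.lf 0x3531)) (.nd (.lf 0xb57) (.lf 0)))))) (.nd (.nd (.nd (.nd (.nd (.lf 0x78) (.lf 0xcc1)) (.nd (.lf 0x25ed) (.lf 0))) (.nd (.nd (.lf 0x315) (.lf 0x113b)) (.nd (.lf 0x291a) (.lf 0)))) (.nd (.nd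 (.nd (.lf 0x1c1) (.lf 0xed5)) (.nd (.lf 0x772) (.lf 0))) (.nd (.nd (.lf 0x475) (.lf 0x1443)) (.nd (.lf 0xadf) (.lf 0))))) (.nd (.nd (.nd (.nd (.lf 0x211b) (.lf 0xdc5)) (.nd (.lf 0x26ac) (.lf 0))) (.nd (.nd (.lf 0x3c2) (.lf 0x32bb)) (.nd (.lf 0x29f4) (.lf 0)))) (.nd (.nd (.nd (.lf 0x226a) (.lf 0x300f)) (.nd (.lf 0x846) (.lf 0))) (.nd (.nd (.lf 0x533) (.lf 0x166d)) (.nd (.lf 0xbcb) (.lf 0))))))) (.nd (.nd (.nd (.nd (.nd (.nd (.lf 0x4f) (.lf 0xc88)) (.nd (.lf 0x5bb) (.lf 0))) (.nd (.nd (.lf 0x22e8) (.lf 0x10ee)) (.nd (.lf 0x8e3) (.lf 0)))) (.nd (.nd (.nd (.lf 0x197) (.lf 0x2e94)) (.nd (.lf 0x2744) (.lf 0))) (.nd (.nd (.lf 0x448) (.lf 0x33d6)) (.nd (.lf 0xaa3) (.lf 0))))) (.nd (.nd (.nd (.nd (.lf 0x20f2) (.lf 0xd84)) (.nd (.lf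 0x67e) (.lf 0))) (.nd (.nd (.lf 0x397) (.lf 0x325a)) (.nd (.lf 0x29b9) (.lf 0)))) (.nd (.nd (.nd (.lf 0x241) (.lf 0xfc1)) (.nd (.lf 0x80e) (.lf 0))) (.nd (.nd (.lf 0x24ff) (.lf 0x15d6)) (.nd (.lf 0xb8d) (.lf 0)))))) (.nd (.nd (.nd (.nd (.nd (.lf 0xa0) (.lf 0xcfd)) (.nd (.lf 0x261a) (.lf 0))) (.nd (.nd (.lf 0x233f) (.lf 0x3199)) (.nd (.lf 0x294e) (.lf 0)))) (.nd (.nd (.nd (.lf 0x1eb) (.lf 0x2f18)) (.nd (.lf 0x27a1) (.lf 0))) (.nd (.nd (.lf 0x4a3) (.lf 0x14af)) (.nd (.lf 0x2b16) (.lf 0))))) (.nd (.nd (.nd (.nd (.lf 0x144) (.lf 0x2e0b)) (.nd (.lf 0x6dd) (.lf 0))) (.nd (.nd (.lf 0x23ec) (.lf 0x332a)) (.nd (.lf 0x2a32) (.lf 0)))) (.nd (.nd (.nd (.lf 0x296) (.lf 0x105a)) (.nd (.lf 0x876) (.lf 0))) (.nd (.nd (.lf 0x561) (.lf 0x17a2))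 (.nd (.lf 0x2c07) (.lf 0))))))))
def parT_nbaaaaa : Tr := (.nd (.nd (.nd (.nd (.nd (.nd (.nd (.lf 0x0) (.lf 0x2c0a)) (.nd (.lf 0x2562) (.lf 0x17bf))) (.nd (.nd (.lf 0x298) (.lf 0x1061)) (.nd (.lf 0x2877) (.lf 0)))) (.nd (.nd (.nd (.lf 0x146) (.lf 0xe0f)) (.nd (.lf 0x26df) (.lf 0))) (.nd (.nd (.lf 0x3ef) (.lf 0x1330)) (.nd (.lf 0x2a35) (.lf 0))))) (.nd (.nd (.nd (.nd (.lf 0x20a1) (.lf 0xd00)) (.nd (.lf 0x261c) (.lf 0))) (.nd (.nd (.lf 0x2341) (.lf 0x11a2)) (.nd (.lf 0x952) (.lf 0)))) (.nd (.nd (.nd (.lf 0x21ed) (.lf 0xf1d)) (.nd (.lf 0x7a3) (.lf 0))) (.nd (.nd (.lf 0x4a5) (.lf 0x14b2)) (.nd (.lf 0xb19) (.lf 0)))))) (.nd (.nd (.nd (.nd (.nd (.lf 0x51) (.lf 0x2c8b)) (.nd (.lf 0x5bd) (.lf 0))) (.nd (.nd (.lf 0x2ea) (.lf 0x10f3))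 (.nd (.lf 0x28e6) (.lf 0)))) (.nd (.nd (.nd (.lf 0x199) (.lf 0x2e96)) (.nd (.lf 0x2746) (.lf 0))) (.nd (.nd (.lf 0x44a) (.lf 0x13db)) (.nd (.lf 0x2aa6) (.lf 0))))) (.nd (.nd (.nd (.nd (.lf 0x20f4) (.lf 0x2d86)) (.nd (.lf 0x267f) (.lf 0))) (.nd (.nd (.lf 0x39a) (.lf 0x1262)) (.nd (.lf 0x29bc) (.lf 0)))) (.nd (.nd (.nd (.lf 0x243) (.lf 0xfc5)) (.nd (.lf 0x810) (.lf 0))) (.nd (.nd (.lf 0x501) (.lf 0x15da)) (.nd (.lf 0xb90) (.lf 0))))))) (.nd (.nd (.nd (.nd (.nd (.nd (.lf 0x2027) (.lf 0x2c4c)) (.nd (.lf 0x58f) (.lf 0))) (.nd (.nd (.lf 0x2c1) (.lf 0x30a5)) (.nd (.lf 0x8ab) (.lf 0)))) (.nd (.nd (.nd (.lf 0x216f) (.lf 0xe52)) (.nd (.lf 0x714) (.lf 0))) (.nd (.nd (.lf 0x41c) (.lf 0x1385)) (.nd (.lf 0xa6e) (.lf 0))))) (.nd (.nd (.nd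 (.nd (.lf 0xcb) (.lf 0x2d47)) (.nd (.lf 0x64d) (.lf 0))) (.nd (.nd (.lf 0x236c) (.lf 0x31f8)) (.nd (.lf 0x988) (.lf 0)))) (.nd (.nd (.nd (.lf 0x219) (.lf 0xf6b)) (.nd (.lf 0x27d9) (.lf 0))) (.nd (.nd (.lf 0x4d6) (.lf 0x3533)) (.nd (.lf 0x2b59) (.lf 0)))))) (.nd (.nd (.nd (.nd (.nd (.lf 0x2079) (.lf 0xcc5)) (.nd (.lf 0x25ef) (.lf 0))) (.nd (.nd (.lf 0x317) (.lf 0x3140)) (.nd (.lf 0x91e) (.lf 0)))) (.nd (.nd (.nd (.lf 0x21c2) (.lf 0xed9)) (.nd (.lf 0x2773) (.lf 0))) (.nd (.nd (.lf 0x2476) (.lf 0x1445)) (.nd (.lf 0x2ae0) (.lf 0))))) (.nd (.nd (.nd (.nd (.lf 0x11d) (.lf 0x2dc6)) (.nd (.lf 0x26ae) (.lf 0))) (.nd (.nd (.lf 0x3c5) (.lf 0x12c0)) (.nd (.lf 0x29f6) (.lf 0)))) (.nd (.nd (.nd (.lf 0x226c) (.lf 0x3014)) (.nd (.lf 0x2847)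 (.lf 0))) (.nd (.nd (.lf 0x535) (.lf 0x367b)) (.nd (.lf 0xbce) (.lf 0))))))))
def parT_nbaaaab : Tr := (.nd (.nd (.nd (.nd (.nd (.nd (.nd (.lf 0x2013) (.lf 0xc29)) (.nd (.lf 0x579) (.lf 0))) (.nd (.nd (.lf 0x2ac) (.lf 0x1083)) (.nd (.lf 0x88f) (.lf 0)))) (.nd (.nd (.nd (.lf 0x15b) (.lf 0xe32)) (.nd (.lf 0x26f9) (.lf 0))) (.nd (.nd (.lf 0x404) (.lf 0x335a)) (.nd (.lf 0x2a4e) (.lf 0))))) (.nd (.nd (.nd (.nd (.lf 0xb7) (.lf 0xd24)) (.nd (.lf 0x636) (.lf 0))) (.nd (.nd (.lf 0x357) (.lf 0x11d0)) (.nd (.lf 0x296b) (.lf 0)))) (.nd (.nd (.nd (.lf 0x204) (.lf 0xf45)) (.nd (.lf 0x7be) (.lf 0))) (.nd (.nd (.lf 0x4bc) (.lf 0x34f2)) (.nd (.lf 0xb36) (.lf 0)))))) (.nd (.nd (.nd (.nd (.nd (.lf 0x65) (.lf 0xca5)) (.nd (.lf 0x25d7) (.lf 0)))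 (.nd (.nd (.lf 0x300) (.lf 0x1118)) (.nd (.lf 0x2902) (.lf 0)))) (.nd (.nd (.nd (.lf 0x21ac) (.lf 0xeb9)) (.nd (.lf 0x75e) (.lf 0))) (.nd (.nd (.lf 0x2460) (.lf 0x1417)) (.nd (.lf 0x2ac3) (.lf 0))))) (.nd (.nd (.nd (.nd (.lf 0x2108) (.lf 0xda4)) (.nd (.lf 0x2697) (.lf 0))) (.nd (.nd (.lf 0x3ae) (.lf 0x3294)) (.nd (.lf 0x29d8) (.lf 0)))) (.nd (.nd (.nd (.lf 0x2258) (.lf 0xfed)) (.nd (.lf 0x82d) (.lf 0))) (.nd (.nd (.lf 0x519) (.lf 0x161d)) (.nd (.lf 0x2bab) (.lf 0))))))) (.nd (.nd (.nd (.nd (.nd (.nd (.lf 0x203c) (.lf 0x2c67)) (.nd (.lf 0x5a6) (.lf 0))) (.nd (.nd (.lf 0x2d6) (.lf 0x30ce)) (.nd (.lf 0x8c8) (.lf 0)))) (.nd (.nd (.nd (.lf 0x184) (.lf 0x2e70)) (.nd (.lf 0x72e) (.lf 0))) (.nd (.nd (.lf 0x2434) (.lf 0x13a8)) (.nd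 (.lf 0xa8a) (.lf 0))))) (.nd (.nd (.nd (.nd (.lf 0xe0) (.lf 0xd6d)) (.nd (.lf 0x667) (.lf 0))) (.nd (.nd (.lf 0x385) (.lf 0x3221)) (.nd (.lf 0x29a2) (.lf 0)))) (.nd (.nd (.nd (.lf 0x22e) (.lf 0xf9a)) (.nd (.lf 0x7f1) (.lf 0))) (.nd (.nd (.lf 0x4ec) (.lf 0x1589)) (.nd (.lf 0xb75) (.lf 0)))))) (.nd (.nd (.nd (.nd (.nd (.lf 0x8d) (.lf 0xce0)) (.nd (.lf 0x606) (.lf 0))) (.nd (.nd (.lf 0x32b) (.lf 0x116d)) (.nd (.lf 0x936) (.lf 0)))) (.nd (.nd (.nd (.lf 0x1d7) (.lf 0xefb)) (.nd (.lf 0x278b) (.lf 0))) (.nd (.nd (.lf 0x248d) (.lf 0x147e)) (.nd (.lf 0x2afa) (.lf 0))))) (.nd (.nd (.nd (.nd (.lf 0x2131) (.lf 0xde9)) (.nd (.lf 0x6c8) (.lf 0))) (.nd (.nd (.lf 0x3da) (.lf 0x32f8)) (.nd (.lf 0xa1b) (.lf 0)))) (.nd (.nd (.nd (.lf 0x2282)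 (.lf 0x103a)) (.nd (.lf 0x85f) (.lf 0))) (.nd (.nd (.lf 0x2549) (.lf 0x36f6)) (.nd (.lf 0xbed) (.lf 0))))))))
def parT_nbaaaba : Tr := (.nd (.nd (.nd (.nd (.nd (.nd (.nd (.lf 0x2009) (.lf 0xc1a)) (.nd (.lf 0x56e) (.lf 0))) (.nd (.nd (.lf 0x22a2) (.lf 0x106f)) (.nd (.lf 0x2883) (.lf 0)))) (.nd (.nd (.nd (.lf 0x151) (.lf 0x2e20)) (.nd (.lf 0x6ec) (.lf 0))) (.nd (.nd (.lf 0x23f9) (.lf 0x1346)) (.nd (.lf 0xa40) (.lf 0))))) (.nd (.nd (.nd (.nd (.lf 0x20ac) (.lf 0xd13)) (.nd (.lf 0x2628) (.lf 0))) (.nd (.nd (.lf 0x234b) (.lf 0x31b6)) (.nd (.lf 0x295e) (.lf 0)))) (.nd (.nd (.nd (.lf 0x1f8) (.lf 0xf2e)) (.nd (.lf 0x7b0) (.lf 0))) (.nd (.nd (.lf 0x24b1) (.lf 0x14cf)) (.nd (.lf 0xb27) (.lf 0)))))) (.nd (.nd (.nd (.nd (.nd (.lf 0x5b)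 (.lf 0x2c98)) (.nd (.lf 0x5ca) (.lf 0))) (.nd (.nd (.lf 0x2f6) (.lf 0x3103)) (.nd (.lf 0x8f2) (.lf 0)))) (.nd (.nd (.nd (.lf 0x1a3) (.lf 0x2ea9)) (.nd (.lf 0x2751) (.lf 0))) (.nd (.nd (.lf 0x455) (.lf 0x33fa)) (.nd (.lf 0xab6) (.lf 0))))) (.nd (.nd (.nd (.nd (.lf 0x20fe) (.lf 0x2d96)) (.nd (.lf 0x68b) (.lf 0))) (.nd (.nd (.lf 0x3a4) (.lf 0x327a)) (.nd (.lf 0x29cc) (.lf 0)))) (.nd (.nd (.nd (.lf 0x24d) (.lf 0xfdc)) (.nd (.lf 0x81f) (.lf 0))) (.nd (.nd (.lf 0x50e) (.lf 0x1600)) (.nd (.lf 0xb9c) (.lf 0))))))) (.nd (.nd (.nd (.nd (.nd (.nd (.lf 0x31) (.lf 0xc5c)) (.nd (.lf 0x59a) (.lf 0))) (.nd (.nd (.lf 0x2cc) (.lf 0x10b6)) (.nd (.lf 0x8b9) (.lf 0)))) (.nd (.nd (.nd (.lf 0x17a) (.lf 0xe62)) (.nd (.lf 0x721) (.lf 0))) (.nd (.nd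 (.lf 0x2429) (.lf 0x1397)) (.nd (.lf 0xa7b) (.lf 0))))) (.nd (.nd (.nd (.nd (.lf 0xd6) (.lf 0xd57)) (.nd (.lf 0x265a) (.lf 0))) (.nd (.nd (.lf 0x37a) (.lf 0x120e)) (.nd (.lf 0x996) (.lf 0)))) (.nd (.nd (.nd (.lf 0x224) (.lf 0x2f83)) (.nd (.lf 0x27e5) (.lf 0))) (.nd (.nd (.lf 0x4e1) (.lf 0x3562)) (.nd (.lf 0xb68) (.lf 0)))))) (.nd (.nd (.nd (.nd (.nd (.lf 0x2083) (.lf 0xcd1)) (.nd (.lf 0x25fb) (.lf 0))) (.nd (.nd (.lf 0x2321) (.lf 0x1155)) (.nd (.lf 0x292a) (.lf 0)))) (.nd (.nd (.nd (.lf 0x1cd) (.lf 0xee6)) (.nd (.lf 0x780) (.lf 0))) (.nd (.nd (.lf 0x2482) (.lf 0x3465)) (.nd (.lf 0x2aeb) (.lf 0))))) (.nd (.nd (.nd (.nd (.lf 0x127) (.lf 0xdd8)) (.nd (.lf 0x26ba) (.lf 0))) (.nd (.nd (.lf 0x23cf) (.lf 0x12d9)) (.nd (.lf 0xa06)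 (.lf 0)))) (.nd (.nd (.nd (.lf 0x2277) (.lf 0x1026)) (.nd (.lf 0x851) (.lf 0))) (.nd (.nd (.lf 0x253f) (.lf 0x36af)) (.nd (.lf 0x2bda) (.lf 0))))))))
def parT_nbaaabb : Tr := (.nd (.nd (.nd (.nd (.nd (.nd (.nd (.lf 0x201d) (.lf 0x2c3f)) (.nd (.lf 0x2583) (.lf 0))) (.nd (.nd (.lf 0x22b6) (.lf 0x1094)) (.nd (.lf 0x89e) (.lf 0)))) (.nd (.nd (.nd (.lf 0x2164) (.lf 0xe43)) (.nd (.lf 0x2707) (.lf 0))) (.nd (.nd (.lf 0x2410) (.lf 0x136a)) (.nd (.lf 0x2a5e) (.lf 0))))) (.nd (.nd (.nd (.nd (.lf 0xc1) (.lf 0x2d39)) (.nd (.lf 0x2641) (.lf 0))) (.nd (.nd (.lf 0x2361) (.lf 0x11e6)) (.nd (.lf 0x2979) (.lf 0)))) (.nd (.nd (.nd (.lf 0x20f) (.lf 0x2f57)) (.nd (.lf 0x27c9) (.lf 0))) (.nd (.nd (.lf 0x4ca) (.lf 0x351a)) (.nd (.lf 0xb47) (.lf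 0)))))) (.nd (.nd (.nd (.nd (.nd (.lf 0x6f) (.lf 0x2cb7)) (.nd (.lf 0x5e4) (.lf 0))) (.nd (.nd (.lf 0x30b) (.lf 0x312b)) (.nd (.lf 0x290d) (.lf 0)))) (.nd (.nd (.nd (.lf 0x21b6) (.lf 0xec7)) (.nd (.lf 0x2769) (.lf 0))) (.nd (.nd (.lf 0x46b) (.lf 0x342e)) (.nd (.lf 0x2ad2) (.lf 0))))) (.nd (.nd (.nd (.nd (.lf 0x113) (.lf 0xdb7)) (.nd (.lf 0x6a3) (.lf 0))) (.nd (.nd (.lf 0x3b9) (.lf 0x12a3)) (.nd (.lf 0x9e8) (.lf 0)))) (.nd (.nd (.nd (.lf 0x263) (.lf 0x1004)) (.nd (.lf 0x283b) (.lf 0))) (.nd (.nd (.lf 0x527) (.lf 0x364f)) (.nd (.lf 0xbbd) (.lf 0))))))) (.nd (.nd (.nd (.nd (.nd (.nd (.lf 0x47) (.lf 0xc7a)) (.nd (.lf 0x5b2) (.lf 0))) (.nd (.nd (.lf 0x22df) (.lf 0x30df)) (.nd (.lf 0x28d6) (.lf 0)))) (.nd (.nd (.nd (.lf 0x18e) (.lf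 0x2e83)) (.nd (.lf 0x73c) (.lf 0))) (.nd (.nd (.lf 0x43f) (.lf 0x13c2)) (.nd (.lf 0x2a98) (.lf 0))))) (.nd (.nd (.nd (.nd (.lf 0xea) (.lf 0x2d7a)) (.nd (.lf 0x674) (.lf 0))) (.nd (.nd (.lf 0x38f) (.lf 0x123e)) (.nd (.lf 0x9b0) (.lf 0)))) (.nd (.nd (.nd (.lf 0x239) (.lf 0xfb2)) (.nd (.lf 0x802) (.lf 0))) (.nd (.nd (.lf 0x4f6) (.lf 0x15b5)) (.nd (.lf 0xb82) (.lf 0)))))) (.nd (.nd (.nd (.nd (.nd (.lf 0x2097) (.lf 0xcf2)) (.nd (.lf 0x611) (.lf 0))) (.nd (.nd (.lf 0x2336) (.lf 0x1185)) (.nd (.lf 0x2945) (.lf 0)))) (.nd (.nd (.nd (.lf 0x1e3) (.lf 0xf0a)) (.nd (.lf 0x2798) (.lf 0))) (.nd (.nd (.lf 0x2499) (.lf 0x149b)) (.nd (.lf 0xb09) (.lf 0))))) (.nd (.nd (.nd (.nd (.lf 0x213b) (.lf 0x2dfb)) (.nd (.lf 0x6d3) (.lf 0))) (.nd (.nd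 (.lf 0x3e5) (.lf 0x1310)) (.nd (.lf 0xa27) (.lf 0)))) (.nd (.nd (.nd (.lf 0x28e) (.lf 0x104d)) (.nd (.lf 0x86b) (.lf 0))) (.nd (.nd (.lf 0x2556) (.lf 0x174b)) (.nd (.lf 0xbfb) (.lf 0))))))))
def parT_nbaabaa : Tr := (.nd (.nd (.nd (.nd (.nd (.nd (.nd (.lf 0x5) (.lf 0xc13)) (.nd (.lf 0x568) (.lf 0x37e5))) (.nd (.nd (.lf 0x229d) (.lf 0x1067)) (.nd (.lf 0x87f) (.lf 0)))) (.nd (.nd (.nd (.lf 0x14c) (.lf 0x2e18)) (.nd (.lf 0x26e5) (.lf 0))) (.nd (.nd (.lf 0x3f5) (.lf 0x133a)) (.nd (.lf 0x2a3a) (.lf 0))))) (.nd (.nd (.nd (.nd (.lf 0x20a6) (.lf 0xd0a)) (.nd (.lf 0x622) (.lf 0))) (.nd (.nd (.lf 0x346) (.lf 0x31aa)) (.nd (.lf 0x958) (.lf 0)))) (.nd (.nd (.nd (.lf 0x1f3) (.lf 0x2f25)) (.nd (.lf 0x27aa) (.lf 0))) (.nd (.nd (.lf 0x4ab)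 (.lf 0x34c3)) (.nd (.lf 0xb20) (.lf 0)))))) (.nd (.nd (.nd (.nd (.nd (.lf 0x2055) (.lf 0x2c92)) (.nd (.lf 0x5c4) (.lf 0))) (.nd (.nd (.lf 0x2ef) (.lf 0x10ff)) (.nd (.lf 0x8ec) (.lf 0)))) (.nd (.nd (.nd (.lf 0x19e) (.lf 0xe9f)) (.nd (.lf 0x274b) (.lf 0))) (.nd (.nd (.lf 0x244e) (.lf 0x13e7)) (.nd (.lf 0xaae) (.lf 0))))) (.nd (.nd (.nd (.nd (.lf 0x20f9) (.lf 0x2d8f)) (.nd (.lf 0x2685) (.lf 0))) (.nd (.nd (.lf 0x39f) (.lf 0x326a)) (.nd (.lf 0x9c5) (.lf 0)))) (.nd (.nd (.nd (.lf 0x248) (.lf 0x2fd3)) (.nd (.lf 0x818) (.lf 0))) (.nd (.nd (.lf 0x509) (.lf 0x15eb)) (.nd (.lf 0xb95) (.lf 0))))))) (.nd (.nd (.nd (.nd (.nd (.nd (.lf 0x2c) (.lf 0x2c54)) (.nd (.lf 0x594) (.lf 0))) (.nd (.nd (.lf 0x2c6) (.lf 0x30ae)) (.nd (.lf 0x8b3) (.lf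 0)))) (.nd (.nd (.nd (.lf 0x2174) (.lf 0xe58)) (.nd (.lf 0x71a) (.lf 0))) (.nd (.nd (.lf 0x424) (.lf 0x338f)) (.nd (.lf 0xa74) (.lf 0))))) (.nd (.nd (.nd (.nd (.lf 0xd1) (.lf 0xd4f)) (.nd (.lf 0x2654) (.lf 0))) (.nd (.nd (.lf 0x375) (.lf 0x1200)) (.nd (.lf 0x98f) (.lf 0)))) (.nd (.nd (.nd (.lf 0x221e) (.lf 0xf79)) (.nd (.lf 0x7df) (.lf 0))) (.nd (.nd (.lf 0x4db) (.lf 0x154a)) (.nd (.lf 0x2b62) (.lf 0)))))) (.nd (.nd (.nd (.nd (.nd (.lf 0x207e) (.lf 0x2cca)) (.nd (.lf 0x5f6) (.lf 0))) (.nd (.nd (.lf 0x31c) (.lf 0x114c)) (.nd (.lf 0x2925) (.lf 0)))) (.nd (.nd (.nd (.lf 0x21c7) (.lf 0xee0)) (.nd (.lf 0x2779) (.lf 0))) (.nd (.nd (.lf 0x47c) (.lf 0x3456)) (.nd (.lf 0xae6) (.lf 0))))) (.nd (.nd (.nd (.nd (.lf 0x122) (.lf 0x2dcf))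 (.nd (.lf 0x26b4) (.lf 0))) (.nd (.nd (.lf 0x3ca) (.lf 0x12cc)) (.nd (.lf 0x29fc) (.lf 0)))) (.nd (.nd (.nd (.lf 0x272) (.lf 0x301f)) (.nd (.lf 0x84c) (.lf 0))) (.nd (.nd (.lf 0x53b) (.lf 0x1698)) (.nd (.lf 0xbd3) (.lf 0))))))))
def parT_nbaabab : Tr := (.nd (.nd (.nd (.nd (.nd (.nd (.nd (.lf 0x2018) (.lf 0x2c35)) (.nd (.lf 0x257e) (.lf 0))) (.nd (.nd (.lf 0x2b2) (.lf 0x108a)) (.nd (.lf 0x895) (.lf 0)))) (.nd (.nd (.nd (.lf 0x215f) (.lf 0x2e39)) (.nd (.lf 0x2701) (.lf 0))) (.nd (.nd (.lf 0x40a) (.lf 0x3361)) (.nd (.lf 0xa59) (.lf 0))))) (.nd (.nd (.nd (.nd (.lf 0xbc) (.lf 0xd2f)) (.nd (.lf 0x263b) (.lf 0))) (.nd (.nd (.lf 0x235c) (.lf 0x31d9)) (.nd (.lf 0x972) (.lf 0)))) (.nd (.nd (.nd (.lf 0x20a) (.lf 0x2f4e)) (.nd (.lf 0x7c4)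 (.lf 0))) (.nd (.nd (.lf 0x24c3) (.lf 0x150a)) (.nd (.lf 0xb40) (.lf 0)))))) (.nd (.nd (.nd (.nd (.nd (.lf 0x6a) (.lf 0x2cac)) (.nd (.lf 0x25dd) (.lf 0))) (.nd (.nd (.lf 0x306) (.lf 0x1121)) (.nd (.lf 0x2909) (.lf 0)))) (.nd (.nd (.nd (.lf 0x21b1) (.lf 0xec0)) (.nd (.lf 0x763) (.lf 0))) (.nd (.nd (.lf 0x2465) (.lf 0x3424)) (.nd (.lf 0xac9) (.lf 0))))) (.nd (.nd (.nd (.nd (.lf 0x10e) (.lf 0x2daa)) (.nd (.lf 0x69c) (.lf 0))) (.nd (.nd (.lf 0x23b3) (.lf 0x329c)) (.nd (.lf 0x29e0) (.lf 0)))) (.nd (.nd (.nd (.lf 0x225d) (.lf 0xff8)) (.nd (.lf 0x833) (.lf 0))) (.nd (.nd (.lf 0x2521) (.lf 0x3632)) (.nd (.lf 0xbb3) (.lf 0))))))) (.nd (.nd (.nd (.nd (.nd (.nd (.lf 0x41) (.lf 0xc72)) (.nd (.lf 0x25ac) (.lf 0))) (.nd (.nd (.lf 0x22da)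 (.lf 0x30d6)) (.nd (.lf 0x8d0) (.lf 0)))) (.nd (.nd (.nd (.lf 0x189) (.lf 0x2e7b)) (.nd (.lf 0x735) (.lf 0))) (.nd (.nd (.lf 0x439) (.lf 0x13b3)) (.nd (.lf 0x2a92) (.lf 0))))) (.nd (.nd (.nd (.nd (.lf 0xe5) (.lf 0xd74)) (.nd (.lf 0x266e) (.lf 0))) (.nd (.nd (.lf 0x38a) (.lf 0x322f)) (.nd (.lf 0x9aa) (.lf 0)))) (.nd (.nd (.nd (.lf 0x2233) (.lf 0xfa7)) (.nd (.lf 0x7fa) (.lf 0))) (.nd (.nd (.lf 0x4f1) (.lf 0x1596)) (.nd (.lf 0x2b7b) (.lf 0)))))) (.nd (.nd (.nd (.nd (.nd (.lf 0x92) (.lf 0x2ce8)) (.nd (.lf 0x60c) (.lf 0))) (.nd (.nd (.lf 0x331) (.lf 0x1178)) (.nd (.lf 0x293c) (.lf 0)))) (.nd (.nd (.nd (.lf 0x1dd) (.lf 0x2f03)) (.nd (.lf 0x2791) (.lf 0))) (.nd (.nd (.lf 0x494) (.lf 0x148d)) (.nd (.lf 0xb02) (.lf 0))))) (.nd (.nd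 (.nd (.nd (.lf 0x2136) (.lf 0xdf4)) (.nd (.lf 0x26ce) (.lf 0))) (.nd (.nd (.lf 0x3df) (.lf 0x1303)) (.nd (.lf 0xa21) (.lf 0)))) (.nd (.nd (.nd (.lf 0x288) (.lf 0x1043)) (.nd (.lf 0x865) (.lf 0))) (.nd (.nd (.lf 0x54f) (.lf 0x371b)) (.nd (.lf 0x2bf1) (.lf 0))))))))
def parT_nbaabba : Tr := (.nd (.nd (.nd (.nd (.nd (.nd (.nd (.lf 0x200e) (.lf 0xc22)) (.nd (.lf 0x573) (.lf 0))) (.nd (.nd (.lf 0x22a7) (.lf 0x307c)) (.nd (.lf 0x88a) (.lf 0)))) (.nd (.nd (.nd (.lf 0x156) (.lf 0xe2b)) (.nd (.lf 0x26f2) (.lf 0))) (.nd (.nd (.lf 0x3ff) (.lf 0x1353)) (.nd (.lf 0x2a48) (.lf 0))))) (.nd (.nd (.nd (.nd (.lf 0xb2) (.lf 0xd1b)) (.nd (.lf 0x62e) (.lf 0))) (.nd (.nd (.lf 0x2351) (.lf 0x11c3)) (.nd (.lf 0x965) (.lf 0)))) (.nd (.nd (.nd (.lf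 0x1fd) (.lf 0xf37)) (.nd (.lf 0x7b7) (.lf 0))) (.nd (.nd (.lf 0x24b6) (.lf 0x14de)) (.nd (.lf 0x2b2e) (.lf 0)))))) (.nd (.nd (.nd (.nd (.nd (.lf 0x205f) (.lf 0x2c9d)) (.nd (.lf 0x25d0) (.lf 0))) (.nd (.nd (.lf 0x2fb) (.lf 0x3110)) (.nd (.lf 0x28fa) (.lf 0)))) (.nd (.nd (.nd (.lf 0x21a7) (.lf 0x2eae)) (.nd (.lf 0x2757) (.lf 0))) (.nd (.nd (.lf 0x245b) (.lf 0x3402)) (.nd (.lf 0xabe) (.lf 0))))) (.nd (.nd (.nd (.nd (.lf 0x2103) (.lf 0xd9d)) (.nd (.lf 0x2691) (.lf 0))) (.nd (.nd (.lf 0x23a8) (.lf 0x1288)) (.nd (.lf 0x9d2) (.lf 0)))) (.nd (.nd (.nd (.lf 0x2253) (.lf 0xfe6)) (.nd (.lf 0x825) (.lf 0))) (.nd (.nd (.lf 0x2513) (.lf 0x160e)) (.nd (.lf 0x2ba4) (.lf 0))))))) (.nd (.nd (.nd (.nd (.nd (.nd (.lf 0x37) (.lf 0xc61)) (.nd (.lf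 0x25a0) (.lf 0))) (.nd (.nd (.lf 0x2d1) (.lf 0x10c5)) (.nd (.lf 0x8c0) (.lf 0)))) (.nd (.nd (.nd (.lf 0x17f) (.lf 0x2e6b)) (.nd (.lf 0x2727) (.lf 0))) (.nd (.nd (.lf 0x42f) (.lf 0x139f)) (.nd (.lf 0x2a82) (.lf 0))))) (.nd (.nd (.nd (.nd (.lf 0xdb) (.lf 0xd60)) (.nd (.lf 0x265f) (.lf 0))) (.nd (.nd (.lf 0x37f) (.lf 0x3217)) (.nd (.lf 0x299d) (.lf 0)))) (.nd (.nd (.nd (.lf 0x229) (.lf 0xf8d)) (.nd (.lf 0x7ea) (.lf 0))) (.nd (.nd (.lf 0x24e7) (.lf 0x357d)) (.nd (.lf 0x2b6d) (.lf 0)))))) (.nd (.nd (.nd (.nd (.nd (.lf 0x2088) (.lf 0x2cd8)) (.nd (.lf 0x601) (.lf 0))) (.nd (.nd (.lf 0x326) (.lf 0x3161)) (.nd (.lf 0x292f) (.lf 0)))) (.nd (.nd (.nd (.lf 0x1d2) (.lf 0xef2)) (.nd (.lf 0x2785) (.lf 0))) (.nd (.nd (.lf 0x488) (.lf 0x1471))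 (.nd (.lf 0xaf3) (.lf 0))))) (.nd (.nd (.nd (.nd (.lf 0x212c) (.lf 0xde0)) (.nd (.lf 0x26c0) (.lf 0))) (.nd (.nd (.lf 0x3d6) (.lf 0x12eb)) (.nd (.lf 0xa0f) (.lf 0)))) (.nd (.nd (.nd (.lf 0x27e) (.lf 0x1030)) (.nd (.lf 0x858) (.lf 0))) (.nd (.nd (.lf 0x545) (.lf 0x16d4)) (.nd (.lf 0xbe3) (.lf 0))))))))
def parT_nbaabbb : Tr := (.nd (.nd (.nd (.nd (.nd (.nd (.nd (.lf 0x2022) (.lf 0x2c46)) (.nd (.lf 0x589) (.lf 0))) (.nd (.nd (.lf 0x22bb) (.lf 0x109b)) (.nd (.lf 0x28a4) (.lf 0)))) (.nd (.nd (.nd (.lf 0x16a) (.lf 0x2e49)) (.nd (.lf 0x270d) (.lf 0))) (.nd (.nd (.lf 0x2415) (.lf 0x3373)) (.nd (.lf 0xa66) (.lf 0))))) (.nd (.nd (.nd (.nd (.lf 0xc6) (.lf 0xd42)) (.nd (.lf 0x647) (.lf 0))) (.nd (.nd (.lf 0x367) (.lf 0x11f1)) (.nd (.lf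 0x981) (.lf 0)))) (.nd (.nd (.nd (.lf 0x214) (.lf 0xf61)) (.nd (.lf 0x7d2) (.lf 0))) (.nd (.nd (.lf 0x24cf) (.lf 0x3528)) (.nd (.lf 0x2b50) (.lf 0)))))) (.nd (.nd (.nd (.nd (.nd (.lf 0x74) (.lf 0xcbd)) (.nd (.lf 0x5ea) (.lf 0))) (.nd (.nd (.lf 0x311) (.lf 0x1134)) (.nd (.lf 0x915) (.lf 0)))) (.nd (.nd (.nd (.lf 0x1bd) (.lf 0xed0)) (.nd (.lf 0x76f) (.lf 0))) (.nd (.nd (.lf 0x471) (.lf 0x343a)) (.nd (.lf 0x2adb) (.lf 0))))) (.nd (.nd (.nd (.nd (.lf 0x118) (.lf 0x2dbf)) (.nd (.lf 0x6a9) (.lf 0))) (.nd (.nd (.lf 0x3bf) (.lf 0x32b3)) (.nd (.lf 0x29ee) (.lf 0)))) (.nd (.nd (.nd (.lf 0x268) (.lf 0x300a)) (.nd (.lf 0x840) (.lf 0))) (.nd (.nd (.lf 0x252d) (.lf 0x3660)) (.nd (.lf 0xbc7) (.lf 0))))))) (.nd (.nd (.nd (.nd (.nd (.nd (.lf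 0x4c) (.lf 0xc83)) (.nd (.lf 0x25b7) (.lf 0))) (.nd (.nd (.lf 0x22e5) (.lf 0x30ea)) (.nd (.lf 0x8dd) (.lf 0)))) (.nd (.nd (.nd (.lf 0x194) (.lf 0x2e89)) (.nd (.lf 0x2740) (.lf 0))) (.nd (.nd (.lf 0x2444) (.lf 0x13d1)) (.nd (.lf 0xa9f) (.lf 0))))) (.nd (.nd (.nd (.nd (.lf 0x20ef) (.lf 0xd80)) (.nd (.lf 0x67a) (.lf 0))) (.nd (.nd (.lf 0x394) (.lf 0x124b)) (.nd (.lf 0x29b6) (.lf 0)))) (.nd (.nd (.nd (.lf 0x223e) (.lf 0xfbd)) (.nd (.lf 0x808) (.lf 0))) (.nd (.nd (.lf 0x4fc) (.lf 0x15c4)) (.nd (.lf 0xb88) (.lf 0)))))) (.nd (.nd (.nd (.nd (.nd (.lf 0x9d) (.lf 0x2cf9)) (.nd (.lf 0x2617) (.lf 0))) (.nd (.nd (.lf 0x233c) (.lf 0x118d)) (.nd (.lf 0x94b) (.lf 0)))) (.nd (.nd (.nd (.lf 0x1e8) (.lf 0x2f11)) (.nd (.lf 0x279d) (.lf 0))) (.nd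 (.nd (.lf 0x4a0) (.lf 0x14a9)) (.nd (.lf 0xb12) (.lf 0))))) (.nd (.nd (.nd (.nd (.lf 0x141) (.lf 0x2e02)) (.nd (.lf 0x6d9) (.lf 0))) (.nd (.nd (.lf 0x3ea) (.lf 0x1320)) (.nd (.lf 0xa2e) (.lf 0)))) (.nd (.nd (.nd (.lf 0x293) (.lf 0x3055)) (.nd (.lf 0x2871) (.lf 0))) (.nd (.nd (.lf 0x55e) (.lf 0x1794)) (.nd (.lf 0xc01) (.lf 0))))))))
def parT_nbabaaa : Tr := (.nd (.nd (.nd (.nd (.nd (.nd (.nd (.lf 0x2) (.lf 0xc0e)) (.nd (.lf 0x565) (.lf 0x17cc))) (.nd (.nd (.lf 0x229a) (.lf 0x1064)) (.nd (.lf 0x287a) (.lf 0)))) (.nd (.nd (.nd (.lf 0x149) (.lf 0xe14)) (.nd (.lf 0x6e3) (.lf 0))) (.nd (.nd (.lf 0x3f2) (.lf 0x1336)) (.nd (.lf 0xa38) (.lf 0))))) (.nd (.nd (.nd (.nd (.lf 0xa4) (.lf 0x2d03)) (.nd (.lf 0x261f) (.lf 0))) (.nd (.nd (.lf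 0x2343) (.lf 0x11a5)) (.nd (.lf 0x955) (.lf 0)))) (.nd (.nd (.nd (.lf 0x1f0) (.lf 0xf21)) (.nd (.lf 0x7a8) (.lf 0))) (.nd (.nd (.lf 0x4a9) (.lf 0x14b7)) (.nd (.lf 0x2b1c) (.lf 0)))))) (.nd (.nd (.nd (.nd (.nd (.lf 0x53) (.lf 0x2c8e)) (.nd (.lf 0x5c1) (.lf 0))) (.nd (.nd (.lf 0x22ec) (.lf 0x10fa)) (.nd (.lf 0x28e9) (.lf 0)))) (.nd (.nd (.nd (.lf 0x219b) (.lf 0xe9c)) (.nd (.lf 0x749) (.lf 0))) (.nd (.nd (.lf 0x44c) (.lf 0x13e2)) (.nd (.lf 0xaab) (.lf 0))))) (.nd (.nd (.nd (.nd (.lf 0xf7) (.lf 0xd8a)) (.nd (.lf 0x682) (.lf 0))) (.nd (.nd (.lf 0x239c) (.lf 0x3267)) (.nd (.lf 0x9c1) (.lf 0)))) (.nd (.nd (.nd (.lf 0x2245) (.lf 0x2fcf)) (.nd (.lf 0x2814) (.lf 0))) (.nd (.nd (.lf 0x506) (.lf 0x35e6)) (.nd (.lf 0xb92) (.lf 0)))))))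 (.nd (.nd (.nd (.nd (.nd (.nd (.lf 0x2a) (.lf 0xc4f)) (.nd (.lf 0x2591) (.lf 0))) (.nd (.nd (.lf 0x22c3) (.lf 0x30aa)) (.nd (.lf 0x8b0) (.lf 0)))) (.nd (.nd (.nd (.lf 0x172) (.lf 0x2e55)) (.nd (.lf 0x2717) (.lf 0))) (.nd (.nd (.lf 0x421) (.lf 0x338a)) (.nd (.lf 0x2a71) (.lf 0))))) (.nd (.nd (.nd (.nd (.lf 0x20cd) (.lf 0x2d4a)) (.nd (.lf 0x651) (.lf 0))) (.nd (.nd (.lf 0x370) (.lf 0x11fd)) (.nd (.lf 0x298a) (.lf 0)))) (.nd (.nd (.nd (.lf 0x21c) (.lf 0xf71)) (.nd (.lf 0x7dc) (.lf 0))) (.nd (.nd (.lf 0x24d8) (.lf 0x1540)) (.nd (.lf 0xb5f) (.lf 0)))))) (.nd (.nd (.nd (.nd (.nd (.lf 0x7c) (.lf 0xcc8)) (.nd (.lf 0x25f3) (.lf 0))) (.nd (.nd (.lf 0x2319) (.lf 0x1145)) (.nd (.lf 0x921) (.lf 0)))) (.nd (.nd (.nd (.lf 0x1c5) (.lf 0xedd))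 (.nd (.lf 0x777) (.lf 0))) (.nd (.nd (.lf 0x479) (.lf 0x144e)) (.nd (.lf 0x2ae3) (.lf 0))))) (.nd (.nd (.nd (.nd (.lf 0x211f) (.lf 0xdcd)) (.nd (.lf 0x26b1) (.lf 0))) (.nd (.nd (.lf 0x23c7) (.lf 0x32c8)) (.nd (.lf 0x9fa) (.lf 0)))) (.nd (.nd (.nd (.lf 0x26f) (.lf 0x1019)) (.nd (.lf 0x84a) (.lf 0))) (.nd (.nd (.lf 0x538) (.lf 0x1689)) (.nd (.lf 0xbd0) (.lf 0))))))))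
def parT_nbabaab : Tr := (.nd (.nd (.nd (.nd (.nd (.nd (.nd (.lf 0x16) (.lf 0xc2e)) (.nd (.lf 0x257b) (.lf 0))) (.nd (.nd (.lf 0x22af) (.lf 0x1086)) (.nd (.lf 0x2891) (.lf 0)))) (.nd (.nd (.nd (.lf 0x15d) (.lf 0xe35)) (.nd (.lf 0x6fd) (.lf 0))) (.nd (.nd (.lf 0x2407) (.lf 0x135e)) (.nd (.lf 0xa52) (.lf 0))))) (.nd (.nd (.nd (.nd (.lf 0x20b9) (.lf 0x2d29)) (.nd (.lf 0x639) (.lf 0))) (.nd (.nd (.lf 0x2359) (.lf 0x11d6)) (.nd (.lf 0x96f) (.lf 0)))) (.nd (.nd (.nd (.lf 0x2207) (.lf 0x2f48)) (.nd (.lf 0x27c1) (.lf 0))) (.nd (.nd (.lf 0x4bf) (.lf 0x1500)) (.nd (.lf 0xb3b) (.lf 0)))))) (.nd (.nd (.nd (.nd (.nd (.lf 0x2067) (.lf 0xca9)) (.nd (.lf 0x5db) (.lf 0))) (.nd (.nd (.lf 0x2303) (.lf 0x111e)) (.nd (.lf 0x2906) (.lf 0)))) (.nd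 (.nd (.nd (.lf 0x1af) (.lf 0xebc)) (.nd (.lf 0x760) (.lf 0))) (.nd (.nd (.lf 0x463) (.lf 0x3421)) (.nd (.lf 0xac6) (.lf 0))))) (.nd (.nd (.nd (.nd (.lf 0x10b) (.lf 0x2da7)) (.nd (.lf 0x69a) (.lf 0))) (.nd (.nd (.lf 0x23b0) (.lf 0x1297)) (.nd (.lf 0x9dc) (.lf 0)))) (.nd (.nd (.nd (.lf 0x25b) (.lf 0x2ff4)) (.nd (.lf 0x2830) (.lf 0))) (.nd (.nd (.lf 0x251d) (.lf 0x3625)) (.nd (.lf 0xbae) (.lf 0))))))) (.nd (.nd (.nd (.nd (.nd (.nd (.lf 0x3f) (.lf 0x2c6b)) (.nd (.lf 0x5a9) (.lf 0))) (.nd (.nd (.lf 0x2d8) (.lf 0x10d2)) (.nd (.lf 0x8cb) (.lf 0)))) (.nd (.nd (.nd (.lf 0x186) (.lf 0xe75)) (.nd (.lf 0x2731) (.lf 0))) (.nd (.nd (.lf 0x437) (.lf 0x13ae)) (.nd (.lf 0xa8e) (.lf 0))))) (.nd (.nd (.nd (.nd (.lf 0x20e2) (.lf 0xd70)) (.nd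 (.lf 0x266a) (.lf 0))) (.nd (.nd (.lf 0x388) (.lf 0x3228)) (.nd (.lf 0x9a5) (.lf 0)))) (.nd (.nd (.nd (.lf 0x2230) (.lf 0xfa1)) (.nd (.lf 0x27f4) (.lf 0))) (.nd (.nd (.lf 0x24ee) (.lf 0x358b)) (.nd (.lf 0xb79) (.lf 0)))))) (.nd (.nd (.nd (.nd (.nd (.lf 0x90) (.lf 0x2ce3)) (.nd (.lf 0x2608) (.lf 0))) (.nd (.nd (.lf 0x32e) (.lf 0x1173)) (.nd (.lf 0x93a) (.lf 0)))) (.nd (.nd (.nd (.lf 0x1da) (.lf 0x2eff)) (.nd (.lf 0x78f) (.lf 0))) (.nd (.nd (.lf 0x490) (.lf 0x3485)) (.nd (.lf 0xaff) (.lf 0))))) (.nd (.nd (.nd (.nd (.lf 0x134) (.lf 0x2df1)) (.nd (.lf 0x26ca) (.lf 0))) (.nd (.nd (.lf 0x3dd) (.lf 0x32fc)) (.nd (.lf 0xa1e) (.lf 0)))) (.nd (.nd (.nd (.lf 0x286) (.lf 0x103e)) (.nd (.lf 0x2861) (.lf 0))) (.nd (.nd (.lf 0x54c) (.lf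 0x1707)) (.nd (.lf 0x2bef) (.lf 0))))))))
def parT_nbababa : Tr := (.nd (.nd (.nd (.nd (.nd (.nd (.nd (.lf 0xc) (.lf 0xc1e)) (.nd (.lf 0x2570) (.lf 0))) (.nd (.nd (.lf 0x2a5) (.lf 0x1079)) (.nd (.lf 0x2887) (.lf 0)))) (.nd (.nd (.nd (.lf 0x153) (.lf 0xe24)) (.nd (.lf 0x26ef) (.lf 0))) (.nd (.nd (.lf 0x3fd) (.lf 0x1350)) (.nd (.lf 0x2a44) (.lf 0))))) (.nd (.nd (.nd (.nd (.lf 0xb0) (.lf 0xd16)) (.nd (.lf 0x62b) (.lf 0))) (.nd (.nd (.lf 0x34e) (.lf 0x31bd)) (.nd (.lf 0x961) (.lf 0)))) (.nd (.nd (.nd (.lf 0x1fb) (.lf 0xf32)) (.nd (.lf 0x27b3) (.lf 0))) (.nd (.nd (.lf 0x4b4) (.lf 0x14d9)) (.nd (.lf 0x2b2a) (.lf 0)))))) (.nd (.nd (.nd (.nd (.nd (.lf 0x5d) (.lf 0xc9b)) (.nd (.lf 0x5cd) (.lf 0))) (.nd (.nd (.lf 0x2f8) (.lf 0x110a))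 (.nd (.lf 0x8f6) (.lf 0)))) (.nd (.nd (.nd (.lf 0x21a5) (.lf 0xeac)) (.nd (.lf 0x754) (.lf 0))) (.nd (.nd (.lf 0x459) (.lf 0x3400)) (.nd (.lf 0x2ab9) (.lf 0))))) (.nd (.nd (.nd (.nd (.lf 0x101) (.lf 0x2d99)) (.nd (.lf 0x68e) (.lf 0))) (.nd (.nd (.lf 0x3a6) (.lf 0x3284)) (.nd (.lf 0x9cf) (.lf 0)))) (.nd (.nd (.nd (.lf 0x2250) (.lf 0xfe2)) (.nd (.lf 0x822) (.lf 0))) (.nd (.nd (.lf 0x511) (.lf 0x3609)) (.nd (.lf 0x2b9f) (.lf 0))))))) (.nd (.nd (.nd (.nd (.nd (.nd (.lf 0x34) (.lf 0xc5e)) (.nd (.lf 0x259c) (.lf 0))) (.nd (.nd (.lf 0x22ce) (.lf 0x10be)) (.nd (.lf 0x8bd) (.lf 0)))) (.nd (.nd (.nd (.lf 0x217c) (.lf 0xe67)) (.nd (.lf 0x723) (.lf 0))) (.nd (.nd (.lf 0x42d) (.lf 0x339b)) (.nd (.lf 0xa7e) (.lf 0))))) (.nd (.nd (.nd (.nd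 (.lf 0x20d8) (.lf 0xd5b)) (.nd (.lf 0x65d) (.lf 0))) (.nd (.nd (.lf 0x237c) (.lf 0x1213)) (.nd (.lf 0x299a) (.lf 0)))) (.nd (.nd (.nd (.lf 0x2226) (.lf 0xf89)) (.nd (.lf 0x7e8) (.lf 0))) (.nd (.nd (.lf 0x4e4) (.lf 0x1574)) (.nd (.lf 0xb6a) (.lf 0)))))) (.nd (.nd (.nd (.nd (.nd (.lf 0x86) (.lf 0x2cd5)) (.nd (.lf 0x5fe) (.lf 0))) (.nd (.nd (.lf 0x2323) (.lf 0x315d)) (.nd (.lf 0x92d) (.lf 0)))) (.nd (.nd (.nd (.lf 0x21cf) (.lf 0x2eed)) (.nd (.lf 0x783) (.lf 0))) (.nd (.nd (.lf 0x486) (.lf 0x346a)) (.nd (.lf 0x2aef) (.lf 0))))) (.nd (.nd (.nd (.nd (.lf 0x2129) (.lf 0xddb)) (.nd (.lf 0x6bd) (.lf 0))) (.nd (.nd (.lf 0x23d3) (.lf 0x12e0)) (.nd (.lf 0xa0b) (.lf 0)))) (.nd (.nd (.nd (.lf 0x27a) (.lf 0x302c)) (.nd (.lf 0x2854) (.lf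 0))) (.nd (.nd (.lf 0x542) (.lf 0x16cc)) (.nd (.lf 0xbde) (.lf 0))))))))
def parT_nbababb : Tr := (.nd (.nd (.nd (.nd (.nd (.nd (.nd (.lf 0x20) (.lf 0xc43)) (.nd (.lf 0x2586) (.lf 0))) (.nd (.nd (.lf 0x2b9) (.lf 0x3098)) (.nd (.lf 0x8a2) (.lf 0)))) (.nd (.nd (.nd (.lf 0x2167) (.lf 0xe45)) (.nd (.lf 0x70b) (.lf 0))) (.nd (.nd (.lf 0x413) (.lf 0x136f)) (.nd (.lf 0xa62) (.lf 0))))) (.nd (.nd (.nd (.nd (.lf 0x20c3) (.lf 0x2d3f)) (.nd (.lf 0x644) (.lf 0))) (.nd (.nd (.lf 0x2364) (.lf 0x31ee)) (.nd (.lf 0x297d) (.lf 0)))) (.nd (.nd (.nd (.lf 0x2211) (.lf 0xf5b)) (.nd (.lf 0x7cd) (.lf 0))) (.nd (.nd (.lf 0x24cc) (.lf 0x3521)) (.nd (.lf 0x2b4a) (.lf 0)))))) (.nd (.nd (.nd (.nd (.nd (.lf 0x2071) (.lf 0xcbb)) (.nd (.lf 0x25e7) (.lf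 0))) (.nd (.nd (.lf 0x230e) (.lf 0x112e)) (.nd (.lf 0x912) (.lf 0)))) (.nd (.nd (.nd (.lf 0x1ba) (.lf 0x2ecc)) (.nd (.lf 0x76c) (.lf 0))) (.nd (.nd (.lf 0x46e) (.lf 0x1436)) (.nd (.lf 0x2ad6) (.lf 0))))) (.nd (.nd (.nd (.nd (.lf 0x2115) (.lf 0x2dbc)) (.nd (.lf 0x6a6) (.lf 0))) (.nd (.nd (.lf 0x23bb) (.lf 0x12ac)) (.nd (.lf 0x9eb) (.lf 0)))) (.nd (.nd (.nd (.lf 0x2265) (.lf 0x1007)) (.nd (.lf 0x83e) (.lf 0))) (.nd (.nd (.lf 0x252a) (.lf 0x1655)) (.nd (.lf 0xbc3) (.lf 0))))))) (.nd (.nd (.nd (.nd (.nd (.nd (.lf 0x2049) (.lf 0xc7f)) (.nd (.lf 0x25b4) (.lf 0))) (.nd (.nd (.lf 0x2e3) (.lf 0x10e5)) (.nd (.lf 0x8da) (.lf 0)))) (.nd (.nd (.nd (.lf 0x192) (.lf 0xe87)) (.nd (.lf 0x73e) (.lf 0))) (.nd (.nd (.lf 0x2441) (.lf 0x33ca))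 (.nd (.lf 0xa9c) (.lf 0))))) (.nd (.nd (.nd (.nd (.lf 0x20ec) (.lf 0xd7d)) (.nd (.lf 0x677) (.lf 0))) (.nd (.nd (.lf 0x2391) (.lf 0x1245)) (.nd (.lf 0x29b2) (.lf 0)))) (.nd (.nd (.nd (.lf 0x23b) (.lf 0x2fb8)) (.nd (.lf 0x804) (.lf 0))) (.nd (.nd (.lf 0x4f9) (.lf 0x15c2)) (.nd (.lf 0xb85) (.lf 0)))))) (.nd (.nd (.nd (.nd (.nd (.lf 0x9a) (.lf 0x2cf4)) (.nd (.lf 0x2613) (.lf 0))) (.nd (.nd (.lf 0x339) (.lf 0x3188)) (.nd (.lf 0x948) (.lf 0)))) (.nd (.nd (.nd (.lf 0x21e5) (.lf 0xf0f)) (.nd (.lf 0x79b) (.lf 0))) (.nd (.nd (.lf 0x49c) (.lf 0x34a1)) (.nd (.lf 0xb0d) (.lf 0))))) (.nd (.nd (.nd (.nd (.lf 0x13e) (.lf 0xdff)) (.nd (.lf 0x26d5) (.lf 0))) (.nd (.nd (.lf 0x23e7) (.lf 0x1319)) (.nd (.lf 0x2a2a) (.lf 0)))) (.nd (.nd (.nd (.lf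 0x290) (.lf 0x1051)) (.nd (.lf 0x286e) (.lf 0))) (.nd (.nd (.lf 0x55b) (.lf 0x1761)) (.nd (.lf 0xbfe) (.lf 0))))))))
def parT_nbabbaa : Tr := (.nd (.nd (.nd (.nd (.nd (.nd (.nd (.lf 0x7) (.lf 0x2c17)) (.nd (.lf 0x256b) (.lf 0))) (.nd (.nd (.lf 0x2a0) (.lf 0x3069)) (.nd (.lf 0x2881) (.lf 0)))) (.nd (.nd (.nd (.lf 0x214e) (.lf 0xe1d)) (.nd (.lf 0x6e8) (.lf 0))) (.nd (.nd (.lf 0x3f7) (.lf 0x1342)) (.nd (.lf 0xa3d) (.lf 0))))) (.nd (.nd (.nd (.nd (.lf 0xaa) (.lf 0xd0e)) (.nd (.lf 0x626) (.lf 0))) (.nd (.nd (.lf 0x349) (.lf 0x11b2)) (.nd (.lf 0x95c) (.lf 0)))) (.nd (.nd (.nd (.lf 0x21f5) (.lf 0xf2a)) (.nd (.lf 0x27ac) (.lf 0))) (.nd (.nd (.lf 0x4ae) (.lf 0x14ca)) (.nd (.lf 0x2b22) (.lf 0)))))) (.nd (.nd (.nd (.nd (.nd (.lf 0x2058)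 (.lf 0xc95)) (.nd (.lf 0x25c6) (.lf 0))) (.nd (.nd (.lf 0x2f2) (.lf 0x1101)) (.nd (.lf 0x8ef) (.lf 0)))) (.nd (.nd (.nd (.lf 0x21a0) (.lf 0x2ea6)) (.nd (.lf 0x74f) (.lf 0))) (.nd (.nd (.lf 0x451) (.lf 0x33ed)) (.nd (.lf 0xab4) (.lf 0))))) (.nd (.nd (.nd (.nd (.lf 0xfc) (.lf 0x2d93)) (.nd (.lf 0x688) (.lf 0))) (.nd (.nd (.lf 0x3a1) (.lf 0x3272)) (.nd (.lf 0x29c7) (.lf 0)))) (.nd (.nd (.nd (.lf 0x24b) (.lf 0xfd9)) (.nd (.lf 0x81c) (.lf 0))) (.nd (.nd (.lf 0x250b) (.lf 0x35f8)) (.nd (.lf 0xb98) (.lf 0))))))) (.nd (.nd (.nd (.nd (.nd (.nd (.lf 0x2f) (.lf 0x2c59)) (.nd (.lf 0x597) (.lf 0))) (.nd (.nd (.lf 0x2c9) (.lf 0x30b2)) (.nd (.lf 0x8b6) (.lf 0)))) (.nd (.nd (.nd (.lf 0x2177) (.lf 0xe5d)) (.nd (.lf 0x71d) (.lf 0))) (.nd (.nd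 (.lf 0x427) (.lf 0x1392)) (.nd (.lf 0xa77) (.lf 0))))) (.nd (.nd (.nd (.nd (.lf 0x20d3) (.lf 0x2d52)) (.nd (.lf 0x2657) (.lf 0))) (.nd (.nd (.lf 0x2377) (.lf 0x1207)) (.nd (.lf 0x993) (.lf 0)))) (.nd (.nd (.nd (.lf 0x221) (.lf 0xf7e)) (.nd (.lf 0x27e2) (.lf 0))) (.nd (.nd (.lf 0x24dd) (.lf 0x1557)) (.nd (.lf 0xb65) (.lf 0)))))) (.nd (.nd (.nd (.nd (.nd (.lf 0x81) (.lf 0xccd)) (.nd (.lf 0x5f8) (.lf 0))) (.nd (.nd (.lf 0x31f) (.lf 0x1152)) (.nd (.lf 0x928) (.lf 0)))) (.nd (.nd (.nd (.lf 0x21ca) (.lf 0xee4)) (.nd (.lf 0x77d) (.lf 0))) (.nd (.nd (.lf 0x247f) (.lf 0x1461)) (.nd (.lf 0x2ae8) (.lf 0))))) (.nd (.nd (.nd (.nd (.lf 0x2124) (.lf 0xdd3)) (.nd (.lf 0x26b7) (.lf 0))) (.nd (.nd (.lf 0x23cc) (.lf 0x12d4)) (.nd (.lf 0xa02)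 (.lf 0)))) (.nd (.nd (.nd (.lf 0x2274) (.lf 0x3023)) (.nd (.lf 0x284e) (.lf 0))) (.nd (.nd (.lf 0x53d) (.lf 0x16a6)) (.nd (.lf 0xbd7) (.lf 0))))))))
def parT_nbabbab : Tr := (.nd (.nd (.nd (.nd (.nd (.nd (.nd (.lf 0x1b) (.lf 0xc39)) (.nd (.lf 0x2580) (.lf 0))) (.nd (.nd (.lf 0x2b4) (.lf 0x108f)) (.nd (.lf 0x899) (.lf 0)))) (.nd (.nd (.nd (.lf 0x162) (.lf 0xe3e)) (.nd (.lf 0x704) (.lf 0))) (.nd (.nd (.lf 0x40d) (.lf 0x3366)) (.nd (.lf 0xa5c) (.lf 0))))) (.nd (.nd (.nd (.nd (.lf 0x20be) (.lf 0xd34)) (.nd (.lf 0x63e) (.lf 0))) (.nd (.nd (.lf 0x35f) (.lf 0x11df)) (.nd (.lf 0x2975) (.lf 0)))) (.nd (.nd (.nd (.lf 0x220c) (.lf 0xf53)) (.nd (.lf 0x27c6) (.lf 0))) (.nd (.nd (.lf 0x24c6) (.lf 0x150f)) (.nd (.lf 0xb44) (.lf 0)))))) (.nd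 (.nd (.nd (.nd (.nd (.lf 0x206c) (.lf 0x2cb0)) (.nd (.lf 0x5e1) (.lf 0))) (.nd (.nd (.lf 0x309) (.lf 0x3128)) (.nd (.lf 0x290b) (.lf 0)))) (.nd (.nd (.nd (.lf 0x1b4) (.lf 0x2ec3)) (.nd (.lf 0x2766) (.lf 0))) (.nd (.nd (.lf 0x468) (.lf 0x1429)) (.nd (.lf 0xacd) (.lf 0))))) (.nd (.nd (.nd (.nd (.lf 0x2110) (.lf 0x2db2)) (.nd (.lf 0x269f) (.lf 0))) (.nd (.nd (.lf 0x3b6) (.lf 0x12a1)) (.nd (.lf 0x9e5) (.lf 0)))) (.nd (.nd (.nd (.lf 0x2260) (.lf 0x2ffa)) (.nd (.lf 0x2836) (.lf 0))) (.nd (.nd (.lf 0x2524) (.lf 0x363d)) (.nd (.lf 0xbb7) (.lf 0))))))) (.nd (.nd (.nd (.nd (.nd (.nd (.lf 0x44) (.lf 0xc75)) (.nd (.lf 0x25af) (.lf 0))) (.nd (.nd (.lf 0x2dd) (.lf 0x10db)) (.nd (.lf 0x8d3) (.lf 0)))) (.nd (.nd (.nd (.lf 0x218b) (.lf 0xe7f))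 (.nd (.lf 0x2738) (.lf 0))) (.nd (.nd (.lf 0x43c) (.lf 0x13ba)) (.nd (.lf 0xa96) (.lf 0))))) (.nd (.nd (.nd (.nd (.lf 0x20e7) (.lf 0x2d77)) (.nd (.lf 0x671) (.lf 0))) (.nd (.nd (.lf 0x38c) (.lf 0x3235)) (.nd (.lf 0x9ac) (.lf 0)))) (.nd (.nd (.nd (.lf 0x236) (.lf 0xfb0)) (.nd (.lf 0x7fd) (.lf 0))) (.nd (.nd (.lf 0x4f4) (.lf 0x35a4)) (.nd (.lf 0xb7f) (.lf 0)))))) (.nd (.nd (.nd (.nd (.nd (.lf 0x95) (.lf 0x2cec)) (.nd (.lf 0x260e) (.lf 0))) (.nd (.nd (.lf 0x333) (.lf 0x117d)) (.nd (.lf 0x2942) (.lf 0)))) (.nd (.nd (.nd (.lf 0x21df) (.lf 0xf06)) (.nd (.lf 0x796) (.lf 0))) (.nd (.nd (.lf 0x2496) (.lf 0x1496)) (.nd (.lf 0xb07) (.lf 0))))) (.nd (.nd (.nd (.nd (.lf 0x139) (.lf 0xdf9)) (.nd (.lf 0x26d0) (.lf 0))) (.nd (.nd (.lf 0x3e2)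 (.lf 0x1308)) (.nd (.lf 0x2a23) (.lf 0)))) (.nd (.nd (.nd (.lf 0x228b) (.lf 0x1047)) (.nd (.lf 0x868) (.lf 0))) (.nd (.nd (.lf 0x552) (.lf 0x1729)) (.nd (.lf 0x2bf6) (.lf 0))))))))
def parT_nbabbba : Tr := (.nd (.nd (.nd (.nd (.nd (.nd (.nd (.lf 0x11) (.lf 0x2c24)) (.nd (.lf 0x576) (.lf 0))) (.nd (.nd (.lf 0x2aa) (.lf 0x307f)) (.nd (.lf 0x288c) (.lf 0)))) (.nd (.nd (.nd (.lf 0x158) (.lf 0x2e2d)) (.nd (.lf 0x26f5) (.lf 0))) (.nd (.nd (.lf 0x2401) (.lf 0x1356)) (.nd (.lf 0xa4b) (.lf 0))))) (.nd (.nd (.nd (.nd (.lf 0x20b4) (.lf 0xd1e)) (.nd (.lf 0x2633) (.lf 0))) (.nd (.nd (.lf 0x354) (.lf 0x31c7)) (.nd (.lf 0x2967) (.lf 0)))) (.nd (.nd (.nd (.lf 0x2200) (.lf 0x2f3e)) (.nd (.lf 0x27ba) (.lf 0))) (.nd (.nd (.lf 0x24b9) (.lf 0x14eb))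 (.nd (.lf 0x2b32) (.lf 0)))))) (.nd (.nd (.nd (.nd (.nd (.lf 0x62) (.lf 0xca2)) (.nd (.lf 0x5d4) (.lf 0))) (.nd (.nd (.lf 0x2fd) (.lf 0x3113)) (.nd (.lf 0x8fe) (.lf 0)))) (.nd (.nd (.nd (.lf 0x1aa) (.lf 0x2eb2)) (.nd (.lf 0x75a) (.lf 0))) (.nd (.nd (.lf 0x45e) (.lf 0x340e)) (.nd (.lf 0xac1) (.lf 0))))) (.nd (.nd (.nd (.nd (.lf 0x106) (.lf 0x2da0)) (.nd (.lf 0x695) (.lf 0))) (.nd (.nd (.lf 0x23ab) (.lf 0x128f)) (.nd (.lf 0x9d6) (.lf 0)))) (.nd (.nd (.nd (.lf 0x256) (.lf 0x2fea)) (.nd (.lf 0x2828) (.lf 0))) (.nd (.nd (.lf 0x516) (.lf 0x3617)) (.nd (.lf 0xba9) (.lf 0))))))) (.nd (.nd (.nd (.nd (.nd (.nd (.lf 0x3a) (.lf 0xc65)) (.nd (.lf 0x5a3) (.lf 0))) (.nd (.nd (.lf 0x2d3) (.lf 0x30c7)) (.nd (.lf 0x8c3) (.lf 0)))) (.nd (.nd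 (.nd (.lf 0x181) (.lf 0xe6e)) (.nd (.lf 0x272a) (.lf 0))) (.nd (.nd (.lf 0x432) (.lf 0x33a3)) (.nd (.lf 0x2a85) (.lf 0))))) (.nd (.nd (.nd (.nd (.lf 0x20dd) (.lf 0xd65)) (.nd (.lf 0x2664) (.lf 0))) (.nd (.nd (.lf 0x382) (.lf 0x121e)) (.nd (.lf 0x9a0) (.lf 0)))) (.nd (.nd (.nd (.lf 0x222b) (.lf 0xf95)) (.nd (.lf 0x27ed) (.lf 0))) (.nd (.nd (.lf 0x24e9) (.lf 0x3582)) (.nd (.lf 0xb72) (.lf 0)))))) (.nd (.nd (.nd (.nd (.nd (.lf 0x8b) (.lf 0xcdc)) (.nd (.lf 0x603) (.lf 0))) (.nd (.nd (.lf 0x329) (.lf 0x1165)) (.nd (.lf 0x2933) (.lf 0)))) (.nd (.nd (.nd (.lf 0x21d4) (.lf 0x2ef7)) (.nd (.lf 0x789) (.lf 0))) (.nd (.nd (.lf 0x248a) (.lf 0x147a)) (.nd (.lf 0xaf7) (.lf 0))))) (.nd (.nd (.nd (.nd (.lf 0x12f) (.lf 0x2de5)) (.nd (.lf 0x6c5)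 (.lf 0))) (.nd (.nd (.lf 0x3d8) (.lf 0x32f1)) (.nd (.lf 0x2a13) (.lf 0)))) (.nd (.nd (.nd (.lf 0x280) (.lf 0x3033)) (.nd (.lf 0x85b) (.lf 0))) (.nd (.nd (.lf 0x547) (.lf 0x16ef)) (.nd (.lf 0x2be7) (.lf 0))))))))
def parT_nbabbbb : Tr := (.nd (.nd (.nd (.nd (.nd (.nd (.nd (.lf 0x25) (.lf 0xc4a)) (.nd (.lf 0x58c) (.lf 0))) (.nd (.nd (.lf 0x2be) (.lf 0x30a1)) (.nd (.lf 0x28a7) (.lf 0)))) (.nd (.nd (.nd (.lf 0x216c) (.lf 0x2e4c)) (.nd (.lf 0x710) (.lf 0))) (.nd (.nd (.lf 0x418) (.lf 0x1377)) (.nd (.lf 0x2a6a) (.lf 0))))) (.nd (.nd (.nd (.nd (.lf 0x20c8) (.lf 0x2d44)) (.nd (.lf 0x264a) (.lf 0))) (.nd (.nd (.lf 0x36a) (.lf 0x31f5)) (.nd (.lf 0x985) (.lf 0)))) (.nd (.nd (.nd (.lf 0x2216) (.lf 0xf68)) (.nd (.lf 0x27d5) (.lf 0))) (.nd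 (.nd (.lf 0x4d2) (.lf 0x152f)) (.nd (.lf 0xb54) (.lf 0)))))) (.nd (.nd (.nd (.nd (.nd (.lf 0x77) (.lf 0x2cc0)) (.nd (.lf 0x5ed) (.lf 0))) (.nd (.nd (.lf 0x314) (.lf 0x3137)) (.nd (.lf 0x2919) (.lf 0)))) (.nd (.nd (.nd (.lf 0x1c0) (.lf 0x2ed4)) (.nd (.lf 0x2771) (.lf 0))) (.nd (.nd (.lf 0x474) (.lf 0x1442)) (.nd (.lf 0xade) (.lf 0))))) (.nd (.nd (.nd (.nd (.lf 0x11b) (.lf 0xdc4)) (.nd (.lf 0x6ac) (.lf 0))) (.nd (.nd (.lf 0x3c1) (.lf 0x12ba)) (.nd (.lf 0x29f3) (.lf 0)))) (.nd (.nd (.nd (.lf 0x26a) (.lf 0x300c)) (.nd (.lf 0x844) (.lf 0))) (.nd (.nd (.lf 0x2532) (.lf 0x166a)) (.nd (.lf 0x2bca) (.lf 0))))))) (.nd (.nd (.nd (.nd (.nd (.nd (.lf 0x4e) (.lf 0xc87)) (.nd (.lf 0x5ba) (.lf 0))) (.nd (.nd (.lf 0x2e8) (.lf 0x10ed)) (.nd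 (.lf 0x28e1) (.lf 0)))) (.nd (.nd (.nd (.lf 0x2196) (.lf 0xe92)) (.nd (.lf 0x744) (.lf 0))) (.nd (.nd (.lf 0x2447) (.lf 0x13d4)) (.nd (.lf 0xaa2) (.lf 0))))) (.nd (.nd (.nd (.nd (.lf 0xf2) (.lf 0x2d83)) (.nd (.lf 0x67d) (.lf 0))) (.nd (.nd (.lf 0x2396) (.lf 0x125a)) (.nd (.lf 0x9b9) (.lf 0)))) (.nd (.nd (.nd (.lf 0x2240) (.lf 0x2fc0)) (.nd (.lf 0x80d) (.lf 0))) (.nd (.nd (.lf 0x4ff) (.lf 0x15d1)) (.nd (.lf 0xb8c) (.lf 0)))))) (.nd (.nd (.nd (.nd (.nd (.lf 0x209f) (.lf 0xcfc)) (.nd (.lf 0x61a) (.lf 0))) (.nd (.nd (.lf 0x33f) (.lf 0x3197)) (.nd (.lf 0x94e) (.lf 0)))) (.nd (.nd (.nd (.lf 0x21ea) (.lf 0x2f16)) (.nd (.lf 0x7a1) (.lf 0))) (.nd (.nd (.lf 0x24a2) (.lf 0x14ad)) (.nd (.lf 0xb16) (.lf 0))))) (.nd (.nd (.nd (.nd (.lf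 0x2143) (.lf 0x2e0a)) (.nd (.lf 0x6dc) (.lf 0))) (.nd (.nd (.lf 0x3ec) (.lf 0x3327)) (.nd (.lf 0xa31) (.lf 0)))) (.nd (.nd (.nd (.lf 0x295) (.lf 0x1059)) (.nd (.lf 0x2874) (.lf 0))) (.nd (.nd (.lf 0x560) (.lf 0x17a1)) (.nd (.lf 0x2c03) (.lf 0))))))))
def parT_nbbaaaa : Tr := (.nd (.nd (.nd (.nd (.nd (.nd (.nd (.lf 0x1) (.lf 0xc0c)) (.nd (.lf 0x564) (.lf 0x37c3))) (.nd (.nd (.lf 0x299) (.lf 0x3062)) (.nd (.lf 0x879) (.lf 0)))) (.nd (.nd (.nd (.lf 0x147) (.lf 0x2e12)) (.nd (.lf 0x26e0) (.lf 0))) (.nd (.nd (.lf 0x3f1) (.lf 0x1334)) (.nd (.lf 0xa37) (.lf 0))))) (.nd (.nd (.nd (.nd (.lf 0xa3) (.lf 0xd02)) (.nd (.lf 0x261e) (.lf 0))) (.nd (.nd (.lf 0x2342) (.lf 0x31a3)) (.nd (.lf 0x953) (.lf 0)))) (.nd (.nd (.nd (.lf 0x1ef) (.lf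 0x2f1f)) (.nd (.lf 0x27a4) (.lf 0))) (.nd (.nd (.lf 0x24a6) (.lf 0x14b4)) (.nd (.lf 0xb1b) (.lf 0)))))) (.nd (.nd (.nd (.nd (.nd (.lf 0x52) (.lf 0xc8d)) (.nd (.lf 0x5c0) (.lf 0))) (.nd (.nd (.lf 0x22eb) (.lf 0x30f4)) (.nd (.lf 0x8e8) (.lf 0)))) (.nd (.nd (.nd (.lf 0x219a) (.lf 0x2e99)) (.nd (.lf 0x748) (.lf 0))) (.nd (.nd (.lf 0x44b) (.lf 0x33df)) (.nd (.lf 0xaa9) (.lf 0))))) (.nd (.nd (.nd (.nd (.lf 0x20f5) (.lf 0x2d87)) (.nd (.lf 0x681) (.lf 0))) (.nd (.nd (.lf 0x39b) (.lf 0x1265)) (.nd (.lf 0x9bf) (.lf 0)))) (.nd (.nd (.nd (.lf 0x244) (.lf 0xfc8)) (.nd (.lf 0x2813) (.lf 0))) (.nd (.nd (.lf 0x2502) (.lf 0x15df)) (.nd (.lf 0xb91) (.lf 0))))))) (.nd (.nd (.nd (.nd (.nd (.nd (.lf 0x2028) (.lf 0xc4e)) (.nd (.lf 0x2590) (.lf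 0))) (.nd (.nd (.lf 0x22c2) (.lf 0x10a8)) (.nd (.lf 0x28ad) (.lf 0)))) (.nd (.nd (.nd (.lf 0x171) (.lf 0xe54)) (.nd (.lf 0x716) (.lf 0))) (.nd (.nd (.lf 0x41f) (.lf 0x3388)) (.nd (.lf 0xa70) (.lf 0))))) (.nd (.nd (.nd (.nd (.lf 0xcc) (.lf 0x2d49)) (.nd (.lf 0x264e) (.lf 0))) (.nd (.nd (.lf 0x36e) (.lf 0x11fa)) (.nd (.lf 0x989) (.lf 0)))) (.nd (.nd (.nd (.lf 0x21b) (.lf 0xf6f)) (.nd (.lf 0x7db) (.lf 0))) (.nd (.nd (.lf 0x4d7) (.lf 0x3537)) (.nd (.lf 0xb5c) (.lf 0)))))) (.nd (.nd (.nd (.nd (.nd (.lf 0x7b) (.lf 0xcc6)) (.nd (.lf 0x5f2) (.lf 0))) (.nd (.nd (.lf 0x318) (.lf 0x1142)) (.nd (.lf 0x91f) (.lf 0)))) (.nd (.nd (.nd (.lf 0x1c4) (.lf 0xedb)) (.nd (.lf 0x775) (.lf 0))) (.nd (.nd (.lf 0x478) (.lf 0x344a)) (.nd (.lf 0xae2)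 (.lf 0))))) (.nd (.nd (.nd (.nd (.lf 0x211e) (.lf 0x2dca)) (.nd (.lf 0x6b0) (.lf 0))) (.nd (.nd (.lf 0x3c6) (.lf 0x12c4)) (.nd (.lf 0x29f8) (.lf 0)))) (.nd (.nd (.nd (.lf 0x26e) (.lf 0x3015)) (.nd (.lf 0x849) (.lf 0))) (.nd (.nd (.lf 0x2536) (.lf 0x1685)) (.nd (.lf 0xbcf) (.lf 0))))))))
def parT_nbbaaab : Tr := (.nd (.nd (.nd (.nd (.nd (.nd (.nd (.lf 0x15) (.lf 0xc2d)) (.nd (.lf 0x57a) (.lf 0))) (.nd (.nd (.lf 0x22ad) (.lf 0x1084)) (.nd (.lf 0x890) (.lf 0)))) (.nd (.nd (.nd (.lf 0x15c) (.lf 0xe33)) (.nd (.lf 0x6fc) (.lf 0))) (.nd (.nd (.lf 0x405) (.lf 0x335b)) (.nd (.lf 0xa51) (.lf 0))))) (.nd (.nd (.nd (.nd (.lf 0xb8) (.lf 0x2d28)) (.nd (.lf 0x637) (.lf 0))) (.nd (.nd (.lf 0x358) (.lf 0x31d2)) (.nd (.lf 0x96d) (.lf 0))))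 (.nd (.nd (.nd (.lf 0x206) (.lf 0xf46)) (.nd (.lf 0x27bf) (.lf 0))) (.nd (.nd (.lf 0x4be) (.lf 0x14fa)) (.nd (.lf 0xb39) (.lf 0)))))) (.nd (.nd (.nd (.nd (.nd (.lf 0x66) (.lf 0xca8)) (.nd (.lf 0x5d9) (.lf 0))) (.nd (.nd (.lf 0x2302) (.lf 0x111c)) (.nd (.lf 0x2904) (.lf 0)))) (.nd (.nd (.nd (.lf 0x1ae) (.lf 0x2eba)) (.nd (.lf 0x75f) (.lf 0))) (.nd (.nd (.lf 0x2461) (.lf 0x141e)) (.nd (.lf 0xac5) (.lf 0))))) (.nd (.nd (.nd (.nd (.lf 0x10a) (.lf 0xda6)) (.nd (.lf 0x2698) (.lf 0))) (.nd (.nd (.lf 0x3af) (.lf 0x3295)) (.nd (.lf 0x29da) (.lf 0)))) (.nd (.nd (.nd (.lf 0x2259) (.lf 0xff0)) (.nd (.lf 0x282f) (.lf 0))) (.nd (.nd (.lf 0x51c) (.lf 0x1621)) (.nd (.lf 0x2bac) (.lf 0))))))) (.nd (.nd (.nd (.nd (.nd (.nd (.lf 0x203d) (.lf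 0x2c69)) (.nd (.lf 0x25a7) (.lf 0))) (.nd (.nd (.lf 0x2d7) (.lf 0x10d1)) (.nd (.lf 0x8c9) (.lf 0)))) (.nd (.nd (.nd (.lf 0x185) (.lf 0xe72)) (.nd (.lf 0x72f) (.lf 0))) (.nd (.nd (.lf 0x2435) (.lf 0x13ab)) (.nd (.lf 0xa8c) (.lf 0))))) (.nd (.nd (.nd (.nd (.lf 0x20e1) (.lf 0xd6f)) (.nd (.lf 0x669) (.lf 0))) (.nd (.nd (.lf 0x2386) (.lf 0x1225)) (.nd (.lf 0x9a4) (.lf 0)))) (.nd (.nd (.nd (.lf 0x222f) (.lf 0xf9e)) (.nd (.lf 0x7f3) (.lf 0))) (.nd (.nd (.lf 0x24ed) (.lf 0x358a)) (.nd (.lf 0x2b76) (.lf 0)))))) (.nd (.nd (.nd (.nd (.nd (.lf 0x208e) (.lf 0x2ce1)) (.nd (.lf 0x607) (.lf 0))) (.nd (.nd (.lf 0x232c) (.lf 0x116f)) (.nd (.lf 0x939) (.lf 0)))) (.nd (.nd (.nd (.lf 0x21d8) (.lf 0x2efd)) (.nd (.lf 0x78d) (.lf 0))) (.nd (.nd (.lf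 0x48f) (.lf 0x3480)) (.nd (.lf 0x2afd) (.lf 0))))) (.nd (.nd (.nd (.nd (.lf 0x2132) (.lf 0xded)) (.nd (.lf 0x6c9) (.lf 0))) (.nd (.nd (.lf 0x23db) (.lf 0x32fb)) (.nd (.lf 0x2a1c) (.lf 0)))) (.nd (.nd (.nd (.lf 0x2284) (.lf 0x103d)) (.nd (.lf 0x2860) (.lf 0))) (.nd (.nd (.lf 0x54b) (.lf 0x1700)) (.nd (.lf 0xbee) (.lf 0))))))))
def parT_nbbaaba : Tr := (.nd (.nd (.nd (.nd (.nd (.nd (.nd (.lf 0xb) (.lf 0xc1c)) (.nd (.lf 0x56f) (.lf 0))) (.nd (.nd (.lf 0x22a3) (.lf 0x3077)) (.nd (.lf 0x2885) (.lf 0)))) (.nd (.nd (.nd (.lf 0x152) (.lf 0xe22)) (.nd (.lf 0x6ed) (.lf 0))) (.nd (.nd (.lf 0x3fb) (.lf 0x134b)) (.nd (.lf 0xa43) (.lf 0))))) (.nd (.nd (.nd (.nd (.lf 0xae) (.lf 0xd14)) (.nd (.lf 0x2629) (.lf 0))) (.nd (.nd (.lf 0x34d) (.lf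 0x11b9)) (.nd (.lf 0x960) (.lf 0)))) (.nd (.nd (.nd (.lf 0x1f9) (.lf 0xf31)) (.nd (.lf 0x7b2) (.lf 0))) (.nd (.nd (.lf 0x4b3) (.lf 0x34d1)) (.nd (.lf 0xb29) (.lf 0)))))) (.nd (.nd (.nd (.nd (.nd (.lf 0x5c) (.lf 0xc9a)) (.nd (.lf 0x5cb) (.lf 0))) (.nd (.nd (.lf 0x2f7) (.lf 0x3106)) (.nd (.lf 0x28f4) (.lf 0)))) (.nd (.nd (.nd (.lf 0x1a4) (.lf 0x2eaa)) (.nd (.lf 0x753) (.lf 0))) (.nd (.nd (.lf 0x457) (.lf 0x13fe)) (.nd (.lf 0x2ab8) (.lf 0))))) (.nd (.nd (.nd (.nd (.lf 0x100) (.lf 0x2d98)) (.nd (.lf 0x68d) (.lf 0))) (.nd (.nd (.lf 0x3a5) (.lf 0x3280)) (.nd (.lf 0x9ce) (.lf 0)))) (.nd (.nd (.nd (.lf 0x224e) (.lf 0xfe0)) (.nd (.lf 0x820) (.lf 0))) (.nd (.nd (.lf 0x50f) (.lf 0x1602)) (.nd (.lf 0xb9d) (.lf 0))))))) (.nd (.nd (.nd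 (.nd (.nd (.nd (.lf 0x2032) (.lf 0xc5d)) (.nd (.lf 0x259b) (.lf 0))) (.nd (.nd (.lf 0x2cd) (.lf 0x10b9)) (.nd (.lf 0x8ba) (.lf 0)))) (.nd (.nd (.nd (.lf 0x17b) (.lf 0xe65)) (.nd (.lf 0x722) (.lf 0))) (.nd (.nd (.lf 0x242b) (.lf 0x339a)) (.nd (.lf 0x2a7c) (.lf 0))))) (.nd (.nd (.nd (.nd (.lf 0x20d7) (.lf 0xd59)) (.nd (.lf 0x65c) (.lf 0))) (.nd (.nd (.lf 0x37b) (.lf 0x1210)) (.nd (.lf 0x999) (.lf 0)))) (.nd (.nd (.nd (.lf 0x2225) (.lf 0xf85)) (.nd (.lf 0x7e7) (.lf 0))) (.nd (.nd (.lf 0x4e2) (.lf 0x1572)) (.nd (.lf 0xb69) (.lf 0)))))) (.nd (.nd (.nd (.nd (.nd (.lf 0x85) (.lf 0x2cd4)) (.nd (.lf 0x5fd) (.lf 0))) (.nd (.nd (.lf 0x2322) (.lf 0x1158)) (.nd (.lf 0x292b) (.lf 0)))) (.nd (.nd (.nd (.lf 0x21ce) (.lf 0xeea)) (.nd (.lf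 0x2781) (.lf 0))) (.nd (.nd (.lf 0x484) (.lf 0x3468)) (.nd (.lf 0x2aec) (.lf 0))))) (.nd (.nd (.nd (.nd (.lf 0x128) (.lf 0x2dd9)) (.nd (.lf 0x6bc) (.lf 0))) (.nd (.nd (.lf 0x3d2) (.lf 0x12dd)) (.nd (.lf 0xa08) (.lf 0)))) (.nd (.nd (.nd (.lf 0x279) (.lf 0x1027)) (.nd (.lf 0x2852) (.lf 0))) (.nd (.nd (.lf 0x2540) (.lf 0x16c2)) (.nd (.lf 0xbdd) (.lf 0))))))))
def parT_nbbaabb : Tr := (.nd (.nd (.nd (.nd (.nd (.nd (.nd (.lf 0x201e) (.lf 0xc41)) (.nd (.lf 0x2584) (.lf 0))) (.nd (.nd (.lf 0x22b7) (.lf 0x1097)) (.nd (.lf 0x289f) (.lf 0)))) (.nd (.nd (.nd (.lf 0x166) (.lf 0xe44)) (.nd (.lf 0x2709) (.lf 0))) (.nd (.nd (.lf 0x412) (.lf 0x336b)) (.nd (.lf 0xa61) (.lf 0))))) (.nd (.nd (.nd (.nd (.lf 0x20c2) (.lf 0x2d3d)) (.nd (.lf 0x643)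 (.lf 0))) (.nd (.nd (.lf 0x2362) (.lf 0x11ed)) (.nd (.lf 0x97c) (.lf 0)))) (.nd (.nd (.nd (.lf 0x2210) (.lf 0xf5a)) (.nd (.lf 0x7cb) (.lf 0))) (.nd (.nd (.lf 0x24cb) (.lf 0x151d)) (.nd (.lf 0xb49) (.lf 0)))))) (.nd (.nd (.nd (.nd (.nd (.lf 0x2070) (.lf 0x2cb9)) (.nd (.lf 0x5e5) (.lf 0))) (.nd (.nd (.lf 0x30d) (.lf 0x112d)) (.nd (.lf 0x290f) (.lf 0)))) (.nd (.nd (.nd (.lf 0x1b9) (.lf 0xeca)) (.nd (.lf 0x276a) (.lf 0))) (.nd (.nd (.lf 0x46c) (.lf 0x3430)) (.nd (.lf 0xad4) (.lf 0))))) (.nd (.nd (.nd (.nd (.lf 0x114) (.lf 0x2dba)) (.nd (.lf 0x6a5) (.lf 0))) (.nd (.nd (.lf 0x3ba) (.lf 0x32a9)) (.nd (.lf 0x9ea) (.lf 0)))) (.nd (.nd (.nd (.lf 0x264) (.lf 0x3005)) (.nd (.lf 0x83d) (.lf 0))) (.nd (.nd (.lf 0x529) (.lf 0x3651)) (.nd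 (.lf 0x2bbe) (.lf 0))))))) (.nd (.nd (.nd (.nd (.nd (.nd (.lf 0x48) (.lf 0x2c7c)) (.nd (.lf 0x25b3) (.lf 0))) (.nd (.nd (.lf 0x2e1) (.lf 0x10e3)) (.nd (.lf 0x28d8) (.lf 0)))) (.nd (.nd (.nd (.lf 0x218f) (.lf 0x2e85)) (.nd (.lf 0x73d) (.lf 0))) (.nd (.nd (.lf 0x2440) (.lf 0x13c7)) (.nd (.lf 0xa9a) (.lf 0))))) (.nd (.nd (.nd (.nd (.lf 0xeb) (.lf 0x2d7b)) (.nd (.lf 0x675) (.lf 0))) (.nd (.nd (.lf 0x390) (.lf 0x1242)) (.nd (.lf 0x29b1) (.lf 0)))) (.nd (.nd (.nd (.lf 0x23a) (.lf 0xfb5)) (.nd (.lf 0x803) (.lf 0))) (.nd (.nd (.lf 0x4f8) (.lf 0x35ba)) (.nd (.lf 0xb84) (.lf 0)))))) (.nd (.nd (.nd (.nd (.nd (.lf 0x2098) (.lf 0xcf3)) (.nd (.lf 0x2612) (.lf 0))) (.nd (.nd (.lf 0x2337) (.lf 0x1187)) (.nd (.lf 0x2946) (.lf 0)))) (.nd (.nd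 (.nd (.lf 0x21e4) (.lf 0xf0d)) (.nd (.lf 0x79a) (.lf 0))) (.nd (.nd (.lf 0x49b) (.lf 0x149d)) (.nd (.lf 0x2b0a) (.lf 0))))) (.nd (.nd (.nd (.nd (.lf 0x213c) (.lf 0x2dfd)) (.nd (.lf 0x6d4) (.lf 0))) (.nd (.nd (.lf 0x3e6) (.lf 0x1314)) (.nd (.lf 0xa28) (.lf 0)))) (.nd (.nd (.nd (.lf 0x28f) (.lf 0x304f)) (.nd (.lf 0x286c) (.lf 0))) (.nd (.nd (.lf 0x559) (.lf 0x3754)) (.nd (.lf 0x2bfc) (.lf 0))))))))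
def parT_nbbabaa : Tr := (.nd (.nd (.nd (.nd (.nd (.nd (.nd (.lf 0x6) (.lf 0xc16)) (.nd (.lf 0x56a) (.lf 0x1807))) (.nd (.nd (.lf 0x229e) (.lf 0x1068)) (.nd (.lf 0x2880) (.lf 0)))) (.nd (.nd (.nd (.lf 0x14d) (.lf 0xe1a)) (.nd (.lf 0x6e7) (.lf 0))) (.nd (.nd (.lf 0x3f6) (.lf 0x333e)) (.nd (.lf 0xa3c) (.lf 0))))) (.nd (.nd (.nd (.nd (.lf 0x20a7) (.lf 0x2d0b)) (.nd (.lf 0x624) (.lf 0))) (.nd (.nd (.lf 0x348) (.lf 0x11ad)) (.nd (.lf 0x95b) (.lf 0)))) (.nd (.nd (.nd (.lf 0x21f4) (.lf 0x2f27)) (.nd (.lf 0x27ab) (.lf 0))) (.nd (.nd (.lf 0x4ad) (.lf 0x14c7)) (.nd (.lf 0x2b21) (.lf 0)))))) (.nd (.nd (.nd (.nd (.nd (.lf 0x57) (.lf 0xc94)) (.nd (.lf 0x5c5) (.lf 0))) (.nd (.nd (.lf 0x2f1) (.lf 0x1100)) (.nd (.lf 0x8ee) (.lf 0)))) (.nd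 (.nd (.nd (.lf 0x19f) (.lf 0xea2)) (.nd (.lf 0x74e) (.lf 0))) (.nd (.nd (.lf 0x450) (.lf 0x13ea)) (.nd (.lf 0x2ab0) (.lf 0))))) (.nd (.nd (.nd (.nd (.lf 0xfb) (.lf 0x2d92)) (.nd (.lf 0x2686) (.lf 0))) (.nd (.nd (.lf 0x3a0) (.lf 0x126f)) (.nd (.lf 0x29c6) (.lf 0)))) (.nd (.nd (.nd (.lf 0x24a) (.lf 0xfd5)) (.nd (.lf 0x81a) (.lf 0))) (.nd (.nd (.lf 0x50a) (.lf 0x15f2)) (.nd (.lf 0xb97) (.lf 0))))))) (.nd (.nd (.nd (.nd (.nd (.nd (.lf 0x202d) (.lf 0xc56)) (.nd (.lf 0x596) (.lf 0))) (.nd (.nd (.lf 0x2c8) (.lf 0x10b1)) (.nd (.lf 0x8b4) (.lf 0)))) (.nd (.nd (.nd (.lf 0x176) (.lf 0x2e5a)) (.nd (.lf 0x271b) (.lf 0))) (.nd (.nd (.lf 0x426) (.lf 0x3390)) (.nd (.lf 0x2a75) (.lf 0))))) (.nd (.nd (.nd (.nd (.lf 0x20d2) (.lf 0x2d51)) (.nd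 (.lf 0x2655) (.lf 0))) (.nd (.nd (.lf 0x376) (.lf 0x1203)) (.nd (.lf 0x992) (.lf 0)))) (.nd (.nd (.nd (.lf 0x220) (.lf 0xf7a)) (.nd (.lf 0x27e0) (.lf 0))) (.nd (.nd (.lf 0x4dc) (.lf 0x154c)) (.nd (.lf 0x2b63) (.lf 0)))))) (.nd (.nd (.nd (.nd (.nd (.lf 0x80) (.lf 0xccc)) (.nd (.lf 0x5f7) (.lf 0))) (.nd (.nd (.lf 0x31d) (.lf 0x1150)) (.nd (.lf 0x2926) (.lf 0)))) (.nd (.nd (.nd (.lf 0x21c9) (.lf 0xee2)) (.nd (.lf 0x77c) (.lf 0))) (.nd (.nd (.lf 0x247d) (.lf 0x345b)) (.nd (.lf 0x2ae7) (.lf 0))))) (.nd (.nd (.nd (.nd (.lf 0x2123) (.lf 0xdd1)) (.nd (.lf 0x6b6) (.lf 0))) (.nd (.nd (.lf 0x23cb) (.lf 0x12d2)) (.nd (.lf 0x29fe) (.lf 0)))) (.nd (.nd (.nd (.lf 0x273) (.lf 0x3021)) (.nd (.lf 0x284d) (.lf 0))) (.nd (.nd (.lf 0x53c) (.lf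 0x169f)) (.nd (.lf 0x2bd4) (.lf 0))))))))
def parT_nbbabab : Tr := (.nd (.nd (.nd (.nd (.nd (.nd (.nd (.lf 0x1a) (.lf 0x2c37)) (.nd (.lf 0x257f) (.lf 0))) (.nd (.nd (.lf 0x2b3) (.lf 0x108c)) (.nd (.lf 0x897) (.lf 0)))) (.nd (.nd (.nd (.lf 0x161) (.lf 0xe3b)) (.nd (.lf 0x2702) (.lf 0))) (.nd (.nd (.lf 0x40b) (.lf 0x1365)) (.nd (.lf 0x2a5a) (.lf 0))))) (.nd (.nd (.nd (.nd (.lf 0x20bd) (.lf 0xd30)) (.nd (.lf 0x63d) (.lf 0))) (.nd (.nd (.lf 0x35e) (.lf 0x11db)) (.nd (.lf 0x2973) (.lf 0)))) (.nd (.nd (.nd (.lf 0x220b) (.lf 0xf50)) (.nd (.lf 0x27c5) (.lf 0))) (.nd (.nd (.lf 0x24c4) (.lf 0x150c)) (.nd (.lf 0xb41) (.lf 0)))))) (.nd (.nd (.nd (.nd (.nd (.lf 0x6b) (.lf 0xcaf)) (.nd (.lf 0x5df) (.lf 0))) (.nd (.nd (.lf 0x2307) (.lf 0x3126))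 (.nd (.lf 0x290a) (.lf 0)))) (.nd (.nd (.nd (.lf 0x1b3) (.lf 0xec2)) (.nd (.lf 0x2764) (.lf 0))) (.nd (.nd (.lf 0x2466) (.lf 0x3427)) (.nd (.lf 0xacb) (.lf 0))))) (.nd (.nd (.nd (.nd (.lf 0x10f) (.lf 0xdaf)) (.nd (.lf 0x69e) (.lf 0))) (.nd (.nd (.lf 0x23b4) (.lf 0x329f)) (.nd (.lf 0x29e1) (.lf 0)))) (.nd (.nd (.nd (.lf 0x25f) (.lf 0xff9)) (.nd (.lf 0x835) (.lf 0))) (.nd (.nd (.lf 0x523) (.lf 0x163a)) (.nd (.lf 0x2bb5) (.lf 0))))))) (.nd (.nd (.nd (.nd (.nd (.nd (.lf 0x2042) (.lf 0xc73)) (.nd (.lf 0x5ae) (.lf 0))) (.nd (.nd (.lf 0x2dc) (.lf 0x10d8)) (.nd (.lf 0x8d1) (.lf 0)))) (.nd (.nd (.nd (.lf 0x218a) (.lf 0xe7d)) (.nd (.lf 0x2737) (.lf 0))) (.nd (.nd (.lf 0x243a) (.lf 0x13b6)) (.nd (.lf 0xa94) (.lf 0))))) (.nd (.nd (.nd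 (.nd (.lf 0xe6) (.lf 0xd75)) (.nd (.lf 0x670) (.lf 0))) (.nd (.nd (.lf 0x38b) (.lf 0x1232)) (.nd (.lf 0x9ab) (.lf 0)))) (.nd (.nd (.nd (.lf 0x2234) (.lf 0xfae)) (.nd (.lf 0x27fb) (.lf 0))) (.nd (.nd (.lf 0x24f2) (.lf 0x3598)) (.nd (.lf 0x2b7d) (.lf 0)))))) (.nd (.nd (.nd (.nd (.nd (.lf 0x2093) (.lf 0x2cea)) (.nd (.lf 0x260d) (.lf 0))) (.nd (.nd (.lf 0x332) (.lf 0x1179)) (.nd (.lf 0x2940) (.lf 0)))) (.nd (.nd (.nd (.lf 0x1de) (.lf 0x2f04)) (.nd (.lf 0x794) (.lf 0))) (.nd (.nd (.lf 0x2495) (.lf 0x348f)) (.nd (.lf 0xb04) (.lf 0))))) (.nd (.nd (.nd (.nd (.lf 0x2137) (.lf 0x2df7)) (.nd (.lf 0x26cf) (.lf 0))) (.nd (.nd (.lf 0x23e0) (.lf 0x3304)) (.nd (.lf 0x2a22) (.lf 0)))) (.nd (.nd (.nd (.lf 0x28a) (.lf 0x3045)) (.nd (.lf 0x866)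 (.lf 0))) (.nd (.nd (.lf 0x2550) (.lf 0x1727)) (.nd (.lf 0xbf3) (.lf 0))))))))
def parT_nbbabba : Tr := (.nd (.nd (.nd (.nd (.nd (.nd (.nd (.lf 0x10) (.lf 0x2c23)) (.nd (.lf 0x2574) (.lf 0))) (.nd (.nd (.lf 0x22a8) (.lf 0x307d)) (.nd (.lf 0x288b) (.lf 0)))) (.nd (.nd (.nd (.lf 0x157) (.lf 0x2e2c)) (.nd (.lf 0x26f3) (.lf 0))) (.nd (.nd (.lf 0x2400) (.lf 0x1355)) (.nd (.lf 0x2a49) (.lf 0))))) (.nd (.nd (.nd (.nd (.lf 0xb3) (.lf 0x2d1c)) (.nd (.lf 0x630) (.lf 0))) (.nd (.nd (.lf 0x2352) (.lf 0x31c5)) (.nd (.lf 0x2966) (.lf 0)))) (.nd (.nd (.nd (.lf 0x21fe) (.lf 0xf3b)) (.nd (.lf 0x27b8) (.lf 0))) (.nd (.nd (.lf 0x4b8) (.lf 0x14e7)) (.nd (.lf 0xb31) (.lf 0)))))) (.nd (.nd (.nd (.nd (.nd (.lf 0x2060) (.lf 0xc9f)) (.nd (.lf 0x5d2)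 (.lf 0))) (.nd (.nd (.lf 0x2fc) (.lf 0x1112)) (.nd (.lf 0x8fc) (.lf 0)))) (.nd (.nd (.nd (.lf 0x1a9) (.lf 0xeb1)) (.nd (.lf 0x2758) (.lf 0))) (.nd (.nd (.lf 0x45d) (.lf 0x340b)) (.nd (.lf 0xabf) (.lf 0))))) (.nd (.nd (.nd (.nd (.lf 0x105) (.lf 0xd9f)) (.nd (.lf 0x2693) (.lf 0))) (.nd (.nd (.lf 0x3aa) (.lf 0x128e)) (.nd (.lf 0x9d3) (.lf 0)))) (.nd (.nd (.nd (.lf 0x2254) (.lf 0xfe8)) (.nd (.lf 0x827) (.lf 0))) (.nd (.nd (.lf 0x515) (.lf 0x1612)) (.nd (.lf 0x2ba7) (.lf 0))))))) (.nd (.nd (.nd (.nd (.nd (.nd (.lf 0x38) (.lf 0x2c63)) (.nd (.lf 0x25a1) (.lf 0))) (.nd (.nd (.lf 0x2d2) (.lf 0x10c6)) (.nd (.lf 0x8c1) (.lf 0)))) (.nd (.nd (.nd (.lf 0x180) (.lf 0x2e6c)) (.nd (.lf 0x2728) (.lf 0))) (.nd (.nd (.lf 0x2430) (.lf 0x13a2))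 (.nd (.lf 0x2a83) (.lf 0))))) (.nd (.nd (.nd (.nd (.lf 0xdc) (.lf 0x2d62)) (.nd (.lf 0x662) (.lf 0))) (.nd (.nd (.lf 0x380) (.lf 0x121c)) (.nd (.lf 0x99f) (.lf 0)))) (.nd (.nd (.nd (.lf 0x222a) (.lf 0xf92)) (.nd (.lf 0x7ec) (.lf 0))) (.nd (.nd (.lf 0x24e8) (.lf 0x3581)) (.nd (.lf 0x2b6f) (.lf 0)))))) (.nd (.nd (.nd (.nd (.nd (.lf 0x8a) (.lf 0x2cda)) (.nd (.lf 0x602) (.lf 0))) (.nd (.nd (.lf 0x327) (.lf 0x1163)) (.nd (.lf 0x2930) (.lf 0)))) (.nd (.nd (.nd (.lf 0x21d3) (.lf 0xef5)) (.nd (.lf 0x787) (.lf 0))) (.nd (.nd (.lf 0x2489) (.lf 0x1476)) (.nd (.lf 0x2af5) (.lf 0))))) (.nd (.nd (.nd (.nd (.lf 0x12e) (.lf 0x2de1)) (.nd (.lf 0x26c2) (.lf 0))) (.nd (.nd (.lf 0x3d7) (.lf 0x32ec)) (.nd (.lf 0x2a11) (.lf 0)))) (.nd (.nd (.nd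 (.lf 0x27f) (.lf 0x1031)) (.nd (.lf 0x85a) (.lf 0))) (.nd (.nd (.lf 0x546) (.lf 0x16e8)) (.nd (.lf 0x2be6) (.lf 0))))))))
def parT_nbbabbb : Tr := (.nd (.nd (.nd (.nd (.nd (.nd (.nd (.lf 0x2023) (.lf 0x2c48)) (.nd (.lf 0x58a) (.lf 0))) (.nd (.nd (.lf 0x2bd) (.lf 0x10a0)) (.nd (.lf 0x28a5) (.lf 0)))) (.nd (.nd (.nd (.lf 0x216b) (.lf 0x2e4a)) (.nd (.lf 0x270e) (.lf 0))) (.nd (.nd (.lf 0x417) (.lf 0x1376)) (.nd (.lf 0x2a68) (.lf 0))))) (.nd (.nd (.nd (.nd (.lf 0xc7) (.lf 0x2d43)) (.nd (.lf 0x649) (.lf 0))) (.nd (.nd (.lf 0x368) (.lf 0x11f4)) (.nd (.lf 0x983) (.lf 0)))) (.nd (.nd (.nd (.lf 0x2215) (.lf 0x2f65)) (.nd (.lf 0x7d3) (.lf 0))) (.nd (.nd (.lf 0x24d0) (.lf 0x152d)) (.nd (.lf 0xb52) (.lf 0)))))) (.nd (.nd (.nd (.nd (.nd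 (.lf 0x75) (.lf 0x2cbf)) (.nd (.lf 0x5eb) (.lf 0))) (.nd (.nd (.lf 0x313) (.lf 0x1136)) (.nd (.lf 0x916) (.lf 0)))) (.nd (.nd (.nd (.lf 0x1be) (.lf 0xed1)) (.nd (.lf 0x770) (.lf 0))) (.nd (.nd (.lf 0x2472) (.lf 0x343f)) (.nd (.lf 0x2adc) (.lf 0))))) (.nd (.nd (.nd (.nd (.lf 0x2119) (.lf 0xdc1)) (.nd (.lf 0x26aa) (.lf 0))) (.nd (.nd (.lf 0x3c0) (.lf 0x12b8)) (.nd (.lf 0x9f1) (.lf 0)))) (.nd (.nd (.nd (.lf 0x269) (.lf 0x300b)) (.nd (.lf 0x2842) (.lf 0))) (.nd (.nd (.lf 0x2530) (.lf 0x1664)) (.nd (.lf 0x2bc9) (.lf 0))))))) (.nd (.nd (.nd (.nd (.nd (.nd (.lf 0x4d) (.lf 0xc84)) (.nd (.lf 0x5b9) (.lf 0))) (.nd (.nd (.lf 0x2e7) (.lf 0x10ec)) (.nd (.lf 0x28df) (.lf 0)))) (.nd (.nd (.nd (.lf 0x2195) (.lf 0xe8d)) (.nd (.lf 0x2741) (.lf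 0))) (.nd (.nd (.lf 0x2446) (.lf 0x13d3)) (.nd (.lf 0xaa0) (.lf 0))))) (.nd (.nd (.nd (.nd (.lf 0x20f0) (.lf 0xd81)) (.nd (.lf 0x67c) (.lf 0))) (.nd (.nd (.lf 0x395) (.lf 0x3258)) (.nd (.lf 0x9b8) (.lf 0)))) (.nd (.nd (.nd (.lf 0x223f) (.lf 0x2fbf)) (.nd (.lf 0x80c) (.lf 0))) (.nd (.nd (.lf 0x24fd) (.lf 0x35c7)) (.nd (.lf 0xb89) (.lf 0)))))) (.nd (.nd (.nd (.nd (.nd (.lf 0x9e) (.lf 0x2cfa)) (.nd (.lf 0x619) (.lf 0))) (.nd (.nd (.lf 0x33e) (.lf 0x1193)) (.nd (.lf 0x294c) (.lf 0)))) (.nd (.nd (.nd (.lf 0x1e9) (.lf 0xf14)) (.nd (.lf 0x279f) (.lf 0))) (.nd (.nd (.lf 0x24a1) (.lf 0x14ab)) (.nd (.lf 0xb14) (.lf 0))))) (.nd (.nd (.nd (.nd (.lf 0x142) (.lf 0xe04)) (.nd (.lf 0x6da) (.lf 0))) (.nd (.nd (.lf 0x3eb) (.lf 0x1325)) (.nd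 (.lf 0xa30) (.lf 0)))) (.nd (.nd (.nd (.lf 0x294) (.lf 0x3057)) (.nd (.lf 0x873) (.lf 0))) (.nd (.nd (.lf 0x55f) (.lf 0x3799)) (.nd (.lf 0x2c02) (.lf 0))))))))
def parT_nbbbaaa : Tr := (.nd (.nd (.nd (.nd (.nd (.nd (.nd (.lf 0x2003) (.lf 0xc12)) (.nd (.lf 0x567) (.lf 0x17dd))) (.nd (.nd (.lf 0x29c) (.lf 0x1065)) (.nd (.lf 0x87c) (.lf 0)))) (.nd (.nd (.nd (.lf 0x14a) (.lf 0xe16)) (.nd (.lf 0x6e4) (.lf 0))) (.nd (.nd (.lf 0x23f3) (.lf 0x3338)) (.nd (.lf 0xa39) (.lf 0))))) (.nd (.nd (.nd (.nd (.lf 0xa5) (.lf 0xd06)) (.nd (.lf 0x621) (.lf 0))) (.nd (.nd (.lf 0x345) (.lf 0x31a8)) (.nd (.lf 0x956) (.lf 0)))) (.nd (.nd (.nd (.lf 0x1f1) (.lf 0x2f23)) (.nd (.lf 0x7a9) (.lf 0))) (.nd (.nd (.lf 0x4aa) (.lf 0x34ba)) (.nd (.lf 0xb1f) (.lf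 0)))))) (.nd (.nd (.nd (.nd (.nd (.lf 0x2054) (.lf 0x2c8f)) (.nd (.lf 0x5c3) (.lf 0))) (.nd (.nd (.lf 0x2ee) (.lf 0x30fc)) (.nd (.lf 0x28ea) (.lf 0)))) (.nd (.nd (.nd (.lf 0x19d) (.lf 0x2e9d)) (.nd (.lf 0x74a) (.lf 0))) (.nd (.nd (.lf 0x244d) (.lf 0x13e4)) (.nd (.lf 0x2aac) (.lf 0))))) (.nd (.nd (.nd (.nd (.lf 0xf8) (.lf 0x2d8c)) (.nd (.lf 0x684) (.lf 0))) (.nd (.nd (.lf 0x239d) (.lf 0x3268)) (.nd (.lf 0x9c3) (.lf 0)))) (.nd (.nd (.nd (.lf 0x2246) (.lf 0xfd1)) (.nd (.lf 0x816) (.lf 0))) (.nd (.nd (.lf 0x2507) (.lf 0x15e9)) (.nd (.lf 0x2b93) (.lf 0))))))) (.nd (.nd (.nd (.nd (.nd (.nd (.lf 0x2b) (.lf 0xc52)) (.nd (.lf 0x593) (.lf 0))) (.nd (.nd (.lf 0x2c5) (.lf 0x30ac)) (.nd (.lf 0x28b1) (.lf 0)))) (.nd (.nd (.nd (.lf 0x2173)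 (.lf 0xe57)) (.nd (.lf 0x2718) (.lf 0))) (.nd (.nd (.lf 0x2422) (.lf 0x338b)) (.nd (.lf 0xa73) (.lf 0))))) (.nd (.nd (.nd (.nd (.lf 0x20cf) (.lf 0xd4c)) (.nd (.lf 0x2652) (.lf 0))) (.nd (.nd (.lf 0x2373) (.lf 0x11ff)) (.nd (.lf 0x98d) (.lf 0)))) (.nd (.nd (.nd (.lf 0x221d) (.lf 0x2f77)) (.nd (.lf 0x7de) (.lf 0))) (.nd (.nd (.lf 0x24d9) (.lf 0x3546)) (.nd (.lf 0xb60) (.lf 0)))))) (.nd (.nd (.nd (.nd (.nd (.lf 0x207d) (.lf 0xcc9)) (.nd (.lf 0x25f4) (.lf 0))) (.nd (.nd (.lf 0x231a) (.lf 0x3148)) (.nd (.lf 0x922) (.lf 0)))) (.nd (.nd (.nd (.lf 0x21c6) (.lf 0xede)) (.nd (.lf 0x778) (.lf 0))) (.nd (.nd (.lf 0x247a) (.lf 0x1451)) (.nd (.lf 0xae5) (.lf 0))))) (.nd (.nd (.nd (.nd (.lf 0x121) (.lf 0xdce)) (.nd (.lf 0x6b3) (.lf 0)))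 (.nd (.nd (.lf 0x3c9) (.lf 0x12cb)) (.nd (.lf 0x29fb) (.lf 0)))) (.nd (.nd (.nd (.lf 0x271) (.lf 0x101c)) (.nd (.lf 0x84b) (.lf 0))) (.nd (.nd (.lf 0x2539) (.lf 0x168b)) (.nd (.lf 0xbd2) (.lf 0))))))))
def parT_nbbbaab : Tr := (.nd (.nd (.nd (.nd (.nd (.nd (.nd (.lf 0x17) (.lf 0xc32)) (.nd (.lf 0x57d) (.lf 0))) (.nd (.nd (.lf 0x22b0) (.lf 0x1088)) (.nd (.lf 0x894) (.lf 0)))) (.nd (.nd (.nd (.lf 0x215e) (.lf 0xe36)) (.nd (.lf 0x700) (.lf 0))) (.nd (.nd (.lf 0x2408) (.lf 0x3360)) (.nd (.lf 0x2a57) (.lf 0))))) (.nd (.nd (.nd (.nd (.lf 0xbb) (.lf 0x2d2a)) (.nd (.lf 0x263a) (.lf 0))) (.nd (.nd (.lf 0x235a) (.lf 0x31d7)) (.nd (.lf 0x2970) (.lf 0)))) (.nd (.nd (.nd (.lf 0x2208) (.lf 0xf4d)) (.nd (.lf 0x27c2) (.lf 0))) (.nd (.nd (.lf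 0x4c1) (.lf 0x3504)) (.nd (.lf 0xb3d) (.lf 0)))))) (.nd (.nd (.nd (.nd (.nd (.lf 0x69) (.lf 0x2caa)) (.nd (.lf 0x5dc) (.lf 0))) (.nd (.nd (.lf 0x305) (.lf 0x1120)) (.nd (.lf 0x2907) (.lf 0)))) (.nd (.nd (.nd (.lf 0x1b0) (.lf 0xebe)) (.nd (.lf 0x2761) (.lf 0))) (.nd (.nd (.lf 0x464) (.lf 0x3423)) (.nd (.lf 0x2ac7) (.lf 0))))) (.nd (.nd (.nd (.nd (.lf 0x10d) (.lf 0x2da8)) (.nd (.lf 0x69b) (.lf 0))) (.nd (.nd (.lf 0x3b2) (.lf 0x129b)) (.nd (.lf 0x9df) (.lf 0)))) (.nd (.nd (.nd (.lf 0x25c) (.lf 0x2ff5)) (.nd (.lf 0x832) (.lf 0))) (.nd (.nd (.lf 0x51f) (.lf 0x3630)) (.nd (.lf 0xbb2) (.lf 0))))))) (.nd (.nd (.nd (.nd (.nd (.nd (.lf 0x40) (.lf 0xc6f)) (.nd (.lf 0x5ab) (.lf 0))) (.nd (.nd (.lf 0x22d9) (.lf 0x30d4)) (.nd (.lf 0x8cd)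 (.lf 0)))) (.nd (.nd (.nd (.lf 0x2187) (.lf 0xe77)) (.nd (.lf 0x2732) (.lf 0))) (.nd (.nd (.lf 0x438) (.lf 0x13b0)) (.nd (.lf 0x2a8f) (.lf 0))))) (.nd (.nd (.nd (.nd (.lf 0xe4) (.lf 0x2d72)) (.nd (.lf 0x66d) (.lf 0))) (.nd (.nd (.lf 0x389) (.lf 0x122d)) (.nd (.lf 0x29a7) (.lf 0)))) (.nd (.nd (.nd (.lf 0x232) (.lf 0x2fa4)) (.nd (.lf 0x7f8) (.lf 0))) (.nd (.nd (.lf 0x24ef) (.lf 0x158d)) (.nd (.lf 0xb7a) (.lf 0)))))) (.nd (.nd (.nd (.nd (.nd (.lf 0x91) (.lf 0xce6)) (.nd (.lf 0x2609) (.lf 0))) (.nd (.nd (.lf 0x32f) (.lf 0x1175)) (.nd (.lf 0x293b) (.lf 0)))) (.nd (.nd (.nd (.lf 0x1db) (.lf 0x2f01)) (.nd (.lf 0x790) (.lf 0))) (.nd (.nd (.lf 0x492) (.lf 0x1487)) (.nd (.lf 0xb00) (.lf 0))))) (.nd (.nd (.nd (.nd (.lf 0x135) (.lf 0xdf3))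 (.nd (.lf 0x6cc) (.lf 0))) (.nd (.nd (.lf 0x3de) (.lf 0x1300)) (.nd (.lf 0xa20) (.lf 0)))) (.nd (.nd (.nd (.lf 0x287) (.lf 0x1042)) (.nd (.lf 0x863) (.lf 0))) (.nd (.nd (.lf 0x54d) (.lf 0x370c)) (.nd (.lf 0x2bf0) (.lf 0))))))))
def parT_nbbbaba : Tr := (.nd (.nd (.nd (.nd (.nd (.nd (.nd (.lf 0x200d) (.lf 0xc21)) (.nd (.lf 0x2571) (.lf 0))) (.nd (.nd (.lf 0x2a6) (.lf 0x307b)) (.nd (.lf 0x889) (.lf 0)))) (.nd (.nd (.nd (.lf 0x2154) (.lf 0xe27)) (.nd (.lf 0x6f1) (.lf 0))) (.nd (.nd (.lf 0x3fe) (.lf 0x1352)) (.nd (.lf 0x2a46) (.lf 0))))) (.nd (.nd (.nd (.nd (.lf 0xb1) (.lf 0xd18)) (.nd (.lf 0x62c) (.lf 0))) (.nd (.nd (.lf 0x350) (.lf 0x11c1)) (.nd (.lf 0x2963) (.lf 0)))) (.nd (.nd (.nd (.lf 0x1fc) (.lf 0x2f33)) (.nd (.lf 0x27b4)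 (.lf 0))) (.nd (.nd (.lf 0x4b5) (.lf 0x34db)) (.nd (.lf 0x2b2c) (.lf 0)))))) (.nd (.nd (.nd (.nd (.nd (.lf 0x5e) (.lf 0xc9c)) (.nd (.lf 0x5cf) (.lf 0))) (.nd (.nd (.lf 0x22f9) (.lf 0x110c)) (.nd (.lf 0x8f8) (.lf 0)))) (.nd (.nd (.nd (.lf 0x21a6) (.lf 0x2ead)) (.nd (.lf 0x2755) (.lf 0))) (.nd (.nd (.lf 0x45a) (.lf 0x3401)) (.nd (.lf 0xabb) (.lf 0))))) (.nd (.nd (.nd (.nd (.lf 0x2102) (.lf 0xd9b)) (.nd (.lf 0x690) (.lf 0))) (.nd (.nd (.lf 0x23a7) (.lf 0x3285)) (.nd (.lf 0x29d0) (.lf 0)))) (.nd (.nd (.nd (.lf 0x2251) (.lf 0xfe4)) (.nd (.lf 0x824) (.lf 0))) (.nd (.nd (.lf 0x2512) (.lf 0x160c)) (.nd (.lf 0xba3) (.lf 0))))))) (.nd (.nd (.nd (.nd (.nd (.nd (.lf 0x2035) (.lf 0xc60)) (.nd (.lf 0x259e) (.lf 0))) (.nd (.nd (.lf 0x22cf)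 (.lf 0x10c0)) (.nd (.lf 0x8bf) (.lf 0)))) (.nd (.nd (.nd (.lf 0x217d) (.lf 0x2e6a)) (.nd (.lf 0x726) (.lf 0))) (.nd (.nd (.lf 0x42e) (.lf 0x139e)) (.nd (.lf 0xa80) (.lf 0))))) (.nd (.nd (.nd (.nd (.lf 0xda) (.lf 0x2d5d)) (.nd (.lf 0x65e) (.lf 0))) (.nd (.nd (.lf 0x37e) (.lf 0x1214)) (.nd (.lf 0x99c) (.lf 0)))) (.nd (.nd (.nd (.lf 0x228) (.lf 0xf8a)) (.nd (.lf 0x7e9) (.lf 0))) (.nd (.nd (.lf 0x4e5) (.lf 0x1578)) (.nd (.lf 0xb6b) (.lf 0)))))) (.nd (.nd (.nd (.nd (.nd (.lf 0x87) (.lf 0x2cd6)) (.nd (.lf 0x25ff) (.lf 0))) (.nd (.nd (.lf 0x2324) (.lf 0x315f)) (.nd (.lf 0x292e) (.lf 0)))) (.nd (.nd (.nd (.lf 0x1d1) (.lf 0xef0)) (.nd (.lf 0x2784) (.lf 0))) (.nd (.nd (.lf 0x487) (.lf 0x346d)) (.nd (.lf 0x2af0) (.lf 0))))) (.nd (.nd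 (.nd (.nd (.lf 0x12b) (.lf 0xdde)) (.nd (.lf 0x6be) (.lf 0))) (.nd (.nd (.lf 0x3d5) (.lf 0x32e1)) (.nd (.lf 0xa0c) (.lf 0)))) (.nd (.nd (.nd (.lf 0x27c) (.lf 0x302e)) (.nd (.lf 0x2856) (.lf 0))) (.nd (.nd (.lf 0x2543) (.lf 0x16d1)) (.nd (.lf 0xbe1) (.lf 0))))))))
def parT_nbbbabb : Tr := (.nd (.nd (.nd (.nd (.nd (.nd (.nd (.lf 0x21) (.lf 0xc45)) (.nd (.lf 0x588) (.lf 0))) (.nd (.nd (.lf 0x2ba) (.lf 0x109a)) (.nd (.lf 0x8a3) (.lf 0)))) (.nd (.nd (.nd (.lf 0x169) (.lf 0xe48)) (.nd (.lf 0x70c) (.lf 0))) (.nd (.nd (.lf 0x2414) (.lf 0x3372)) (.nd (.lf 0x2a64) (.lf 0))))) (.nd (.nd (.nd (.nd (.lf 0xc5) (.lf 0xd41)) (.nd (.lf 0x645) (.lf 0))) (.nd (.nd (.lf 0x366) (.lf 0x11f0)) (.nd (.lf 0x297e) (.lf 0)))) (.nd (.nd (.nd (.lf 0x213)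 (.lf 0xf5d)) (.nd (.lf 0x27cf) (.lf 0))) (.nd (.nd (.lf 0x4ce) (.lf 0x1526)) (.nd (.lf 0x2b4c) (.lf 0)))))) (.nd (.nd (.nd (.nd (.nd (.lf 0x73) (.lf 0xcbc)) (.nd (.lf 0x5e9) (.lf 0))) (.nd (.nd (.lf 0x230f) (.lf 0x1130)) (.nd (.lf 0x914) (.lf 0)))) (.nd (.nd (.nd (.lf 0x1bc) (.lf 0x2ece)) (.nd (.lf 0x76d) (.lf 0))) (.nd (.nd (.lf 0x46f) (.lf 0x3439)) (.nd (.lf 0xada) (.lf 0))))) (.nd (.nd (.nd (.nd (.lf 0x117) (.lf 0xdbe)) (.nd (.lf 0x26a7) (.lf 0))) (.nd (.nd (.lf 0x3bd) (.lf 0x12af)) (.nd (.lf 0x29ec) (.lf 0)))) (.nd (.nd (.nd (.lf 0x2266) (.lf 0x1009)) (.nd (.lf 0x83f) (.lf 0))) (.nd (.nd (.lf 0x52c) (.lf 0x3659)) (.nd (.lf 0x2bc5) (.lf 0))))))) (.nd (.nd (.nd (.nd (.nd (.nd (.lf 0x204a) (.lf 0xc80)) (.nd (.lf 0x5b6) (.lf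 0))) (.nd (.nd (.lf 0x22e4) (.lf 0x30e7)) (.nd (.lf 0x28db) (.lf 0)))) (.nd (.nd (.nd (.lf 0x193) (.lf 0x2e88)) (.nd (.lf 0x273f) (.lf 0))) (.nd (.nd (.lf 0x443) (.lf 0x33ce)) (.nd (.lf 0xa9d) (.lf 0))))) (.nd (.nd (.nd (.nd (.lf 0xee) (.lf 0xd7e)) (.nd (.lf 0x2678) (.lf 0))) (.nd (.nd (.lf 0x2392) (.lf 0x124a)) (.nd (.lf 0x9b5) (.lf 0)))) (.nd (.nd (.nd (.lf 0x23d) (.lf 0xfbc)) (.nd (.lf 0x2805) (.lf 0))) (.nd (.nd (.lf 0x4fb) (.lf 0x15c3)) (.nd (.lf 0xb87) (.lf 0)))))) (.nd (.nd (.nd (.nd (.nd (.lf 0x9b) (.lf 0x2cf7)) (.nd (.lf 0x615) (.lf 0))) (.nd (.nd (.lf 0x233a) (.lf 0x118b)) (.nd (.lf 0x949) (.lf 0)))) (.nd (.nd (.nd (.lf 0x1e7) (.lf 0x2f10)) (.nd (.lf 0x79c) (.lf 0))) (.nd (.nd (.lf 0x249d) (.lf 0x34a5)) (.nd (.lf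 0xb0f) (.lf 0))))) (.nd (.nd (.nd (.nd (.lf 0x13f) (.lf 0xe01)) (.nd (.lf 0x26d7) (.lf 0))) (.nd (.nd (.lf 0x3e9) (.lf 0x331a)) (.nd (.lf 0xa2d) (.lf 0)))) (.nd (.nd (.nd (.lf 0x2291) (.lf 0x1052)) (.nd (.lf 0x286f) (.lf 0))) (.nd (.nd (.lf 0x55c) (.lf 0x3784)) (.nd (.lf 0xbff) (.lf 0))))))))
def parT_nbbbbaa : Tr := (.nd (.nd (.nd (.nd (.nd (.nd (.nd (.lf 0x2008) (.lf 0xc19)) (.nd (.lf 0x56d) (.lf 0))) (.nd (.nd (.lf 0x2a1) (.lf 0x306c)) (.nd (.lf 0x2882) (.lf 0)))) (.nd (.nd (.nd (.lf 0x214f) (.lf 0xe1e)) (.nd (.lf 0x26e9) (.lf 0))) (.nd (.nd (.lf 0x23f8) (.lf 0x3343)) (.nd (.lf 0xa3e) (.lf 0))))) (.nd (.nd (.nd (.nd (.lf 0x20ab) (.lf 0x2d0f)) (.nd (.lf 0x627) (.lf 0))) (.nd (.nd (.lf 0x234a) (.lf 0x11b5)) (.nd (.lf 0x95d)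 (.lf 0)))) (.nd (.nd (.nd (.lf 0x1f7) (.lf 0x2f2b)) (.nd (.lf 0x27ae) (.lf 0))) (.nd (.nd (.lf 0x24af) (.lf 0x14cb)) (.nd (.lf 0xb25) (.lf 0)))))) (.nd (.nd (.nd (.nd (.nd (.lf 0x2059) (.lf 0x2c96)) (.nd (.lf 0x5c8) (.lf 0))) (.nd (.nd (.lf 0x2f3) (.lf 0x1102)) (.nd (.lf 0x8f1) (.lf 0)))) (.nd (.nd (.nd (.lf 0x1a2) (.lf 0x2ea8)) (.nd (.lf 0x750) (.lf 0))) (.nd (.nd (.lf 0x453) (.lf 0x33f4)) (.nd (.lf 0xab5) (.lf 0))))) (.nd (.nd (.nd (.nd (.lf 0xfd) (.lf 0x2d95)) (.nd (.lf 0x689) (.lf 0))) (.nd (.nd (.lf 0x23a2) (.lf 0x3275)) (.nd (.lf 0x9c9) (.lf 0)))) (.nd (.nd (.nd (.lf 0x24c) (.lf 0xfda)) (.nd (.lf 0x281d) (.lf 0))) (.nd (.nd (.lf 0x50d) (.lf 0x15ff)) (.nd (.lf 0xb9b) (.lf 0))))))) (.nd (.nd (.nd (.nd (.nd (.nd (.lf 0x30)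 (.lf 0xc5b)) (.nd (.lf 0x2598) (.lf 0))) (.nd (.nd (.lf 0x22ca) (.lf 0x10b4)) (.nd (.lf 0x28b7) (.lf 0)))) (.nd (.nd (.nd (.lf 0x2178) (.lf 0xe60)) (.nd (.lf 0x271f) (.lf 0))) (.nd (.nd (.lf 0x2428) (.lf 0x1395)) (.nd (.lf 0xa79) (.lf 0))))) (.nd (.nd (.nd (.nd (.lf 0xd5) (.lf 0xd56)) (.nd (.lf 0x2659) (.lf 0))) (.nd (.nd (.lf 0x2378) (.lf 0x120c)) (.nd (.lf 0x994) (.lf 0)))) (.nd (.nd (.nd (.lf 0x222) (.lf 0x2f80)) (.nd (.lf 0x7e4) (.lf 0))) (.nd (.nd (.lf 0x4df) (.lf 0x155c)) (.nd (.lf 0xb67) (.lf 0)))))) (.nd (.nd (.nd (.nd (.nd (.lf 0x82) (.lf 0x2ccf)) (.nd (.lf 0x5fa) (.lf 0))) (.nd (.nd (.lf 0x320) (.lf 0x3153)) (.nd (.lf 0x929) (.lf 0)))) (.nd (.nd (.nd (.lf 0x1cc) (.lf 0xee5)) (.nd (.lf 0x77e) (.lf 0))) (.nd (.nd (.lf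 0x481) (.lf 0x1464)) (.nd (.lf 0x2aea) (.lf 0))))) (.nd (.nd (.nd (.nd (.lf 0x126) (.lf 0xdd6)) (.nd (.lf 0x6b9) (.lf 0))) (.nd (.nd (.lf 0x3ce) (.lf 0x32d6)) (.nd (.lf 0xa03) (.lf 0)))) (.nd (.nd (.nd (.lf 0x276) (.lf 0x1025)) (.nd (.lf 0x850) (.lf 0))) (.nd (.nd (.lf 0x53e) (.lf 0x16ac)) (.nd (.lf 0xbd9) (.lf 0))))))))
def parT_nbbbbab : Tr := (.nd (.nd (.nd (.nd (.nd (.nd (.nd (.lf 0x1c) (.lf 0x2c3c)) (.nd (.lf 0x582) (.lf 0))) (.nd (.nd (.lf 0x22b5) (.lf 0x1092)) (.nd (.lf 0x289b) (.lf 0)))) (.nd (.nd (.nd (.lf 0x163) (.lf 0xe3f)) (.nd (.lf 0x2705) (.lf 0))) (.nd (.nd (.lf 0x240f) (.lf 0x1368)) (.nd (.lf 0xa5d) (.lf 0))))) (.nd (.nd (.nd (.nd (.lf 0xc0) (.lf 0xd37)) (.nd (.lf 0x640) (.lf 0))) (.nd (.nd (.lf 0x360) (.lf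 0x11e3)) (.nd (.lf 0x978) (.lf 0)))) (.nd (.nd (.nd (.lf 0x20e) (.lf 0xf56)) (.nd (.lf 0x27c8) (.lf 0))) (.nd (.nd (.lf 0x24c8) (.lf 0x1519)) (.nd (.lf 0x2b45) (.lf 0)))))) (.nd (.nd (.nd (.nd (.nd (.lf 0x206d) (.lf 0x2cb4)) (.nd (.lf 0x5e2) (.lf 0))) (.nd (.nd (.lf 0x30a) (.lf 0x112a)) (.nd (.lf 0x290c) (.lf 0)))) (.nd (.nd (.nd (.lf 0x1b5) (.lf 0xec6)) (.nd (.lf 0x2768) (.lf 0))) (.nd (.nd (.lf 0x46a) (.lf 0x142b)) (.nd (.lf 0x2ad1) (.lf 0))))) (.nd (.nd (.nd (.nd (.lf 0x112) (.lf 0x2db5)) (.nd (.lf 0x6a2) (.lf 0))) (.nd (.nd (.lf 0x3b7) (.lf 0x12a2)) (.nd (.lf 0x9e7) (.lf 0)))) (.nd (.nd (.nd (.lf 0x2261) (.lf 0xffe)) (.nd (.lf 0x2839) (.lf 0))) (.nd (.nd (.lf 0x526) (.lf 0x164a)) (.nd (.lf 0xbb9) (.lf 0))))))) (.nd (.nd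 (.nd (.nd (.nd (.nd (.lf 0x2045) (.lf 0x2c78)) (.nd (.lf 0x5b1) (.lf 0))) (.nd (.nd (.lf 0x22de) (.lf 0x10dd)) (.nd (.lf 0x8d4) (.lf 0)))) (.nd (.nd (.nd (.lf 0x18d) (.lf 0x2e82)) (.nd (.lf 0x273a) (.lf 0))) (.nd (.nd (.lf 0x243d) (.lf 0x33bc)) (.nd (.lf 0xa97) (.lf 0))))) (.nd (.nd (.nd (.nd (.lf 0xe9) (.lf 0x2d78)) (.nd (.lf 0x672) (.lf 0))) (.nd (.nd (.lf 0x238d) (.lf 0x123c)) (.nd (.lf 0x9ad) (.lf 0)))) (.nd (.nd (.nd (.lf 0x2237) (.lf 0xfb1)) (.nd (.lf 0x800) (.lf 0))) (.nd (.nd (.lf 0x4f5) (.lf 0x35ad)) (.nd (.lf 0x2b80) (.lf 0)))))) (.nd (.nd (.nd (.nd (.nd (.lf 0x96) (.lf 0x2cf0)) (.nd (.lf 0x610) (.lf 0))) (.nd (.nd (.lf 0x335) (.lf 0x317e)) (.nd (.lf 0x2944) (.lf 0)))) (.nd (.nd (.nd (.lf 0x21e0) (.lf 0x2f07)) (.nd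 (.lf 0x797) (.lf 0))) (.nd (.nd (.lf 0x498) (.lf 0x1497)) (.nd (.lf 0xb08) (.lf 0))))) (.nd (.nd (.nd (.nd (.lf 0x13a) (.lf 0x2dfa)) (.nd (.lf 0x6d2) (.lf 0))) (.nd (.nd (.lf 0x3e3) (.lf 0x130c)) (.nd (.lf 0xa25) (.lf 0)))) (.nd (.nd (.nd (.lf 0x228c) (.lf 0x304a)) (.nd (.lf 0x869) (.lf 0))) (.nd (.nd (.lf 0x2554) (.lf 0x1745)) (.nd (.lf 0xbf9) (.lf 0))))))))
def parT_nbbbbba : Tr := (.nd (.nd (.nd (.nd (.nd (.nd (.nd (.lf 0x2012) (.lf 0xc26)) (.nd (.lf 0x578) (.lf 0))) (.nd (.nd (.lf 0x2ab) (.lf 0x3080)) (.nd (.lf 0x88e) (.lf 0)))) (.nd (.nd (.nd (.lf 0x2159) (.lf 0xe30)) (.nd (.lf 0x6f8) (.lf 0))) (.nd (.nd (.lf 0x403) (.lf 0x3359)) (.nd (.lf 0x2a4d) (.lf 0))))) (.nd (.nd (.nd (.nd (.lf 0xb6) (.lf 0xd20)) (.nd (.lf 0x635)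 (.lf 0))) (.nd (.nd (.lf 0x355) (.lf 0x11c9)) (.nd (.lf 0x96a) (.lf 0)))) (.nd (.nd (.nd (.lf 0x203) (.lf 0x2f42)) (.nd (.lf 0x7bc) (.lf 0))) (.nd (.nd (.lf 0x4bb) (.lf 0x34ec)) (.nd (.lf 0xb34) (.lf 0)))))) (.nd (.nd (.nd (.nd (.nd (.lf 0x63) (.lf 0xca3)) (.nd (.lf 0x5d6) (.lf 0))) (.nd (.nd (.lf 0x22fe) (.lf 0x3116)) (.nd (.lf 0x2900) (.lf 0)))) (.nd (.nd (.nd (.lf 0x21ab) (.lf 0xeb4)) (.nd (.lf 0x75c) (.lf 0))) (.nd (.nd (.lf 0x45f) (.lf 0x3414)) (.nd (.lf 0x2ac2) (.lf 0))))) (.nd (.nd (.nd (.nd (.lf 0x2107) (.lf 0x2da2)) (.nd (.lf 0x696) (.lf 0))) (.nd (.nd (.lf 0x23ac) (.lf 0x3292)) (.nd (.lf 0x29d7) (.lf 0)))) (.nd (.nd (.nd (.lf 0x257) (.lf 0x2feb)) (.nd (.lf 0x82b) (.lf 0))) (.nd (.nd (.lf 0x518) (.lf 0x161a)) (.nd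 (.lf 0xbaa) (.lf 0))))))) (.nd (.nd (.nd (.nd (.nd (.nd (.lf 0x3b) (.lf 0x2c66)) (.nd (.lf 0x25a4) (.lf 0))) (.nd (.nd (.lf 0x22d4) (.lf 0x30cb)) (.nd (.lf 0x8c5) (.lf 0)))) (.nd (.nd (.nd (.lf 0x2182) (.lf 0x2e6f)) (.nd (.lf 0x72c) (.lf 0))) (.nd (.nd (.lf 0x433) (.lf 0x13a6)) (.nd (.lf 0xa88) (.lf 0))))) (.nd (.nd (.nd (.nd (.lf 0xdf) (.lf 0xd67)) (.nd (.lf 0x2665) (.lf 0))) (.nd (.nd (.lf 0x384) (.lf 0x321f)) (.nd (.lf 0x9a1) (.lf 0)))) (.nd (.nd (.nd (.lf 0x22d) (.lf 0x2f98)) (.nd (.lf 0x7f0) (.lf 0))) (.nd (.nd (.lf 0x4eb) (.lf 0x1585)) (.nd (.lf 0x2b73) (.lf 0)))))) (.nd (.nd (.nd (.nd (.nd (.lf 0x8c) (.lf 0xcdf)) (.nd (.lf 0x604) (.lf 0))) (.nd (.nd (.lf 0x32a) (.lf 0x1168)) (.nd (.lf 0x935) (.lf 0)))) (.nd (.nd (.nd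 (.lf 0x1d6) (.lf 0x2ef9)) (.nd (.lf 0x78a) (.lf 0))) (.nd (.nd (.lf 0x48c) (.lf 0x147d)) (.nd (.lf 0xaf8) (.lf 0))))) (.nd (.nd (.nd (.nd (.lf 0x130) (.lf 0x2de7)) (.nd (.lf 0x26c6) (.lf 0))) (.nd (.nd (.lf 0x3d9) (.lf 0x12f6)) (.nd (.lf 0x2a16) (.lf 0)))) (.nd (.nd (.nd (.lf 0x2281) (.lf 0x1036)) (.nd (.lf 0x85e) (.lf 0))) (.nd (.nd (.lf 0x2548) (.lf 0x16f4)) (.nd (.lf 0x2be8) (.lf 0))))))))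
def parT_nbbbbbb : Tr := (.nd (.nd (.nd (.nd (.nd (.nd (.nd (.lf 0x26) (.lf 0x2c4b)) (.nd (.lf 0x58e) (.lf 0))) (.nd (.nd (.lf 0x2bf) (.lf 0x10a3)) (.nd (.lf 0x8aa) (.lf 0)))) (.nd (.nd (.nd (.lf 0x16e) (.lf 0xe4e)) (.nd (.lf 0x2712) (.lf 0))) (.nd (.nd (.lf 0x419) (.lf 0x337c)) (.nd (.lf 0x2a6c) (.lf 0))))) (.nd (.nd (.nd (.nd (.lf 0xca) (.lf 0x2d46)) (.nd (.lf 0x264b) (.lf 0))) (.nd (.nd (.lf 0x36b) (.lf 0x31f6)) (.nd (.lf 0x986) (.lf 0)))) (.nd (.nd (.nd (.lf 0x218) (.lf 0xf6a)) (.nd (.lf 0x27d6) (.lf 0))) (.nd (.nd (.lf 0x4d3) (.lf 0x1532)) (.nd (.lf 0x2b57) (.lf 0)))))) (.nd (.nd (.nd (.nd (.nd (.lf 0x2078) (.lf 0x2cc3)) (.nd (.lf 0x5ee) (.lf 0))) (.nd (.nd (.lf 0x2315) (.lf 0x113c)) (.nd (.lf 0x91b) (.lf 0)))) (.nd (.nd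 (.nd (.lf 0x21c1) (.lf 0xed7)) (.nd (.lf 0x2772) (.lf 0))) (.nd (.nd (.lf 0x2475) (.lf 0x3443)) (.nd (.lf 0x2adf) (.lf 0))))) (.nd (.nd (.nd (.nd (.lf 0x11c) (.lf 0x2dc5)) (.nd (.lf 0x6ad) (.lf 0))) (.nd (.nd (.lf 0x23c2) (.lf 0x32bc)) (.nd (.lf 0x9f5) (.lf 0)))) (.nd (.nd (.nd (.lf 0x26b) (.lf 0x1013)) (.nd (.lf 0x2846) (.lf 0))) (.nd (.nd (.lf 0x534) (.lf 0x3672)) (.nd (.lf 0xbcc) (.lf 0))))))) (.nd (.nd (.nd (.nd (.nd (.nd (.lf 0x204f) (.lf 0xc89)) (.nd (.lf 0x25bb) (.lf 0))) (.nd (.nd (.lf 0x2e9) (.lf 0x30ee)) (.nd (.lf 0x8e5) (.lf 0)))) (.nd (.nd (.nd (.lf 0x198) (.lf 0xe95)) (.nd (.lf 0x745) (.lf 0))) (.nd (.nd (.lf 0x449) (.lf 0x33d8)) (.nd (.lf 0x2aa3) (.lf 0))))) (.nd (.nd (.nd (.nd (.lf 0xf3) (.lf 0xd85)) (.nd (.lf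 0x267e) (.lf 0))) (.nd (.nd (.lf 0x398) (.lf 0x125c)) (.nd (.lf 0x9ba) (.lf 0)))) (.nd (.nd (.nd (.lf 0x242) (.lf 0x2fc1)) (.nd (.lf 0x280e) (.lf 0))) (.nd (.nd (.lf 0x500) (.lf 0x15d8)) (.nd (.lf 0x2b8d) (.lf 0)))))) (.nd (.nd (.nd (.nd (.nd (.lf 0x20a0) (.lf 0xcfe)) (.nd (.lf 0x61b) (.lf 0))) (.nd (.nd (.lf 0x340) (.lf 0x119c)) (.nd (.lf 0x94f) (.lf 0)))) (.nd (.nd (.nd (.lf 0x1ec) (.lf 0xf19)) (.nd (.lf 0x7a2) (.lf 0))) (.nd (.nd (.lf 0x4a4) (.lf 0x34b0)) (.nd (.lf 0xb17) (.lf 0))))) (.nd (.nd (.nd (.nd (.lf 0x2144) (.lf 0xe0d)) (.nd (.lf 0x6de) (.lf 0))) (.nd (.nd (.lf 0x3ed) (.lf 0x132e)) (.nd (.lf 0xa34) (.lf 0)))) (.nd (.nd (.nd (.lf 0x2296) (.lf 0x105b)) (.nd (.lf 0x2876) (.lf 0))) (.nd (.nd (.lf 0x2561) (.lf 0x37a8))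 (.nd (.lf 0xc08) (.lf 0))))))))
def parT : Tr := (.nd (.nd (.nd (.nd (.nd (.nd parT_naaaaaa parT_naaaaab) (.nd parT_naaaaba parT_naaaabb)) (.nd (.nd parT_naaabaa parT_naaabab) (.nd parT_naaabba parT_naaabbb))) (.nd (.nd (.nd parT_naabaaa parT_naabaab) (.nd parT_naababa parT_naababb)) (.nd (.nd parT_naabbaa parT_naabbab) (.nd parT_naabbba parT_naabbbb)))) (.nd (.nd (.nd (.nd parT_nabaaaa parT_nabaaab) (.nd parT_nabaaba parT_nabaabb)) (.nd (.nd parT_nababaa parT_nababab) (.nd parT_nababba parT_nababbb))) (.nd (.nd (.nd parT_nabbaaa parT_nabbaab) (.nd parT_nabbaba parT_nabbabb)) (.nd (.nd parT_nabbbaa parT_nabbbab) (.nd parT_nabbbba parT_nabbbbb))))) (.nd (.nd (.nd (.nd (.nd parT_nbaaaaa parT_nbaaaab) (.nd parT_nbaaaba parT_nbaaabb))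 (.nd (.nd parT_nbaabaa parT_nbaabab) (.nd parT_nbaabba parT_nbaabbb))) (.nd (.nd (.nd parT_nbabaaa parT_nbabaab) (.nd parT_nbababa parT_nbababb)) (.nd (.nd parT_nbabbaa parT_nbabbab) (.nd parT_nbabbba parT_nbabbbb)))) (.nd (.nd (.nd (.nd parT_nbbaaaa parT_nbbaaab) (.nd parT_nbbaaba parT_nbbaabb)) (.nd (.nd parT_nbbabaa parT_nbbabab) (.nd parT_nbbabba parT_nbbabbb))) (.nd (.nd (.nd parT_nbbbaaa parT_nbbbaab) (.nd parT_nbbbaba parT_nbbbabb)) (.nd (.nd parT_nbbbbaa parT_nbbbbab) (.nd parT_nbbbbba parT_nbbbbbb))))))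
def tabA_naaaaaa : Tr := (.nd (.nd (.nd (.nd (.nd (.nd (.nd (.lf 0x1) (.lf 0x8f5)) (.nd (.lf 0xb6f) (.lf 0x13a7))) (.nd (.nd (.lf 0x61a) (.lf 0x202)) (.nd (.lf 0xff8) (.lf 0)))) (.nd (.nd (.nd (.lf 0x29c) (.lf 0x1549)) (.nd (.lf 0xa2b) (.lf 0))) (.nd (.nd (.lf 0x8d8) (.lf 0x1791)) (.nd (.lf 0x11f6) (.lf 0))))) (.nd (.nd (.nd (.nd (.lf 0x193) (.lf 0x148b)) (.nd (.lf 0xa19) (.lf 0))) (.nd (.nd (.lf 0x77f) (.lf 0x1725)) (.nd (.lf 0x1101) (.lf 0)))) (.nd (.nd (.nd (.lf 0x4a1) (.lf 0x15e7)) (.nd (.lf 0xee7) (.lf 0))) (.nd (.nd (.lf 0xa27) (.lf 0x17e3)) (.nd (.lf 0x12e6) (.lf 0)))))) (.nd (.nd (.nd (.nd (.nd (.lf 0xcb) (.lf 0x141e)) (.nd (.lf 0xc0a) (.lf 0))) (.nd (.nd (.lf 0x6ce) (.lf 0xc28)) (.nd (.lf 0x1077) (.lf 0)))) (.nd (.nd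 (.nd (.lf 0x3dd) (.lf 0x14d9)) (.nd (.lf 0xe57) (.lf 0))) (.nd (.nd (.lf 0x982) (.lf 0x47c)) (.nd (.lf 0x121e) (.lf 0))))) (.nd (.nd (.nd (.nd (.lf 0x25b) (.lf 0xf66)) (.nd (.lf 0x17b) (.lf 0))) (.nd (.nd (.lf 0x82c) (.lf 0x28d)) (.nd (.lf 0x1179) (.lf 0)))) (.nd (.nd (.nd (.lf 0x55b) (.lf 0xe37)) (.nd (.lf 0xf6e) (.lf 0))) (.nd (.nd (.lf 0xad1) (.lf 0xaee)) (.nd (.lf 0x1184) (.lf 0))))))) (.nd (.nd (.nd (.nd (.nd (.nd (.lf 0x67) (.lf 0x1160)) (.nd (.lf 0xbb9) (.lf 0))) (.nd (.nd (.lf 0x5de) (.lf 0x15a9)) (.nd (.lf 0x1032) (.lf 0)))) (.nd (.nd (.nd (.lf 0x37c) (.lf 0xc01)) (.nd (.lf 0xe11) (.lf 0))) (.nd (.nd (.lf 0x92f) (.lf 0x25f)) (.nd (.lf 0x4b2) (.lf 0))))) (.nd (.nd (.nd (.nd (.lf 0x1f8) (.lf 0x122)) (.nd (.lf 0xcea)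 (.lf 0))) (.nd (.nd (.lf 0x7d2) (.lf 0x1745)) (.nd (.lf 0xc08) (.lf 0)))) (.nd (.nd (.nd (.lf 0x4ff) (.lf 0x139d)) (.nd (.lf 0xf29) (.lf 0))) (.nd (.nd (.lf 0xa78) (.lf 0xbbb)) (.nd (.lf 0x131e) (.lf 0)))))) (.nd (.nd (.nd (.nd (.nd (.lf 0x12f) (.lf 0x1457)) (.nd (.lf 0xc59) (.lf 0))) (.nd (.nd (.lf 0x726) (.lf 0x1385)) (.nd (.lf 0x10bc) (.lf 0)))) (.nd (.nd (.nd (.lf 0x440) (.lf 0x15c1)) (.nd (.lf 0xe9c) (.lf 0))) (.nd (.nd (.lf 0x5ba) (.lf 0xef0)) (.nd (.lf 0x12a9) (.lf 0))))) (.nd (.nd (.nd (.nd (.lf 0x2bd) (.lf 0x11f3)) (.nd (.lf 0xa40) (.lf 0))) (.nd (.nd (.lf 0x883) (.lf 0xc42)) (.nd (.lf 0xc1) (.lf 0)))) (.nd (.nd (.nd (.lf 0x5bb) (.lf 0xfab)) (.nd (.lf 0x99) (.lf 0))) (.nd (.nd (.lf 0xb24) (.lf 0x1704)) (.nd (.lf 0x137c)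 (.lf 0))))))))
def tabA_naaaaab : Tr := (.nd (.nd (.nd (.nd (.nd (.nd (.nd (.lf 0x35) (.lf 0xab6)) (.nd (.lf 0xb93) (.lf 0))) (.nd (.nd (.lf 0x644) (.lf 0x16a4)) (.nd (.lf 0xfd0) (.lf 0)))) (.nd (.nd (.nd (.lf 0x34b) (.lf 0x148a)) (.nd (.lf 0xde7) (.lf 0))) (.nd (.nd (.lf 0x906) (.lf 0x1548)) (.nd (.lf 0x5fe) (.lf 0))))) (.nd (.nd (.nd (.nd (.lf 0x1c6) (.lf 0x14a7)) (.nd (.lf 0xa1b) (.lf 0))) (.nd (.nd (.lf 0x7a8) (.lf 0xe50)) (.nd (.lf 0x111f) (.lf 0)))) (.nd (.nd (.nd (.lf 0x4cf) (.lf 0x15f9)) (.nd (.lf 0xf09) (.lf 0))) (.nd (.nd (.lf 0xa50) (.lf 0x1183)) (.nd (.lf 0x1304) (.lf 0)))))) (.nd (.nd (.nd (.nd (.nd (.lf 0xfe) (.lf 0x143b)) (.nd (.lf 0x687) (.lf 0))) (.nd (.nd (.lf 0x6f9) (.lf 0xfa8)) (.nd (.lf 0x3c6) (.lf 0))))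 (.nd (.nd (.nd (.lf 0x40d) (.lf 0x5ab)) (.nd (.lf 0xe7b) (.lf 0))) (.nd (.nd (.lf 0x57) (.lf 0x714)) (.nd (.lf 0xd5c) (.lf 0))))) (.nd (.nd (.nd (.nd (.lf 0x28c) (.lf 0xc93)) (.nd (.lf 0xd5d) (.lf 0))) (.nd (.nd (.lf 0x858) (.lf 0x56a)) (.nd (.lf 0x119c) (.lf 0)))) (.nd (.nd (.nd (.lf 0x58b) (.lf 0x158f)) (.nd (.lf 0xc6a) (.lf 0))) (.nd (.nd (.lf 0xafc) (.lf 0x1621)) (.nd (.lf 0x1364) (.lf 0))))))) (.nd (.nd (.nd (.nd (.nd (.nd (.lf 0x9a) (.lf 0x15a)) (.nd (.lf 0xbe2) (.lf 0))) (.nd (.nd (.lf 0x6a0) (.lf 0x1438)) (.nd (.lf 0x1057) (.lf 0)))) (.nd (.nd (.nd (.lf 0x3ac) (.lf 0xfaa)) (.nd (.lf 0xe32) (.lf 0))) (.nd (.nd (.lf 0x474) (.lf 0x16cb)) (.nd (.lf 0x124f) (.lf 0))))) (.nd (.nd (.nd (.nd (.lf 0x22a) (.lf 0x14d8)) (.nd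 (.lf 0xd13) (.lf 0))) (.nd (.nd (.lf 0x7fd) (.lf 0xc0f)) (.nd (.lf 0x1159) (.lf 0)))) (.nd (.nd (.nd (.lf 0x52f) (.lf 0x1626)) (.nd (.lf 0xf47) (.lf 0))) (.nd (.nd (.lf 0xaa5) (.lf 0x17e9)) (.nd (.lf 0xb66) (.lf 0)))))) (.nd (.nd (.nd (.nd (.nd (.lf 0x161) (.lf 0x1351)) (.nd (.lf 0xc7c) (.lf 0))) (.nd (.nd (.lf 0x60a) (.lf 0x15db)) (.nd (.lf 0x10e1) (.lf 0)))) (.nd (.nd (.nd (.lf 0x472) (.lf 0x15d5)) (.nd (.lf 0xec0) (.lf 0))) (.nd (.nd (.lf 0xa02) (.lf 0xf15)) (.nd (.lf 0x12c9) (.lf 0))))) (.nd (.nd (.nd (.nd (.lf 0x2ee) (.lf 0x2ea)) (.nd (.lf 0xda8) (.lf 0))) (.nd (.nd (.lf 0x55c) (.lf 0x2cb)) (.nd (.lf 0x11d9) (.lf 0)))) (.nd (.nd (.nd (.lf 0x5ea) (.lf 0x1008)) (.nd (.lf 0xfd6) (.lf 0))) (.nd (.nd (.lf 0xb4a) (.lf 0x1780))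 (.nd (.lf 0x1393) (.lf 0))))))))
def tabA_naaaaba : Tr := (.nd (.nd (.nd (.nd (.nd (.nd (.nd (.lf 0x1b) (.lf 0xa24)) (.nd (.lf 0xb81) (.lf 0))) (.nd (.nd (.lf 0x630) (.lf 0xefe)) (.nd (.lf 0x1006) (.lf 0)))) (.nd (.nd (.nd (.lf 0x332) (.lf 0x1553)) (.nd (.lf 0xdda) (.lf 0))) (.nd (.nd (.lf 0x8ef) (.lf 0x179a)) (.nd (.lf 0x20a) (.lf 0))))) (.nd (.nd (.nd (.nd (.lf 0x1ac) (.lf 0x132e)) (.nd (.lf 0xb5d) (.lf 0))) (.nd (.nd (.lf 0x5f8) (.lf 0x13ae)) (.nd (.lf 0xd8b) (.lf 0)))) (.nd (.nd (.nd (.lf 0x4b8) (.lf 0x15f1)) (.nd (.lf 0x857) (.lf 0))) (.nd (.nd (.lf 0xa3d) (.lf 0x17e1)) (.nd (.lf 0xe7c) (.lf 0)))))) (.nd (.nd (.nd (.nd (.nd (.lf 0xe5) (.lf 0x1fd)) (.nd (.lf 0xc23) (.lf 0))) (.nd (.nd (.lf 0x6e5) (.lf 0x1203)) (.nd (.lf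 0x360) (.lf 0)))) (.nd (.nd (.nd (.lf 0x3f5) (.lf 0xba5)) (.nd (.lf 0x745) (.lf 0))) (.nd (.nd (.lf 0x997) (.lf 0xc81)) (.nd (.lf 0x11d) (.lf 0))))) (.nd (.nd (.nd (.nd (.lf 0x241) (.lf 0x148c)) (.nd (.lf 0xd4a) (.lf 0))) (.nd (.nd (.lf 0x842) (.lf 0x1722)) (.nd (.lf 0x46f) (.lf 0)))) (.nd (.nd (.nd (.lf 0x573) (.lf 0x164a)) (.nd (.lf 0xf81) (.lf 0))) (.nd (.nd (.lf 0xae7) (.lf 0x142a)) (.nd (.lf 0x1277) (.lf 0))))))) (.nd (.nd (.nd (.nd (.nd (.nd (.lf 0x80) (.lf 0x13f4)) (.nd (.lf 0xbcf) (.lf 0))) (.nd (.nd (.lf 0x68b) (.lf 0x16c6)) (.nd (.lf 0xffb) (.lf 0)))) (.nd (.nd (.nd (.lf 0x394) (.lf 0x7b6)) (.nd (.lf 0xe22) (.lf 0))) (.nd (.nd (.lf 0x944) (.lf 0x17b2)) (.nd (.lf 0x1240) (.lf 0))))) (.nd (.nd (.nd (.nd (.lf 0x210)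 (.lf 0x14cb)) (.nd (.lf 0x903) (.lf 0))) (.nd (.nd (.lf 0x7ea) (.lf 0x1061)) (.nd (.lf 0xa2e) (.lf 0)))) (.nd (.nd (.nd (.lf 0x517) (.lf 0x1615)) (.nd (.lf 0x9eb) (.lf 0))) (.nd (.nd (.lf 0xa8f) (.lf 0x176d)) (.nd (.lf 0x132b) (.lf 0)))))) (.nd (.nd (.nd (.nd (.nd (.lf 0x148) (.lf 0xcf3)) (.nd (.lf 0xc69) (.lf 0))) (.nd (.nd (.lf 0x73a) (.lf 0xe3b)) (.nd (.lf 0x10d0) (.lf 0)))) (.nd (.nd (.nd (.lf 0x458) (.lf 0x1a1)) (.nd (.lf 0xeae) (.lf 0))) (.nd (.nd (.lf 0x9ec) (.lf 0x16c3)) (.nd (.lf 0x12b9) (.lf 0))))) (.nd (.nd (.nd (.nd (.lf 0x2d6) (.lf 0x1521)) (.nd (.lf 0xd96) (.lf 0))) (.nd (.nd (.lf 0x488) (.lf 0x1125)) (.nd (.lf 0x10cf) (.lf 0)))) (.nd (.nd (.nd (.lf 0x26) (.lf 0x1678)) (.nd (.lf 0xfc5) (.lf 0))) (.nd (.nd (.lf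 0x684) (.lf 0x16a7)) (.nd (.lf 0x1386) (.lf 0))))))))
def tabA_naaaabb : Tr := (.nd (.nd (.nd (.nd (.nd (.nd (.nd (.lf 0x4f) (.lf 0x13d9)) (.nd (.lf 0xba4) (.lf 0))) (.nd (.nd (.lf 0x65a) (.lf 0x16b2)) (.nd (.lf 0xb6e) (.lf 0)))) (.nd (.nd (.nd (.lf 0x364) (.lf 0xf08)) (.nd (.lf 0xdfb) (.lf 0))) (.nd (.nd (.lf 0x91b) (.lf 0x1666)) (.nd (.lf 0x121f) (.lf 0))))) (.nd (.nd (.nd (.nd (.lf 0x1df) (.lf 0x14b7)) (.nd (.lf 0xcda) (.lf 0))) (.nd (.nd (.lf 0x7ba) (.lf 0x1574)) (.nd (.lf 0x112b) (.lf 0)))) (.nd (.nd (.nd (.lf 0x4e8) (.lf 0x1601)) (.nd (.lf 0x56c) (.lf 0))) (.nd (.nd (.lf 0x786) (.lf 0x163c)) (.nd (.lf 0x815) (.lf 0)))))) (.nd (.nd (.nd (.nd (.nd (.lf 0x115) (.lf 0x144a)) (.nd (.lf 0xc45) (.lf 0))) (.nd (.nd (.lf 0x206)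 (.lf 0x102b)) (.nd (.lf 0x10ac) (.lf 0)))) (.nd (.nd (.nd (.lf 0x426) (.lf 0x520)) (.nd (.lf 0xe45) (.lf 0))) (.nd (.nd (.lf 0x9c3) (.lf 0x74d)) (.nd (.lf 0x40e) (.lf 0))))) (.nd (.nd (.nd (.nd (.lf 0x2a7) (.lf 0x95a)) (.nd (.lf 0xd71) (.lf 0))) (.nd (.nd (.lf 0x86e) (.lf 0x1488)) (.nd (.lf 0xae2) (.lf 0)))) (.nd (.nd (.nd (.lf 0x5a4) (.lf 0x1667)) (.nd (.lf 0x7d7) (.lf 0))) (.nd (.nd (.lf 0xb11) (.lf 0x148e)) (.nd (.lf 0x136d) (.lf 0))))))) (.nd (.nd (.nd (.nd (.nd (.nd (.lf 0xb2) (.lf 0x12d0)) (.nd (.lf 0xbf8) (.lf 0))) (.nd (.nd (.lf 0x62f) (.lf 0x1171)) (.nd (.lf 0xf44) (.lf 0)))) (.nd (.nd (.nd (.lf 0xeb) (.lf 0x14ef)) (.nd (.lf 0xe43) (.lf 0))) (.nd (.nd (.lf 0x96b) (.lf 0x14d4)) (.nd (.lf 0x1260) (.lf 0))))) (.nd (.nd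 (.nd (.nd (.lf 0x242) (.lf 0x7d3)) (.nd (.lf 0xad3) (.lf 0))) (.nd (.nd (.lf 0x814) (.lf 0x1432)) (.nd (.lf 0x1165) (.lf 0)))) (.nd (.nd (.nd (.lf 0x545) (.lf 0xcfb)) (.nd (.lf 0x1d5) (.lf 0))) (.nd (.nd (.lf 0xabb) (.lf 0x1589)) (.nd (.lf 0x1344) (.lf 0)))))) (.nd (.nd (.nd (.nd (.nd (.lf 0x17a) (.lf 0x1480)) (.nd (.lf 0xc8e) (.lf 0))) (.nd (.nd (.lf 0x768) (.lf 0x1396)) (.nd (.lf 0x999) (.lf 0)))) (.nd (.nd (.nd (.lf 0x48a) (.lf 0x1211)) (.nd (.lf 0xed6) (.lf 0))) (.nd (.nd (.lf 0xa16) (.lf 0x177c)) (.nd (.lf 0x12d7) (.lf 0))))) (.nd (.nd (.nd (.nd (.lf 0x305) (.lf 0x1537)) (.nd (.lf 0xb44) (.lf 0))) (.nd (.nd (.lf 0x666) (.lf 0x15e5)) (.nd (.lf 0xfc8) (.lf 0)))) (.nd (.nd (.nd (.lf 0x602) (.lf 0x416)) (.nd (.lf 0xfe6) (.lf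 0))) (.nd (.nd (.lf 0xb5f) (.lf 0x171c)) (.nd (.lf 0x13a3) (.lf 0))))))))
def tabA_naaabaa : Tr := (.nd (.nd (.nd (.nd (.nd (.nd (.nd (.lf 0xe) (.lf 0xc0b)) (.nd (.lf 0xb79) (.lf 0x6bb))) (.nd (.nd (.lf 0x626) (.lf 0x15e1)) (.nd (.lf 0xfff) (.lf 0)))) (.nd (.nd (.nd (.lf 0x326) (.lf 0x112e)) (.nd (.lf 0xdd3) (.lf 0))) (.nd (.nd (.lf 0x8e4) (.lf 0x37b)) (.nd (.lf 0x505) (.lf 0))))) (.nd (.nd (.nd (.nd (.lf 0x1a0) (.lf 0xc39)) (.nd (.lf 0x2b4) (.lf 0))) (.nd (.nd (.lf 0x788) (.lf 0x676)) (.nd (.lf 0x1108) (.lf 0)))) (.nd (.nd (.nd (.lf 0x4ac) (.lf 0x15ed)) (.nd (.lf 0xeef) (.lf 0))) (.nd (.nd (.lf 0xa32) (.lf 0x1559)) (.nd (.lf 0x204) (.lf 0)))))) (.nd (.nd (.nd (.nd (.nd (.lf 0xd8) (.lf 0x1427)) (.nd (.lf 0xc16) (.lf 0))) (.nd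 (.nd (.lf 0x6d9) (.lf 0x16e8)) (.nd (.lf 0x107e) (.lf 0)))) (.nd (.nd (.nd (.lf 0x3e9) (.lf 0x1599)) (.nd (.lf 0xe5f) (.lf 0))) (.nd (.nd (.lf 0x98d) (.lf 0x168f)) (.nd (.lf 0x1276) (.lf 0))))) (.nd (.nd (.nd (.nd (.lf 0x268) (.lf 0x14f4)) (.nd (.lf 0xd41) (.lf 0))) (.nd (.nd (.lf 0x837) (.lf 0x140d)) (.nd (.lf 0xbea) (.lf 0)))) (.nd (.nd (.nd (.lf 0x565) (.lf 0x13d2)) (.nd (.lf 0xf79) (.lf 0))) (.nd (.nd (.lf 0xadc) (.lf 0x17f8)) (.nd (.lf 0xa62) (.lf 0))))))) (.nd (.nd (.nd (.nd (.nd (.nd (.lf 0x73) (.lf 0xf8c)) (.nd (.lf 0xbc2) (.lf 0))) (.nd (.nd (.lf 0x67e) (.lf 0x3fc)) (.nd (.lf 0x989) (.lf 0)))) (.nd (.nd (.nd (.lf 0x389) (.lf 0x75d)) (.nd (.lf 0xe18) (.lf 0))) (.nd (.nd (.lf 0x93a) (.lf 0x2d8)) (.nd (.lf 0x1237) (.lf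 0))))) (.nd (.nd (.nd (.nd (.lf 0xa) (.lf 0x14a6)) (.nd (.lf 0xcf5) (.lf 0))) (.nd (.nd (.lf 0x7de) (.lf 0x397)) (.nd (.lf 0x1142) (.lf 0)))) (.nd (.nd (.nd (.lf 0x50b) (.lf 0x110a)) (.nd (.lf 0xf32) (.lf 0))) (.nd (.nd (.lf 0xa83) (.lf 0x145e)) (.nd (.lf 0x9e9) (.lf 0)))))) (.nd (.nd (.nd (.nd (.nd (.lf 0x13c) (.lf 0xc56)) (.nd (.lf 0xc61) (.lf 0))) (.nd (.nd (.lf 0x59d) (.lf 0x5a5)) (.nd (.lf 0x10c5) (.lf 0)))) (.nd (.nd (.nd (.lf 0x44b) (.lf 0x15c4)) (.nd (.lf 0xea8) (.lf 0))) (.nd (.nd (.lf 0x9e1) (.lf 0x11b9)) (.nd (.lf 0xe1f) (.lf 0))))) (.nd (.nd (.nd (.nd (.lf 0x197) (.lf 0x151e)) (.nd (.lf 0xc20) (.lf 0))) (.nd (.nd (.lf 0x88f) (.lf 0x1765)) (.nd (.lf 0xe2e) (.lf 0)))) (.nd (.nd (.nd (.lf 0x5c6) (.lf 0x297)) (.nd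 (.lf 0xe4b) (.lf 0))) (.nd (.nd (.lf 0xb2e) (.lf 0xf63)) (.nd (.lf 0x1383) (.lf 0))))))))
def tabA_naaabab : Tr := (.nd (.nd (.nd (.nd (.nd (.nd (.nd (.lf 0x42) (.lf 0x1307)) (.nd (.lf 0xb9c) (.lf 0))) (.nd (.nd (.lf 0x64e) (.lf 0x16ac)) (.nd (.lf 0x1020) (.lf 0)))) (.nd (.nd (.nd (.lf 0x357) (.lf 0x1447)) (.nd (.lf 0xdf3) (.lf 0))) (.nd (.nd (.lf 0x910) (.lf 0xc64)) (.nd (.lf 0x95f) (.lf 0))))) (.nd (.nd (.nd (.nd (.lf 0x1d3) (.lf 0x3be)) (.nd (.lf 0xccd) (.lf 0))) (.nd (.nd (.lf 0x350) (.lf 0x10ed)) (.nd (.lf 0x1122) (.lf 0)))) (.nd (.nd (.nd (.lf 0x4dc) (.lf 0x124c)) (.nd (.lf 0x191) (.lf 0))) (.nd (.nd (.lf 0xa5a) (.lf 0xea2)) (.nd (.lf 0x130c) (.lf 0)))))) (.nd (.nd (.nd (.nd (.nd (.lf 0x24) (.lf 0x1443)) (.nd (.lf 0xc2c)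 (.lf 0))) (.nd (.nd (.lf 0x2b8) (.lf 0x16e0)) (.nd (.lf 0x10a3) (.lf 0)))) (.nd (.nd (.nd (.lf 0x41a) (.lf 0x134c)) (.nd (.lf 0x4b0) (.lf 0))) (.nd (.nd (.lf 0x9b8) (.lf 0x765)) (.nd (.lf 0x128e) (.lf 0))))) (.nd (.nd (.nd (.nd (.lf 0x29a) (.lf 0x1506)) (.nd (.lf 0x3ad) (.lf 0))) (.nd (.nd (.lf 0x6b) (.lf 0x1697)) (.nd (.lf 0x11a6) (.lf 0)))) (.nd (.nd (.nd (.lf 0x598) (.lf 0x1661)) (.nd (.lf 0xf9c) (.lf 0))) (.nd (.nd (.lf 0xb05) (.lf 0x16d1)) (.nd (.lf 0x10a4) (.lf 0))))))) (.nd (.nd (.nd (.nd (.nd (.nd (.lf 0xa6) (.lf 0x140b)) (.nd (.lf 0xbed) (.lf 0))) (.nd (.nd (.lf 0x6ad) (.lf 0x9c9)) (.nd (.lf 0x1062) (.lf 0)))) (.nd (.nd (.nd (.lf 0x3b9) (.lf 0x1586)) (.nd (.lf 0xe3a) (.lf 0))) (.nd (.nd (.lf 0x607) (.lf 0x57a)) (.nd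 (.lf 0x374) (.lf 0))))) (.nd (.nd (.nd (.nd (.lf 0x236) (.lf 0x14df)) (.nd (.lf 0xd1e) (.lf 0))) (.nd (.nd (.lf 0x809) (.lf 0x318)) (.nd (.lf 0x6d4) (.lf 0)))) (.nd (.nd (.nd (.lf 0x53b) (.lf 0x162f)) (.nd (.lf 0xf51) (.lf 0))) (.nd (.nd (.lf 0x212) (.lf 0xbf9)) (.nd (.lf 0x133d) (.lf 0)))))) (.nd (.nd (.nd (.nd (.nd (.lf 0x16e) (.lf 0x1b0)) (.nd (.lf 0xc83) (.lf 0))) (.nd (.nd (.lf 0x75a) (.lf 0x118b)) (.nd (.lf 0xf35) (.lf 0)))) (.nd (.nd (.nd (.lf 0x47d) (.lf 0x3df)) (.nd (.lf 0xecc) (.lf 0))) (.nd (.nd (.lf 0xa0d) (.lf 0x17db)) (.nd (.lf 0x12d2) (.lf 0))))) (.nd (.nd (.nd (.nd (.lf 0x2f9) (.lf 0x14c6)) (.nd (.lf 0xdb1) (.lf 0))) (.nd (.nd (.lf 0x8b6) (.lf 0x1786)) (.nd (.lf 0x11e0) (.lf 0)))) (.nd (.nd (.nd (.lf 0x5f6)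 (.lf 0x125f)) (.nd (.lf 0xfde) (.lf 0))) (.nd (.nd (.lf 0xb55) (.lf 0x152e)) (.nd (.lf 0x139b) (.lf 0))))))))
def tabA_naaabba : Tr := (.nd (.nd (.nd (.nd (.nd (.nd (.nd (.lf 0x28) (.lf 0x1269)) (.nd (.lf 0xb89) (.lf 0))) (.nd (.nd (.lf 0x63d) (.lf 0x16a2)) (.nd (.lf 0x100e) (.lf 0)))) (.nd (.nd (.nd (.lf 0x33f) (.lf 0xe06)) (.nd (.lf 0x855) (.lf 0))) (.nd (.nd (.lf 0x8fa) (.lf 0x179e)) (.nd (.lf 0xbb6) (.lf 0))))) (.nd (.nd (.nd (.nd (.lf 0x1b9) (.lf 0x14a1)) (.nd (.lf 0x2fa) (.lf 0))) (.nd (.nd (.lf 0x79f) (.lf 0x16b3)) (.nd (.lf 0x1117) (.lf 0)))) (.nd (.nd (.nd (.lf 0x4c3) (.lf 0x15f4)) (.nd (.lf 0xf00) (.lf 0))) (.nd (.nd (.lf 0xa46) (.lf 0x1607)) (.nd (.lf 0x122a) (.lf 0)))))) (.nd (.nd (.nd (.nd (.nd (.lf 0xf2) (.lf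 0x13ea)) (.nd (.lf 0xb09) (.lf 0))) (.nd (.nd (.lf 0x6ef) (.lf 0x1162)) (.nd (.lf 0x1090) (.lf 0)))) (.nd (.nd (.nd (.lf 0x401) (.lf 0x15a6)) (.nd (.lf 0xe70) (.lf 0))) (.nd (.nd (.lf 0x9a2) (.lf 0x17c9)) (.nd (.lf 0x1254) (.lf 0))))) (.nd (.nd (.nd (.nd (.lf 0x27f) (.lf 0x12bd)) (.nd (.lf 0x39e) (.lf 0))) (.nd (.nd (.lf 0x84e) (.lf 0x1740)) (.nd (.lf 0x1192) (.lf 0)))) (.nd (.nd (.nd (.lf 0x57f) (.lf 0x162d)) (.nd (.lf 0xf8d) (.lf 0))) (.nd (.nd (.lf 0xaf0) (.lf 0x153d)) (.nd (.lf 0x1c3) (.lf 0))))))) (.nd (.nd (.nd (.nd (.nd (.nd (.lf 0x8c) (.lf 0x13fc)) (.nd (.lf 0xbd9) (.lf 0))) (.nd (.nd (.lf 0x490) (.lf 0x13d0)) (.nd (.lf 0x160) (.lf 0)))) (.nd (.nd (.nd (.lf 0x3a0) (.lf 0x840)) (.nd (.lf 0xe0e) (.lf 0))) (.nd (.nd (.lf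 0x94e) (.lf 0x10ef)) (.nd (.lf 0x1249) (.lf 0))))) (.nd (.nd (.nd (.nd (.lf 0x21d) (.lf 0x14d3)) (.nd (.lf 0xd09) (.lf 0))) (.nd (.nd (.lf 0x7f2) (.lf 0x114b)) (.nd (.lf 0x1152) (.lf 0)))) (.nd (.nd (.nd (.lf 0x523) (.lf 0x1200)) (.nd (.lf 0x7c0) (.lf 0))) (.nd (.nd (.lf 0xa9a) (.lf 0x774)) (.nd (.lf 0x1229) (.lf 0)))))) (.nd (.nd (.nd (.nd (.nd (.lf 0x154) (.lf 0x146b)) (.nd (.lf 0x497) (.lf 0))) (.nd (.nd (.lf 0x744) (.lf 0x1714)) (.nd (.lf 0x10d8) (.lf 0)))) (.nd (.nd (.nd (.lf 0x465) (.lf 0x15d0)) (.nd (.lf 0x411) (.lf 0))) (.nd (.nd (.lf 0x9f8) (.lf 0xf52)) (.nd (.lf 0x114a) (.lf 0))))) (.nd (.nd (.nd (.nd (.lf 0x19) (.lf 0xcb3)) (.nd (.lf 0xda0) (.lf 0))) (.nd (.nd (.lf 0x8a2) (.lf 0x177f)) (.nd (.lf 0x11d1) (.lf 0))))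 (.nd (.nd (.nd (.lf 0x5dd) (.lf 0x651)) (.nd (.lf 0xcaf) (.lf 0))) (.nd (.nd (.lf 0xb40) (.lf 0x1449)) (.nd (.lf 0x679) (.lf 0))))))))
def tabA_naaabbb : Tr := (.nd (.nd (.nd (.nd (.nd (.nd (.nd (.lf 0x5b) (.lf 0x911)) (.nd (.lf 0xa34) (.lf 0))) (.nd (.nd (.lf 0x667) (.lf 0x16b6)) (.nd (.lf 0x102c) (.lf 0)))) (.nd (.nd (.nd (.lf 0x370) (.lf 0x153f)) (.nd (.lf 0xe05) (.lf 0))) (.nd (.nd (.lf 0x6de) (.lf 0x1595)) (.nd (.lf 0x7b9) (.lf 0))))) (.nd (.nd (.nd (.nd (.lf 0x1ec) (.lf 0x1487)) (.nd (.lf 0xce2) (.lf 0))) (.nd (.nd (.lf 0x7c5) (.lf 0x165d)) (.nd (.lf 0x3bc) (.lf 0)))) (.nd (.nd (.nd (.lf 0x4f4) (.lf 0x105b)) (.nd (.lf 0xf22) (.lf 0))) (.nd (.nd (.lf 0xa6c) (.lf 0x16bf)) (.nd (.lf 0x131a) (.lf 0)))))) (.nd (.nd (.nd (.nd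 (.nd (.lf 0x123) (.lf 0x123e)) (.nd (.lf 0xc50) (.lf 0))) (.nd (.nd (.lf 0x71b) (.lf 0x1706)) (.nd (.lf 0x10b2) (.lf 0)))) (.nd (.nd (.nd (.lf 0x434) (.lf 0x15bb)) (.nd (.lf 0xe92) (.lf 0))) (.nd (.nd (.lf 0x9ce) (.lf 0x299)) (.nd (.lf 0x12a0) (.lf 0))))) (.nd (.nd (.nd (.nd (.lf 0x2b2) (.lf 0x1210)) (.nd (.lf 0xd7b) (.lf 0))) (.nd (.nd (.lf 0x87a) (.lf 0xc26)) (.nd (.lf 0xf54) (.lf 0)))) (.nd (.nd (.nd (.lf 0x5b0) (.lf 0x12d8)) (.nd (.lf 0x82d) (.lf 0))) (.nd (.nd (.lf 0xb1a) (.lf 0x1561)) (.nd (.lf 0x1374) (.lf 0))))))) (.nd (.nd (.nd (.nd (.nd (.nd (.lf 0xbe) (.lf 0x1414)) (.nd (.lf 0xc02) (.lf 0))) (.nd (.nd (.lf 0x6c3) (.lf 0xabf)) (.nd (.lf 0x116) (.lf 0)))) (.nd (.nd (.nd (.lf 0x3d2) (.lf 0x6cb)) (.nd (.lf 0xd64) (.lf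 0))) (.nd (.nd (.lf 0x976) (.lf 0x1440)) (.nd (.lf 0xcd3) (.lf 0))))) (.nd (.nd (.nd (.nd (.lf 0x24e) (.lf 0x14e9)) (.nd (.lf 0xd2f) (.lf 0))) (.nd (.nd (.lf 0x81f) (.lf 0x1757)) (.nd (.lf 0x116e) (.lf 0)))) (.nd (.nd (.nd (.lf 0x54e) (.lf 0x163e)) (.nd (.lf 0x2f0) (.lf 0))) (.nd (.nd (.lf 0xac7) (.lf 0x1610)) (.nd (.lf 0x1348) (.lf 0)))))) (.nd (.nd (.nd (.nd (.nd (.lf 0x187) (.lf 0x11b4)) (.nd (.lf 0xc97) (.lf 0))) (.nd (.nd (.lf 0x773) (.lf 0x13b2)) (.nd (.lf 0x541) (.lf 0)))) (.nd (.nd (.nd (.lf 0x495) (.lf 0x15e0)) (.nd (.lf 0xedf) (.lf 0))) (.nd (.nd (.lf 0xa1f) (.lf 0x177b)) (.nd (.lf 0x12de) (.lf 0))))) (.nd (.nd (.nd (.nd (.lf 0x311) (.lf 0xf2f)) (.nd (.lf 0xdc2) (.lf 0))) (.nd (.nd (.lf 0x8cd) (.lf 0x12eb)) (.nd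 (.lf 0x11ec) (.lf 0)))) (.nd (.nd (.nd (.lf 0x60e) (.lf 0x69c)) (.nd (.lf 0x853) (.lf 0))) (.nd (.nd (.lf 0xb67) (.lf 0xd94)) (.nd (.lf 0x13a9) (.lf 0))))))))
def tabA_naabaaa : Tr := (.nd (.nd (.nd (.nd (.nd (.nd (.nd (.lf 0x8) (.lf 0x13b1)) (.nd (.lf 0xb75) (.lf 0x1788))) (.nd (.nd (.lf 0x621) (.lf 0x169a)) (.nd (.lf 0x9b7) (.lf 0)))) (.nd (.nd (.nd (.lf 0x321) (.lf 0xc0d)) (.nd (.lf 0xdd0) (.lf 0))) (.nd (.nd (.lf 0x8df) (.lf 0x1346)) (.nd (.lf 0x11fb) (.lf 0))))) (.nd (.nd (.nd (.nd (.lf 0x19a) (.lf 0x5a9)) (.nd (.lf 0xca2) (.lf 0))) (.nd (.nd (.lf 0x784) (.lf 0x15cc)) (.nd (.lf 0x656) (.lf 0)))) (.nd (.nd (.nd (.lf 0x4a6) (.lf 0x15ea)) (.nd (.lf 0xeeb) (.lf 0))) (.nd (.nd (.lf 0xa2d) (.lf 0x117d)) (.nd (.lf 0x12ea) (.lf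 0)))))) (.nd (.nd (.nd (.nd (.nd (.lf 0xd2) (.lf 0x1423)) (.nd (.lf 0xc12) (.lf 0))) (.nd (.nd (.lf 0x6d3) (.lf 0x135f)) (.nd (.lf 0x107b) (.lf 0)))) (.nd (.nd (.nd (.lf 0x17) (.lf 0x1594)) (.nd (.lf 0xe5c) (.lf 0))) (.nd (.nd (.lf 0x987) (.lf 0xa72)) (.nd (.lf 0x1164) (.lf 0))))) (.nd (.nd (.nd (.nd (.lf 0x261) (.lf 0x229)) (.nd (.lf 0xd3c) (.lf 0))) (.nd (.nd (.lf 0x832) (.lf 0x166a)) (.nd (.lf 0x117e) (.lf 0)))) (.nd (.nd (.nd (.lf 0x55f) (.lf 0x1640)) (.nd (.lf 0xf73) (.lf 0))) (.nd (.nd (.lf 0xad6) (.lf 0xf3f)) (.nd (.lf 0x1352) (.lf 0))))))) (.nd (.nd (.nd (.nd (.nd (.nd (.lf 0x6d) (.lf 0x1138)) (.nd (.lf 0xbbd) (.lf 0))) (.nd (.nd (.lf 0x678) (.lf 0x1461)) (.nd (.lf 0x1036) (.lf 0)))) (.nd (.nd (.nd (.lf 0x383) (.lf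 0x151d)) (.nd (.lf 0x399) (.lf 0))) (.nd (.nd (.lf 0x935) (.lf 0x16e5)) (.nd (.lf 0x1233) (.lf 0))))) (.nd (.nd (.nd (.nd (.lf 0x1fe) (.lf 0x28a)) (.nd (.lf 0xcee) (.lf 0))) (.nd (.nd (.lf 0x36f) (.lf 0x11af)) (.nd (.lf 0x113c) (.lf 0)))) (.nd (.nd (.nd (.lf 0x506) (.lf 0x1422)) (.nd (.lf 0xf2d) (.lf 0))) (.nd (.nd (.lf 0xa7d) (.lf 0xcbd)) (.nd (.lf 0x4ba) (.lf 0)))))) (.nd (.nd (.nd (.nd (.nd (.lf 0x136) (.lf 0x1458)) (.nd (.lf 0xc5e) (.lf 0))) (.nd (.nd (.lf 0x72a) (.lf 0xea4)) (.nd (.lf 0x10c0) (.lf 0)))) (.nd (.nd (.nd (.lf 0x446) (.lf 0x15c3)) (.nd (.lf 0x92) (.lf 0))) (.nd (.nd (.lf 0x9dc) (.lf 0x1758)) (.nd (.lf 0xc40) (.lf 0))))) (.nd (.nd (.nd (.nd (.lf 0x2c3) (.lf 0x151a)) (.nd (.lf 0x792) (.lf 0))) (.nd (.nd (.lf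 0x889) (.lf 0x1779)) (.nd (.lf 0x11bd) (.lf 0)))) (.nd (.nd (.nd (.lf 0x5c0) (.lf 0x136e)) (.nd (.lf 0xd18) (.lf 0))) (.nd (.nd (.lf 0xb29) (.lf 0x131f)) (.nd (.lf 0x131d) (.lf 0))))))))
def tabA_naabaab : Tr := (.nd (.nd (.nd (.nd (.nd (.nd (.nd (.lf 0x3c) (.lf 0x13ce)) (.nd (.lf 0xb97) (.lf 0))) (.nd (.nd (.lf 0x649) (.lf 0x16a8)) (.nd (.lf 0x101c) (.lf 0)))) (.nd (.nd (.nd (.lf 0x351) (.lf 0x1562)) (.nd (.lf 0xdee) (.lf 0))) (.nd (.nd (.lf 0x90b) (.lf 0x15cf)) (.nd (.lf 0x1215) (.lf 0))))) (.nd (.nd (.nd (.nd (.lf 0x1cc) (.lf 0x13c0)) (.nd (.lf 0xcc8) (.lf 0))) (.nd (.nd (.lf 0x7ac) (.lf 0x996)) (.nd (.lf 0x1121) (.lf 0)))) (.nd (.nd (.nd (.lf 0x4d6) (.lf 0x136c)) (.nd (.lf 0xf0e) (.lf 0))) (.nd (.nd (.lf 0x614) (.lf 0x1639))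 (.nd (.lf 0xe3d) (.lf 0)))))) (.nd (.nd (.nd (.nd (.nd (.lf 0x105) (.lf 0x87f)) (.nd (.lf 0xc38) (.lf 0))) (.nd (.nd (.lf 0x6ff) (.lf 0x14c7)) (.nd (.lf 0x10a0) (.lf 0)))) (.nd (.nd (.nd (.lf 0x414) (.lf 0x13b9)) (.nd (.lf 0x69e) (.lf 0))) (.nd (.nd (.lf 0x9b2) (.lf 0x13c6)) (.nd (.lf 0xc32) (.lf 0))))) (.nd (.nd (.nd (.nd (.lf 0x293) (.lf 0x1504)) (.nd (.lf 0xd63) (.lf 0))) (.nd (.nd (.lf 0x85e) (.lf 0xf12)) (.nd (.lf 0x11a1) (.lf 0)))) (.nd (.nd (.nd (.lf 0x591) (.lf 0x1f6)) (.nd (.lf 0xf98) (.lf 0))) (.nd (.nd (.lf 0xb02) (.lf 0xa31)) (.nd (.lf 0xe76) (.lf 0))))))) (.nd (.nd (.nd (.nd (.nd (.nd (.lf 0xa0) (.lf 0x1405)) (.nd (.lf 0xbe8) (.lf 0))) (.nd (.nd (.lf 0x6a7) (.lf 0x16cf)) (.nd (.lf 0x105c) (.lf 0)))) (.nd (.nd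 (.nd (.lf 0x3b3) (.lf 0x1582)) (.nd (.lf 0x5f5) (.lf 0))) (.nd (.nd (.lf 0x95c) (.lf 0x17bb)) (.nd (.lf 0x9d9) (.lf 0))))) (.nd (.nd (.nd (.nd (.lf 0x230) (.lf 0x10bd)) (.nd (.lf 0x7a) (.lf 0))) (.nd (.nd (.lf 0x803) (.lf 0x405)) (.nd (.lf 0xce6) (.lf 0)))) (.nd (.nd (.nd (.lf 0x21) (.lf 0xeb4)) (.nd (.lf 0xf4c) (.lf 0))) (.nd (.nd (.lf 0xaaa) (.lf 0x1743)) (.nd (.lf 0xfe7) (.lf 0)))))) (.nd (.nd (.nd (.nd (.nd (.lf 0x167) (.lf 0x1474)) (.nd (.lf 0xa5d) (.lf 0))) (.nd (.nd (.lf 0x755) (.lf 0x171a)) (.nd (.lf 0x10e6) (.lf 0)))) (.nd (.nd (.nd (.lf 0x476) (.lf 0x130a)) (.nd (.lf 0xec6) (.lf 0))) (.nd (.nd (.lf 0xa07) (.lf 0x63c)) (.nd (.lf 0x12cd) (.lf 0))))) (.nd (.nd (.nd (.nd (.lf 0x2f2) (.lf 0x98e)) (.nd (.lf 0x918) (.lf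 0))) (.nd (.nd (.lf 0x8b1) (.lf 0x1784)) (.nd (.lf 0xc68) (.lf 0)))) (.nd (.nd (.nd (.lf 0x333) (.lf 0x1687)) (.nd (.lf 0x9b) (.lf 0))) (.nd (.nd (.lf 0xb4f) (.lf 0x1808)) (.nd (.lf 0x1397) (.lf 0))))))))
def tabA_naababa : Tr := (.nd (.nd (.nd (.nd (.nd (.nd (.nd (.lf 0x22) (.lf 0x11fe)) (.nd (.lf 0xb84) (.lf 0))) (.nd (.nd (.lf 0x636) (.lf 0xfa3)) (.nd (.lf 0xe67) (.lf 0)))) (.nd (.nd (.nd (.lf 0x339) (.lf 0x1557)) (.nd (.lf 0x5fa) (.lf 0))) (.nd (.nd (.lf 0x8f6) (.lf 0xede)) (.nd (.lf 0x1205) (.lf 0))))) (.nd (.nd (.nd (.nd (.lf 0x1b3) (.lf 0x2ae)) (.nd (.lf 0xcb7) (.lf 0))) (.nd (.nd (.lf 0x79a) (.lf 0x155c)) (.nd (.lf 0x1113) (.lf 0)))) (.nd (.nd (.nd (.lf 0x4bd) (.lf 0x15f3)) (.nd (.lf 0xefb) (.lf 0))) (.nd (.nd (.lf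 0xa41) (.lf 0x9de)) (.nd (.lf 0x12fb) (.lf 0)))))) (.nd (.nd (.nd (.nd (.nd (.lf 0xec) (.lf 0x1431)) (.nd (.lf 0xc27) (.lf 0))) (.nd (.nd (.lf 0x6e9) (.lf 0x112a)) (.nd (.lf 0x108b) (.lf 0)))) (.nd (.nd (.nd (.lf 0x3fb) (.lf 0x15a0)) (.nd (.lf 0xe6b) (.lf 0))) (.nd (.nd (.lf 0x99c) (.lf 0xe5b)) (.nd (.lf 0x535) (.lf 0))))) (.nd (.nd (.nd (.nd (.lf 0x279) (.lf 0x14b4)) (.nd (.lf 0xd4f) (.lf 0))) (.nd (.nd (.lf 0x849) (.lf 0x1150)) (.nd (.lf 0x1118) (.lf 0)))) (.nd (.nd (.nd (.lf 0x579) (.lf 0x10d3)) (.nd (.lf 0xf88) (.lf 0))) (.nd (.nd (.lf 0xaeb) (.lf 0x17f9)) (.nd (.lf 0x1195) (.lf 0))))))) (.nd (.nd (.nd (.nd (.nd (.nd (.lf 0x86) (.lf 0x1214)) (.nd (.lf 0xbd4) (.lf 0))) (.nd (.nd (.lf 0x1c5) (.lf 0x3ff)) (.nd (.lf 0x1048)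 (.lf 0)))) (.nd (.nd (.nd (.lf 0x39a) (.lf 0x690)) (.nd (.lf 0x6d8) (.lf 0))) (.nd (.nd (.lf 0x948) (.lf 0x160b)) (.nd (.lf 0x1243) (.lf 0))))) (.nd (.nd (.nd (.nd (.lf 0x216) (.lf 0x14d0)) (.nd (.lf 0x49f) (.lf 0))) (.nd (.nd (.lf 0x776) (.lf 0x984)) (.nd (.lf 0xf78) (.lf 0)))) (.nd (.nd (.nd (.lf 0x51d) (.lf 0x1370)) (.nd (.lf 0xf3d) (.lf 0))) (.nd (.nd (.lf 0xa95) (.lf 0x17f2)) (.nd (.lf 0xfcc) (.lf 0)))))) (.nd (.nd (.nd (.nd (.nd (.lf 0x14e) (.lf 0x9d4)) (.nd (.lf 0xc6f) (.lf 0))) (.nd (.nd (.lf 0x4a3) (.lf 0x6b2)) (.nd (.lf 0x888) (.lf 0)))) (.nd (.nd (.nd (.lf 0x45e) (.lf 0x15cd)) (.nd (.lf 0xeb3) (.lf 0))) (.nd (.nd (.lf 0x9f3) (.lf 0x17d9)) (.nd (.lf 0x1102) (.lf 0))))) (.nd (.nd (.nd (.nd (.lf 0x2dc) (.lf 0x2a1))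 (.nd (.lf 0xd9c) (.lf 0))) (.nd (.nd (.lf 0x89d) (.lf 0xfee)) (.nd (.lf 0xa0a) (.lf 0)))) (.nd (.nd (.nd (.lf 0x5d6) (.lf 0x167d)) (.nd (.lf 0xfca) (.lf 0))) (.nd (.nd (.lf 0x908) (.lf 0x1707)) (.nd (.lf 0x138a) (.lf 0))))))))
def tabA_naababb : Tr := (.nd (.nd (.nd (.nd (.nd (.nd (.nd (.lf 0x55) (.lf 0xf70)) (.nd (.lf 0xbaa) (.lf 0))) (.nd (.nd (.lf 0x660) (.lf 0xa09)) (.nd (.lf 0x2a6) (.lf 0)))) (.nd (.nd (.nd (.lf 0x36a) (.lf 0x14ce)) (.nd (.lf 0xdff) (.lf 0))) (.nd (.nd (.lf 0x91e) (.lf 0x12aa)) (.nd (.lf 0xc05) (.lf 0))))) (.nd (.nd (.nd (.nd (.lf 0x1e5) (.lf 0x14b9)) (.nd (.lf 0xcde) (.lf 0))) (.nd (.nd (.lf 0x7bf) (.lf 0x14ae)) (.nd (.lf 0x112d) (.lf 0)))) (.nd (.nd (.nd (.lf 0x4ee) (.lf 0x1603)) (.nd (.lf 0xf1f) (.lf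 0))) (.nd (.nd (.lf 0x7c7) (.lf 0xab3)) (.nd (.lf 0xffd) (.lf 0)))))) (.nd (.nd (.nd (.nd (.nd (.lf 0x11c) (.lf 0x144f)) (.nd (.lf 0xc4b) (.lf 0))) (.nd (.nd (.lf 0x715) (.lf 0x1703)) (.nd (.lf 0x42a) (.lf 0)))) (.nd (.nd (.nd (.lf 0x42d) (.lf 0x15ba)) (.nd (.lf 0xe8d) (.lf 0))) (.nd (.nd (.lf 0x9c8) (.lf 0x137d)) (.nd (.lf 0x129f) (.lf 0))))) (.nd (.nd (.nd (.nd (.lf 0x2ad) (.lf 0x150e)) (.nd (.lf 0xd76) (.lf 0))) (.nd (.nd (.lf 0x874) (.lf 0x16d6)) (.nd (.lf 0x592) (.lf 0)))) (.nd (.nd (.nd (.lf 0x5aa) (.lf 0xb51)) (.nd (.lf 0xe64) (.lf 0))) (.nd (.nd (.lf 0xb16) (.lf 0x13a8)) (.nd (.lf 0x4e0) (.lf 0))))))) (.nd (.nd (.nd (.nd (.nd (.nd (.lf 0xb9) (.lf 0x1412)) (.nd (.lf 0xbfc) (.lf 0))) (.nd (.nd (.lf 0x6bd) (.lf 0x10db))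 (.nd (.lf 0x106c) (.lf 0)))) (.nd (.nd (.nd (.lf 0x3cc) (.lf 0x158e)) (.nd (.lf 0xe49) (.lf 0))) (.nd (.nd (.lf 0x971) (.lf 0x9ae)) (.nd (.lf 0x123b) (.lf 0))))) (.nd (.nd (.nd (.nd (.lf 0x248) (.lf 0x14e6)) (.nd (.lf 0xa99) (.lf 0))) (.nd (.nd (.lf 0x81a) (.lf 0x1755)) (.nd (.lf 0x1169) (.lf 0)))) (.nd (.nd (.nd (.lf 0x548) (.lf 0x640)) (.nd (.lf 0xf60) (.lf 0))) (.nd (.nd (.lf 0xac2) (.lf 0x179c)) (.nd (.lf 0xd9a) (.lf 0)))))) (.nd (.nd (.nd (.nd (.nd (.lf 0x180) (.lf 0x1389)) (.nd (.lf 0xb96) (.lf 0))) (.nd (.nd (.lf 0x76d) (.lf 0x770)) (.nd (.lf 0x10f4) (.lf 0)))) (.nd (.nd (.nd (.lf 0x1c) (.lf 0x1279)) (.nd (.lf 0x2cd) (.lf 0))) (.nd (.nd (.lf 0xa1c) (.lf 0x17df)) (.nd (.lf 0x12da) (.lf 0))))) (.nd (.nd (.nd (.nd (.lf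 0x30a) (.lf 0x153b)) (.nd (.lf 0xcbe) (.lf 0))) (.nd (.nd (.lf 0x8c6) (.lf 0x1318)) (.nd (.lf 0x11e9) (.lf 0)))) (.nd (.nd (.nd (.lf 0x608) (.lf 0x349)) (.nd (.lf 0xfec) (.lf 0))) (.nd (.nd (.lf 0xb64) (.lf 0x154c)) (.nd (.lf 0x280) (.lf 0))))))))
def tabA_naabbaa : Tr := (.nd (.nd (.nd (.nd (.nd (.nd (.nd (.lf 0x15) (.lf 0x13bc)) (.nd (.lf 0xb7b) (.lf 0))) (.nd (.nd (.lf 0x525) (.lf 0x1629)) (.nd (.lf 0x1003) (.lf 0)))) (.nd (.nd (.nd (.lf 0x32c) (.lf 0x154f)) (.nd (.lf 0xdd7) (.lf 0))) (.nd (.nd (.lf 0x8e9) (.lf 0x1797)) (.nd (.lf 0x711) (.lf 0))))) (.nd (.nd (.nd (.nd (.lf 0x1a6) (.lf 0x1497)) (.nd (.lf 0xcae) (.lf 0))) (.nd (.nd (.lf 0x78e) (.lf 0x172b)) (.nd (.lf 0x110c) (.lf 0)))) (.nd (.nd (.nd (.lf 0x34c) (.lf 0x15ef))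 (.nd (.lf 0xb8f) (.lf 0))) (.nd (.nd (.lf 0xa37) (.lf 0xe98)) (.nd (.lf 0x12f2) (.lf 0)))))) (.nd (.nd (.nd (.nd (.nd (.lf 0xdf) (.lf 0x142b)) (.nd (.lf 0xc1c) (.lf 0))) (.nd (.nd (.lf 0x6df) (.lf 0x503)) (.nd (.lf 0x1082) (.lf 0)))) (.nd (.nd (.nd (.lf 0x3ee) (.lf 0x136a)) (.nd (.lf 0xe63) (.lf 0))) (.nd (.nd (.lf 0x992) (.lf 0x169d)) (.nd (.lf 0xfdf) (.lf 0))))) (.nd (.nd (.nd (.nd (.lf 0x26e) (.lf 0x1218)) (.nd (.lf 0x101) (.lf 0))) (.nd (.nd (.lf 0x83d) (.lf 0x174c)) (.nd (.lf 0x46c) (.lf 0)))) (.nd (.nd (.nd (.lf 0x56d) (.lf 0x8e2)) (.nd (.lf 0xf7d) (.lf 0))) (.nd (.nd (.lf 0x56) (.lf 0x17c4)) (.nd (.lf 0x1358) (.lf 0))))))) (.nd (.nd (.nd (.nd (.nd (.nd (.lf 0x79) (.lf 0xfe9)) (.nd (.lf 0xbc9) (.lf 0))) (.nd (.nd (.lf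 0x685) (.lf 0x16c4)) (.nd (.lf 0x1040) (.lf 0)))) (.nd (.nd (.nd (.lf 0x38f) (.lf 0xc44)) (.nd (.lf 0xa2f) (.lf 0))) (.nd (.nd (.lf 0x940) (.lf 0x1187)) (.nd (.lf 0x123c) (.lf 0))))) (.nd (.nd (.nd (.nd (.lf 0x209) (.lf 0x14c9)) (.nd (.lf 0xcfa) (.lf 0))) (.nd (.nd (.lf 0x7e5) (.lf 0x174b)) (.nd (.lf 0x1147) (.lf 0)))) (.nd (.nd (.nd (.lf 0x512) (.lf 0xb00)) (.nd (.lf 0xf36) (.lf 0))) (.nd (.nd (.lf 0x67b) (.lf 0x14e0)) (.nd (.lf 0x118f) (.lf 0)))))) (.nd (.nd (.nd (.nd (.nd (.lf 0x143) (.lf 0xb06)) (.nd (.lf 0xc66) (.lf 0))) (.nd (.nd (.lf 0x734) (.lf 0x1068)) (.nd (.lf 0x10cb) (.lf 0)))) (.nd (.nd (.nd (.lf 0x451) (.lf 0x15c9)) (.nd (.lf 0xa01) (.lf 0))) (.nd (.nd (.lf 0x9e7) (.lf 0x17d5)) (.nd (.lf 0x12b4) (.lf 0))))) (.nd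 (.nd (.nd (.nd (.lf 0x2cf) (.lf 0x1131)) (.nd (.lf 0xd90) (.lf 0))) (.nd (.nd (.lf 0x894) (.lf 0x48e)) (.nd (.lf 0xe87) (.lf 0)))) (.nd (.nd (.nd (.lf 0x5cc) (.lf 0x12b2)) (.nd (.lf 0xfbf) (.lf 0))) (.nd (.nd (.lf 0xb34) (.lf 0x1805)) (.nd (.lf 0x870) (.lf 0))))))))
def tabA_naabbab : Tr := (.nd (.nd (.nd (.nd (.nd (.nd (.nd (.lf 0x49) (.lf 0xade)) (.nd (.lf 0x6e1) (.lf 0))) (.nd (.nd (.lf 0x654) (.lf 0x1173)) (.nd (.lf 0xfa1) (.lf 0)))) (.nd (.nd (.nd (.lf 0x35e) (.lf 0x1392)) (.nd (.lf 0xad4) (.lf 0))) (.nd (.nd (.lf 0x917) (.lf 0x1655)) (.nd (.lf 0x121a) (.lf 0))))) (.nd (.nd (.nd (.nd (.lf 0x1d8) (.lf 0x14b2)) (.nd (.lf 0xcd4) (.lf 0))) (.nd (.nd (.lf 0x7b7) (.lf 0x14fc)) (.nd (.lf 0xd88) (.lf 0)))) (.nd (.nd (.nd (.lf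 0x4e2) (.lf 0xdc3)) (.nd (.lf 0x938) (.lf 0))) (.nd (.nd (.lf 0xa5f) (.lf 0xe24)) (.nd (.lf 0x285) (.lf 0)))))) (.nd (.nd (.nd (.nd (.nd (.lf 0x110) (.lf 0x1446)) (.nd (.lf 0x310) (.lf 0))) (.nd (.nd (.lf 0x70a) (.lf 0x1637)) (.nd (.lf 0x10a8) (.lf 0)))) (.nd (.nd (.nd (.lf 0x421) (.lf 0x15b5)) (.nd (.lf 0xe86) (.lf 0))) (.nd (.nd (.lf 0x9bd) (.lf 0x17cf)) (.nd (.lf 0x1295) (.lf 0))))) (.nd (.nd (.nd (.nd (.lf 0x2a0) (.lf 0x13b3)) (.nd (.lf 0xd6d) (.lf 0))) (.nd (.nd (.lf 0x868) (.lf 0x1643)) (.nd (.lf 0xa33) (.lf 0)))) (.nd (.nd (.nd (.lf 0x59e) (.lf 0x1244)) (.nd (.lf 0xfa2) (.lf 0))) (.nd (.nd (.lf 0xb0c) (.lf 0xd0c)) (.nd (.lf 0xf7c) (.lf 0))))))) (.nd (.nd (.nd (.nd (.nd (.nd (.lf 0xac) (.lf 0x140e)) (.nd (.lf 0x328)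 (.lf 0))) (.nd (.nd (.lf 0x6b3) (.lf 0x141f)) (.nd (.lf 0x5bc) (.lf 0)))) (.nd (.nd (.nd (.lf 0x3c0) (.lf 0x150)) (.nd (.lf 0xe3e) (.lf 0))) (.nd (.nd (.lf 0x966) (.lf 0xdb4)) (.nd (.lf 0x125a) (.lf 0))))) (.nd (.nd (.nd (.nd (.lf 0x23c) (.lf 0x1312)) (.nd (.lf 0xd22) (.lf 0))) (.nd (.nd (.lf 0x80e) (.lf 0x6e4)) (.nd (.lf 0x2f8) (.lf 0)))) (.nd (.nd (.nd (.lf 0x540) (.lf 0x50f)) (.nd (.lf 0x2e6) (.lf 0))) (.nd (.nd (.lf 0xab5) (.lf 0x1717)) (.nd (.lf 0xa39) (.lf 0)))))) (.nd (.nd (.nd (.nd (.nd (.lf 0x174) (.lf 0x147b)) (.nd (.lf 0xc89) (.lf 0))) (.nd (.nd (.lf 0x761) (.lf 0x10eb)) (.nd (.lf 0x10ec) (.lf 0)))) (.nd (.nd (.nd (.lf 0x484) (.lf 0x15da)) (.nd (.lf 0xed2) (.lf 0))) (.nd (.nd (.lf 0xa11) (.lf 0x1623)) (.nd (.lf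 0xb23) (.lf 0))))) (.nd (.nd (.nd (.nd (.lf 0x2ff) (.lf 0x1532)) (.nd (.lf 0xdb6) (.lf 0))) (.nd (.nd (.lf 0x585) (.lf 0x1647)) (.nd (.lf 0xc90) (.lf 0)))) (.nd (.nd (.nd (.lf 0x5fd) (.lf 0x168c)) (.nd (.lf 0xb25) (.lf 0))) (.nd (.nd (.lf 0xb5b) (.lf 0xfed)) (.nd (.lf 0x108f) (.lf 0))))))))
def tabA_naabbba : Tr := (.nd (.nd (.nd (.nd (.nd (.nd (.nd (.lf 0x2f) (.lf 0x13c7)) (.nd (.lf 0xb8d) (.lf 0))) (.nd (.nd (.lf 0x641) (.lf 0xf14)) (.nd (.lf 0x1013) (.lf 0)))) (.nd (.nd (.nd (.lf 0x345) (.lf 0x155b)) (.nd (.lf 0xde2) (.lf 0))) (.nd (.nd (.lf 0x900) (.lf 0xebf)) (.nd (.lf 0x120c) (.lf 0))))) (.nd (.nd (.nd (.nd (.lf 0x1bf) (.lf 0x14a3)) (.nd (.lf 0xbe5) (.lf 0))) (.nd (.nd (.lf 0x7a3) (.lf 0x1732)) (.nd (.lf 0x111a) (.lf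 0)))) (.nd (.nd (.nd (.lf 0x4c9) (.lf 0x12ef)) (.nd (.lf 0xf04) (.lf 0))) (.nd (.nd (.lf 0x752) (.lf 0x128c)) (.nd (.lf 0x927) (.lf 0)))))) (.nd (.nd (.nd (.nd (.nd (.lf 0xf8) (.lf 0xf6f)) (.nd (.lf 0x3d4) (.lf 0))) (.nd (.nd (.lf 0x6f5) (.lf 0x113f)) (.nd (.lf 0x1097) (.lf 0)))) (.nd (.nd (.nd (.lf 0x407) (.lf 0x15a8)) (.nd (.lf 0xe75) (.lf 0))) (.nd (.nd (.lf 0x9a9) (.lf 0x17ca)) (.nd (.lf 0x1285) (.lf 0))))) (.nd (.nd (.nd (.nd (.lf 0x286) (.lf 0x14ff)) (.nd (.lf 0xd57) (.lf 0))) (.nd (.nd (.lf 0x854) (.lf 0x1684)) (.nd (.lf 0x9f2) (.lf 0)))) (.nd (.nd (.nd (.lf 0x584) (.lf 0x1656)) (.nd (.lf 0xf91) (.lf 0))) (.nd (.nd (.lf 0xaf7) (.lf 0x17fb)) (.nd (.lf 0x119d) (.lf 0))))))) (.nd (.nd (.nd (.nd (.nd (.nd (.lf 0x93) (.lf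 0x1261)) (.nd (.lf 0x494) (.lf 0))) (.nd (.nd (.lf 0x69a) (.lf 0x433)) (.nd (.lf 0x1051) (.lf 0)))) (.nd (.nd (.nd (.lf 0x3a7) (.lf 0x157f)) (.nd (.lf 0xe2d) (.lf 0))) (.nd (.nd (.lf 0x953) (.lf 0xe09)) (.nd (.lf 0x6f4) (.lf 0))))) (.nd (.nd (.nd (.nd (.lf 0x223) (.lf 0x778)) (.nd (.lf 0xd0d) (.lf 0))) (.nd (.nd (.lf 0x7f7) (.lf 0x174f)) (.nd (.lf 0xa5b) (.lf 0)))) (.nd (.nd (.nd (.lf 0x29f) (.lf 0x1624)) (.nd (.lf 0xf43) (.lf 0))) (.nd (.nd (.lf 0xa9f) (.lf 0x1226)) (.nd (.lf 0x1336) (.lf 0)))))) (.nd (.nd (.nd (.nd (.nd (.lf 0x15b) (.lf 0x146e)) (.nd (.lf 0xc78) (.lf 0))) (.nd (.nd (.lf 0x74b) (.lf 0xfdd)) (.nd (.lf 0x10dd) (.lf 0)))) (.nd (.nd (.nd (.lf 0x46b) (.lf 0xcdd)) (.nd (.lf 0xeba) (.lf 0))) (.nd (.nd (.lf 0x9fd)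 (.lf 0xb77)) (.nd (.lf 0xe27) (.lf 0))))) (.nd (.nd (.nd (.nd (.lf 0x2e8) (.lf 0x413)) (.nd (.lf 0xda5) (.lf 0))) (.nd (.nd (.lf 0x8a7) (.lf 0x393)) (.nd (.lf 0x11c9) (.lf 0)))) (.nd (.nd (.nd (.lf 0x5e4) (.lf 0x12ba)) (.nd (.lf 0xfd2) (.lf 0))) (.nd (.nd (.lf 0xb45) (.lf 0x16e3)) (.nd (.lf 0x1391) (.lf 0))))))))
def tabA_naabbbb : Tr := (.nd (.nd (.nd (.nd (.nd (.nd (.nd (.lf 0x60) (.lf 0xbfd)) (.nd (.lf 0xbb2) (.lf 0))) (.nd (.nd (.lf 0x66d) (.lf 0x16ba)) (.nd (.lf 0xd6c) (.lf 0)))) (.nd (.nd (.nd (.lf 0x14) (.lf 0x156f)) (.nd (.lf 0xe0b) (.lf 0))) (.nd (.nd (.lf 0x92a) (.lf 0x1509)) (.nd (.lf 0x122c) (.lf 0))))) (.nd (.nd (.nd (.nd (.lf 0x1f2) (.lf 0x14bf)) (.nd (.lf 0xce8) (.lf 0))) (.nd (.nd (.lf 0x7cb) (.lf 0x16f2))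 (.nd (.lf 0x1127) (.lf 0)))) (.nd (.nd (.nd (.lf 0x1f) (.lf 0x160a)) (.nd (.lf 0xf26) (.lf 0))) (.nd (.nd (.lf 0xa71) (.lf 0x10c2)) (.nd (.lf 0x131c) (.lf 0)))))) (.nd (.nd (.nd (.nd (.nd (.lf 0x129) (.lf 0x11a2)) (.nd (.lf 0xa74) (.lf 0))) (.nd (.nd (.lf 0x721) (.lf 0x8cc)) (.nd (.lf 0x10b7) (.lf 0)))) (.nd (.nd (.nd (.lf 0x43a) (.lf 0x15ab)) (.nd (.lf 0x7d8) (.lf 0))) (.nd (.nd (.lf 0x9d3) (.lf 0x65b)) (.nd (.lf 0x12a5) (.lf 0))))) (.nd (.nd (.nd (.nd (.lf 0x2b7) (.lf 0x1514)) (.nd (.lf 0xd80) (.lf 0))) (.nd (.nd (.lf 0x880) (.lf 0x1094)) (.nd (.lf 0x63e) (.lf 0)))) (.nd (.nd (.nd (.lf 0x5b6) (.lf 0x18e)) (.nd (.lf 0xc43) (.lf 0))) (.nd (.nd (.lf 0xb1f) (.lf 0x3c1)) (.nd (.lf 0x1377) (.lf 0))))))) (.nd (.nd (.nd (.nd (.nd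 (.nd (.lf 0xc5) (.lf 0x1418)) (.nd (.lf 0xc07) (.lf 0))) (.nd (.nd (.lf 0x6c9) (.lf 0x113b)) (.nd (.lf 0x2ba) (.lf 0)))) (.nd (.nd (.nd (.lf 0x3d7) (.lf 0x38e)) (.nd (.lf 0xe52) (.lf 0))) (.nd (.nd (.lf 0x97b) (.lf 0x165c)) (.nd (.lf 0x126a) (.lf 0))))) (.nd (.nd (.nd (.nd (.lf 0x254) (.lf 0x8be)) (.nd (.lf 0xd33) (.lf 0))) (.nd (.nd (.lf 0xaf) (.lf 0x16ff)) (.nd (.lf 0x1174) (.lf 0)))) (.nd (.nd (.nd (.lf 0x554) (.lf 0x1550)) (.nd (.lf 0x956) (.lf 0))) (.nd (.nd (.lf 0xacb) (.lf 0x14c1)) (.nd (.lf 0xd59) (.lf 0)))))) (.nd (.nd (.nd (.nd (.nd (.lf 0x18d) (.lf 0x13f6)) (.nd (.lf 0xc9b) (.lf 0))) (.nd (.nd (.lf 0x779) (.lf 0xf69)) (.nd (.lf 0x10fd) (.lf 0)))) (.nd (.nd (.nd (.lf 0x49b) (.lf 0x15e4)) (.nd (.lf 0xaab) (.lf 0)))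 (.nd (.nd (.lf 0xa23) (.lf 0x1645)) (.nd (.lf 0x125b) (.lf 0))))) (.nd (.nd (.nd (.nd (.lf 0x317) (.lf 0xdcc)) (.nd (.lf 0xdc8) (.lf 0))) (.nd (.nd (.lf 0x8d2) (.lf 0x1482)) (.nd (.lf 0x11f2) (.lf 0)))) (.nd (.nd (.nd (.lf 0x45c) (.lf 0x14b6)) (.nd (.lf 0xb31) (.lf 0))) (.nd (.nd (.lf 0xb6c) (.lf 0x17d1)) (.nd (.lf 0x10c9) (.lf 0))))))))
def tabA_nabaaaa : Tr := (.nd (.nd (.nd (.nd (.nd (.nd (.nd (.lf 0x5) (.lf 0x10fb)) (.nd (.lf 0xb71) (.lf 0xd84))) (.nd (.nd (.lf 0x61e) (.lf 0x1698)) (.nd (.lf 0xffa) (.lf 0)))) (.nd (.nd (.nd (.lf 0x288) (.lf 0xb15)) (.nd (.lf 0xdcd) (.lf 0))) (.nd (.nd (.lf 0x8db) (.lf 0x1793)) (.nd (.lf 0x11f8) (.lf 0))))) (.nd (.nd (.nd (.nd (.lf 0x196) (.lf 0x148f)) (.nd (.lf 0x3e1) (.lf 0))) (.nd (.nd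 (.lf 0x782) (.lf 0xbf2)) (.nd (.lf 0x1103) (.lf 0)))) (.nd (.nd (.nd (.lf 0x26d) (.lf 0x552)) (.nd (.lf 0xee9) (.lf 0))) (.nd (.nd (.lf 0xa2a) (.lf 0x1052)) (.nd (.lf 0x12e8) (.lf 0)))))) (.nd (.nd (.nd (.nd (.nd (.lf 0xcf) (.lf 0x1420)) (.nd (.lf 0xc0e) (.lf 0))) (.nd (.nd (.lf 0x6d0) (.lf 0x916)) (.nd (.lf 0x631) (.lf 0)))) (.nd (.nd (.nd (.lf 0x3e0) (.lf 0x1156)) (.nd (.lf 0x24d) (.lf 0))) (.nd (.nd (.lf 0x985) (.lf 0x166e)) (.nd (.lf 0x126e) (.lf 0))))) (.nd (.nd (.nd (.nd (.lf 0x25e) (.lf 0xd31)) (.nd (.lf 0xbd5) (.lf 0))) (.nd (.nd (.lf 0x82f) (.lf 0x175c)) (.nd (.lf 0x117c) (.lf 0)))) (.nd (.nd (.nd (.lf 0x55d) (.lf 0xd21)) (.nd (.lf 0xf71) (.lf 0))) (.nd (.nd (.lf 0x977) (.lf 0x17f4)) (.nd (.lf 0x11f1) (.lf 0)))))))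 (.nd (.nd (.nd (.nd (.nd (.nd (.lf 0x6a) (.lf 0x13e7)) (.nd (.lf 0x5ee) (.lf 0))) (.nd (.nd (.lf 0x39b) (.lf 0x16bd)) (.nd (.lf 0x1034) (.lf 0)))) (.nd (.nd (.nd (.lf 0x37f) (.lf 0x1573)) (.nd (.lf 0xd5e) (.lf 0))) (.nd (.nd (.lf 0x932) (.lf 0x2dd)) (.nd (.lf 0x594) (.lf 0))))) (.nd (.nd (.nd (.nd (.lf 0x1fb) (.lf 0x14c3)) (.nd (.lf 0x658) (.lf 0))) (.nd (.nd (.lf 0x7d5) (.lf 0x16eb)) (.nd (.lf 0x1139) (.lf 0)))) (.nd (.nd (.nd (.lf 0x502) (.lf 0x160d)) (.nd (.lf 0xf2c) (.lf 0))) (.nd (.nd (.lf 0xa7c) (.lf 0x15f2)) (.nd (.lf 0xe8) (.lf 0)))))) (.nd (.nd (.nd (.nd (.nd (.lf 0x132) (.lf 0x12c6)) (.nd (.lf 0xc5c) (.lf 0))) (.nd (.nd (.lf 0x39) (.lf 0xa26)) (.nd (.lf 0xf28) (.lf 0)))) (.nd (.nd (.nd (.lf 0x442) (.lf 0x14dc)) (.nd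 (.lf 0xe9e) (.lf 0))) (.nd (.nd (.lf 0x9da) (.lf 0x17d3)) (.nd (.lf 0x12ab) (.lf 0))))) (.nd (.nd (.nd (.nd (.lf 0x2c0) (.lf 0xce0)) (.nd (.lf 0xd86) (.lf 0))) (.nd (.nd (.lf 0x1d9) (.lf 0x1775)) (.nd (.lf 0xded) (.lf 0)))) (.nd (.nd (.nd (.lf 0x5be) (.lf 0x1671)) (.nd (.lf 0xd35) (.lf 0))) (.nd (.nd (.lf 0xb26) (.lf 0x175b)) (.nd (.lf 0x99b) (.lf 0))))))))
def tabA_nabaaab : Tr := (.nd (.nd (.nd (.nd (.nd (.nd (.nd (.lf 0x38) (.lf 0x8ed)) (.nd (.lf 0xb95) (.lf 0))) (.nd (.nd (.lf 0x646) (.lf 0x1198)) (.nd (.lf 0x1019) (.lf 0)))) (.nd (.nd (.nd (.lf 0x34f) (.lf 0x600)) (.nd (.lf 0xdea) (.lf 0))) (.nd (.nd (.lf 0x909) (.lf 0xdbe)) (.nd (.lf 0x1213) (.lf 0))))) (.nd (.nd (.nd (.nd (.lf 0x1c9) (.lf 0xff0)) (.nd (.lf 0xcc7) (.lf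 0))) (.nd (.nd (.lf 0x7aa) (.lf 0x1736)) (.nd (.lf 0x1120) (.lf 0)))) (.nd (.nd (.nd (.lf 0x4d2) (.lf 0x15fa)) (.nd (.lf 0xf0c) (.lf 0))) (.nd (.nd (.lf 0xa53) (.lf 0x40b)) (.nd (.lf 0x11a4) (.lf 0)))))) (.nd (.nd (.nd (.nd (.nd (.lf 0x102) (.lf 0x143e)) (.nd (.lf 0xc35) (.lf 0))) (.nd (.nd (.lf 0x6fc) (.lf 0x16f6)) (.nd (.lf 0x109d) (.lf 0)))) (.nd (.nd (.nd (.lf 0x410) (.lf 0x15af)) (.nd (.lf 0xe7d) (.lf 0))) (.nd (.nd (.lf 0x9af) (.lf 0x1597)) (.nd (.lf 0x128b) (.lf 0))))) (.nd (.nd (.nd (.nd (.lf 0x28f) (.lf 0x1501)) (.nd (.lf 0xd60) (.lf 0))) (.nd (.nd (.lf 0x85c) (.lf 0x620)) (.nd (.lf 0x119e) (.lf 0)))) (.nd (.nd (.nd (.lf 0x58e) (.lf 0x165b)) (.nd (.lf 0xda1) (.lf 0))) (.nd (.nd (.lf 0xaff) (.lf 0x17fe)) (.nd (.lf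 0x134f) (.lf 0))))))) (.nd (.nd (.nd (.nd (.nd (.nd (.lf 0x9d) (.lf 0x1402)) (.nd (.lf 0xbe6) (.lf 0))) (.nd (.nd (.lf 0x6a4) (.lf 0x16ce)) (.nd (.lf 0x105a) (.lf 0)))) (.nd (.nd (.nd (.lf 0x3b0) (.lf 0x1581)) (.nd (.lf 0xe35) (.lf 0))) (.nd (.nd (.lf 0x95b) (.lf 0x178c)) (.nd (.lf 0x1251) (.lf 0))))) (.nd (.nd (.nd (.nd (.lf 0x22d) (.lf 0x14da)) (.nd (.lf 0x4b5) (.lf 0))) (.nd (.nd (.lf 0x800) (.lf 0xb03)) (.nd (.lf 0x5d1) (.lf 0)))) (.nd (.nd (.nd (.lf 0x532) (.lf 0xaf6)) (.nd (.lf 0x12d) (.lf 0))) (.nd (.nd (.lf 0x7da) (.lf 0x15ae)) (.nd (.lf 0x533) (.lf 0)))))) (.nd (.nd (.nd (.nd (.nd (.lf 0x164) (.lf 0x1cd)) (.nd (.lf 0x385) (.lf 0))) (.nd (.nd (.lf 0x753) (.lf 0x153c)) (.nd (.lf 0x165) (.lf 0)))) (.nd (.nd (.nd (.lf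 0x106) (.lf 0x1570)) (.nd (.lf 0xec3) (.lf 0))) (.nd (.nd (.lf 0x7d1) (.lf 0x13bd)) (.nd (.lf 0x12cb) (.lf 0))))) (.nd (.nd (.nd (.nd (.lf 0x2bc) (.lf 0x1483)) (.nd (.lf 0x425) (.lf 0))) (.nd (.nd (.lf 0x8af) (.lf 0xc77)) (.nd (.lf 0x780) (.lf 0)))) (.nd (.nd (.nd (.lf 0x5ed) (.lf 0x1685)) (.nd (.lf 0x7ff) (.lf 0))) (.nd (.nd (.lf 0xb4c) (.lf 0x1220)) (.nd (.lf 0x1395) (.lf 0))))))))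
def tabA_nabaaba : Tr := (.nd (.nd (.nd (.nd (.nd (.nd (.nd (.lf 0x1e) (.lf 0x11dd)) (.nd (.lf 0x905) (.lf 0))) (.nd (.nd (.lf 0x633) (.lf 0x169e)) (.nd (.lf 0x1007) (.lf 0)))) (.nd (.nd (.nd (.lf 0x336) (.lf 0x1085)) (.nd (.lf 0xddc) (.lf 0))) (.nd (.nd (.lf 0x8f2) (.lf 0x179b)) (.nd (.lf 0x11df) (.lf 0))))) (.nd (.nd (.nd (.nd (.lf 0x1af) (.lf 0x149b)) (.nd (.lf 0xcb5) (.lf 0))) (.nd (.nd (.lf 0x796) (.lf 0x143d)) (.nd (.lf 0x1110) (.lf 0)))) (.nd (.nd (.nd (.lf 0x3b2) (.lf 0x82b)) (.nd (.lf 0xef9) (.lf 0))) (.nd (.nd (.lf 0x668) (.lf 0x1470)) (.nd (.lf 0x340) (.lf 0)))))) (.nd (.nd (.nd (.nd (.nd (.lf 0xe9) (.lf 0x142f)) (.nd (.lf 0xaa8) (.lf 0))) (.nd (.nd (.lf 0x6e7) (.lf 0xf9b)) (.nd (.lf 0xb5a) (.lf 0)))) (.nd (.nd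 (.nd (.lf 0x3f8) (.lf 0x158d)) (.nd (.lf 0x24f) (.lf 0))) (.nd (.nd (.lf 0x36e) (.lf 0x156d)) (.nd (.lf 0x127d) (.lf 0))))) (.nd (.nd (.nd (.nd (.lf 0x275) (.lf 0x12f9)) (.nd (.lf 0xd4b) (.lf 0))) (.nd (.nd (.lf 0x846) (.lf 0x13dc)) (.nd (.lf 0xd9) (.lf 0)))) (.nd (.nd (.nd (.lf 0x576) (.lf 0x164d)) (.nd (.lf 0xf85) (.lf 0))) (.nd (.nd (.lf 0xbc) (.lf 0x17c2)) (.nd (.lf 0x135b) (.lf 0))))))) (.nd (.nd (.nd (.nd (.nd (.nd (.lf 0x83) (.lf 0x13f7)) (.nd (.lf 0xbd2) (.lf 0))) (.nd (.nd (.lf 0x4a8) (.lf 0x1608)) (.nd (.lf 0x1047) (.lf 0)))) (.nd (.nd (.nd (.lf 0x398) (.lf 0x1044)) (.nd (.lf 0xe25) (.lf 0))) (.nd (.nd (.lf 0x946) (.lf 0x17b4)) (.nd (.lf 0x1241) (.lf 0))))) (.nd (.nd (.nd (.nd (.lf 0x213) (.lf 0x14cd)) (.nd (.lf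 0xd01) (.lf 0))) (.nd (.nd (.lf 0x7ed) (.lf 0x4c5)) (.nd (.lf 0x114c) (.lf 0)))) (.nd (.nd (.nd (.lf 0x51a) (.lf 0x1617)) (.nd (.lf 0xf3b) (.lf 0))) (.nd (.nd (.lf 0xa92) (.lf 0x160f)) (.nd (.lf 0xaa7) (.lf 0)))))) (.nd (.nd (.nd (.nd (.nd (.lf 0x14a) (.lf 0x1465)) (.nd (.lf 0x6fa) (.lf 0))) (.nd (.nd (.lf 0x73d) (.lf 0x7c4)) (.nd (.lf 0xce7) (.lf 0)))) (.nd (.nd (.nd (.lf 0x45b) (.lf 0x15cb)) (.nd (.lf 0xeb0) (.lf 0))) (.nd (.nd (.lf 0x9ef) (.lf 0x110b)) (.nd (.lf 0x12bc) (.lf 0))))) (.nd (.nd (.nd (.nd (.lf 0x2d9) (.lf 0x8ac)) (.nd (.lf 0xd99) (.lf 0))) (.nd (.nd (.lf 0x89b) (.lf 0x84f)) (.nd (.lf 0xc1d) (.lf 0)))) (.nd (.nd (.nd (.lf 0x5d3) (.lf 0x167a)) (.nd (.lf 0xfc7) (.lf 0))) (.nd (.nd (.lf 0xb39) (.lf 0x1713)) (.nd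 (.lf 0x347) (.lf 0))))))))
def tabA_nabaabb : Tr := (.nd (.nd (.nd (.nd (.nd (.nd (.nd (.lf 0x52) (.lf 0xeee)) (.nd (.lf 0xba7) (.lf 0))) (.nd (.nd (.lf 0x65d) (.lf 0x35d)) (.nd (.lf 0x1027) (.lf 0)))) (.nd (.nd (.nd (.lf 0x367) (.lf 0x156b)) (.nd (.lf 0xdce) (.lf 0))) (.nd (.nd (.lf 0x3cd) (.lf 0x106a)) (.nd (.lf 0x1221) (.lf 0))))) (.nd (.nd (.nd (.nd (.lf 0x1e2) (.lf 0x12e5)) (.nd (.lf 0xcdc) (.lf 0))) (.nd (.nd (.lf 0x7bc) (.lf 0x173f)) (.nd (.lf 0x112c) (.lf 0)))) (.nd (.nd (.nd (.lf 0x4eb) (.lf 0x140a)) (.nd (.lf 0xf1c) (.lf 0))) (.nd (.nd (.lf 0xa66) (.lf 0x845)) (.nd (.lf 0x1315) (.lf 0)))))) (.nd (.nd (.nd (.nd (.nd (.lf 0x119) (.lf 0x144c)) (.nd (.lf 0xc48) (.lf 0))) (.nd (.nd (.lf 0x712) (.lf 0x1701)) (.nd (.lf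 0xcb6) (.lf 0)))) (.nd (.nd (.nd (.lf 0x429) (.lf 0x115b)) (.nd (.lf 0x87) (.lf 0))) (.nd (.nd (.lf 0x9c6) (.lf 0x1454)) (.nd (.lf 0x129c) (.lf 0))))) (.nd (.nd (.nd (.nd (.lf 0x2aa) (.lf 0x150d)) (.nd (.lf 0xd74) (.lf 0))) (.nd (.nd (.lf 0x871) (.lf 0x169b)) (.nd (.lf 0x11ac) (.lf 0)))) (.nd (.nd (.nd (.lf 0x5a7) (.lf 0x147f)) (.nd (.lf 0xfa7) (.lf 0))) (.nd (.nd (.lf 0xb13) (.lf 0x17ec)) (.nd (.lf 0x1371) (.lf 0))))))) (.nd (.nd (.nd (.nd (.nd (.nd (.lf 0xb6) (.lf 0x276)) (.nd (.lf 0xbfa) (.lf 0))) (.nd (.nd (.lf 0x6ba) (.lf 0x129e)) (.nd (.lf 0x1069) (.lf 0)))) (.nd (.nd (.nd (.lf 0x3c9) (.lf 0x10b6)) (.nd (.lf 0xe46) (.lf 0))) (.nd (.nd (.lf 0x96f) (.lf 0x6dd)) (.nd (.lf 0x1263) (.lf 0))))) (.nd (.nd (.nd (.nd (.lf 0x245)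 (.lf 0x149f)) (.nd (.lf 0xd29) (.lf 0))) (.nd (.nd (.lf 0x818) (.lf 0x1753)) (.nd (.lf 0x1166) (.lf 0)))) (.nd (.nd (.nd (.lf 0x501) (.lf 0x1544)) (.nd (.lf 0xf5d) (.lf 0))) (.nd (.nd (.lf 0xabe) (.lf 0xf99)) (.nd (.lf 0xb37) (.lf 0)))))) (.nd (.nd (.nd (.nd (.nd (.lf 0x17d) (.lf 0x1340)) (.nd (.lf 0xc91) (.lf 0))) (.nd (.nd (.lf 0x76a) (.lf 0xd4c)) (.nd (.lf 0x10f1) (.lf 0)))) (.nd (.nd (.nd (.lf 0x48d) (.lf 0xecb)) (.nd (.lf 0xe90) (.lf 0))) (.nd (.nd (.lf 0xa18) (.lf 0x1794)) (.nd (.lf 0x12d9) (.lf 0))))) (.nd (.nd (.nd (.nd (.lf 0x11) (.lf 0xd45)) (.nd (.lf 0xdbc) (.lf 0))) (.nd (.nd (.lf 0x8c3) (.lf 0x178b)) (.nd (.lf 0x11e6) (.lf 0)))) (.nd (.nd (.nd (.lf 0x605) (.lf 0x1616)) (.nd (.lf 0xfea) (.lf 0))) (.nd (.nd (.lf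 0xb62) (.lf 0x1692)) (.nd (.lf 0xdb7) (.lf 0))))))))
def tabA_nababaa : Tr := (.nd (.nd (.nd (.nd (.nd (.nd (.nd (.lf 0x12) (.lf 0x13b8)) (.nd (.lf 0xb41) (.lf 0x1803))) (.nd (.nd (.lf 0x629) (.lf 0x15e3)) (.nd (.lf 0x1000) (.lf 0)))) (.nd (.nd (.nd (.lf 0x329) (.lf 0x154e)) (.nd (.lf 0xd66) (.lf 0))) (.nd (.nd (.lf 0x8e8) (.lf 0x13f9)) (.nd (.lf 0x469) (.lf 0))))) (.nd (.nd (.nd (.nd (.lf 0x1a3) (.lf 0x1495)) (.nd (.lf 0xcaa) (.lf 0))) (.nd (.nd (.lf 0x78b) (.lf 0x1729)) (.nd (.lf 0x1109) (.lf 0)))) (.nd (.nd (.nd (.lf 0x4af) (.lf 0x68c)) (.nd (.lf 0xef2) (.lf 0))) (.nd (.nd (.lf 0x93f) (.lf 0x1790)) (.nd (.lf 0x12f1) (.lf 0)))))) (.nd (.nd (.nd (.nd (.nd (.lf 0xdb) (.lf 0x1429)) (.nd (.lf 0xc19) (.lf 0))) (.nd (.nd (.lf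 0x6dc) (.lf 0x1699)) (.nd (.lf 0x599) (.lf 0)))) (.nd (.nd (.nd (.lf 0x3eb) (.lf 0x159a)) (.nd (.lf 0xe61) (.lf 0))) (.nd (.nd (.lf 0x53a) (.lf 0x128d)) (.nd (.lf 0x817) (.lf 0))))) (.nd (.nd (.nd (.nd (.lf 0x26a) (.lf 0x9b0)) (.nd (.lf 0xd44) (.lf 0))) (.nd (.nd (.lf 0x83b) (.lf 0x1762)) (.nd (.lf 0x1185) (.lf 0)))) (.nd (.nd (.nd (.lf 0x569) (.lf 0x1644)) (.nd (.lf 0xbc1) (.lf 0))) (.nd (.nd (.lf 0xadf) (.lf 0x716)) (.nd (.lf 0x1357) (.lf 0))))))) (.nd (.nd (.nd (.nd (.nd (.nd (.lf 0x76) (.lf 0x13e8)) (.nd (.lf 0xbc5) (.lf 0))) (.nd (.nd (.lf 0x681) (.lf 0x167e)) (.nd (.lf 0x103d) (.lf 0)))) (.nd (.nd (.nd (.lf 0x38b) (.lf 0x1577)) (.nd (.lf 0xa0f) (.lf 0))) (.nd (.nd (.lf 0x93c) (.lf 0x17af)) (.nd (.lf 0x123a) (.lf 0)))))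 (.nd (.nd (.nd (.nd (.lf 0x207) (.lf 0x14c8)) (.nd (.lf 0xcf8) (.lf 0))) (.nd (.nd (.lf 0x7e2) (.lf 0x1749)) (.nd (.lf 0x1144) (.lf 0)))) (.nd (.nd (.nd (.lf 0x50e) (.lf 0x1143)) (.nd (.lf 0xf34) (.lf 0))) (.nd (.nd (.lf 0xa87) (.lf 0x17c1)) (.nd (.lf 0xa67) (.lf 0)))))) (.nd (.nd (.nd (.nd (.nd (.lf 0x13f) (.lf 0x1b8)) (.nd (.lf 0x9ad) (.lf 0))) (.nd (.nd (.lf 0x731) (.lf 0x170d)) (.nd (.lf 0x10c8) (.lf 0)))) (.nd (.nd (.nd (.lf 0x44e) (.lf 0xe7f)) (.nd (.lf 0xeaa) (.lf 0))) (.nd (.nd (.lf 0x52e) (.lf 0xca1)) (.nd (.lf 0x12b3) (.lf 0))))) (.nd (.nd (.nd (.nd (.lf 0x2cc) (.lf 0x1065)) (.nd (.lf 0xa21) (.lf 0))) (.nd (.nd (.lf 0x891) (.lf 0x174a)) (.nd (.lf 0x566) (.lf 0)))) (.nd (.nd (.nd (.lf 0x5c9) (.lf 0x4ea)) (.nd (.lf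 0xfbc) (.lf 0))) (.nd (.nd (.lf 0xb32) (.lf 0x17a5)) (.nd (.lf 0x1384) (.lf 0))))))))
def tabA_nababab : Tr := (.nd (.nd (.nd (.nd (.nd (.nd (.nd (.lf 0x45) (.lf 0x11c6)) (.nd (.lf 0xb9e) (.lf 0))) (.nd (.nd (.lf 0x3dc) (.lf 0x16ae)) (.nd (.lf 0xd20) (.lf 0)))) (.nd (.nd (.nd (.lf 0x35a) (.lf 0x1566)) (.nd (.lf 0xdf4) (.lf 0))) (.nd (.nd (.lf 0x914) (.lf 0xbcd)) (.nd (.lf 0xe3f) (.lf 0))))) (.nd (.nd (.nd (.nd (.lf 0x1d6) (.lf 0x14af)) (.nd (.lf 0xcd0) (.lf 0))) (.nd (.nd (.lf 0x7b4) (.lf 0xd1b)) (.nd (.lf 0x1126) (.lf 0)))) (.nd (.nd (.nd (.lf 0x4df) (.lf 0x7df)) (.nd (.lf 0xcf6) (.lf 0))) (.nd (.nd (.lf 0x618) (.lf 0x176b)) (.nd (.lf 0x130d) (.lf 0)))))) (.nd (.nd (.nd (.nd (.nd (.lf 0x10d) (.lf 0xfc2)) (.nd (.lf 0xc3f)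 (.lf 0))) (.nd (.nd (.lf 0x707) (.lf 0x16fa)) (.nd (.lf 0x10a6) (.lf 0)))) (.nd (.nd (.nd (.lf 0x41d) (.lf 0x10f9)) (.nd (.lf 0x8ce) (.lf 0))) (.nd (.nd (.lf 0x9ba) (.lf 0x17ce)) (.nd (.lf 0x1292) (.lf 0))))) (.nd (.nd (.nd (.nd (.lf 0x29d) (.lf 0x128f)) (.nd (.lf 0xd69) (.lf 0))) (.nd (.nd (.lf 0x6f) (.lf 0xab1)) (.nd (.lf 0xbf) (.lf 0)))) (.nd (.nd (.nd (.lf 0x59b) (.lf 0x14b1)) (.nd (.lf 0xf9f) (.lf 0))) (.nd (.nd (.lf 0xb08) (.lf 0x176a)) (.nd (.lf 0x20d) (.lf 0))))))) (.nd (.nd (.nd (.nd (.nd (.nd (.lf 0xa9) (.lf 0xf95)) (.nd (.lf 0xbf0) (.lf 0))) (.nd (.nd (.lf 0x6af) (.lf 0x16d4)) (.nd (.lf 0x1064) (.lf 0)))) (.nd (.nd (.nd (.lf 0x3bd) (.lf 0xe17)) (.nd (.lf 0x972) (.lf 0))) (.nd (.nd (.lf 0x964) (.lf 0x17bd)) (.nd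 (.lf 0xd4) (.lf 0))))) (.nd (.nd (.nd (.nd (.lf 0x239) (.lf 0x2e3)) (.nd (.lf 0xd1f) (.lf 0))) (.nd (.nd (.lf 0x80b) (.lf 0x1141)) (.nd (.lf 0x9e2) (.lf 0)))) (.nd (.nd (.nd (.lf 0x53d) (.lf 0x1631)) (.nd (.lf 0xf55) (.lf 0))) (.nd (.nd (.lf 0xab2) (.lf 0x12a3)) (.nd (.lf 0x133f) (.lf 0)))))) (.nd (.nd (.nd (.nd (.nd (.lf 0x171) (.lf 0x1089)) (.nd (.lf 0xc86) (.lf 0))) (.nd (.nd (.lf 0x75e) (.lf 0x15bf)) (.nd (.lf 0x10ea) (.lf 0)))) (.nd (.nd (.nd (.lf 0x481) (.lf 0x1382)) (.nd (.lf 0xece) (.lf 0))) (.nd (.nd (.lf 0x50c) (.lf 0x16f5)) (.nd (.lf 0x12d3) (.lf 0))))) (.nd (.nd (.nd (.nd (.lf 0x2fc) (.lf 0x141d)) (.nd (.lf 0xdb3) (.lf 0))) (.nd (.nd (.lf 0x8b9) (.lf 0x4d1)) (.nd (.lf 0xe84) (.lf 0)))) (.nd (.nd (.nd (.lf 0x5f9)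 (.lf 0x168b)) (.nd (.lf 0xfe0) (.lf 0))) (.nd (.nd (.lf 0xb59) (.lf 0x55a)) (.nd (.lf 0x479) (.lf 0))))))))
def tabA_nababba : Tr := (.nd (.nd (.nd (.nd (.nd (.nd (.nd (.lf 0x2b) (.lf 0x1076)) (.nd (.lf 0xb8b) (.lf 0))) (.nd (.nd (.lf 0x29) (.lf 0x105e)) (.nd (.lf 0x1011) (.lf 0)))) (.nd (.nd (.nd (.lf 0x342) (.lf 0x4f9)) (.nd (.lf 0x7c) (.lf 0))) (.nd (.nd (.lf 0x8fd) (.lf 0x179f)) (.nd (.lf 0x120b) (.lf 0))))) (.nd (.nd (.nd (.nd (.lf 0x1bc) (.lf 0xd67)) (.nd (.lf 0x77) (.lf 0))) (.nd (.nd (.lf 0x7a2) (.lf 0x1730)) (.nd (.lf 0xfa) (.lf 0)))) (.nd (.nd (.nd (.lf 0x4c6) (.lf 0x1314)) (.nd (.lf 0x8d) (.lf 0))) (.nd (.nd (.lf 0xa49) (.lf 0x1662)) (.nd (.lf 0x1300) (.lf 0)))))) (.nd (.nd (.nd (.nd (.nd (.lf 0xf5) (.lf 0x1437))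 (.nd (.lf 0x9db) (.lf 0))) (.nd (.nd (.lf 0x6f2) (.lf 0x16f0)) (.nd (.lf 0x1093) (.lf 0)))) (.nd (.nd (.nd (.lf 0x404) (.lf 0x2ac)) (.nd (.lf 0xe73) (.lf 0))) (.nd (.nd (.lf 0x9a5) (.lf 0xd73)) (.nd (.lf 0x1284) (.lf 0))))) (.nd (.nd (.nd (.nd (.lf 0x282) (.lf 0x14d7)) (.nd (.lf 0xd54) (.lf 0))) (.nd (.nd (.lf 0x851) (.lf 0x4ec)) (.nd (.lf 0x1196) (.lf 0)))) (.nd (.nd (.nd (.lf 0x581) (.lf 0xd55)) (.nd (.lf 0xd7e) (.lf 0))) (.nd (.nd (.lf 0xaf3) (.lf 0x15f0)) (.nd (.lf 0x1361) (.lf 0))))))) (.nd (.nd (.nd (.nd (.nd (.nd (.lf 0x90) (.lf 0x13fe)) (.nd (.lf 0xbdb) (.lf 0))) (.nd (.nd (.lf 0x697) (.lf 0xe53)) (.nd (.lf 0x104e) (.lf 0)))) (.nd (.nd (.nd (.lf 0x3a4) (.lf 0x157d)) (.nd (.lf 0xe2a) (.lf 0))) (.nd (.nd (.lf 0x950)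 (.lf 0x1578)) (.nd (.lf 0xfba) (.lf 0))))) (.nd (.nd (.nd (.nd (.lf 0x220) (.lf 0x13c3)) (.nd (.lf 0xd0a) (.lf 0))) (.nd (.nd (.lf 0x7f4) (.lf 0x174e)) (.nd (.lf 0x1154) (.lf 0)))) (.nd (.nd (.nd (.lf 0x526) (.lf 0x1620)) (.nd (.lf 0x88d) (.lf 0))) (.nd (.nd (.lf 0xa9d) (.lf 0x1186)) (.nd (.lf 0x1333) (.lf 0)))))) (.nd (.nd (.nd (.nd (.nd (.lf 0x157) (.lf 0x146c)) (.nd (.lf 0xc75) (.lf 0))) (.nd (.nd (.lf 0x748) (.lf 0xd26)) (.nd (.lf 0x10da) (.lf 0)))) (.nd (.nd (.nd (.lf 0x468) (.lf 0x5a2)) (.nd (.lf 0xeb7) (.lf 0))) (.nd (.nd (.lf 0x9fb) (.lf 0xfb7)) (.nd (.lf 0xe0c) (.lf 0))))) (.nd (.nd (.nd (.nd (.lf 0x2e5) (.lf 0x30d)) (.nd (.lf 0xda2) (.lf 0))) (.nd (.nd (.lf 0x8a4) (.lf 0x1781)) (.nd (.lf 0x117a) (.lf 0)))) (.nd (.nd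 (.nd (.lf 0x5e1) (.lf 0x8fe)) (.nd (.lf 0xe8e) (.lf 0))) (.nd (.nd (.lf 0xb42) (.lf 0x1209)) (.nd (.lf 0x138f) (.lf 0))))))))
def tabA_nababbb : Tr := (.nd (.nd (.nd (.nd (.nd (.nd (.nd (.lf 0x5d) (.lf 0x13e1)) (.nd (.lf 0xbb0) (.lf 0))) (.nd (.nd (.lf 0x66a) (.lf 0x16b8)) (.nd (.lf 0xa2) (.lf 0)))) (.nd (.nd (.nd (.lf 0x373) (.lf 0x156e)) (.nd (.lf 0xe08) (.lf 0))) (.nd (.nd (.lf 0x926) (.lf 0x17ab)) (.nd (.lf 0x109e) (.lf 0))))) (.nd (.nd (.nd (.nd (.lf 0x1ef) (.lf 0x116f)) (.nd (.lf 0xce5) (.lf 0))) (.nd (.nd (.lf 0x7c8) (.lf 0x2ef)) (.nd (.lf 0xf8e) (.lf 0)))) (.nd (.nd (.nd (.lf 0x1ff) (.lf 0x1609)) (.nd (.lf 0xf24) (.lf 0))) (.nd (.nd (.lf 0xa6e) (.lf 0x161a)) (.nd (.lf 0x3c4) (.lf 0)))))) (.nd (.nd (.nd (.nd (.nd (.lf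 0x126) (.lf 0x480)) (.nd (.lf 0xc53) (.lf 0))) (.nd (.nd (.lf 0x71e) (.lf 0x94d)) (.nd (.lf 0x10b4) (.lf 0)))) (.nd (.nd (.nd (.lf 0x437) (.lf 0x15bd)) (.nd (.lf 0xe96) (.lf 0))) (.nd (.nd (.lf 0x9d0) (.lf 0x1627)) (.nd (.lf 0x12a2) (.lf 0))))) (.nd (.nd (.nd (.nd (.lf 0x2b5) (.lf 0x1416)) (.nd (.lf 0xd7f) (.lf 0))) (.nd (.nd (.lf 0x87d) (.lf 0x21f)) (.nd (.lf 0x2d3) (.lf 0)))) (.nd (.nd (.nd (.lf 0x5b3) (.lf 0x166d)) (.nd (.lf 0x59f) (.lf 0))) (.nd (.nd (.lf 0x26b) (.lf 0x1520)) (.nd (.lf 0x77e) (.lf 0))))))) (.nd (.nd (.nd (.nd (.nd (.nd (.lf 0xc2) (.lf 0x11c3)) (.nd (.lf 0xc04) (.lf 0))) (.nd (.nd (.lf 0x6c6) (.lf 0x16dd)) (.nd (.lf 0x1071) (.lf 0)))) (.nd (.nd (.nd (.lf 0x3d5) (.lf 0x33d)) (.nd (.lf 0x84) (.lf 0))) (.nd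 (.nd (.lf 0x979) (.lf 0x17ad)) (.nd (.lf 0x869) (.lf 0))))) (.nd (.nd (.nd (.nd (.lf 0x251) (.lf 0x1309)) (.nd (.lf 0xa3f) (.lf 0))) (.nd (.nd (.lf 0x823) (.lf 0xc33)) (.nd (.lf 0x689) (.lf 0)))) (.nd (.nd (.nd (.lf 0x551) (.lf 0x1500)) (.nd (.lf 0xf67) (.lf 0))) (.nd (.nd (.lf 0xa86) (.lf 0x17a7)) (.nd (.lf 0x134b) (.lf 0)))))) (.nd (.nd (.nd (.nd (.nd (.lf 0x18a) (.lf 0x1485)) (.nd (.lf 0xc98) (.lf 0))) (.nd (.nd (.lf 0x3f7) (.lf 0x1723)) (.nd (.lf 0x10fa) (.lf 0)))) (.nd (.nd (.nd (.lf 0x498) (.lf 0x15e2)) (.nd (.lf 0xa7b) (.lf 0))) (.nd (.nd (.lf 0xa22) (.lf 0x14e4)) (.nd (.lf 0x12e0) (.lf 0))))) (.nd (.nd (.nd (.nd (.lf 0x61) (.lf 0x1543)) (.nd (.lf 0xdc5) (.lf 0))) (.nd (.nd (.lf 0x8cf) (.lf 0x1720)) (.nd (.lf 0x11ee)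 (.lf 0)))) (.nd (.nd (.nd (.lf 0x612) (.lf 0x10c4)) (.nd (.lf 0xae4) (.lf 0))) (.nd (.nd (.lf 0xb69) (.lf 0x16ca)) (.nd (.lf 0x13ac) (.lf 0))))))))
def tabA_nabbaaa : Tr := (.nd (.nd (.nd (.nd (.nd (.nd (.nd (.lf 0xb) (.lf 0x13b4)) (.nd (.lf 0xb78) (.lf 0x171e))) (.nd (.nd (.lf 0x624) (.lf 0xf3c)) (.nd (.lf 0xdc9) (.lf 0)))) (.nd (.nd (.nd (.lf 0x323) (.lf 0x1081)) (.nd (.lf 0xdd1) (.lf 0))) (.nd (.nd (.lf 0x8e1) (.lf 0x1264)) (.nd (.lf 0xf56) (.lf 0))))) (.nd (.nd (.nd (.nd (.lf 0x19d) (.lf 0x11a)) (.nd (.lf 0xca4) (.lf 0))) (.nd (.nd (.lf 0x785) (.lf 0x3da)) (.nd (.lf 0x1107) (.lf 0)))) (.nd (.nd (.nd (.lf 0x4a9) (.lf 0x11c1)) (.nd (.lf 0xd24) (.lf 0))) (.nd (.nd (.lf 0xa30) (.lf 0x1709)) (.nd (.lf 0x12ed) (.lf 0)))))) (.nd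 (.nd (.nd (.nd (.nd (.lf 0xd5) (.lf 0x1425)) (.nd (.lf 0x8d1) (.lf 0))) (.nd (.nd (.lf 0x6d5) (.lf 0x16e6)) (.nd (.lf 0xe8b) (.lf 0)))) (.nd (.nd (.nd (.lf 0x3e5) (.lf 0x1585)) (.nd (.lf 0xe5e) (.lf 0))) (.nd (.nd (.lf 0x98a) (.lf 0x1538)) (.nd (.lf 0xe21) (.lf 0))))) (.nd (.nd (.nd (.nd (.lf 0x265) (.lf 0x14f2)) (.nd (.lf 0xd3f) (.lf 0))) (.nd (.nd (.lf 0x3b) (.lf 0x20f)) (.nd (.lf 0x1180) (.lf 0)))) (.nd (.nd (.nd (.lf 0x562) (.lf 0x1642)) (.nd (.lf 0x49c) (.lf 0))) (.nd (.nd (.lf 0xada) (.lf 0x15e8)) (.nd (.lf 0x1354) (.lf 0))))))) (.nd (.nd (.nd (.nd (.nd (.nd (.lf 0x70) (.lf 0x104)) (.nd (.lf 0xbbe) (.lf 0))) (.nd (.nd (.lf 0x67a) (.lf 0x1aa)) (.nd (.lf 0x1038) (.lf 0)))) (.nd (.nd (.nd (.lf 0x386) (.lf 0x32b)) (.nd (.lf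 0x7f) (.lf 0))) (.nd (.nd (.lf 0x1e1) (.lf 0xa15)) (.nd (.lf 0x1236) (.lf 0))))) (.nd (.nd (.nd (.nd (.lf 0x201) (.lf 0xb17)) (.nd (.lf 0xcf2) (.lf 0))) (.nd (.nd (.lf 0x7db) (.lf 0x156c)) (.nd (.lf 0x9b4) (.lf 0)))) (.nd (.nd (.nd (.lf 0x509) (.lf 0x1611)) (.nd (.lf 0xf30) (.lf 0))) (.nd (.nd (.lf 0xa80) (.lf 0x1773)) (.nd (.lf 0x1323) (.lf 0)))))) (.nd (.nd (.nd (.nd (.nd (.lf 0x139) (.lf 0x145b)) (.nd (.lf 0xc3d) (.lf 0))) (.nd (.nd (.lf 0x31) (.lf 0x700)) (.nd (.lf 0x10c3) (.lf 0)))) (.nd (.nd (.nd (.lf 0x449) (.lf 0x72b)) (.nd (.lf 0xea5) (.lf 0))) (.nd (.nd (.lf 0x4de) (.lf 0x1668)) (.nd (.lf 0x12af) (.lf 0))))) (.nd (.nd (.nd (.nd (.lf 0x2c6) (.lf 0x151c)) (.nd (.lf 0xd8a) (.lf 0))) (.nd (.nd (.lf 0x88c) (.lf 0xe01))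 (.nd (.lf 0x11c0) (.lf 0)))) (.nd (.nd (.nd (.lf 0x5c3) (.lf 0x1672)) (.nd (.lf 0xfb8) (.lf 0))) (.nd (.nd (.lf 0xb2c) (.lf 0x140f)) (.nd (.lf 0xbdc) (.lf 0))))))))
def tabA_nabbaab : Tr := (.nd (.nd (.nd (.nd (.nd (.nd (.nd (.lf 0x3f) (.lf 0x13d1)) (.nd (.lf 0xb9a) (.lf 0))) (.nd (.nd (.lf 0x64b) (.lf 0xbff)) (.nd (.lf 0x101f) (.lf 0)))) (.nd (.nd (.nd (.lf 0x354) (.lf 0x130b)) (.nd (.lf 0x947) (.lf 0))) (.nd (.nd (.lf 0x90d) (.lf 0x10b1)) (.nd (.lf 0xa04) (.lf 0))))) (.nd (.nd (.nd (.nd (.lf 0x1cf) (.lf 0xdc4)) (.nd (.lf 0xcca) (.lf 0))) (.nd (.nd (.lf 0x7af) (.lf 0x1737)) (.nd (.lf 0xcef) (.lf 0)))) (.nd (.nd (.nd (.lf 0x4d9) (.lf 0x15fc)) (.nd (.lf 0xf10) (.lf 0))) (.nd (.nd (.lf 0xa57) (.lf 0x1772)) (.nd (.lf 0xe8a) (.lf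 0)))))) (.nd (.nd (.nd (.nd (.nd (.lf 0x108) (.lf 0x1442)) (.nd (.lf 0xc3c) (.lf 0))) (.nd (.nd (.lf 0x702) (.lf 0x14fd)) (.nd (.lf 0x4e3) (.lf 0)))) (.nd (.nd (.nd (.lf 0x417) (.lf 0x15b2)) (.nd (.lf 0xe80) (.lf 0))) (.nd (.nd (.lf 0x9b5) (.lf 0x17cd)) (.nd (.lf 0xfce) (.lf 0))))) (.nd (.nd (.nd (.nd (.lf 0x296) (.lf 0x1e6)) (.nd (.lf 0x61b) (.lf 0))) (.nd (.nd (.lf 0x861) (.lf 0x159f)) (.nd (.lf 0x11a3) (.lf 0)))) (.nd (.nd (.nd (.lf 0x595) (.lf 0x165f)) (.nd (.lf 0xf9a) (.lf 0))) (.nd (.nd (.lf 0xb04) (.lf 0x17c0)) (.nd (.lf 0x1368) (.lf 0))))))) (.nd (.nd (.nd (.nd (.nd (.nd (.lf 0xa3) (.lf 0x13fb)) (.nd (.lf 0xbeb) (.lf 0))) (.nd (.nd (.lf 0x6aa) (.lf 0x3b5)) (.nd (.lf 0x44c) (.lf 0)))) (.nd (.nd (.nd (.lf 0x3b6) (.lf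 0x94f)) (.nd (.lf 0xe39) (.lf 0))) (.nd (.nd (.lf 0x960) (.lf 0xf1d)) (.nd (.lf 0x10e4) (.lf 0))))) (.nd (.nd (.nd (.nd (.lf 0x233) (.lf 0xc4f)) (.nd (.lf 0xd1a) (.lf 0))) (.nd (.nd (.lf 0x806) (.lf 0x16f8)) (.nd (.lf 0x115e) (.lf 0)))) (.nd (.nd (.nd (.lf 0x537) (.lf 0x1518)) (.nd (.lf 0xf4e) (.lf 0))) (.nd (.nd (.lf 0x708) (.lf 0xcc4)) (.nd (.lf 0x133c) (.lf 0)))))) (.nd (.nd (.nd (.nd (.nd (.lf 0x16b) (.lf 0x1476)) (.nd (.lf 0xc80) (.lf 0))) (.nd (.nd (.lf 0x758) (.lf 0x1417)) (.nd (.lf 0x10e7) (.lf 0)))) (.nd (.nd (.nd (.lf 0x47a) (.lf 0x15d8)) (.nd (.lf 0xec9) (.lf 0))) (.nd (.nd (.lf 0x6c7) (.lf 0x1039)) (.nd (.lf 0x12d1) (.lf 0))))) (.nd (.nd (.nd (.nd (.lf 0x2f6) (.lf 0x1531)) (.nd (.lf 0xdae) (.lf 0))) (.nd (.nd (.lf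 0x8b4) (.lf 0x1558)) (.nd (.lf 0x11de) (.lf 0)))) (.nd (.nd (.nd (.lf 0x5f3) (.lf 0x1688)) (.nd (.lf 0xfda) (.lf 0))) (.nd (.nd (.lf 0xb52) (.lf 0x161c)) (.nd (.lf 0x1399) (.lf 0))))))))
def tabA_nabbaba : Tr := (.nd (.nd (.nd (.nd (.nd (.nd (.nd (.lf 0x25) (.lf 0xc1b)) (.nd (.lf 0xb87) (.lf 0))) (.nd (.nd (.lf 0x63a) (.lf 0x14e2)) (.nd (.lf 0x100b) (.lf 0)))) (.nd (.nd (.nd (.lf 0x33c) (.lf 0x1512)) (.nd (.lf 0xdde) (.lf 0))) (.nd (.nd (.lf 0x420) (.lf 0x1751)) (.nd (.lf 0x1207) (.lf 0))))) (.nd (.nd (.nd (.nd (.lf 0x1b6) (.lf 0x13a5)) (.nd (.lf 0xcbb) (.lf 0))) (.nd (.nd (.lf 0x79d) (.lf 0xee3)) (.nd (.lf 0x1115) (.lf 0)))) (.nd (.nd (.nd (.lf 0x4c0) (.lf 0x7f8)) (.nd (.lf 0xefd) (.lf 0))) (.nd (.nd (.lf 0xa43) (.lf 0x1747))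 (.nd (.lf 0x12fc) (.lf 0)))))) (.nd (.nd (.nd (.nd (.nd (.lf 0xef) (.lf 0x23d)) (.nd (.lf 0xc2a) (.lf 0))) (.nd (.nd (.lf 0x6ec) (.lf 0x16ed)) (.nd (.lf 0x108e) (.lf 0)))) (.nd (.nd (.nd (.lf 0x3fe) (.lf 0x15a4)) (.nd (.lf 0xe6d) (.lf 0))) (.nd (.nd (.lf 0x99f) (.lf 0x162a)) (.nd (.lf 0x1280) (.lf 0))))) (.nd (.nd (.nd (.nd (.lf 0x27c) (.lf 0x1441)) (.nd (.lf 0xd51) (.lf 0))) (.nd (.nd (.lf 0x84b) (.lf 0x1769)) (.nd (.lf 0x1190) (.lf 0)))) (.nd (.nd (.nd (.lf 0x57c) (.lf 0x12f6)) (.nd (.lf 0xb56) (.lf 0))) (.nd (.nd (.lf 0xaed) (.lf 0x5ae)) (.nd (.lf 0x135e) (.lf 0))))))) (.nd (.nd (.nd (.nd (.nd (.nd (.lf 0x8a) (.lf 0x13fa)) (.nd (.lf 0x9f7) (.lf 0))) (.nd (.nd (.lf 0x2c) (.lf 0x1633)) (.nd (.lf 0x104b) (.lf 0)))) (.nd (.nd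 (.nd (.lf 0x39d) (.lf 0x1287)) (.nd (.lf 0x75b) (.lf 0))) (.nd (.nd (.lf 0x94c) (.lf 0xa89)) (.nd (.lf 0x1246) (.lf 0))))) (.nd (.nd (.nd (.nd (.lf 0x219) (.lf 0xd8e)) (.nd (.lf 0xd07) (.lf 0))) (.nd (.nd (.lf 0x153) (.lf 0x172e)) (.nd (.lf 0x114f) (.lf 0)))) (.nd (.nd (.nd (.lf 0x16d) (.lf 0x161d)) (.nd (.lf 0x10b) (.lf 0))) (.nd (.nd (.lf 0x7eb) (.lf 0x15c6)) (.nd (.lf 0x132f) (.lf 0)))))) (.nd (.nd (.nd (.nd (.nd (.lf 0x151) (.lf 0x1468)) (.nd (.lf 0xbde) (.lf 0))) (.nd (.nd (.lf 0x741) (.lf 0x43c)) (.nd (.lf 0x10d6) (.lf 0)))) (.nd (.nd (.nd (.lf 0x461) (.lf 0x11ca)) (.nd (.lf 0x89) (.lf 0))) (.nd (.nd (.lf 0x16a) (.lf 0xb98)) (.nd (.lf 0xdc) (.lf 0))))) (.nd (.nd (.nd (.nd (.lf 0x2df) (.lf 0x1525)) (.nd (.lf 0xd9d) (.lf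 0))) (.nd (.nd (.lf 0x89f) (.lf 0x177e)) (.nd (.lf 0x11cf) (.lf 0)))) (.nd (.nd (.nd (.lf 0x5d9) (.lf 0xfe2)) (.nd (.lf 0x43e) (.lf 0))) (.nd (.nd (.lf 0xb3e) (.lf 0x1795)) (.nd (.lf 0x597) (.lf 0))))))))
def tabA_nabbabb : Tr := (.nd (.nd (.nd (.nd (.nd (.nd (.nd (.lf 0x58) (.lf 0x13df)) (.nd (.lf 0xbac) (.lf 0))) (.nd (.nd (.lf 0x664) (.lf 0x16b5)) (.nd (.lf 0x102a) (.lf 0)))) (.nd (.nd (.nd (.lf 0x36d) (.lf 0x10f2)) (.nd (.lf 0xe02) (.lf 0))) (.nd (.nd (.lf 0x921) (.lf 0x166c)) (.nd (.lf 0x1227) (.lf 0))))) (.nd (.nd (.nd (.nd (.lf 0x1e8) (.lf 0x14bb)) (.nd (.lf 0xce1) (.lf 0))) (.nd (.nd (.lf 0x7c2) (.lf 0xf6b)) (.nd (.lf 0xddb) (.lf 0)))) (.nd (.nd (.nd (.lf 0x4f0) (.lf 0x1605)) (.nd (.lf 0xf21) (.lf 0))) (.nd (.nd (.lf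 0x886) (.lf 0xd02)) (.nd (.lf 0xfd4) (.lf 0)))))) (.nd (.nd (.nd (.nd (.nd (.lf 0x11f) (.lf 0x1451)) (.nd (.lf 0xc4d) (.lf 0))) (.nd (.nd (.lf 0x718) (.lf 0x1469)) (.nd (.lf 0x10b0) (.lf 0)))) (.nd (.nd (.nd (.lf 0x430) (.lf 0x106f)) (.nd (.lf 0xe91) (.lf 0))) (.nd (.nd (.lf 0x9cb) (.lf 0x12df)) (.nd (.lf 0x60c) (.lf 0))))) (.nd (.nd (.nd (.nd (.lf 0x2b0) (.lf 0x1510)) (.nd (.lf 0xd78) (.lf 0))) (.nd (.nd (.lf 0x877) (.lf 0x127e)) (.nd (.lf 0x7b5) (.lf 0)))) (.nd (.nd (.nd (.lf 0x5ad) (.lf 0x166b)) (.nd (.lf 0xfac) (.lf 0))) (.nd (.nd (.lf 0xb18) (.lf 0x15fd)) (.nd (.lf 0xf6) (.lf 0))))))) (.nd (.nd (.nd (.nd (.nd (.nd (.lf 0x2) (.lf 0x31e)) (.nd (.lf 0xbfe) (.lf 0))) (.nd (.nd (.lf 0x6c0) (.lf 0x16db)) (.nd (.lf 0xe6e) (.lf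 0)))) (.nd (.nd (.nd (.lf 0x3cf) (.lf 0x176)) (.nd (.lf 0xe4c) (.lf 0))) (.nd (.nd (.lf 0x974) (.lf 0x7ca)) (.nd (.lf 0x1266) (.lf 0))))) (.nd (.nd (.nd (.nd (.lf 0x24b) (.lf 0x14e8)) (.nd (.lf 0x72) (.lf 0))) (.nd (.nd (.lf 0x81d) (.lf 0x172a)) (.nd (.lf 0x98b) (.lf 0)))) (.nd (.nd (.nd (.lf 0x54b) (.lf 0x163b)) (.nd (.lf 0x1b2) (.lf 0))) (.nd (.nd (.lf 0xac4) (.lf 0x8ca)) (.nd (.lf 0xc36) (.lf 0)))))) (.nd (.nd (.nd (.nd (.nd (.lf 0x184) (.lf 0xfa0)) (.nd (.lf 0xc95) (.lf 0))) (.nd (.nd (.lf 0x771) (.lf 0xe5d)) (.nd (.lf 0x538) (.lf 0)))) (.nd (.nd (.nd (.lf 0x491) (.lf 0x15df)) (.nd (.lf 0xedc) (.lf 0))) (.nd (.nd (.lf 0x1d0) (.lf 0x866)) (.nd (.lf 0xbb1) (.lf 0))))) (.nd (.nd (.nd (.nd (.lf 0x30e) (.lf 0x153e)) (.nd (.lf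 0xdc0) (.lf 0))) (.nd (.nd (.lf 0x8c9) (.lf 0x9a1)) (.nd (.lf 0x88a) (.lf 0)))) (.nd (.nd (.nd (.lf 0x60b) (.lf 0x820)) (.nd (.lf 0xc18) (.lf 0))) (.nd (.nd (.lf 0x4b7) (.lf 0x1250)) (.nd (.lf 0x44f) (.lf 0))))))))
def tabA_nabbbaa : Tr := (.nd (.nd (.nd (.nd (.nd (.nd (.nd (.lf 0x18) (.lf 0x188)) (.nd (.lf 0xb7e) (.lf 0))) (.nd (.nd (.lf 0x62e) (.lf 0xd75)) (.nd (.lf 0x1005) (.lf 0)))) (.nd (.nd (.nd (.lf 0x32f) (.lf 0x1551)) (.nd (.lf 0xb0b) (.lf 0))) (.nd (.nd (.lf 0x8ec) (.lf 0x1799)) (.nd (.lf 0xcc) (.lf 0))))) (.nd (.nd (.nd (.nd (.lf 0x1a9) (.lf 0x38c)) (.nd (.lf 0x4da) (.lf 0))) (.nd (.nd (.lf 0x791) (.lf 0x11eb)) (.nd (.lf 0x110d) (.lf 0)))) (.nd (.nd (.nd (.lf 0x4b4) (.lf 0xc62)) (.nd (.lf 0x1bb) (.lf 0))) (.nd (.nd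 (.lf 0xa3a) (.lf 0x12ad)) (.nd (.lf 0x11d3) (.lf 0)))))) (.nd (.nd (.nd (.nd (.nd (.lf 0xe2) (.lf 0x74a)) (.nd (.lf 0xc1f) (.lf 0))) (.nd (.nd (.lf 0x6e2) (.lf 0x14ab)) (.nd (.lf 0x1084) (.lf 0)))) (.nd (.nd (.nd (.lf 0x3f1) (.lf 0x159b)) (.nd (.lf 0xe65) (.lf 0))) (.nd (.nd (.lf 0x995) (.lf 0x11d0)) (.nd (.lf 0xd32) (.lf 0))))) (.nd (.nd (.nd (.nd (.lf 0x271) (.lf 0x1e3)) (.nd (.lf 0xd48) (.lf 0))) (.nd (.nd (.lf 0x83f) (.lf 0xb48)) (.nd (.lf 0x1188) (.lf 0)))) (.nd (.nd (.nd (.lf 0x570) (.lf 0xd7c)) (.nd (.lf 0x96) (.lf 0))) (.nd (.nd (.lf 0x8a6) (.lf 0x1274)) (.nd (.lf 0x78d) (.lf 0))))))) (.nd (.nd (.nd (.nd (.nd (.nd (.lf 0x7d) (.lf 0x13f2)) (.nd (.lf 0xbcc) (.lf 0))) (.nd (.nd (.lf 0x688) (.lf 0x16c5)) (.nd (.lf 0x1043)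 (.lf 0)))) (.nd (.nd (.nd (.lf 0x392) (.lf 0x2c9)) (.nd (.lf 0xe20) (.lf 0))) (.nd (.nd (.lf 0x942) (.lf 0x859)) (.nd (.lf 0x123f) (.lf 0))))) (.nd (.nd (.nd (.nd (.lf 0x20c) (.lf 0x1467)) (.nd (.lf 0xcfd) (.lf 0))) (.nd (.nd (.lf 0x7e8) (.lf 0x16a5)) (.nd (.lf 0x1148) (.lf 0)))) (.nd (.nd (.nd (.lf 0x515) (.lf 0xf49)) (.nd (.lf 0xf38) (.lf 0))) (.nd (.nd (.lf 0xa8b) (.lf 0xa81)) (.nd (.lf 0xdab) (.lf 0)))))) (.nd (.nd (.nd (.nd (.nd (.lf 0xc) (.lf 0x1460)) (.nd (.lf 0xd6) (.lf 0))) (.nd (.nd (.lf 0x737) (.lf 0x157b)) (.nd (.lf 0x10ce) (.lf 0)))) (.nd (.nd (.nd (.lf 0x454) (.lf 0xfbb)) (.nd (.lf 0xa1d) (.lf 0))) (.nd (.nd (.lf 0x2ed) (.lf 0x448)) (.nd (.lf 0xee6) (.lf 0))))) (.nd (.nd (.nd (.nd (.lf 0x2d2) (.lf 0x14bd)) (.nd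 (.lf 0xd93) (.lf 0))) (.nd (.nd (.lf 0x344) (.lf 0xf62)) (.nd (.lf 0x11c7) (.lf 0)))) (.nd (.nd (.nd (.lf 0x5cf) (.lf 0x1074)) (.nd (.lf 0xfc1) (.lf 0))) (.nd (.nd (.lf 0x34e) (.lf 0xdc7)) (.nd (.lf 0x121d) (.lf 0))))))))
def tabA_nabbbab : Tr := (.nd (.nd (.nd (.nd (.nd (.nd (.nd (.lf 0x4c) (.lf 0x12dd)) (.nd (.lf 0xba2) (.lf 0))) (.nd (.nd (.lf 0x657) (.lf 0xbd0)) (.nd (.lf 0x1025) (.lf 0)))) (.nd (.nd (.nd (.lf 0x361) (.lf 0x100d)) (.nd (.lf 0xdf9) (.lf 0))) (.nd (.nd (.lf 0x919) (.lf 0x1248)) (.nd (.lf 0x4ae) (.lf 0))))) (.nd (.nd (.nd (.nd (.lf 0x1db) (.lf 0x14b5)) (.nd (.lf 0xcd6) (.lf 0))) (.nd (.nd (.lf 0x18c) (.lf 0x6a9)) (.nd (.lf 0x1128) (.lf 0)))) (.nd (.nd (.nd (.lf 0x4e5) (.lf 0x15ff)) (.nd (.lf 0xec5) (.lf 0)))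 (.nd (.nd (.lf 0xa61) (.lf 0x176f)) (.nd (.lf 0x1311) (.lf 0)))))) (.nd (.nd (.nd (.nd (.nd (.lf 0x113) (.lf 0x12a8)) (.nd (.lf 0x848) (.lf 0))) (.nd (.nd (.lf 0x70d) (.lf 0x11fd)) (.nd (.lf 0x10aa) (.lf 0)))) (.nd (.nd (.nd (.lf 0x1be) (.lf 0x15b6)) (.nd (.lf 0xe89) (.lf 0))) (.nd (.nd (.lf 0x9c0) (.lf 0x137f)) (.nd (.lf 0x1298) (.lf 0))))) (.nd (.nd (.nd (.nd (.lf 0x2a3) (.lf 0xde8)) (.nd (.lf 0xd70) (.lf 0))) (.nd (.nd (.lf 0x86b) (.lf 0x16d8)) (.nd (.lf 0x10f7) (.lf 0)))) (.nd (.nd (.nd (.lf 0x5a1) (.lf 0x1665)) (.nd (.lf 0xfa5) (.lf 0))) (.nd (.nd (.lf 0xe0) (.lf 0x16a0)) (.nd (.lf 0x136b) (.lf 0))))))) (.nd (.nd (.nd (.nd (.nd (.nd (.lf 0xb0) (.lf 0x1410)) (.nd (.lf 0xbf4) (.lf 0))) (.nd (.nd (.lf 0x6b5) (.lf 0xf92))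 (.nd (.lf 0x6eb) (.lf 0)))) (.nd (.nd (.nd (.lf 0x3c3) (.lf 0x158a)) (.nd (.lf 0xe41) (.lf 0))) (.nd (.nd (.lf 0x799) (.lf 0x167f)) (.nd (.lf 0x125d) (.lf 0))))) (.nd (.nd (.nd (.nd (.lf 0x23f) (.lf 0x2db)) (.nd (.lf 0x7f6) (.lf 0))) (.nd (.nd (.lf 0x811) (.lf 0xef3)) (.nd (.lf 0x783) (.lf 0)))) (.nd (.nd (.nd (.lf 0x543) (.lf 0x1634)) (.nd (.lf 0xf5a) (.lf 0))) (.nd (.nd (.lf 0xab8) (.lf 0x144d)) (.nd (.lf 0x95d) (.lf 0)))))) (.nd (.nd (.nd (.nd (.nd (.lf 0x177) (.lf 0x147e)) (.nd (.lf 0xc8b) (.lf 0))) (.nd (.nd (.lf 0x764) (.lf 0x16d7)) (.nd (.lf 0xccb) (.lf 0)))) (.nd (.nd (.nd (.lf 0x487) (.lf 0x163)) (.nd (.lf 0xed4) (.lf 0))) (.nd (.nd (.lf 0x994) (.lf 0x14f8)) (.nd (.lf 0xd3a) (.lf 0))))) (.nd (.nd (.nd (.nd (.lf 0x302)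 (.lf 0x1534)) (.nd (.lf 0xdb8) (.lf 0))) (.nd (.nd (.lf 0x8bf) (.lf 0x16bb)) (.nd (.lf 0x11e4) (.lf 0)))) (.nd (.nd (.nd (.lf 0x402) (.lf 0x787)) (.nd (.lf 0xfe3) (.lf 0))) (.nd (.nd (.lf 0x94) (.lf 0x17ff)) (.nd (.lf 0xcce) (.lf 0))))))))
def tabA_nabbbba : Tr := (.nd (.nd (.nd (.nd (.nd (.nd (.nd (.lf 0x32) (.lf 0xd6e)) (.nd (.lf 0xb90) (.lf 0))) (.nd (.nd (.lf 0x235) (.lf 0x16a3)) (.nd (.lf 0x1015) (.lf 0)))) (.nd (.nd (.nd (.lf 0x348) (.lf 0x155d)) (.nd (.lf 0xde5) (.lf 0))) (.nd (.nd (.lf 0x68) (.lf 0x17a2)) (.nd (.lf 0x120f) (.lf 0))))) (.nd (.nd (.nd (.nd (.lf 0x1c2) (.lf 0x14a5)) (.nd (.lf 0xcc1) (.lf 0))) (.nd (.nd (.lf 0x7a6) (.lf 0x1734)) (.nd (.lf 0x111d) (.lf 0)))) (.nd (.nd (.nd (.lf 0x4cc) (.lf 0x11ce)) (.nd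 (.lf 0xdd8) (.lf 0))) (.nd (.nd (.lf 0xa4e) (.lf 0x1727)) (.nd (.lf 0x1302) (.lf 0)))))) (.nd (.nd (.nd (.nd (.nd (.lf 0xfb) (.lf 0x183)) (.nd (.lf 0xc31) (.lf 0))) (.nd (.nd (.lf 0x6f8) (.lf 0x104c)) (.nd (.lf 0x109a) (.lf 0)))) (.nd (.nd (.nd (.lf 0x40a) (.lf 0x155f)) (.nd (.lf 0x467) (.lf 0))) (.nd (.nd (.lf 0x9ab) (.lf 0x11f9)) (.nd (.lf 0xcb8) (.lf 0))))) (.nd (.nd (.nd (.nd (.lf 0x289) (.lf 0xf37)) (.nd (.lf 0xd5a) (.lf 0))) (.nd (.nd (.lf 0x733) (.lf 0xe60)) (.nd (.lf 0x119a) (.lf 0)))) (.nd (.nd (.nd (.lf 0x588) (.lf 0x1657)) (.nd (.lf 0xe3) (.lf 0))) (.nd (.nd (.lf 0x5c2) (.lf 0x60f)) (.nd (.lf 0x1363) (.lf 0))))))) (.nd (.nd (.nd (.nd (.nd (.nd (.lf 0x97) (.lf 0xcc2)) (.nd (.lf 0xbdf) (.lf 0))) (.nd (.nd (.lf 0x69d)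 (.lf 0x10d9)) (.nd (.lf 0x1055) (.lf 0)))) (.nd (.nd (.nd (.lf 0xa8) (.lf 0x1565)) (.nd (.lf 0xe30) (.lf 0))) (.nd (.nd (.lf 0x957) (.lf 0x17b8)) (.nd (.lf 0x66b) (.lf 0))))) (.nd (.nd (.nd (.nd (.lf 0x226) (.lf 0x924)) (.nd (.lf 0xd10) (.lf 0))) (.nd (.nd (.lf 0x7f9) (.lf 0x173c)) (.nd (.lf 0xff3) (.lf 0)))) (.nd (.nd (.nd (.lf 0x52b) (.lf 0x1625)) (.nd (.lf 0x217) (.lf 0))) (.nd (.nd (.lf 0xaa1) (.lf 0x1760)) (.nd (.lf 0x8b8) (.lf 0)))))) (.nd (.nd (.nd (.nd (.nd (.lf 0x15e) (.lf 0xb4e)) (.nd (.lf 0x31d) (.lf 0))) (.nd (.nd (.lf 0x74e) (.lf 0x1719)) (.nd (.lf 0x327) (.lf 0)))) (.nd (.nd (.nd (.lf 0x46e) (.lf 0x1408)) (.nd (.lf 0xebd) (.lf 0))) (.nd (.nd (.lf 0x9ff) (.lf 0x1529)) (.nd (.lf 0x12c7) (.lf 0))))) (.nd (.nd (.nd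 (.nd (.lf 0x2eb) (.lf 0x11b3)) (.nd (.lf 0xd61) (.lf 0))) (.nd (.nd (.lf 0x8aa) (.lf 0x15f7)) (.nd (.lf 0x11d7) (.lf 0)))) (.nd (.nd (.nd (.lf 0x5e7) (.lf 0xe59)) (.nd (.lf 0xfd5) (.lf 0))) (.nd (.nd (.lf 0xb47) (.lf 0x1511)) (.nd (.lf 0x129a) (.lf 0))))))))
def tabA_nabbbbb : Tr := (.nd (.nd (.nd (.nd (.nd (.nd (.nd (.lf 0x64) (.lf 0x13e5)) (.nd (.lf 0xbb5) (.lf 0))) (.nd (.nd (.lf 0x670) (.lf 0xb2b)) (.nd (.lf 0x1030) (.lf 0)))) (.nd (.nd (.nd (.lf 0x378) (.lf 0x1571)) (.nd (.lf 0xe0f) (.lf 0))) (.nd (.nd (.lf 0x92d) (.lf 0x290)) (.nd (.lf 0x122d) (.lf 0))))) (.nd (.nd (.nd (.nd (.lf 0x1f5) (.lf 0x14c0)) (.nd (.lf 0x8dc) (.lf 0))) (.nd (.nd (.lf 0x7cf) (.lf 0x1f3)) (.nd (.lf 0x1134) (.lf 0)))) (.nd (.nd (.nd (.lf 0x4fb)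 (.lf 0x1016)) (.nd (.lf 0x8c7) (.lf 0))) (.nd (.nd (.lf 0xa75) (.lf 0x168d)) (.nd (.lf 0x57d) (.lf 0)))))) (.nd (.nd (.nd (.nd (.nd (.lf 0x12c) (.lf 0x1455)) (.nd (.lf 0x829) (.lf 0))) (.nd (.nd (.lf 0x723) (.lf 0x1208)) (.nd (.lf 0x10ba) (.lf 0)))) (.nd (.nd (.nd (.lf 0x43d) (.lf 0xc47)) (.nd (.lf 0xe99) (.lf 0))) (.nd (.nd (.lf 0x9d7) (.lf 0x653)) (.nd (.lf 0x12a7) (.lf 0))))) (.nd (.nd (.nd (.nd (.lf 0x2bb) (.lf 0x1450)) (.nd (.lf 0x920) (.lf 0))) (.nd (.nd (.lf 0x882) (.lf 0x13da)) (.nd (.lf 0x11b7) (.lf 0)))) (.nd (.nd (.nd (.lf 0x21a) (.lf 0x1670)) (.nd (.lf 0xfb2) (.lf 0))) (.nd (.nd (.lf 0xb21) (.lf 0x92c)) (.nd (.lf 0xd91) (.lf 0))))))) (.nd (.nd (.nd (.nd (.nd (.nd (.lf 0xc8) (.lf 0x141c)) (.nd (.lf 0x5e3) (.lf 0)))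 (.nd (.nd (.lf 0x6cc) (.lf 0x16e1)) (.nd (.lf 0xa6d) (.lf 0)))) (.nd (.nd (.nd (.lf 0x3d9) (.lf 0x103f)) (.nd (.lf 0xe55) (.lf 0))) (.nd (.nd (.lf 0x97e) (.lf 0x1739)) (.nd (.lf 0x126c) (.lf 0))))) (.nd (.nd (.nd (.nd (.lf 0x258) (.lf 0x14ee)) (.nd (.lf 0xd36) (.lf 0))) (.nd (.nd (.lf 0x828) (.lf 0x81b)) (.nd (.lf 0x1177) (.lf 0)))) (.nd (.nd (.nd (.lf 0x557) (.lf 0xb0d)) (.nd (.lf 0xa91) (.lf 0))) (.nd (.nd (.lf 0xacf) (.lf 0xc71)) (.nd (.lf 0x134d) (.lf 0)))))) (.nd (.nd (.nd (.nd (.nd (.lf 0x190) (.lf 0x2b1)) (.nd (.lf 0xc9d) (.lf 0))) (.nd (.nd (.lf 0x77c) (.lf 0x1724)) (.nd (.lf 0x10ff) (.lf 0)))) (.nd (.nd (.nd (.lf 0x49e) (.lf 0x1375)) (.nd (.lf 0xee4) (.lf 0))) (.nd (.nd (.lf 0x892) (.lf 0x11b0)) (.nd (.lf 0x720) (.lf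 0))))) (.nd (.nd (.nd (.nd (.lf 0x31a) (.lf 0x1546)) (.nd (.lf 0xc8c) (.lf 0))) (.nd (.nd (.lf 0x8d5) (.lf 0xe1b)) (.nd (.lf 0x11f4) (.lf 0)))) (.nd (.nd (.nd (.lf 0x617) (.lf 0x1693)) (.nd (.lf 0xff5) (.lf 0))) (.nd (.nd (.lf 0x85f) (.lf 0x15b4)) (.nd (.lf 0x13af) (.lf 0))))))))
def tabA_nbaaaaa : Tr := (.nd (.nd (.nd (.nd (.nd (.nd (.nd (.lf 0x3) (.lf 0x516)) (.nd (.lf 0xb70) (.lf 0x16f7))) (.nd (.nd (.lf 0x61c) (.lf 0x1696)) (.nd (.lf 0xff9) (.lf 0)))) (.nd (.nd (.nd (.lf 0x238) (.lf 0x154a)) (.nd (.lf 0x3aa) (.lf 0))) (.nd (.nd (.lf 0x8d9) (.lf 0x15b0)) (.nd (.lf 0x11f7) (.lf 0))))) (.nd (.nd (.nd (.nd (.lf 0x195) (.lf 0x148d)) (.nd (.lf 0xca0) (.lf 0))) (.nd (.nd (.lf 0x781) (.lf 0x13eb)) (.nd (.lf 0xf74) (.lf 0)))) (.nd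 (.nd (.nd (.lf 0x4a2) (.lf 0x83c)) (.nd (.lf 0x9d1) (.lf 0))) (.nd (.nd (.lf 0xa28) (.lf 0x164e)) (.nd (.lf 0xba3) (.lf 0)))))) (.nd (.nd (.nd (.nd (.nd (.lf 0xcd) (.lf 0x12fd)) (.nd (.lf 0xc0c) (.lf 0))) (.nd (.nd (.lf 0x6cf) (.lf 0x16e4)) (.nd (.lf 0x1078) (.lf 0)))) (.nd (.nd (.nd (.lf 0x3de) (.lf 0x739)) (.nd (.lf 0x51e) (.lf 0))) (.nd (.nd (.lf 0x983) (.lf 0x1572)) (.nd (.lf 0xdeb) (.lf 0))))) (.nd (.nd (.nd (.nd (.lf 0x25d) (.lf 0xda3)) (.nd (.lf 0xd39) (.lf 0))) (.nd (.nd (.lf 0x82e) (.lf 0x175a)) (.nd (.lf 0x117b) (.lf 0)))) (.nd (.nd (.nd (.lf 0x4c2) (.lf 0xae1)) (.nd (.lf 0x8c2) (.lf 0))) (.nd (.nd (.lf 0xad2) (.lf 0xee1)) (.nd (.lf 0xd4e) (.lf 0))))))) (.nd (.nd (.nd (.nd (.nd (.nd (.lf 0x69) (.lf 0x13e6)) (.nd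 (.lf 0xbba) (.lf 0))) (.nd (.nd (.lf 0x674) (.lf 0x16bc)) (.nd (.lf 0x1033) (.lf 0)))) (.nd (.nd (.nd (.lf 0x37e) (.lf 0x8d4)) (.nd (.lf 0xe12) (.lf 0))) (.nd (.nd (.lf 0x930) (.lf 0x178d)) (.nd (.lf 0x1230) (.lf 0))))) (.nd (.nd (.nd (.nd (.lf 0x1f9) (.lf 0x14c2)) (.nd (.lf 0xcec) (.lf 0))) (.nd (.nd (.lf 0x7d4) (.lf 0x13ec)) (.nd (.lf 0x1137) (.lf 0)))) (.nd (.nd (.nd (.lf 0x500) (.lf 0x12c0)) (.nd (.lf 0xf2b) (.lf 0))) (.nd (.nd (.lf 0xa7a) (.lf 0x1782)) (.nd (.lf 0x1018) (.lf 0)))))) (.nd (.nd (.nd (.nd (.nd (.lf 0x131) (.lf 0x382)) (.nd (.lf 0xc5b) (.lf 0))) (.nd (.nd (.lf 0x727) (.lf 0x7bb)) (.nd (.lf 0x10be) (.lf 0)))) (.nd (.nd (.nd (.lf 0x441) (.lf 0x1167)) (.nd (.lf 0xe9d) (.lf 0))) (.nd (.nd (.lf 0x68e) (.lf 0xd04))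 (.nd (.lf 0xed3) (.lf 0))))) (.nd (.nd (.nd (.nd (.lf 0x2be) (.lf 0x1517)) (.nd (.lf 0xd85) (.lf 0))) (.nd (.nd (.lf 0x885) (.lf 0xbee)) (.nd (.lf 0x11bb) (.lf 0)))) (.nd (.nd (.nd (.lf 0x5bd) (.lf 0x145d)) (.nd (.lf 0x8c1) (.lf 0))) (.nd (.nd (.lf 0x214) (.lf 0x1802)) (.nd (.lf 0x137e) (.lf 0))))))))
def tabA_nbaaaab : Tr := (.nd (.nd (.nd (.nd (.nd (.nd (.nd (.lf 0x37) (.lf 0x13ca)) (.nd (.lf 0x9df) (.lf 0))) (.nd (.nd (.lf 0x645) (.lf 0x1a4)) (.nd (.lf 0x1017) (.lf 0)))) (.nd (.nd (.nd (.lf 0x34d) (.lf 0x1560)) (.nd (.lf 0xde9) (.lf 0))) (.nd (.nd (.lf 0x907) (.lf 0x17a3)) (.nd (.lf 0x1212) (.lf 0))))) (.nd (.nd (.nd (.nd (.lf 0x1c7) (.lf 0x14a9)) (.nd (.lf 0xcc5) (.lf 0))) (.nd (.nd (.lf 0x36) (.lf 0x10d2)) (.nd (.lf 0xa65)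 (.lf 0)))) (.nd (.nd (.nd (.lf 0x4d0) (.lf 0xaa2)) (.nd (.lf 0xf0a) (.lf 0))) (.nd (.nd (.lf 0xa51) (.lf 0x65e)) (.nd (.lf 0x1305) (.lf 0)))))) (.nd (.nd (.nd (.nd (.nd (.lf 0x100) (.lf 0x143c)) (.nd (.lf 0xc34) (.lf 0))) (.nd (.nd (.lf 0x45a) (.lf 0x16f4)) (.nd (.lf 0x109c) (.lf 0)))) (.nd (.nd (.nd (.lf 0x40f) (.lf 0x15ad)) (.nd (.lf 0x5cd) (.lf 0))) (.nd (.nd (.lf 0x6a3) (.lf 0x17c6)) (.nd (.lf 0x6a1) (.lf 0))))) (.nd (.nd (.nd (.nd (.lf 0x28e) (.lf 0x1257)) (.nd (.lf 0xd5f) (.lf 0))) (.nd (.nd (.lf 0x85a) (.lf 0x15c5)) (.nd (.lf 0xf1) (.lf 0)))) (.nd (.nd (.nd (.lf 0x58d) (.lf 0x165a)) (.nd (.lf 0xd06) (.lf 0))) (.nd (.nd (.lf 0xafd) (.lf 0x17fd)) (.nd (.lf 0x1365) (.lf 0))))))) (.nd (.nd (.nd (.nd (.nd (.nd (.lf 0x9c)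 (.lf 0x1401)) (.nd (.lf 0xbe4) (.lf 0))) (.nd (.nd (.lf 0x6a2) (.lf 0x16cd)) (.nd (.lf 0x1059) (.lf 0)))) (.nd (.nd (.nd (.lf 0x3ae) (.lf 0x831)) (.nd (.lf 0xe33) (.lf 0))) (.nd (.nd (.lf 0x568) (.lf 0xedb)) (.nd (.lf 0x729) (.lf 0))))) (.nd (.nd (.nd (.nd (.lf 0x22b) (.lf 0xe36)) (.nd (.lf 0xd15) (.lf 0))) (.nd (.nd (.lf 0x7fe) (.lf 0x1750)) (.nd (.lf 0x8b5) (.lf 0)))) (.nd (.nd (.nd (.lf 0x530) (.lf 0x1628)) (.nd (.lf 0xf48) (.lf 0))) (.nd (.nd (.lf 0xaa6) (.lf 0x17f5)) (.nd (.lf 0x1339) (.lf 0)))))) (.nd (.nd (.nd (.nd (.nd (.lf 0x162) (.lf 0x1472)) (.nd (.lf 0x954) (.lf 0))) (.nd (.nd (.lf 0x751) (.lf 0x1403)) (.nd (.lf 0x10e2) (.lf 0)))) (.nd (.nd (.nd (.lf 0x473) (.lf 0x15d6)) (.nd (.lf 0xec2) (.lf 0))) (.nd (.nd (.lf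 0x962) (.lf 0x1498)) (.nd (.lf 0x12ca) (.lf 0))))) (.nd (.nd (.nd (.nd (.lf 0x6e) (.lf 0x1049)) (.nd (.lf 0xdaa) (.lf 0))) (.nd (.nd (.lf 0x8ad) (.lf 0xe3c)) (.nd (.lf 0x11da) (.lf 0)))) (.nd (.nd (.nd (.lf 0x5ec) (.lf 0x13e2)) (.nd (.lf 0xfd7) (.lf 0))) (.nd (.nd (.lf 0xa3b) (.lf 0x1306)) (.nd (.lf 0x1394) (.lf 0))))))))
def tabA_nbaaaba : Tr := (.nd (.nd (.nd (.nd (.nd (.nd (.nd (.lf 0x1d) (.lf 0xe81)) (.nd (.lf 0xaad) (.lf 0))) (.nd (.nd (.lf 0x632) (.lf 0x436)) (.nd (.lf 0x85b) (.lf 0)))) (.nd (.nd (.nd (.lf 0x334) (.lf 0x1554)) (.nd (.lf 0xcb1) (.lf 0))) (.nd (.nd (.lf 0x8f1) (.lf 0x15de)) (.nd (.lf 0x7e1) (.lf 0))))) (.nd (.nd (.nd (.nd (.lf 0x1ae) (.lf 0x249)) (.nd (.lf 0xcb4) (.lf 0))) (.nd (.nd (.lf 0x795) (.lf 0x15dd))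 (.nd (.lf 0x835) (.lf 0)))) (.nd (.nd (.nd (.lf 0x4b9) (.lf 0x1347)) (.nd (.lf 0x3e3) (.lf 0))) (.nd (.nd (.lf 0x7ce) (.lf 0x304)) (.nd (.lf 0x12f8) (.lf 0)))))) (.nd (.nd (.nd (.nd (.nd (.lf 0xe7) (.lf 0x142e)) (.nd (.lf 0xc24) (.lf 0))) (.nd (.nd (.lf 0x6e6) (.lf 0x16ec)) (.nd (.lf 0x1088) (.lf 0)))) (.nd (.nd (.nd (.lf 0x3f6) (.lf 0x159e)) (.nd (.lf 0x368) (.lf 0))) (.nd (.nd (.lf 0x998) (.lf 0x16e2)) (.nd (.lf 0x11e5) (.lf 0))))) (.nd (.nd (.nd (.nd (.lf 0x274) (.lf 0x11d6)) (.nd (.lf 0xb27) (.lf 0))) (.nd (.nd (.lf 0x844) (.lf 0x1516)) (.nd (.lf 0x118a) (.lf 0)))) (.nd (.nd (.nd (.lf 0x574) (.lf 0x164c)) (.nd (.lf 0xf83) (.lf 0))) (.nd (.nd (.lf 0xae8) (.lf 0x169f)) (.nd (.lf 0x135a) (.lf 0))))))) (.nd (.nd (.nd (.nd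 (.nd (.nd (.lf 0x81) (.lf 0x13f5)) (.nd (.lf 0xbd1) (.lf 0))) (.nd (.nd (.lf 0x68d) (.lf 0x16c7)) (.nd (.lf 0x1046) (.lf 0)))) (.nd (.nd (.nd (.lf 0x396) (.lf 0x1204)) (.nd (.lf 0xe23) (.lf 0))) (.nd (.nd (.lf 0x945) (.lf 0x760)) (.nd (.lf 0xbf7) (.lf 0))))) (.nd (.nd (.nd (.nd (.lf 0x211) (.lf 0x10e0)) (.nd (.lf 0x130) (.lf 0))) (.nd (.nd (.lf 0x7ec) (.lf 0x16fc)) (.nd (.lf 0xb58) (.lf 0)))) (.nd (.nd (.nd (.lf 0x518) (.lf 0x91c)) (.nd (.lf 0xf3a) (.lf 0))) (.nd (.nd (.lf 0xa90) (.lf 0x1426)) (.nd (.lf 0x132c) (.lf 0)))))) (.nd (.nd (.nd (.nd (.nd (.lf 0x149) (.lf 0x1463)) (.nd (.lf 0xc6b) (.lf 0))) (.nd (.nd (.lf 0x73c) (.lf 0x15b9)) (.nd (.lf 0x10d1) (.lf 0)))) (.nd (.nd (.nd (.lf 0x459) (.lf 0x1324)) (.nd (.lf 0xa29) (.lf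 0))) (.nd (.nd (.lf 0x9ee) (.lf 0x17d7)) (.nd (.lf 0x12bb) (.lf 0))))) (.nd (.nd (.nd (.nd (.lf 0x2d7) (.lf 0x149a)) (.nd (.lf 0xd98) (.lf 0))) (.nd (.nd (.lf 0x89a) (.lf 0x177d)) (.nd (.lf 0x11cb) (.lf 0)))) (.nd (.nd (.nd (.lf 0x5d2) (.lf 0x1679)) (.nd (.lf 0xfc6) (.lf 0))) (.nd (.nd (.lf 0xb38) (.lf 0x10a7)) (.nd (.lf 0x1387) (.lf 0))))))))
def tabA_nbaaabb : Tr := (.nd (.nd (.nd (.nd (.nd (.nd (.nd (.lf 0x51) (.lf 0x13db)) (.nd (.lf 0xba6) (.lf 0))) (.nd (.nd (.lf 0x65c) (.lf 0xbe3)) (.nd (.lf 0x1026) (.lf 0)))) (.nd (.nd (.nd (.lf 0x366) (.lf 0xd1d)) (.nd (.lf 0xdfd) (.lf 0))) (.nd (.nd (.lf 0x262) (.lf 0x17a8)) (.nd (.lf 0xf5b) (.lf 0))))) (.nd (.nd (.nd (.nd (.lf 0x1e0) (.lf 0x1334)) (.nd (.lf 0x9e8) (.lf 0))) (.nd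 (.nd (.lf 0x6d6) (.lf 0x114d)) (.nd (.lf 0xf82) (.lf 0)))) (.nd (.nd (.nd (.lf 0x4e9) (.lf 0x9c2)) (.nd (.lf 0xf1b) (.lf 0))) (.nd (.nd (.lf 0xa64) (.lf 0x17bf)) (.nd (.lf 0x1313) (.lf 0)))))) (.nd (.nd (.nd (.nd (.nd (.lf 0x117) (.lf 0x144b)) (.nd (.lf 0xc46) (.lf 0))) (.nd (.nd (.lf 0x710) (.lf 0x1700)) (.nd (.lf 0xc4) (.lf 0)))) (.nd (.nd (.nd (.lf 0x428) (.lf 0x1050)) (.nd (.lf 0xe8c) (.lf 0))) (.nd (.nd (.lf 0x9c4) (.lf 0x179d)) (.nd (.lf 0x129b) (.lf 0))))) (.nd (.nd (.nd (.nd (.lf 0x2a8) (.lf 0xb9d)) (.nd (.lf 0xd72) (.lf 0))) (.nd (.nd (.lf 0x86f) (.lf 0x1770)) (.nd (.lf 0xa8e) (.lf 0)))) (.nd (.nd (.nd (.lf 0x5a6) (.lf 0x1239)) (.nd (.lf 0x7b0) (.lf 0))) (.nd (.nd (.lf 0xb12) (.lf 0x12fe)) (.nd (.lf 0x136f) (.lf 0)))))))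 (.nd (.nd (.nd (.nd (.nd (.nd (.lf 0xb4) (.lf 0x604)) (.nd (.lf 0x4f6) (.lf 0))) (.nd (.nd (.lf 0x6b9) (.lf 0x16d9)) (.nd (.lf 0x529) (.lf 0)))) (.nd (.nd (.nd (.lf 0x3c7) (.lf 0x158c)) (.nd (.lf 0xe44) (.lf 0))) (.nd (.nd (.lf 0x96d) (.lf 0x8f3)) (.nd (.lf 0x1262) (.lf 0))))) (.nd (.nd (.nd (.nd (.lf 0x243) (.lf 0x1303)) (.nd (.lf 0xd28) (.lf 0))) (.nd (.nd (.lf 0x816) (.lf 0x1752)) (.nd (.lf 0x1145) (.lf 0)))) (.nd (.nd (.nd (.lf 0x546) (.lf 0x1636)) (.nd (.lf 0xdbd) (.lf 0))) (.nd (.nd (.lf 0xabc) (.lf 0x175d)) (.nd (.lf 0x1345) (.lf 0)))))) (.nd (.nd (.nd (.nd (.nd (.lf 0x17c) (.lf 0x118)) (.nd (.lf 0xc8f) (.lf 0))) (.nd (.nd (.lf 0x769) (.lf 0x13be)) (.nd (.lf 0x10f0) (.lf 0)))) (.nd (.nd (.nd (.lf 0x48b) (.lf 0x12d5))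 (.nd (.lf 0xed8) (.lf 0))) (.nd (.nd (.lf 0xa17) (.lf 0x17de)) (.nd (.lf 0x111b) (.lf 0))))) (.nd (.nd (.nd (.nd (.lf 0x307) (.lf 0x1539)) (.nd (.lf 0xdbb) (.lf 0))) (.nd (.nd (.lf 0x572) (.lf 0x178a)) (.nd (.lf 0xdfe) (.lf 0)))) (.nd (.nd (.nd (.lf 0x603) (.lf 0x1587)) (.nd (.lf 0xfe8) (.lf 0))) (.nd (.nd (.lf 0xb61) (.lf 0x180a)) (.nd (.lf 0xd9f) (.lf 0))))))))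
def tabA_nbaabaa : Tr := (.nd (.nd (.nd (.nd (.nd (.nd (.nd (.lf 0x10) (.lf 0x13b7)) (.nd (.lf 0xaba) (.lf 0x17fc))) (.nd (.nd (.lf 0x628) (.lf 0x742)) (.nd (.lf 0xbc4) (.lf 0)))) (.nd (.nd (.nd (.lf 0x168) (.lf 0x1471)) (.nd (.lf 0x99e) (.lf 0))) (.nd (.nd (.lf 0x8e6) (.lf 0xcba)) (.nd (.lf 0x7a9) (.lf 0))))) (.nd (.nd (.nd (.nd (.lf 0x1a2) (.lf 0x1494)) (.nd (.lf 0xca8) (.lf 0))) (.nd (.nd (.lf 0x789) (.lf 0x170e)) (.nd (.lf 0xf39) (.lf 0)))) (.nd (.nd (.nd (.lf 0x4ad) (.lf 0x8c5)) (.nd (.lf 0xef1) (.lf 0))) (.nd (.nd (.lf 0x736) (.lf 0x17e6)) (.nd (.lf 0x5bf) (.lf 0)))))) (.nd (.nd (.nd (.nd (.nd (.lf 0xda) (.lf 0x1428)) (.nd (.lf 0xc17) (.lf 0))) (.nd (.nd (.lf 0x6da) (.lf 0x10b8)) (.nd (.lf 0x107f) (.lf 0)))) (.nd (.nd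 (.nd (.lf 0x3ea) (.lf 0xc4a)) (.nd (.lf 0xd16) (.lf 0))) (.nd (.nd (.lf 0x98f) (.lf 0x17c5)) (.nd (.lf 0x1278) (.lf 0))))) (.nd (.nd (.nd (.nd (.lf 0x269) (.lf 0xe34)) (.nd (.lf 0xd43) (.lf 0))) (.nd (.nd (.lf 0x839) (.lf 0x1761)) (.nd (.lf 0x115c) (.lf 0)))) (.nd (.nd (.nd (.lf 0x567) (.lf 0x156a)) (.nd (.lf 0xf7b) (.lf 0))) (.nd (.nd (.lf 0xadd) (.lf 0x76e)) (.nd (.lf 0x1355) (.lf 0))))))) (.nd (.nd (.nd (.nd (.nd (.nd (.lf 0x74) (.lf 0x13ee)) (.nd (.lf 0xbc3) (.lf 0))) (.nd (.nd (.lf 0x67f) (.lf 0x16c2)) (.nd (.lf 0x103c) (.lf 0)))) (.nd (.nd (.nd (.lf 0x38a) (.lf 0x1576)) (.nd (.lf 0xe1a) (.lf 0))) (.nd (.nd (.lf 0x93b) (.lf 0x1778)) (.nd (.lf 0x1238) (.lf 0))))) (.nd (.nd (.nd (.nd (.lf 0x205) (.lf 0x1222)) (.nd (.lf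 0xcf7) (.lf 0))) (.nd (.nd (.lf 0x7e0) (.lf 0x5eb)) (.nd (.lf 0x5b8) (.lf 0)))) (.nd (.nd (.nd (.lf 0x50d) (.lf 0x1535)) (.nd (.lf 0xf33) (.lf 0))) (.nd (.nd (.lf 0xa85) (.lf 0x672)) (.nd (.lf 0x1326) (.lf 0)))))) (.nd (.nd (.nd (.nd (.nd (.lf 0x13e) (.lf 0x3ce)) (.nd (.lf 0xc63) (.lf 0))) (.nd (.nd (.lf 0x37d) (.lf 0x170c)) (.nd (.lf 0x10c7) (.lf 0)))) (.nd (.nd (.nd (.lf 0x44d) (.lf 0x1291)) (.nd (.lf 0xea9) (.lf 0))) (.nd (.nd (.lf 0x9e3) (.lf 0x11ba)) (.nd (.lf 0x94b) (.lf 0))))) (.nd (.nd (.nd (.nd (.lf 0x2ca) (.lf 0x151f)) (.nd (.lf 0xd8f) (.lf 0))) (.nd (.nd (.lf 0x257) (.lf 0x162c)) (.nd (.lf 0x11c2) (.lf 0)))) (.nd (.nd (.nd (.lf 0x5c7) (.lf 0x1674)) (.nd (.lf 0x314) (.lf 0))) (.nd (.nd (.lf 0xb30) (.lf 0xace)) (.nd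 (.lf 0x10d5) (.lf 0))))))))
def tabA_nbaabab : Tr := (.nd (.nd (.nd (.nd (.nd (.nd (.nd (.lf 0x44) (.lf 0xff6)) (.nd (.lf 0xa9e) (.lf 0))) (.nd (.nd (.lf 0x650) (.lf 0x16ad)) (.nd (.lf 0x1021) (.lf 0)))) (.nd (.nd (.nd (.lf 0x359) (.lf 0x12ce)) (.nd (.lf 0xa84) (.lf 0))) (.nd (.nd (.lf 0x912) (.lf 0x14f6)) (.nd (.lf 0x116c) (.lf 0))))) (.nd (.nd (.nd (.nd (.lf 0x1d4) (.lf 0xde6)) (.nd (.lf 0xccf) (.lf 0))) (.nd (.nd (.lf 0x7b3) (.lf 0x1593)) (.nd (.lf 0x1124) (.lf 0)))) (.nd (.nd (.nd (.lf 0x4dd) (.lf 0x62a)) (.nd (.lf 0xf13) (.lf 0))) (.nd (.nd (.lf 0xa5c) (.lf 0x17ed)) (.nd (.lf 0x5b2) (.lf 0)))))) (.nd (.nd (.nd (.nd (.nd (.lf 0x4) (.lf 0x1444)) (.nd (.lf 0xc3e) (.lf 0))) (.nd (.nd (.lf 0x705) (.lf 0x16f9)) (.nd (.lf 0x10a5)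 (.lf 0)))) (.nd (.nd (.nd (.lf 0x41c) (.lf 0xb60)) (.nd (.lf 0xe83) (.lf 0))) (.nd (.nd (.lf 0x9b9) (.lf 0xa8a)) (.nd (.lf 0x1290) (.lf 0))))) (.nd (.nd (.nd (.nd (.lf 0x29b) (.lf 0x1508)) (.nd (.lf 0x3e6) (.lf 0))) (.nd (.nd (.lf 0x865) (.lf 0x1056)) (.nd (.lf 0x11a8) (.lf 0)))) (.nd (.nd (.nd (.lf 0x59a) (.lf 0xe93)) (.nd (.lf 0xf9d) (.lf 0))) (.nd (.nd (.lf 0xb07) (.lf 0x5b5)) (.nd (.lf 0x1099) (.lf 0))))))) (.nd (.nd (.nd (.nd (.nd (.nd (.lf 0xa7) (.lf 0x140c)) (.nd (.lf 0xbef) (.lf 0))) (.nd (.nd (.lf 0x6ae) (.lf 0x163f)) (.nd (.lf 0x990) (.lf 0)))) (.nd (.nd (.nd (.lf 0x3bb) (.lf 0x1588)) (.nd (.lf 0xca9) (.lf 0))) (.nd (.nd (.lf 0x963) (.lf 0x7f1)) (.nd (.lf 0x1256) (.lf 0))))) (.nd (.nd (.nd (.nd (.lf 0x237) (.lf 0x9a6))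 (.nd (.lf 0xbd3) (.lf 0))) (.nd (.nd (.lf 0x5f0) (.lf 0x1695)) (.nd (.lf 0xba) (.lf 0)))) (.nd (.nd (.nd (.lf 0x53c) (.lf 0x1630)) (.nd (.lf 0xf53) (.lf 0))) (.nd (.nd (.lf 0xab0) (.lf 0x33b)) (.nd (.lf 0x133e) (.lf 0)))))) (.nd (.nd (.nd (.nd (.nd (.lf 0x16f) (.lf 0x1478)) (.nd (.lf 0xbf3) (.lf 0))) (.nd (.nd (.lf 0x75c) (.lf 0x1d2)) (.nd (.lf 0x363) (.lf 0)))) (.nd (.nd (.nd (.lf 0x47f) (.lf 0x152a)) (.nd (.lf 0x7fa) (.lf 0))) (.nd (.nd (.lf 0xa0e) (.lf 0x17dc)) (.nd (.lf 0xde) (.lf 0))))) (.nd (.nd (.nd (.nd (.lf 0x2fb) (.lf 0x14cf)) (.nd (.lf 0xdb2) (.lf 0))) (.nd (.nd (.lf 0x8b7) (.lf 0x1787)) (.nd (.lf 0x11e1) (.lf 0)))) (.nd (.nd (.nd (.lf 0x5f7) (.lf 0xf02)) (.nd (.lf 0x431) (.lf 0))) (.nd (.nd (.lf 0xb57) (.lf 0x759))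 (.nd (.lf 0x139c) (.lf 0))))))))
def tabA_nbaabba : Tr := (.nd (.nd (.nd (.nd (.nd (.nd (.nd (.lf 0x2a) (.lf 0x13c5)) (.nd (.lf 0xb8a) (.lf 0))) (.nd (.nd (.lf 0x63f) (.lf 0x2c7)) (.nd (.lf 0x100f) (.lf 0)))) (.nd (.nd (.nd (.lf 0x341) (.lf 0x9a8)) (.nd (.lf 0xaa) (.lf 0))) (.nd (.nd (.lf 0x8fb) (.lf 0x4f3)) (.nd (.lf 0x120a) (.lf 0))))) (.nd (.nd (.nd (.nd (.lf 0x1ba) (.lf 0x137b)) (.nd (.lf 0x372) (.lf 0))) (.nd (.nd (.lf 0x7a1) (.lf 0x172f)) (.nd (.lf 0x7b2) (.lf 0)))) (.nd (.nd (.nd (.lf 0x4c4) (.lf 0x15f5)) (.nd (.lf 0xf01) (.lf 0))) (.nd (.nd (.lf 0xa48) (.lf 0x514)) (.nd (.lf 0x12ff) (.lf 0)))))) (.nd (.nd (.nd (.nd (.nd (.lf 0xf4) (.lf 0x1436)) (.nd (.lf 0xc2d) (.lf 0))) (.nd (.nd (.lf 0x637) (.lf 0x3a1)) (.nd (.lf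 0x1092) (.lf 0)))) (.nd (.nd (.nd (.lf 0x403) (.lf 0x172)) (.nd (.lf 0xe72) (.lf 0))) (.nd (.nd (.lf 0x9a4) (.lf 0x1731)) (.nd (.lf 0x884) (.lf 0))))) (.nd (.nd (.nd (.nd (.lf 0x281) (.lf 0x22c)) (.nd (.lf 0xd53) (.lf 0))) (.nd (.nd (.lf 0x850) (.lf 0x3c8)) (.nd (.lf 0x1194) (.lf 0)))) (.nd (.nd (.nd (.lf 0x580) (.lf 0x492)) (.nd (.lf 0x3a6) (.lf 0))) (.nd (.nd (.lf 0xaf2) (.lf 0x17fa)) (.nd (.lf 0x1360) (.lf 0))))))) (.nd (.nd (.nd (.nd (.nd (.nd (.lf 0x8e) (.lf 0x13fd)) (.nd (.lf 0xbda) (.lf 0))) (.nd (.nd (.lf 0x695) (.lf 0xdd4)) (.nd (.lf 0xef6) (.lf 0)))) (.nd (.nd (.nd (.lf 0x3a2) (.lf 0x157c)) (.nd (.lf 0xe29) (.lf 0))) (.nd (.nd (.lf 0x875) (.lf 0x17b6)) (.nd (.lf 0x124a) (.lf 0))))) (.nd (.nd (.nd (.nd (.lf 0x21e)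 (.lf 0x125)) (.nd (.lf 0x969) (.lf 0))) (.nd (.nd (.lf 0x7f3) (.lf 0xc99)) (.nd (.lf 0x1153) (.lf 0)))) (.nd (.nd (.nd (.lf 0x524) (.lf 0x161e)) (.nd (.lf 0xf40) (.lf 0))) (.nd (.nd (.lf 0xa9c) (.lf 0x1748)) (.nd (.lf 0x1332) (.lf 0)))))) (.nd (.nd (.nd (.nd (.nd (.lf 0x156) (.lf 0x137a)) (.nd (.lf 0xaca) (.lf 0))) (.nd (.nd (.lf 0x746) (.lf 0x1715)) (.nd (.lf 0x5cb) (.lf 0)))) (.nd (.nd (.nd (.lf 0x466) (.lf 0x15d1)) (.nd (.lf 0xa0c) (.lf 0))) (.nd (.nd (.lf 0x9f9) (.lf 0x17da)) (.nd (.lf 0x12c1) (.lf 0))))) (.nd (.nd (.nd (.nd (.lf 0x2e4) (.lf 0x1528)) (.nd (.lf 0x968) (.lf 0))) (.nd (.nd (.lf 0x8a3) (.lf 0x1683)) (.nd (.lf 0x11d2) (.lf 0)))) (.nd (.nd (.nd (.lf 0x5df) (.lf 0x1680)) (.nd (.lf 0xfcf) (.lf 0))) (.nd (.nd (.lf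 0x82) (.lf 0x1806)) (.nd (.lf 0x138d) (.lf 0))))))))
def tabA_nbaabbb : Tr := (.nd (.nd (.nd (.nd (.nd (.nd (.nd (.lf 0x5c) (.lf 0x13e0)) (.nd (.lf 0xb1b) (.lf 0))) (.nd (.nd (.lf 0x669) (.lf 0x15f6)) (.nd (.lf 0x102d) (.lf 0)))) (.nd (.nd (.nd (.lf 0x371) (.lf 0x13f3)) (.nd (.lf 0xe07) (.lf 0))) (.nd (.nd (.lf 0x925) (.lf 0x642)) (.nd (.lf 0xec1) (.lf 0))))) (.nd (.nd (.nd (.nd (.lf 0x1ed) (.lf 0x1310)) (.nd (.lf 0xce3) (.lf 0))) (.nd (.nd (.lf 0x7c6) (.lf 0x6b0)) (.nd (.lf 0x1130) (.lf 0)))) (.nd (.nd (.nd (.lf 0x4f5) (.lf 0x1283)) (.nd (.lf 0xf23) (.lf 0))) (.nd (.nd (.lf 0x6f0) (.lf 0x627)) (.nd (.lf 0xcc9) (.lf 0)))))) (.nd (.nd (.nd (.nd (.nd (.lf 0x124) (.lf 0x1453)) (.nd (.lf 0xc51) (.lf 0))) (.nd (.nd (.lf 0x71c)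 (.lf 0xac6)) (.nd (.lf 0xf90) (.lf 0)))) (.nd (.nd (.nd (.lf 0x435) (.lf 0x8ae)) (.nd (.lf 0xe94) (.lf 0))) (.nd (.nd (.lf 0x9cf) (.lf 0xdf6)) (.nd (.lf 0x12a1) (.lf 0))))) (.nd (.nd (.nd (.nd (.lf 0x2b3) (.lf 0x1513)) (.nd (.lf 0xd7d) (.lf 0))) (.nd (.nd (.lf 0x87b) (.lf 0x119f)) (.nd (.lf 0x750) (.lf 0)))) (.nd (.nd (.nd (.lf 0x5b1) (.lf 0xc74)) (.nd (.lf 0xfaf) (.lf 0))) (.nd (.nd (.lf 0xb1c) (.lf 0x1612)) (.nd (.lf 0x1376) (.lf 0))))))) (.nd (.nd (.nd (.nd (.nd (.nd (.lf 0xc0) (.lf 0x1415)) (.nd (.lf 0xc03) (.lf 0))) (.nd (.nd (.lf 0x6c5) (.lf 0x16dc)) (.nd (.lf 0x1070) (.lf 0)))) (.nd (.nd (.nd (.lf 0x3d3) (.lf 0x104d)) (.nd (.lf 0xe4f) (.lf 0))) (.nd (.nd (.lf 0x978) (.lf 0xe04)) (.nd (.lf 0x1268) (.lf 0))))) (.nd (.nd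 (.nd (.nd (.lf 0x250) (.lf 0x14eb)) (.nd (.lf 0x338) (.lf 0))) (.nd (.nd (.lf 0x821) (.lf 0x1677)) (.nd (.lf 0x1170) (.lf 0)))) (.nd (.nd (.nd (.lf 0x550) (.lf 0x1245)) (.nd (.lf 0xf65) (.lf 0))) (.nd (.nd (.lf 0xac8) (.lf 0x1001)) (.nd (.lf 0x1349) (.lf 0)))))) (.nd (.nd (.nd (.nd (.nd (.lf 0x7) (.lf 0xc22)) (.nd (.lf 0x511) (.lf 0))) (.nd (.nd (.lf 0x775) (.lf 0x101d)) (.nd (.lf 0x10f8) (.lf 0)))) (.nd (.nd (.nd (.lf 0x496) (.lf 0x353)) (.nd (.lf 0x41e) (.lf 0))) (.nd (.nd (.lf 0xa20) (.lf 0x11ad)) (.nd (.lf 0xb2f) (.lf 0))))) (.nd (.nd (.nd (.nd (.lf 0x313) (.lf 0x1542)) (.nd (.lf 0xc7b) (.lf 0))) (.nd (.nd (.lf 0x756) (.lf 0x13d7)) (.nd (.lf 0x11ed) (.lf 0)))) (.nd (.nd (.nd (.lf 0x610) (.lf 0x1331)) (.nd (.lf 0xfef) (.lf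 0))) (.nd (.nd (.lf 0xb68) (.lf 0x16c9)) (.nd (.lf 0x13ab) (.lf 0))))))))
def tabA_nbabaaa : Tr := (.nd (.nd (.nd (.nd (.nd (.nd (.nd (.lf 0x9) (.lf 0x1ee)) (.nd (.lf 0xb76) (.lf 0x17f7))) (.nd (.nd (.lf 0x623) (.lf 0x168a)) (.nd (.lf 0xed7) (.lf 0)))) (.nd (.nd (.nd (.lf 0x322) (.lf 0xe9a)) (.nd (.lf 0x409) (.lf 0))) (.nd (.nd (.lf 0x5d4) (.lf 0x622)) (.nd (.lf 0x6db) (.lf 0))))) (.nd (.nd (.nd (.nd (.lf 0x19b) (.lf 0x6ab)) (.nd (.lf 0x80d) (.lf 0))) (.nd (.nd (.lf 0x13d) (.lf 0x8eb)) (.nd (.lf 0x1106) (.lf 0)))) (.nd (.nd (.nd (.lf 0x4a7) (.lf 0x647)) (.nd (.lf 0xc52) (.lf 0))) (.nd (.nd (.lf 0x1e9) (.lf 0x176e)) (.nd (.lf 0x12ec) (.lf 0)))))) (.nd (.nd (.nd (.nd (.nd (.lf 0xd3) (.lf 0x1424)) (.nd (.lf 0x63) (.lf 0))) (.nd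 (.nd (.lf 0x355) (.lf 0x1445)) (.nd (.lf 0x107c) (.lf 0)))) (.nd (.nd (.nd (.lf 0x3e4) (.lf 0x1596)) (.nd (.lf 0xdac) (.lf 0))) (.nd (.nd (.lf 0x988) (.lf 0x17c3)) (.nd (.lf 0x1272) (.lf 0))))) (.nd (.nd (.nd (.nd (.lf 0x263) (.lf 0x14f1)) (.nd (.lf 0xd3d) (.lf 0))) (.nd (.nd (.lf 0x834) (.lf 0x175f)) (.nd (.lf 0x117f) (.lf 0)))) (.nd (.nd (.nd (.lf 0x561) (.lf 0x1641)) (.nd (.lf 0xf75) (.lf 0))) (.nd (.nd (.lf 0xad8) (.lf 0x12e9)) (.nd (.lf 0x1353) (.lf 0))))))) (.nd (.nd (.nd (.nd (.nd (.nd (.lf 0x4b) (.lf 0xea1)) (.nd (.lf 0xbaf) (.lf 0))) (.nd (.nd (.lf 0x3f2) (.lf 0x16c1)) (.nd (.lf 0x1037) (.lf 0)))) (.nd (.nd (.nd (.lf 0x384) (.lf 0x1575)) (.nd (.lf 0xe16) (.lf 0))) (.nd (.nd (.lf 0x937) (.lf 0x16d2)) (.nd (.lf 0x1235)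 (.lf 0))))) (.nd (.nd (.nd (.nd (.lf 0x200) (.lf 0x14c5)) (.nd (.lf 0xcf0) (.lf 0))) (.nd (.nd (.lf 0x7d9) (.lf 0xa4c)) (.nd (.lf 0x113e) (.lf 0)))) (.nd (.nd (.nd (.lf 0x507) (.lf 0x5e0)) (.nd (.lf 0xf2e) (.lf 0))) (.nd (.nd (.lf 0xa7f) (.lf 0x17ef)) (.nd (.lf 0x1321) (.lf 0)))))) (.nd (.nd (.nd (.nd (.nd (.lf 0x137) (.lf 0x1459)) (.nd (.lf 0xc5f) (.lf 0))) (.nd (.nd (.lf 0x72c) (.lf 0xbcb)) (.nd (.lf 0x10c1) (.lf 0)))) (.nd (.nd (.nd (.lf 0x447) (.lf 0x922)) (.nd (.lf 0xea3) (.lf 0))) (.nd (.nd (.lf 0x9dd) (.lf 0x1259)) (.nd (.lf 0x1029) (.lf 0))))) (.nd (.nd (.nd (.nd (.lf 0x2c5) (.lf 0x133)) (.nd (.lf 0xd89) (.lf 0))) (.nd (.nd (.lf 0x88b) (.lf 0x15bc)) (.nd (.lf 0x11be) (.lf 0)))) (.nd (.nd (.nd (.lf 0x5c1) (.lf 0x13c4))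 (.nd (.lf 0xa56) (.lf 0))) (.nd (.nd (.lf 0xb2a) (.lf 0x11bf)) (.nd (.lf 0x1381) (.lf 0))))))))
def tabA_nbabaab : Tr := (.nd (.nd (.nd (.nd (.nd (.nd (.nd (.lf 0x3d) (.lf 0x13cf)) (.nd (.lf 0xb99) (.lf 0))) (.nd (.nd (.lf 0x64a) (.lf 0x16aa)) (.nd (.lf 0x101e) (.lf 0)))) (.nd (.nd (.nd (.lf 0x352) (.lf 0x1563)) (.nd (.lf 0xdef) (.lf 0))) (.nd (.nd (.lf 0x90c) (.lf 0x1592)) (.nd (.lf 0xdf2) (.lf 0))))) (.nd (.nd (.nd (.nd (.lf 0x1ce) (.lf 0x929)) (.nd (.lf 0x70f) (.lf 0))) (.nd (.nd (.lf 0x7ae) (.lf 0x1413)) (.nd (.lf 0xa3e) (.lf 0)))) (.nd (.nd (.nd (.lf 0x4d8) (.lf 0x15fb)) (.nd (.lf 0xf0f) (.lf 0))) (.nd (.nd (.lf 0x292) (.lf 0x1735)) (.nd (.lf 0xb3a) (.lf 0)))))) (.nd (.nd (.nd (.nd (.nd (.lf 0x107) (.lf 0x1308)) (.nd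 (.lf 0xc3a) (.lf 0))) (.nd (.nd (.lf 0x701) (.lf 0x312)) (.nd (.lf 0x10a1) (.lf 0)))) (.nd (.nd (.nd (.lf 0x415) (.lf 0x158)) (.nd (.lf 0xe7a) (.lf 0))) (.nd (.nd (.lf 0x9b3) (.lf 0x17cc)) (.nd (.lf 0x6a6) (.lf 0))))) (.nd (.nd (.nd (.nd (.lf 0x294) (.lf 0x1505)) (.nd (.lf 0xd65) (.lf 0))) (.nd (.nd (.lf 0x860) (.lf 0x810)) (.nd (.lf 0xafe) (.lf 0)))) (.nd (.nd (.nd (.lf 0x593) (.lf 0x165e)) (.nd (.lf 0xac9) (.lf 0))) (.nd (.nd (.lf 0x1de) (.lf 0xf41)) (.nd (.lf 0x455) (.lf 0))))))) (.nd (.nd (.nd (.nd (.nd (.nd (.lf 0xa1) (.lf 0x1407)) (.nd (.lf 0xbe9) (.lf 0))) (.nd (.nd (.lf 0x6a8) (.lf 0x16d0)) (.nd (.lf 0x105d) (.lf 0)))) (.nd (.nd (.nd (.lf 0x3b4) (.lf 0x1583)) (.nd (.lf 0xe38) (.lf 0))) (.nd (.nd (.lf 0x95e) (.lf 0x563))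 (.nd (.lf 0x1253) (.lf 0))))) (.nd (.nd (.nd (.nd (.lf 0x232) (.lf 0x14dd)) (.nd (.lf 0xd19) (.lf 0))) (.nd (.nd (.lf 0x805) (.lf 0x1744)) (.nd (.lf 0x115d) (.lf 0)))) (.nd (.nd (.nd (.lf 0x536) (.lf 0x162b)) (.nd (.lf 0xf4d) (.lf 0))) (.nd (.nd (.lf 0xaac) (.lf 0xa47)) (.nd (.lf 0x133a) (.lf 0)))))) (.nd (.nd (.nd (.nd (.nd (.lf 0x169) (.lf 0x1475)) (.nd (.lf 0xc7f) (.lf 0))) (.nd (.nd (.lf 0x757) (.lf 0x724)) (.nd (.lf 0x8e5) (.lf 0)))) (.nd (.nd (.nd (.lf 0x478) (.lf 0x1584)) (.nd (.lf 0xec7) (.lf 0))) (.nd (.nd (.lf 0xa08) (.lf 0x54a)) (.nd (.lf 0x12cf) (.lf 0))))) (.nd (.nd (.nd (.nd (.lf 0x2f4) (.lf 0xcf1)) (.nd (.lf 0xdad) (.lf 0))) (.nd (.nd (.lf 0x8b3) (.lf 0x16b1)) (.nd (.lf 0x11dc) (.lf 0)))) (.nd (.nd (.nd (.lf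 0x5f1) (.lf 0xad9)) (.nd (.lf 0x694) (.lf 0))) (.nd (.nd (.lf 0xb50) (.lf 0x17b1)) (.nd (.lf 0x1398) (.lf 0))))))))
def tabA_nbababa : Tr := (.nd (.nd (.nd (.nd (.nd (.nd (.nd (.lf 0x23) (.lf 0x13c2)) (.nd (.lf 0xb86) (.lf 0))) (.nd (.nd (.lf 0x638) (.lf 0xbbf)) (.nd (.lf 0x100a) (.lf 0)))) (.nd (.nd (.nd (.lf 0x33a) (.lf 0x1031)) (.nd (.lf 0x3ed) (.lf 0))) (.nd (.nd (.lf 0x8f7) (.lf 0x15dc)) (.nd (.lf 0x1206) (.lf 0))))) (.nd (.nd (.nd (.nd (.lf 0x1b4) (.lf 0x149e)) (.nd (.lf 0xcb9) (.lf 0))) (.nd (.nd (.lf 0x79b) (.lf 0x30b)) (.nd (.lf 0x1114) (.lf 0)))) (.nd (.nd (.nd (.lf 0x4be) (.lf 0x1325)) (.nd (.lf 0xefc) (.lf 0))) (.nd (.nd (.lf 0xa42) (.lf 0x661)) (.nd (.lf 0x1058) (.lf 0)))))) (.nd (.nd (.nd (.nd (.nd (.lf 0xed)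 (.lf 0xd14)) (.nd (.lf 0xc29) (.lf 0))) (.nd (.nd (.lf 0x6ea) (.lf 0x457)) (.nd (.lf 0x108d) (.lf 0)))) (.nd (.nd (.nd (.lf 0x3fd) (.lf 0x15a2)) (.nd (.lf 0xe6c) (.lf 0))) (.nd (.nd (.lf 0x99d) (.lf 0x17c8)) (.nd (.lf 0x127f) (.lf 0))))) (.nd (.nd (.nd (.nd (.lf 0x27a) (.lf 0xa59)) (.nd (.lf 0xd50) (.lf 0))) (.nd (.nd (.lf 0x84a) (.lf 0xe42)) (.nd (.lf 0x118e) (.lf 0)))) (.nd (.nd (.nd (.lf 0x57b) (.lf 0x164f)) (.nd (.lf 0xf89) (.lf 0))) (.nd (.nd (.lf 0xaec) (.lf 0xcd1)) (.nd (.lf 0x135d) (.lf 0))))))) (.nd (.nd (.nd (.nd (.nd (.nd (.lf 0x88) (.lf 0x13f8)) (.nd (.lf 0xbd6) (.lf 0))) (.nd (.nd (.lf 0x691) (.lf 0x16c8)) (.nd (.lf 0x104a) (.lf 0)))) (.nd (.nd (.nd (.lf 0x39c) (.lf 0x901)) (.nd (.lf 0x97f) (.lf 0))) (.nd (.nd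 (.lf 0x94a) (.lf 0x17b5)) (.nd (.lf 0x1135) (.lf 0))))) (.nd (.nd (.nd (.nd (.lf 0x218) (.lf 0x14d1)) (.nd (.lf 0xd05) (.lf 0))) (.nd (.nd (.lf 0x7f0) (.lf 0x106e)) (.nd (.lf 0x9ed) (.lf 0)))) (.nd (.nd (.nd (.lf 0x51f) (.lf 0x161b)) (.nd (.lf 0x227) (.lf 0))) (.nd (.nd (.lf 0xa96) (.lf 0x1189)) (.nd (.lf 0x1299) (.lf 0)))))) (.nd (.nd (.nd (.nd (.nd (.lf 0x14f) (.lf 0xb65)) (.nd (.lf 0xc70) (.lf 0))) (.nd (.nd (.lf 0x740) (.lf 0x12b0)) (.nd (.lf 0x10d4) (.lf 0)))) (.nd (.nd (.nd (.lf 0x460) (.lf 0x15ce)) (.nd (.lf 0xb83) (.lf 0))) (.nd (.nd (.lf 0x9f4) (.lf 0x147c)) (.nd (.lf 0x12be) (.lf 0))))) (.nd (.nd (.nd (.nd (.lf 0x2de) (.lf 0x1462)) (.nd (.lf 0x452) (.lf 0))) (.nd (.nd (.lf 0x89e) (.lf 0x13bb)) (.nd (.lf 0x86a) (.lf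 0)))) (.nd (.nd (.nd (.lf 0x5d7) (.lf 0x27b)) (.nd (.lf 0xa36) (.lf 0))) (.nd (.nd (.lf 0x52c) (.lf 0x101b)) (.nd (.lf 0x138b) (.lf 0))))))))
def tabA_nbababb : Tr := (.nd (.nd (.nd (.nd (.nd (.nd (.nd (.lf 0x0) (.lf 0x13de)) (.nd (.lf 0xbab) (.lf 0))) (.nd (.nd (.lf 0x662) (.lf 0x16b4)) (.nd (.lf 0x1028) (.lf 0)))) (.nd (.nd (.nd (.lf 0x36c) (.lf 0xfe5)) (.nd (.lf 0xe00) (.lf 0))) (.nd (.nd (.lf 0x91f) (.lf 0x25a)) (.nd (.lf 0x1225) (.lf 0))))) (.nd (.nd (.nd (.nd (.lf 0x1e7) (.lf 0x14ba)) (.nd (.lf 0xcdf) (.lf 0))) (.nd (.nd (.lf 0x7c1) (.lf 0xb3c)) (.nd (.lf 0x794) (.lf 0)))) (.nd (.nd (.nd (.lf 0x4ef) (.lf 0x1604)) (.nd (.lf 0x8f) (.lf 0))) (.nd (.nd (.lf 0xa69) (.lf 0x1759)) (.nd (.lf 0x1317) (.lf 0)))))) (.nd (.nd (.nd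 (.nd (.nd (.lf 0x11e) (.lf 0x134e)) (.nd (.lf 0xc4c) (.lf 0))) (.nd (.nd (.lf 0x717) (.lf 0x166f)) (.nd (.lf 0x10af) (.lf 0)))) (.nd (.nd (.nd (.lf 0x42e) (.lf 0xe68)) (.nd (.lf 0xe8f) (.lf 0))) (.nd (.nd (.lf 0x7e4) (.lf 0xa4f)) (.nd (.lf 0xda9) (.lf 0))))) (.nd (.nd (.nd (.nd (.lf 0x2af) (.lf 0x150f)) (.nd (.lf 0xd77) (.lf 0))) (.nd (.nd (.lf 0x876) (.lf 0x1771)) (.nd (.lf 0x1096) (.lf 0)))) (.nd (.nd (.nd (.lf 0x5ac) (.lf 0x4f7)) (.nd (.lf 0xeb1) (.lf 0))) (.nd (.nd (.lf 0x7a5) (.lf 0x1591)) (.nd (.lf 0x1373) (.lf 0))))))) (.nd (.nd (.nd (.nd (.nd (.nd (.lf 0xbb) (.lf 0xceb)) (.nd (.lf 0x439) (.lf 0))) (.nd (.nd (.lf 0x6be) (.lf 0x107a)) (.nd (.lf 0x106d) (.lf 0)))) (.nd (.nd (.nd (.lf 0x4e) (.lf 0xf58)) (.nd (.lf 0xe4a)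 (.lf 0))) (.nd (.nd (.lf 0x973) (.lf 0x1105)) (.nd (.lf 0x1265) (.lf 0))))) (.nd (.nd (.nd (.nd (.lf 0x24a) (.lf 0x14e7)) (.nd (.lf 0xd2c) (.lf 0))) (.nd (.nd (.lf 0x81c) (.lf 0x1329)) (.nd (.lf 0x116b) (.lf 0)))) (.nd (.nd (.nd (.lf 0x549) (.lf 0x163a)) (.nd (.lf 0xf61) (.lf 0))) (.nd (.nd (.lf 0xac3) (.lf 0x1652)) (.nd (.lf 0xa06) (.lf 0)))))) (.nd (.nd (.nd (.nd (.nd (.lf 0x182) (.lf 0x1484)) (.nd (.lf 0xc94) (.lf 0))) (.nd (.nd (.lf 0x76f) (.lf 0x15ec)) (.nd (.lf 0x965) (.lf 0)))) (.nd (.nd (.nd (.lf 0x2d0) (.lf 0xeb8)) (.nd (.lf 0xeda) (.lf 0))) (.nd (.nd (.lf 0x547) (.lf 0x17e0)) (.nd (.lf 0x12db) (.lf 0))))) (.nd (.nd (.nd (.nd (.lf 0x30c) (.lf 0x838)) (.nd (.lf 0xdbf) (.lf 0))) (.nd (.nd (.lf 0x8c8) (.lf 0x477)) (.nd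 (.lf 0x11ea) (.lf 0)))) (.nd (.nd (.nd (.lf 0x609) (.lf 0x1297)) (.nd (.lf 0xacc) (.lf 0))) (.nd (.nd (.lf 0x13a) (.lf 0x17aa)) (.nd (.lf 0x13a6) (.lf 0))))))))
def tabA_nbabbaa : Tr := (.nd (.nd (.nd (.nd (.nd (.nd (.nd (.lf 0x16) (.lf 0x5c8)) (.nd (.lf 0xb7d) (.lf 0))) (.nd (.nd (.lf 0x62d) (.lf 0x169c)) (.nd (.lf 0x1004) (.lf 0)))) (.nd (.nd (.nd (.lf 0x32e) (.lf 0x873)) (.nd (.lf 0x84c) (.lf 0))) (.nd (.nd (.lf 0x8ea) (.lf 0xb7f)) (.nd (.lf 0x11ff) (.lf 0))))) (.nd (.nd (.nd (.nd (.lf 0x1a7) (.lf 0x91d)) (.nd (.lf 0xcb0) (.lf 0))) (.nd (.nd (.lf 0x78f) (.lf 0x127c)) (.nd (.lf 0xecd) (.lf 0)))) (.nd (.nd (.nd (.lf 0x4b3) (.lf 0x73e)) (.nd (.lf 0xef5) (.lf 0))) (.nd (.nd (.lf 0xa38) (.lf 0xa52)) (.nd (.lf 0x12f3) (.lf 0))))))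 (.nd (.nd (.nd (.nd (.nd (.lf 0xe1) (.lf 0x142c)) (.nd (.lf 0xc1e) (.lf 0))) (.nd (.nd (.lf 0x6e0) (.lf 0x16e9)) (.nd (.lf 0x1083) (.lf 0)))) (.nd (.nd (.nd (.lf 0x3f0) (.lf 0x141b)) (.nd (.lf 0xa79) (.lf 0))) (.nd (.nd (.lf 0x993) (.lf 0x12a6)) (.nd (.lf 0x127b) (.lf 0))))) (.nd (.nd (.nd (.nd (.lf 0x26f) (.lf 0x14f9)) (.nd (.lf 0xd47) (.lf 0))) (.nd (.nd (.lf 0x83e) (.lf 0x1767)) (.nd (.lf 0x7dc) (.lf 0)))) (.nd (.nd (.nd (.lf 0x56e) (.lf 0x15a1)) (.nd (.lf 0xf7e) (.lf 0))) (.nd (.nd (.lf 0xae3) (.lf 0xdfc)) (.nd (.lf 0x1359) (.lf 0))))))) (.nd (.nd (.nd (.nd (.nd (.nd (.lf 0x7b) (.lf 0x13f1)) (.nd (.lf 0xbca) (.lf 0))) (.nd (.nd (.lf 0x686) (.lf 0x1653)) (.nd (.lf 0x1042) (.lf 0)))) (.nd (.nd (.nd (.lf 0x391) (.lf 0x8d7))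 (.nd (.lf 0xe1e) (.lf 0))) (.nd (.nd (.lf 0x941) (.lf 0xef8)) (.nd (.lf 0x5da) (.lf 0))))) (.nd (.nd (.nd (.nd (.lf 0x20b) (.lf 0x14ca)) (.nd (.lf 0xcfc) (.lf 0))) (.nd (.nd (.lf 0x7e7) (.lf 0x12c4)) (.nd (.lf 0xb8) (.lf 0)))) (.nd (.nd (.nd (.lf 0x513) (.lf 0x14f5)) (.nd (.lf 0xe1c) (.lf 0))) (.nd (.nd (.lf 0x735) (.lf 0x703)) (.nd (.lf 0x1327) (.lf 0)))))) (.nd (.nd (.nd (.nd (.nd (.lf 0x144) (.lf 0x8a1)) (.nd (.lf 0xc67) (.lf 0))) (.nd (.nd (.lf 0x730) (.lf 0x1710)) (.nd (.lf 0x10cd) (.lf 0)))) (.nd (.nd (.nd (.lf 0x453) (.lf 0x87c)) (.nd (.lf 0xead) (.lf 0))) (.nd (.nd (.lf 0x8da) (.lf 0x16ee)) (.nd (.lf 0x12b6) (.lf 0))))) (.nd (.nd (.nd (.nd (.lf 0x2d1) (.lf 0x2f5)) (.nd (.lf 0xd92) (.lf 0))) (.nd (.nd (.lf 0x895) (.lf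 0x167c)) (.nd (.lf 0x11c5) (.lf 0)))) (.nd (.nd (.nd (.lf 0x5ce) (.lf 0x1676)) (.nd (.lf 0xfc0) (.lf 0))) (.nd (.nd (.lf 0xb35) (.lf 0x133b)) (.nd (.lf 0x1ad) (.lf 0))))))))
def tabA_nbabbab : Tr := (.nd (.nd (.nd (.nd (.nd (.nd (.nd (.lf 0x4a) (.lf 0x13d6)) (.nd (.lf 0xba1) (.lf 0))) (.nd (.nd (.lf 0x655) (.lf 0x267)) (.nd (.lf 0x1023) (.lf 0)))) (.nd (.nd (.nd (.lf 0x35f) (.lf 0x1567)) (.nd (.lf 0xdf7) (.lf 0))) (.nd (.nd (.lf 0x43) (.lf 0x4f1)) (.nd (.lf 0x121c) (.lf 0))))) (.nd (.nd (.nd (.nd (.lf 0x1da) (.lf 0x14b3)) (.nd (.lf 0xcd5) (.lf 0))) (.nd (.nd (.lf 0x7b8) (.lf 0x173b)) (.nd (.lf 0x102f) (.lf 0)))) (.nd (.nd (.nd (.lf 0x4e4) (.lf 0x376)) (.nd (.lf 0xf18) (.lf 0))) (.nd (.nd (.lf 0x10c) (.lf 0x14a4)) (.nd (.lf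 0xc73) (.lf 0)))))) (.nd (.nd (.nd (.nd (.nd (.lf 0x112) (.lf 0x1448)) (.nd (.lf 0xb4b) (.lf 0))) (.nd (.nd (.lf 0x70b) (.lf 0x16fd)) (.nd (.lf 0xb1d) (.lf 0)))) (.nd (.nd (.nd (.lf 0x422) (.lf 0xdcb)) (.nd (.lf 0xe88) (.lf 0))) (.nd (.nd (.lf 0x9bf) (.lf 0x123d)) (.nd (.lf 0x1296) (.lf 0))))) (.nd (.nd (.nd (.nd (.lf 0x2a2) (.lf 0x150b)) (.nd (.lf 0xd6f) (.lf 0))) (.nd (.nd (.lf 0x1fa) (.lf 0x395)) (.nd (.lf 0xf5f) (.lf 0)))) (.nd (.nd (.nd (.lf 0x5a0) (.lf 0xca7)) (.nd (.lf 0xfa4) (.lf 0))) (.nd (.nd (.lf 0xb0e) (.lf 0xc11)) (.nd (.lf 0xf3) (.lf 0))))))) (.nd (.nd (.nd (.nd (.nd (.nd (.lf 0xae) (.lf 0x1202)) (.nd (.lf 0xba0) (.lf 0))) (.nd (.nd (.lf 0x6b4) (.lf 0xdb9)) (.nd (.lf 0x1066) (.lf 0)))) (.nd (.nd (.nd (.lf 0x3c2)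 (.lf 0xf05)) (.nd (.lf 0xe40) (.lf 0))) (.nd (.nd (.lf 0x967) (.lf 0x17be)) (.nd (.lf 0x125c) (.lf 0))))) (.nd (.nd (.nd (.nd (.lf 0x23e) (.lf 0x14e1)) (.nd (.lf 0xd23) (.lf 0))) (.nd (.nd (.lf 0x80f) (.lf 0x145a)) (.nd (.lf 0x1161) (.lf 0)))) (.nd (.nd (.nd (.lf 0x53) (.lf 0xe69)) (.nd (.lf 0x9f5) (.lf 0))) (.nd (.nd (.lf 0xab7) (.lf 0xd17)) (.nd (.lf 0x1342) (.lf 0)))))) (.nd (.nd (.nd (.nd (.nd (.lf 0xce) (.lf 0x147d)) (.nd (.lf 0xc8a) (.lf 0))) (.nd (.nd (.lf 0x762) (.lf 0xfa6)) (.nd (.lf 0x747) (.lf 0)))) (.nd (.nd (.nd (.lf 0x486) (.lf 0xf06)) (.nd (.lf 0xc9) (.lf 0))) (.nd (.nd (.lf 0xa13) (.lf 0x120e)) (.nd (.lf 0x12d4) (.lf 0))))) (.nd (.nd (.nd (.nd (.lf 0xff) (.lf 0x1533)) (.nd (.lf 0xcad) (.lf 0))) (.nd (.nd (.lf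 0x8bd) (.lf 0x16b0)) (.nd (.lf 0x11e3) (.lf 0)))) (.nd (.nd (.nd (.lf 0x5ff) (.lf 0x14d5)) (.nd (.lf 0xfe1) (.lf 0))) (.nd (.nd (.lf 0x369) (.lf 0x17d6)) (.nd (.lf 0x13a1) (.lf 0))))))))
def tabA_nbabbba : Tr := (.nd (.nd (.nd (.nd (.nd (.nd (.nd (.lf 0x30) (.lf 0xad0)) (.nd (.lf 0xb8e) (.lf 0))) (.nd (.nd (.lf 0x247) (.lf 0x10f5)) (.nd (.lf 0x1014) (.lf 0)))) (.nd (.nd (.nd (.lf 0x346) (.lf 0x9c5)) (.nd (.lf 0xde4) (.lf 0))) (.nd (.nd (.lf 0x902) (.lf 0x17a1)) (.nd (.lf 0x120d) (.lf 0))))) (.nd (.nd (.nd (.nd (.lf 0x1c1) (.lf 0xffe)) (.nd (.lf 0xcc0) (.lf 0))) (.nd (.nd (.lf 0x7a4) (.lf 0x1733)) (.nd (.lf 0x111c) (.lf 0)))) (.nd (.nd (.nd (.lf 0x4cb) (.lf 0x15f8)) (.nd (.lf 0xc7d) (.lf 0))) (.nd (.nd (.lf 0xa4d) (.lf 0x1675))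 (.nd (.lf 0x1301) (.lf 0)))))) (.nd (.nd (.nd (.nd (.nd (.lf 0xf9) (.lf 0x143a)) (.nd (.lf 0x9c1) (.lf 0))) (.nd (.nd (.lf 0x6f6) (.lf 0x16f3)) (.nd (.lf 0x1098) (.lf 0)))) (.nd (.nd (.nd (.lf 0x408) (.lf 0x15aa)) (.nd (.lf 0xe77) (.lf 0))) (.nd (.nd (.lf 0x9aa) (.lf 0x164b)) (.nd (.lf 0xfc4) (.lf 0))))) (.nd (.nd (.nd (.nd (.lf 0x287) (.lf 0x110f)) (.nd (.lf 0x936) (.lf 0))) (.nd (.nd (.lf 0x856) (.lf 0xb74)) (.nd (.lf 0x1199) (.lf 0)))) (.nd (.nd (.nd (.lf 0x586) (.lf 0x159c)) (.nd (.lf 0xf93) (.lf 0))) (.nd (.nd (.lf 0xaf8) (.lf 0x1649)) (.nd (.lf 0x1362) (.lf 0))))))) (.nd (.nd (.nd (.nd (.nd (.nd (.lf 0x95) (.lf 0x1400)) (.nd (.lf 0x1b5) (.lf 0))) (.nd (.nd (.lf 0x69b) (.lf 0x10de)) (.nd (.lf 0x1053) (.lf 0)))) (.nd (.nd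 (.nd (.lf 0x3a8) (.lf 0x1580)) (.nd (.lf 0xe2f) (.lf 0))) (.nd (.nd (.lf 0x955) (.lf 0xe9f)) (.nd (.lf 0x124d) (.lf 0))))) (.nd (.nd (.nd (.nd (.lf 0x225) (.lf 0x10ad)) (.nd (.lf 0xd0f) (.lf 0))) (.nd (.nd (.lf 0x2a4) (.lf 0x128a)) (.nd (.lf 0x58a) (.lf 0)))) (.nd (.nd (.nd (.lf 0x52a) (.lf 0x160c)) (.nd (.lf 0x2f3) (.lf 0))) (.nd (.nd (.lf 0xaa0) (.lf 0x15d7)) (.nd (.lf 0x1337) (.lf 0)))))) (.nd (.nd (.nd (.nd (.nd (.lf 0x15c) (.lf 0x146f)) (.nd (.lf 0xc79) (.lf 0))) (.nd (.nd (.lf 0x74c) (.lf 0x1718)) (.nd (.lf 0x1073) (.lf 0)))) (.nd (.nd (.nd (.lf 0x46d) (.lf 0x15d3)) (.nd (.lf 0xebc) (.lf 0))) (.nd (.nd (.lf 0x9fe) (.lf 0x986)) (.nd (.lf 0x12c5) (.lf 0))))) (.nd (.nd (.nd (.nd (.lf 0x2e9) (.lf 0x152c)) (.nd (.lf 0xda6)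 (.lf 0))) (.nd (.nd (.lf 0x8a8) (.lf 0x1746)) (.nd (.lf 0x320) (.lf 0)))) (.nd (.nd (.nd (.lf 0x5e5) (.lf 0x335)) (.nd (.lf 0xfd3) (.lf 0))) (.nd (.nd (.lf 0xb46) (.lf 0x1807)) (.nd (.lf 0x1087) (.lf 0))))))))
def tabA_nbabbbb : Tr := (.nd (.nd (.nd (.nd (.nd (.nd (.nd (.lf 0x62) (.lf 0x13e3)) (.nd (.lf 0xbb3) (.lf 0))) (.nd (.nd (.lf 0x66e) (.lf 0x804)) (.nd (.lf 0x2e2) (.lf 0)))) (.nd (.nd (.nd (.lf 0x377) (.lf 0x1181)) (.nd (.lf 0xe0d) (.lf 0))) (.nd (.nd (.lf 0x92b) (.lf 0xbe0)) (.nd (.lf 0xd79) (.lf 0))))) (.nd (.nd (.nd (.nd (.lf 0x1f4) (.lf 0x50a)) (.nd (.lf 0x680) (.lf 0))) (.nd (.nd (.lf 0x7cd) (.lf 0x12b7)) (.nd (.lf 0x1132) (.lf 0)))) (.nd (.nd (.nd (.lf 0x4fa) (.lf 0x175)) (.nd (.lf 0xf27) (.lf 0))) (.nd (.nd (.lf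 0xa73) (.lf 0xa54)) (.nd (.lf 0xd00) (.lf 0)))))) (.nd (.nd (.nd (.nd (.nd (.lf 0x12a) (.lf 0x5fc)) (.nd (.lf 0xc55) (.lf 0))) (.nd (.nd (.lf 0x722) (.lf 0x379)) (.nd (.lf 0x10b9) (.lf 0)))) (.nd (.nd (.nd (.lf 0x43b) (.lf 0x15c0)) (.nd (.lf 0x142) (.lf 0))) (.nd (.nd (.lf 0x9d5) (.lf 0x1564)) (.nd (.lf 0xa77) (.lf 0))))) (.nd (.nd (.nd (.nd (.lf 0x2b9) (.lf 0x1492)) (.nd (.lf 0xd82) (.lf 0))) (.nd (.nd (.lf 0x881) (.lf 0x12e7)) (.nd (.lf 0x11b6) (.lf 0)))) (.nd (.nd (.nd (.lf 0x5b7) (.lf 0x763)) (.nd (.lf 0xfb1) (.lf 0))) (.nd (.nd (.lf 0xb20) (.lf 0x682)) (.nd (.lf 0x1379) (.lf 0))))))) (.nd (.nd (.nd (.nd (.nd (.nd (.lf 0xc6) (.lf 0x141a)) (.nd (.lf 0x79e) (.lf 0))) (.nd (.nd (.lf 0x6ca) (.lf 0x16df)) (.nd (.lf 0xf64) (.lf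 0)))) (.nd (.nd (.nd (.lf 0x3d8) (.lf 0x13a0)) (.nd (.lf 0xe54) (.lf 0))) (.nd (.nd (.lf 0x97d) (.lf 0xc84)) (.nd (.lf 0x126b) (.lf 0))))) (.nd (.nd (.nd (.nd (.lf 0x256) (.lf 0x14ed)) (.nd (.lf 0xd34) (.lf 0))) (.nd (.nd (.lf 0x827) (.lf 0xd68)) (.nd (.lf 0x1175) (.lf 0)))) (.nd (.nd (.nd (.lf 0x556) (.lf 0xbb8)) (.nd (.lf 0xf6a) (.lf 0))) (.nd (.nd (.lf 0xacd) (.lf 0x358)) (.nd (.lf 0x7e6) (.lf 0)))))) (.nd (.nd (.nd (.nd (.nd (.lf 0x18f) (.lf 0xcd7)) (.nd (.lf 0xc9c) (.lf 0))) (.nd (.nd (.lf 0x77a) (.lf 0x15a3)) (.nd (.lf 0x10fe) (.lf 0)))) (.nd (.nd (.nd (.lf 0x49d) (.lf 0xe15)) (.nd (.lf 0xee2) (.lf 0))) (.nd (.nd (.lf 0xa25) (.lf 0x6f1)) (.nd (.lf 0x12e2) (.lf 0))))) (.nd (.nd (.nd (.nd (.lf 0x319) (.lf 0x1545)) (.nd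 (.lf 0xdca) (.lf 0))) (.nd (.nd (.lf 0x8d3) (.lf 0x1322)) (.nd (.lf 0x115a) (.lf 0)))) (.nd (.nd (.nd (.lf 0x615) (.lf 0x4ca)) (.nd (.lf 0xff4) (.lf 0))) (.nd (.nd (.lf 0xb6d) (.lf 0x1809)) (.nd (.lf 0x41b) (.lf 0))))))))
def tabA_nbbaaaa : Tr := (.nd (.nd (.nd (.nd (.nd (.nd (.nd (.lf 0x6) (.lf 0x13b0)) (.nd (.lf 0xb73) (.lf 0x1741))) (.nd (.nd (.lf 0x61f) (.lf 0xf8a)) (.nd (.lf 0xffc) (.lf 0)))) (.nd (.nd (.nd (.lf 0x31f) (.lf 0x154b)) (.nd (.lf 0xdcf) (.lf 0))) (.nd (.nd (.lf 0x8dd) (.lf 0x1507)) (.nd (.lf 0x1157) (.lf 0))))) (.nd (.nd (.nd (.nd (.lf 0x198) (.lf 0x1490)) (.nd (.lf 0x7ad) (.lf 0))) (.nd (.nd (.lf 0x2e0) (.lf 0x1726)) (.nd (.lf 0x1104) (.lf 0)))) (.nd (.nd (.nd (.lf 0x4a4) (.lf 0x15e9)) (.nd (.lf 0x5d8) (.lf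 0))) (.nd (.nd (.lf 0xa2c) (.lf 0x17e4)) (.nd (.lf 0x3ca) (.lf 0)))))) (.nd (.nd (.nd (.nd (.nd (.lf 0xd0) (.lf 0x1421)) (.nd (.lf 0xc10) (.lf 0))) (.nd (.nd (.lf 0x6d2) (.lf 0x5c5)) (.nd (.lf 0x1079) (.lf 0)))) (.nd (.nd (.nd (.lf 0x3e2) (.lf 0x1216)) (.nd (.lf 0xe5a) (.lf 0))) (.nd (.nd (.lf 0x48) (.lf 0xac1)) (.nd (.lf 0x1270) (.lf 0))))) (.nd (.nd (.nd (.nd (.lf 0x260) (.lf 0x139f)) (.nd (.lf 0xd3b) (.lf 0))) (.nd (.nd (.lf 0x830) (.lf 0x175e)) (.nd (.lf 0xaaf) (.lf 0)))) (.nd (.nd (.nd (.lf 0x55e) (.lf 0x663)) (.nd (.lf 0xf72) (.lf 0))) (.nd (.nd (.lf 0xad5) (.lf 0x16c0)) (.nd (.lf 0x1350) (.lf 0))))))) (.nd (.nd (.nd (.nd (.nd (.nd (.lf 0x6c) (.lf 0x13e9)) (.nd (.lf 0xbbc) (.lf 0))) (.nd (.nd (.lf 0x677) (.lf 0x16be))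 (.nd (.lf 0x1035) (.lf 0)))) (.nd (.nd (.nd (.lf 0x381) (.lf 0xf0d)) (.nd (.lf 0xe13) (.lf 0))) (.nd (.nd (.lf 0x933) (.lf 0x943)) (.nd (.lf 0x1231) (.lf 0))))) (.nd (.nd (.nd (.nd (.lf 0x1fc) (.lf 0x14c4)) (.nd (.lf 0x706) (.lf 0))) (.nd (.nd (.lf 0x7d6) (.lf 0x330)) (.nd (.lf 0x113a) (.lf 0)))) (.nd (.nd (.nd (.lf 0x504) (.lf 0x160e)) (.nd (.lf 0x531) (.lf 0))) (.nd (.nd (.lf 0x9d6) (.lf 0x126f)) (.nd (.lf 0x10b3) (.lf 0)))))) (.nd (.nd (.nd (.nd (.nd (.lf 0x134) (.lf 0x114)) (.nd (.lf 0xc5d) (.lf 0))) (.nd (.nd (.lf 0x728) (.lf 0x1010)) (.nd (.lf 0x6f7) (.lf 0)))) (.nd (.nd (.nd (.lf 0x444) (.lf 0x15c2)) (.nd (.lf 0xea0) (.lf 0))) (.nd (.nd (.lf 0x558) (.lf 0x13ef)) (.nd (.lf 0xf19) (.lf 0))))) (.nd (.nd (.nd (.nd (.lf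 0x2c2) (.lf 0x1519)) (.nd (.lf 0xd87) (.lf 0))) (.nd (.nd (.lf 0x887) (.lf 0x1777)) (.nd (.lf 0x244) (.lf 0)))) (.nd (.nd (.nd (.lf 0x1dc) (.lf 0x1491)) (.nd (.lf 0xfb5) (.lf 0))) (.nd (.nd (.lf 0xb28) (.lf 0xed5)) (.nd (.lf 0xf7f) (.lf 0))))))))
def tabA_nbbaaab : Tr := (.nd (.nd (.nd (.nd (.nd (.nd (.nd (.lf 0x3a) (.lf 0x13cc)) (.nd (.lf 0x9fa) (.lf 0))) (.nd (.nd (.lf 0x648) (.lf 0x16a6)) (.nd (.lf 0x101a) (.lf 0)))) (.nd (.nd (.nd (.lf 0x2d5) (.lf 0x1479)) (.nd (.lf 0xdec) (.lf 0))) (.nd (.nd (.lf 0x90a) (.lf 0x17a4)) (.nd (.lf 0x105f) (.lf 0))))) (.nd (.nd (.nd (.nd (.lf 0x1ca) (.lf 0x11a9)) (.nd (.lf 0x306) (.lf 0))) (.nd (.nd (.lf 0x7ab) (.lf 0x149d)) (.nd (.lf 0x83a) (.lf 0)))) (.nd (.nd (.nd (.lf 0x4d4) (.lf 0xa6b))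 (.nd (.lf 0xde0) (.lf 0))) (.nd (.nd (.lf 0xa55) (.lf 0x17ea)) (.nd (.lf 0xaf9) (.lf 0)))))) (.nd (.nd (.nd (.nd (.nd (.lf 0x103) (.lf 0x143f)) (.nd (.lf 0xc37) (.lf 0))) (.nd (.nd (.lf 0x6fe) (.lf 0xd27)) (.nd (.lf 0x109f) (.lf 0)))) (.nd (.nd (.nd (.lf 0x412) (.lf 0x15b1)) (.nd (.lf 0xe7e) (.lf 0))) (.nd (.nd (.lf 0x9b1) (.lf 0x1618)) (.nd (.lf 0x7ef) (.lf 0))))) (.nd (.nd (.nd (.nd (.lf 0x291) (.lf 0x1502)) (.nd (.lf 0xd62) (.lf 0))) (.nd (.nd (.lf 0x85d) (.lf 0x81e)) (.nd (.lf 0x11a0) (.lf 0)))) (.nd (.nd (.nd (.lf 0x590) (.lf 0x2c1)) (.nd (.lf 0xf97) (.lf 0))) (.nd (.nd (.lf 0xb01) (.lf 0x822)) (.nd (.lf 0x1366) (.lf 0))))))) (.nd (.nd (.nd (.nd (.nd (.nd (.lf 0x9f) (.lf 0x1404)) (.nd (.lf 0xbe7) (.lf 0))) (.nd (.nd (.lf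 0x6a5) (.lf 0x150a)) (.nd (.lf 0x48c) (.lf 0)))) (.nd (.nd (.nd (.lf 0x3b1) (.lf 0x1123)) (.nd (.lf 0x194) (.lf 0))) (.nd (.nd (.lf 0x826) (.lf 0x17ba)) (.nd (.lf 0x1252) (.lf 0))))) (.nd (.nd (.nd (.nd (.lf 0x22f) (.lf 0x14db)) (.nd (.lf 0xca3) (.lf 0))) (.nd (.nd (.lf 0x802) (.lf 0x16da)) (.nd (.lf 0x4bc) (.lf 0)))) (.nd (.nd (.nd (.lf 0x534) (.lf 0x13d5)) (.nd (.lf 0xf4a) (.lf 0))) (.nd (.nd (.lf 0xaa9) (.lf 0x17a9)) (.nd (.lf 0x130f) (.lf 0)))))) (.nd (.nd (.nd (.nd (.nd (.lf 0x166) (.lf 0x1473)) (.nd (.lf 0xc7e) (.lf 0))) (.nd (.nd (.lf 0x51b) (.lf 0xf0b)) (.nd (.lf 0x53e) (.lf 0)))) (.nd (.nd (.nd (.lf 0x475) (.lf 0xa94)) (.nd (.lf 0xec4) (.lf 0))) (.nd (.nd (.lf 0xa05) (.lf 0xb54)) (.nd (.lf 0x12cc) (.lf 0))))) (.nd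 (.nd (.nd (.nd (.lf 0x2f1) (.lf 0x152f)) (.nd (.lf 0x8a9) (.lf 0))) (.nd (.nd (.lf 0x9e) (.lf 0x896)) (.nd (.lf 0x878) (.lf 0)))) (.nd (.nd (.nd (.lf 0x5ef) (.lf 0x1686)) (.nd (.lf 0xfd9) (.lf 0))) (.nd (.nd (.lf 0xae9) (.lf 0x17b0)) (.nd (.lf 0x11ef) (.lf 0))))))))
def tabA_nbbaaba : Tr := (.nd (.nd (.nd (.nd (.nd (.nd (.nd (.lf 0x20) (.lf 0x13bf)) (.nd (.lf 0xb82) (.lf 0))) (.nd (.nd (.lf 0x635) (.lf 0xc3b)) (.nd (.lf 0x1009) (.lf 0)))) (.nd (.nd (.nd (.lf 0x337) (.lf 0x1555)) (.nd (.lf 0xdc1) (.lf 0))) (.nd (.nd (.lf 0x8f4) (.lf 0x1569)) (.nd (.lf 0xd42) (.lf 0))))) (.nd (.nd (.nd (.nd (.lf 0x1b1) (.lf 0x149c)) (.nd (.lf 0xb72) (.lf 0))) (.nd (.nd (.lf 0x798) (.lf 0x634)) (.nd (.lf 0x1111) (.lf 0)))) (.nd (.nd (.nd (.lf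 0x4bb) (.lf 0x12b5)) (.nd (.lf 0x42c) (.lf 0))) (.nd (.nd (.lf 0x9be) (.lf 0x11b5)) (.nd (.lf 0x70c) (.lf 0)))))) (.nd (.nd (.nd (.nd (.nd (.lf 0xea) (.lf 0x1430)) (.nd (.lf 0x1eb) (.lf 0))) (.nd (.nd (.lf 0x199) (.lf 0x949)) (.nd (.lf 0x108a) (.lf 0)))) (.nd (.nd (.nd (.lf 0x3f9) (.lf 0x673)) (.nd (.lf 0xe6a) (.lf 0))) (.nd (.nd (.lf 0x99a) (.lf 0x80a)) (.nd (.lf 0xd38) (.lf 0))))) (.nd (.nd (.nd (.nd (.lf 0x277) (.lf 0x14fb)) (.nd (.lf 0xd4d) (.lf 0))) (.nd (.nd (.lf 0x847) (.lf 0x1768)) (.nd (.lf 0x118c) (.lf 0)))) (.nd (.nd (.nd (.lf 0x578) (.lf 0x443)) (.nd (.lf 0xf86) (.lf 0))) (.nd (.nd (.lf 0xaea) (.lf 0x1664)) (.nd (.lf 0x135c) (.lf 0))))))) (.nd (.nd (.nd (.nd (.nd (.nd (.lf 0x85) (.lf 0x58f)) (.nd (.lf 0x6d1) (.lf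 0))) (.nd (.nd (.lf 0x68f) (.lf 0xa97)) (.nd (.lf 0xdf5) (.lf 0)))) (.nd (.nd (.nd (.lf 0x120) (.lf 0x157a)) (.nd (.lf 0x6e8) (.lf 0))) (.nd (.nd (.lf 0x406) (.lf 0x981)) (.nd (.lf 0x1242) (.lf 0))))) (.nd (.nd (.nd (.nd (.lf 0x215) (.lf 0x719)) (.nd (.lf 0xd03) (.lf 0))) (.nd (.nd (.lf 0x62c) (.lf 0x560)) (.nd (.lf 0xd2d) (.lf 0)))) (.nd (.nd (.nd (.lf 0x51c) (.lf 0x1619)) (.nd (.lf 0x72f) (.lf 0))) (.nd (.nd (.lf 0xa93) (.lf 0x172c)) (.nd (.lf 0x132d) (.lf 0)))))) (.nd (.nd (.nd (.nd (.nd (.lf 0x14c) (.lf 0x1466)) (.nd (.lf 0xc6d) (.lf 0))) (.nd (.nd (.lf 0x73f) (.lf 0xc9f)) (.nd (.lf 0xe78) (.lf 0)))) (.nd (.nd (.nd (.lf 0x45d) (.lf 0x10e5)) (.nd (.lf 0xeb2) (.lf 0))) (.nd (.nd (.lf 0x9f1) (.lf 0x17d8)) (.nd (.lf 0x8de)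 (.lf 0))))) (.nd (.nd (.nd (.nd (.lf 0x2da) (.lf 0x1524)) (.nd (.lf 0xd9b) (.lf 0))) (.nd (.nd (.lf 0x89c) (.lf 0x1191)) (.nd (.lf 0x11cd) (.lf 0)))) (.nd (.nd (.nd (.lf 0x54d) (.lf 0x167b)) (.nd (.lf 0xfc9) (.lf 0))) (.nd (.nd (.lf 0xb3b) (.lf 0x10bf)) (.nd (.lf 0x1388) (.lf 0))))))))
def tabA_nbbaabb : Tr := (.nd (.nd (.nd (.nd (.nd (.nd (.nd (.lf 0x54) (.lf 0x1c8)) (.nd (.lf 0xba9) (.lf 0))) (.nd (.nd (.lf 0x65f) (.lf 0x13c8)) (.nd (.lf 0x931) (.lf 0)))) (.nd (.nd (.nd (.lf 0x252) (.lf 0xf20)) (.nd (.lf 0x934) (.lf 0))) (.nd (.nd (.lf 0x231) (.lf 0x16d3)) (.nd (.lf 0x1223) (.lf 0))))) (.nd (.nd (.nd (.nd (.lf 0x1e4) (.lf 0x3fa)) (.nd (.lf 0xcc6) (.lf 0))) (.nd (.nd (.lf 0x7be) (.lf 0x6c1)) (.nd (.lf 0xc58) (.lf 0)))) (.nd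 (.nd (.nd (.lf 0x4ed) (.lf 0x1602)) (.nd (.lf 0xf1e) (.lf 0))) (.nd (.nd (.lf 0xa68) (.lf 0xde3)) (.nd (.lf 0x1316) (.lf 0)))))) (.nd (.nd (.nd (.nd (.nd (.lf 0x11b) (.lf 0x144e)) (.nd (.lf 0xc49) (.lf 0))) (.nd (.nd (.lf 0x713) (.lf 0x1702)) (.nd (.lf 0x10ae) (.lf 0)))) (.nd (.nd (.nd (.lf 0x42b) (.lf 0x15b8)) (.nd (.lf 0xafb) (.lf 0))) (.nd (.nd (.lf 0x9c7) (.lf 0x1690)) (.nd (.lf 0x1054) (.lf 0))))) (.nd (.nd (.nd (.nd (.lf 0x2ab) (.lf 0xfd8)) (.nd (.lf 0x75) (.lf 0))) (.nd (.nd (.lf 0x872) (.lf 0x577)) (.nd (.lf 0x11ae) (.lf 0)))) (.nd (.nd (.nd (.lf 0x5a8) (.lf 0x1669)) (.nd (.lf 0xfa9) (.lf 0))) (.nd (.nd (.lf 0xb14) (.lf 0x1756)) (.nd (.lf 0x1372) (.lf 0))))))) (.nd (.nd (.nd (.nd (.nd (.nd (.lf 0xb7) (.lf 0xf46)) (.nd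 (.lf 0xbfb) (.lf 0))) (.nd (.nd (.lf 0x6bc) (.lf 0x13e4)) (.nd (.lf 0x106b) (.lf 0)))) (.nd (.nd (.nd (.lf 0x3cb) (.lf 0x1193)) (.nd (.lf 0xe47) (.lf 0))) (.nd (.nd (.lf 0x970) (.lf 0x273)) (.nd (.lf 0x11bc) (.lf 0))))) (.nd (.nd (.nd (.nd (.lf 0x246) (.lf 0x14e5)) (.nd (.lf 0xd2a) (.lf 0))) (.nd (.nd (.lf 0x819) (.lf 0x1754)) (.nd (.lf 0x1168) (.lf 0)))) (.nd (.nd (.nd (.lf 0xe6) (.lf 0x1638)) (.nd (.lf 0xf5e) (.lf 0))) (.nd (.nd (.lf 0xac0) (.lf 0x1112)) (.nd (.lf 0x11b2) (.lf 0)))))) (.nd (.nd (.nd (.nd (.nd (.lf 0x17f) (.lf 0x1481)) (.nd (.lf 0xc92) (.lf 0))) (.nd (.nd (.lf 0x76c) (.lf 0x1477)) (.nd (.lf 0x10f3) (.lf 0)))) (.nd (.nd (.nd (.lf 0x48f) (.lf 0x325)) (.nd (.lf 0xed9) (.lf 0))) (.nd (.nd (.lf 0xa1a) (.lf 0x96c))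 (.nd (.lf 0xf2a) (.lf 0))))) (.nd (.nd (.nd (.nd (.lf 0x309) (.lf 0x153a)) (.nd (.lf 0x754) (.lf 0))) (.nd (.nd (.lf 0x8c4) (.lf 0x13c1)) (.nd (.lf 0x11e7) (.lf 0)))) (.nd (.nd (.nd (.lf 0x606) (.lf 0xe62)) (.nd (.lf 0xfeb) (.lf 0))) (.nd (.nd (.lf 0xb63) (.lf 0x1556)) (.nd (.lf 0x13a4) (.lf 0))))))))
def tabA_nbbabaa : Tr := (.nd (.nd (.nd (.nd (.nd (.nd (.nd (.lf 0x13) (.lf 0x13ba)) (.nd (.lf 0x4fe) (.lf 0x17ac))) (.nd (.nd (.lf 0x62b) (.lf 0x1271)) (.nd (.lf 0x1002) (.lf 0)))) (.nd (.nd (.nd (.lf 0x32a) (.lf 0x11a7)) (.nd (.lf 0xdd5) (.lf 0))) (.nd (.nd (.lf 0x41) (.lf 0x1796)) (.nd (.lf 0x1c0) (.lf 0))))) (.nd (.nd (.nd (.nd (.lf 0x1a5) (.lf 0x1496)) (.nd (.lf 0xcac) (.lf 0))) (.nd (.nd (.lf 0x78c) (.lf 0x10cc)) (.nd (.lf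 0xb3) (.lf 0)))) (.nd (.nd (.nd (.lf 0x4b1) (.lf 0x15ee)) (.nd (.lf 0xef4) (.lf 0))) (.nd (.nd (.lf 0xa35) (.lf 0x17d2)) (.nd (.lf 0x8b2) (.lf 0)))))) (.nd (.nd (.nd (.nd (.nd (.lf 0xdd) (.lf 0xc6c)) (.nd (.lf 0xc1a) (.lf 0))) (.nd (.nd (.lf 0x471) (.lf 0xbad)) (.nd (.lf 0x1080) (.lf 0)))) (.nd (.nd (.nd (.lf 0x3ec) (.lf 0x11cc)) (.nd (.lf 0x7fc) (.lf 0))) (.nd (.nd (.lf 0x991) (.lf 0x17c7)) (.nd (.lf 0x127a) (.lf 0))))) (.nd (.nd (.nd (.nd (.lf 0x26c) (.lf 0x14f7)) (.nd (.lf 0xd46) (.lf 0))) (.nd (.nd (.lf 0x35b) (.lf 0x1764)) (.nd (.lf 0x8e0) (.lf 0)))) (.nd (.nd (.nd (.lf 0x56b) (.lf 0x1646)) (.nd (.lf 0xced) (.lf 0))) (.nd (.nd (.lf 0xae0) (.lf 0x12f4)) (.nd (.lf 0xeb9) (.lf 0))))))) (.nd (.nd (.nd (.nd (.nd (.nd (.lf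 0x78) (.lf 0x13f0)) (.nd (.lf 0xbc7) (.lf 0))) (.nd (.nd (.lf 0x683) (.lf 0x1503)) (.nd (.lf 0x103e) (.lf 0)))) (.nd (.nd (.nd (.lf 0x38d) (.lf 0x1579)) (.nd (.lf 0xe1d) (.lf 0))) (.nd (.nd (.lf 0x93e) (.lf 0x1792)) (.nd (.lf 0x616) (.lf 0))))) (.nd (.nd (.nd (.nd (.lf 0x208) (.lf 0xdb0)) (.nd (.lf 0xcf9) (.lf 0))) (.nd (.nd (.lf 0x7e3) (.lf 0x13cb)) (.nd (.lf 0x1146) (.lf 0)))) (.nd (.nd (.nd (.lf 0x510) (.lf 0x1613)) (.nd (.lf 0xeb5) (.lf 0))) (.nd (.nd (.lf 0xa88) (.lf 0x17f1)) (.nd (.lf 0x696) (.lf 0)))))) (.nd (.nd (.nd (.nd (.nd (.lf 0x141) (.lf 0x13cd)) (.nd (.lf 0xc65) (.lf 0))) (.nd (.nd (.lf 0x732) (.lf 0x170f)) (.nd (.lf 0x10ca) (.lf 0)))) (.nd (.nd (.nd (.lf 0x450) (.lf 0x15c7)) (.nd (.lf 0xeab) (.lf 0))) (.nd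 (.nd (.lf 0x9e6) (.lf 0xfdb)) (.nd (.lf 0xce9) (.lf 0))))) (.nd (.nd (.nd (.nd (.lf 0x2ce) (.lf 0x103b)) (.nd (.lf 0xb85) (.lf 0))) (.nd (.nd (.lf 0x893) (.lf 0x173e)) (.nd (.lf 0x11c4) (.lf 0)))) (.nd (.nd (.nd (.lf 0x5ca) (.lf 0x1522)) (.nd (.lf 0xfbe) (.lf 0))) (.nd (.nd (.lf 0xb33) (.lf 0x1766)) (.nd (.lf 0x1133) (.lf 0))))))))
def tabA_nbbabab : Tr := (.nd (.nd (.nd (.nd (.nd (.nd (.nd (.lf 0x47) (.lf 0x13d4)) (.nd (.lf 0xb9f) (.lf 0))) (.nd (.nd (.lf 0x652) (.lf 0x16af)) (.nd (.lf 0x879) (.lf 0)))) (.nd (.nd (.nd (.lf 0x35c) (.lf 0x1434)) (.nd (.lf 0x3e8) (.lf 0))) (.nd (.nd (.lf 0x915) (.lf 0x27d)) (.nd (.lf 0x1219) (.lf 0))))) (.nd (.nd (.nd (.nd (.lf 0x1d7) (.lf 0x14b0)) (.nd (.lf 0xcd2) (.lf 0))) (.nd (.nd (.lf 0x4d7)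 (.lf 0x173a)) (.nd (.lf 0x222) (.lf 0)))) (.nd (.nd (.nd (.lf 0x4e1) (.lf 0x1063)) (.nd (.lf 0xf16) (.lf 0))) (.nd (.nd (.lf 0xa5e) (.lf 0x14ea)) (.nd (.lf 0x130e) (.lf 0)))))) (.nd (.nd (.nd (.nd (.nd (.lf 0x10e) (.lf 0x1273)) (.nd (.lf 0xc41) (.lf 0))) (.nd (.nd (.lf 0x709) (.lf 0x16fb)) (.nd (.lf 0x8f9) (.lf 0)))) (.nd (.nd (.nd (.lf 0x41f) (.lf 0x1091)) (.nd (.lf 0xe85) (.lf 0))) (.nd (.nd (.lf 0x9bc) (.lf 0x427)) (.nd (.lf 0x1294) (.lf 0))))) (.nd (.nd (.nd (.nd (.lf 0x29e) (.lf 0xc9e)) (.nd (.lf 0xd6b) (.lf 0))) (.nd (.nd (.lf 0x867) (.lf 0xcab)) (.nd (.lf 0x11aa) (.lf 0)))) (.nd (.nd (.nd (.lf 0x59c) (.lf 0x1663)) (.nd (.lf 0xa60) (.lf 0))) (.nd (.nd (.lf 0xb0a) (.lf 0x17d4)) (.nd (.lf 0x4ce) (.lf 0))))))) (.nd (.nd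 (.nd (.nd (.nd (.nd (.lf 0xab) (.lf 0x12fa)) (.nd (.lf 0xbf1) (.lf 0))) (.nd (.nd (.lf 0x6b1) (.lf 0xbc6)) (.nd (.lf 0xe4e) (.lf 0)))) (.nd (.nd (.nd (.lf 0x3bf) (.lf 0x555)) (.nd (.lf 0xb0f) (.lf 0))) (.nd (.nd (.lf 0x155) (.lf 0x1712)) (.nd (.lf 0x1258) (.lf 0))))) (.nd (.nd (.nd (.nd (.lf 0x23a) (.lf 0xebb)) (.nd (.lf 0x49a) (.lf 0))) (.nd (.nd (.lf 0x80c) (.lf 0x1367)) (.nd (.lf 0xa12) (.lf 0)))) (.nd (.nd (.nd (.lf 0x53f) (.lf 0x1632)) (.nd (.lf 0xf57) (.lf 0))) (.nd (.nd (.lf 0xab4) (.lf 0x1798)) (.nd (.lf 0x1341) (.lf 0)))))) (.nd (.nd (.nd (.nd (.nd (.lf 0x173) (.lf 0x147a)) (.nd (.lf 0xc88) (.lf 0))) (.nd (.nd (.lf 0x75f) (.lf 0x171d)) (.nd (.lf 0x423) (.lf 0)))) (.nd (.nd (.nd (.lf 0x482) (.lf 0x15d9)) (.nd (.lf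 0xed0) (.lf 0))) (.nd (.nd (.lf 0xa10) (.lf 0x1024)) (.nd (.lf 0x121b) (.lf 0))))) (.nd (.nd (.nd (.nd (.lf 0x2fe) (.lf 0xae6)) (.nd (.lf 0xdb5) (.lf 0))) (.nd (.nd (.lf 0x8bb) (.lf 0x1789)) (.nd (.lf 0x11e2) (.lf 0)))) (.nd (.nd (.nd (.lf 0x5fb) (.lf 0xd0e)) (.nd (.lf 0x898) (.lf 0))) (.nd (.nd (.lf 0xa5) (.lf 0x10d7)) (.nd (.lf 0x139e) (.lf 0))))))))
def tabA_nbbabba : Tr := (.nd (.nd (.nd (.nd (.nd (.nd (.nd (.lf 0x2d) (.lf 0x108c)) (.nd (.lf 0xb8c) (.lf 0))) (.nd (.nd (.lf 0x23b) (.lf 0x86d)) (.nd (.lf 0x1012) (.lf 0)))) (.nd (.nd (.nd (.lf 0x343) (.lf 0x155a)) (.nd (.lf 0xde1) (.lf 0))) (.nd (.nd (.lf 0x8ff) (.lf 0x17a0)) (.nd (.lf 0x508) (.lf 0))))) (.nd (.nd (.nd (.nd (.lf 0x1bd) (.lf 0x14a2)) (.nd (.lf 0xcbf) (.lf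 0))) (.nd (.nd (.lf 0x1a8) (.lf 0x16ab)) (.nd (.lf 0x1119) (.lf 0)))) (.nd (.nd (.nd (.lf 0x4c8) (.lf 0x157e)) (.nd (.lf 0xf03) (.lf 0))) (.nd (.nd (.lf 0xa4a) (.lf 0x17e8)) (.nd (.lf 0x189) (.lf 0)))))) (.nd (.nd (.nd (.nd (.nd (.lf 0xf7) (.lf 0x1439)) (.nd (.lf 0xc2e) (.lf 0))) (.nd (.nd (.lf 0x6f3) (.lf 0x16f1)) (.nd (.lf 0x1095) (.lf 0)))) (.nd (.nd (.nd (.lf 0x264) (.lf 0x15a7)) (.nd (.lf 0x8fc) (.lf 0))) (.nd (.nd (.lf 0x9a7) (.lf 0xee8)) (.nd (.lf 0xce4) (.lf 0))))) (.nd (.nd (.nd (.nd (.lf 0x284) (.lf 0xa4b)) (.nd (.lf 0xd56) (.lf 0))) (.nd (.nd (.lf 0x852) (.lf 0x176c)) (.nd (.lf 0x1197) (.lf 0)))) (.nd (.nd (.nd (.lf 0x583) (.lf 0x1654)) (.nd (.lf 0xf8f) (.lf 0))) (.nd (.nd (.lf 0xaf5) (.lf 0x17f3)) (.nd (.lf 0x675)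 (.lf 0))))))) (.nd (.nd (.nd (.nd (.nd (.nd (.lf 0x91) (.lf 0x13ff)) (.nd (.lf 0xbdd) (.lf 0))) (.nd (.nd (.lf 0x698) (.lf 0x1419)) (.nd (.lf 0x104f) (.lf 0)))) (.nd (.nd (.nd (.lf 0x3a5) (.lf 0x6cd)) (.nd (.lf 0xe2c) (.lf 0))) (.nd (.nd (.lf 0x952) (.lf 0x16de)) (.nd (.lf 0x9e5) (.lf 0))))) (.nd (.nd (.nd (.nd (.lf 0x221) (.lf 0xe74)) (.nd (.lf 0xd0b) (.lf 0))) (.nd (.nd (.lf 0x7f5) (.lf 0x16a9)) (.nd (.lf 0x1155) (.lf 0)))) (.nd (.nd (.nd (.lf 0x528) (.lf 0x1622)) (.nd (.lf 0xf42) (.lf 0))) (.nd (.nd (.lf 0x825) (.lf 0x1541)) (.nd (.lf 0x1335) (.lf 0)))))) (.nd (.nd (.nd (.nd (.nd (.lf 0x159) (.lf 0x146d)) (.nd (.lf 0xc76) (.lf 0))) (.nd (.nd (.lf 0x749) (.lf 0x1716)) (.nd (.lf 0x10dc) (.lf 0)))) (.nd (.nd (.nd (.lf 0x46a)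 (.lf 0x15d2)) (.nd (.lf 0x9ca) (.lf 0))) (.nd (.nd (.lf 0x9fc) (.lf 0x10e9)) (.nd (.lf 0x12c3) (.lf 0))))) (.nd (.nd (.nd (.nd (.lf 0x2e7) (.lf 0x152b)) (.nd (.lf 0xda4) (.lf 0))) (.nd (.nd (.lf 0x8a5) (.lf 0x14cc)) (.nd (.lf 0x11d5) (.lf 0)))) (.nd (.nd (.nd (.lf 0x5e2) (.lf 0x1681)) (.nd (.lf 0xfb6) (.lf 0))) (.nd (.nd (.lf 0xb43) (.lf 0xb6b)) (.nd (.lf 0x1390) (.lf 0))))))))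
def tabA_nbbabbb : Tr := (.nd (.nd (.nd (.nd (.nd (.nd (.nd (.lf 0x5f) (.lf 0x6b6)) (.nd (.lf 0x300) (.lf 0))) (.nd (.nd (.lf 0x639) (.lf 0xeac)) (.nd (.lf 0x102e) (.lf 0)))) (.nd (.nd (.nd (.lf 0x375) (.lf 0x899)) (.nd (.lf 0xe0a) (.lf 0))) (.nd (.nd (.lf 0x928) (.lf 0x25c)) (.nd (.lf 0x122b) (.lf 0))))) (.nd (.nd (.nd (.nd (.lf 0x1f0) (.lf 0x14be)) (.nd (.lf 0x3af) (.lf 0))) (.nd (.nd (.lf 0x7c9) (.lf 0x11e8)) (.nd (.lf 0x10c6) (.lf 0)))) (.nd (.nd (.nd (.lf 0x4f8) (.lf 0x145f)) (.nd (.lf 0xf25) (.lf 0))) (.nd (.nd (.lf 0xa70) (.lf 0x17ae)) (.nd (.lf 0x131b) (.lf 0)))))) (.nd (.nd (.nd (.nd (.nd (.lf 0x127) (.lf 0x129d)) (.nd (.lf 0xc54) (.lf 0))) (.nd (.nd (.lf 0x71f) (.lf 0x1708)) (.nd (.lf 0x10b5) (.lf 0)))) (.nd (.nd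 (.nd (.lf 0x438) (.lf 0x79c)) (.nd (.lf 0xe97) (.lf 0))) (.nd (.nd (.lf 0x9d2) (.lf 0x1606)) (.nd (.lf 0x12a4) (.lf 0))))) (.nd (.nd (.nd (.nd (.lf 0x2b6) (.lf 0xaf4)) (.nd (.lf 0xfd) (.lf 0))) (.nd (.nd (.lf 0x87e) (.lf 0x1774)) (.nd (.lf 0x951) (.lf 0)))) (.nd (.nd (.nd (.lf 0x5b4) (.lf 0x862)) (.nd (.lf 0xfb0) (.lf 0))) (.nd (.nd (.lf 0xb1e) (.lf 0xc30)) (.nd (.lf 0x11fc) (.lf 0))))))) (.nd (.nd (.nd (.nd (.nd (.nd (.lf 0xc3) (.lf 0xd30)) (.nd (.lf 0x22e) (.lf 0))) (.nd (.nd (.lf 0x6c8) (.lf 0x151b)) (.nd (.lf 0x1072) (.lf 0)))) (.nd (.nd (.nd (.lf 0x3d6) (.lf 0x12c2)) (.nd (.lf 0xe51) (.lf 0))) (.nd (.nd (.lf 0x97a) (.lf 0x134a)) (.nd (.lf 0x1232) (.lf 0))))) (.nd (.nd (.nd (.nd (.lf 0x253) (.lf 0x14ec)) (.nd (.lf 0x1cb)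 (.lf 0))) (.nd (.nd (.lf 0x824) (.lf 0x170a)) (.nd (.lf 0x1172) (.lf 0)))) (.nd (.nd (.nd (.lf 0x553) (.lf 0x1464)) (.nd (.lf 0xf68) (.lf 0))) (.nd (.nd (.lf 0xa03) (.lf 0x17ee)) (.nd (.lf 0x19c) (.lf 0)))))) (.nd (.nd (.nd (.nd (.nd (.lf 0x18b) (.lf 0x1486)) (.nd (.lf 0xc9a) (.lf 0))) (.nd (.nd (.lf 0x777) (.lf 0xb10)) (.nd (.lf 0x10fc) (.lf 0)))) (.nd (.nd (.nd (.lf 0x499) (.lf 0x11a5)) (.nd (.lf 0x77b) (.lf 0))) (.nd (.nd (.lf 0x179) (.lf 0x13aa)) (.nd (.lf 0x12e1) (.lf 0))))) (.nd (.nd (.nd (.nd (.lf 0x315) (.lf 0x5d5)) (.nd (.lf 0xdc6) (.lf 0))) (.nd (.nd (.lf 0x8d0) (.lf 0x178e)) (.nd (.lf 0x11f0) (.lf 0)))) (.nd (.nd (.nd (.lf 0x613) (.lf 0x19f)) (.nd (.lf 0xff1) (.lf 0))) (.nd (.nd (.lf 0xb6a) (.lf 0x1658)) (.nd (.lf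 0x387) (.lf 0))))))))
def tabA_nbbbaaa : Tr := (.nd (.nd (.nd (.nd (.nd (.nd (.nd (.lf 0xd) (.lf 0x13b5)) (.nd (.lf 0x7ee) (.lf 0x180b))) (.nd (.nd (.lf 0x145) (.lf 0x522)) (.nd (.lf 0x6c4) (.lf 0)))) (.nd (.nd (.nd (.lf 0x324) (.lf 0x154d)) (.nd (.lf 0xdd2) (.lf 0))) (.nd (.nd (.lf 0x8e3) (.lf 0x13c9)) (.nd (.lf 0x3f4) (.lf 0))))) (.nd (.nd (.nd (.nd (.lf 0x19e) (.lf 0x1435)) (.nd (.lf 0xca6) (.lf 0))) (.nd (.nd (.lf 0x5a) (.lf 0x1728)) (.nd (.lf 0x797) (.lf 0)))) (.nd (.nd (.nd (.lf 0x4aa) (.lf 0x1224)) (.nd (.lf 0xeed) (.lf 0))) (.nd (.nd (.lf 0x485) (.lf 0x17e5)) (.nd (.lf 0x12ee) (.lf 0)))))) (.nd (.nd (.nd (.nd (.nd (.lf 0xd7) (.lf 0x76b)) (.nd (.lf 0xc14) (.lf 0))) (.nd (.nd (.lf 0x6d7) (.lf 0x16e7)) (.nd (.lf 0x107d)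 (.lf 0)))) (.nd (.nd (.nd (.lf 0x3e7) (.lf 0x1598)) (.nd (.lf 0x295) (.lf 0))) (.nd (.nd (.lf 0x98c) (.lf 0x1380)) (.nd (.lf 0x1275) (.lf 0))))) (.nd (.nd (.nd (.nd (.lf 0x266) (.lf 0x14f3)) (.nd (.lf 0xd40) (.lf 0))) (.nd (.nd (.lf 0x836) (.lf 0x1742)) (.nd (.lf 0x1182) (.lf 0)))) (.nd (.nd (.nd (.lf 0x564) (.lf 0x10bb)) (.nd (.lf 0xf77) (.lf 0))) (.nd (.nd (.lf 0xadb) (.lf 0x13b6)) (.nd (.lf 0x12e3) (.lf 0))))))) (.nd (.nd (.nd (.nd (.nd (.nd (.lf 0x71) (.lf 0x13ed)) (.nd (.lf 0xbc0) (.lf 0))) (.nd (.nd (.lf 0x67c) (.lf 0x10e3)) (.nd (.lf 0x103a) (.lf 0)))) (.nd (.nd (.nd (.lf 0x388) (.lf 0x14b)) (.nd (.lf 0xca5) (.lf 0))) (.nd (.nd (.lf 0x939) (.lf 0x575)) (.nd (.lf 0xd1) (.lf 0))))) (.nd (.nd (.nd (.nd (.lf 0x203) (.lf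 0xe71)) (.nd (.lf 0xcf4) (.lf 0))) (.nd (.nd (.lf 0x7dd) (.lf 0x1515)) (.nd (.lf 0x1140) (.lf 0)))) (.nd (.nd (.nd (.lf 0x3a9) (.lf 0xe95)) (.nd (.lf 0xf31) (.lf 0))) (.nd (.nd (.lf 0xa82) (.lf 0x1776)) (.nd (.lf 0x113d) (.lf 0)))))) (.nd (.nd (.nd (.nd (.nd (.lf 0x13b) (.lf 0x145c)) (.nd (.lf 0xc60) (.lf 0))) (.nd (.nd (.lf 0x72e) (.lf 0x170b)) (.nd (.lf 0xed1) (.lf 0)))) (.nd (.nd (.nd (.lf 0x44a) (.lf 0x587)) (.nd (.lf 0xea6) (.lf 0))) (.nd (.nd (.lf 0x9e0) (.lf 0x7a0)) (.nd (.lf 0x12b1) (.lf 0))))) (.nd (.nd (.nd (.nd (.lf 0x2c8) (.lf 0x13dd)) (.nd (.lf 0xd8c) (.lf 0))) (.nd (.nd (.lf 0x88e) (.lf 0x177a)) (.nd (.lf 0x611) (.lf 0)))) (.nd (.nd (.nd (.lf 0x5c4) (.lf 0x1673)) (.nd (.lf 0xfb9) (.lf 0))) (.nd (.nd (.lf 0x890)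 (.lf 0x15be)) (.nd (.lf 0xbf5) (.lf 0))))))))
def tabA_nbbbaab : Tr := (.nd (.nd (.nd (.nd (.nd (.nd (.nd (.lf 0x40) (.lf 0x13d3)) (.nd (.lf 0xb9b) (.lf 0))) (.nd (.nd (.lf 0x64d) (.lf 0xfcb)) (.nd (.lf 0x7c3) (.lf 0)))) (.nd (.nd (.nd (.lf 0x356) (.lf 0x12f7)) (.nd (.lf 0xdf1) (.lf 0))) (.nd (.nd (.lf 0x90f) (.lf 0x15c8)) (.nd (.lf 0x1217) (.lf 0))))) (.nd (.nd (.nd (.nd (.lf 0x1d1) (.lf 0x14ac)) (.nd (.lf 0xccc) (.lf 0))) (.nd (.nd (.lf 0x7b1) (.lf 0x1738)) (.nd (.lf 0x73b) (.lf 0)))) (.nd (.nd (.nd (.lf 0x4db) (.lf 0x959)) (.nd (.lf 0xf11) (.lf 0))) (.nd (.nd (.lf 0xa58) (.lf 0x17eb)) (.nd (.lf 0xc13) (.lf 0)))))) (.nd (.nd (.nd (.nd (.nd (.lf 0x10a) (.lf 0x1356)) (.nd (.lf 0x5dc) (.lf 0))) (.nd (.nd (.lf 0x704) (.lf 0x16b7))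 (.nd (.lf 0xee0) (.lf 0)))) (.nd (.nd (.nd (.lf 0x418) (.lf 0x14ad)) (.nd (.lf 0xe82) (.lf 0))) (.nd (.nd (.lf 0x9b6) (.lf 0x16cc)) (.nd (.lf 0xa45) (.lf 0))))) (.nd (.nd (.nd (.nd (.lf 0x298) (.lf 0x96e)) (.nd (.lf 0x483) (.lf 0))) (.nd (.nd (.lf 0x66f) (.lf 0x1499)) (.nd (.lf 0x6fb) (.lf 0)))) (.nd (.nd (.nd (.lf 0x596) (.lf 0x1660)) (.nd (.lf 0x7cc) (.lf 0))) (.nd (.nd (.lf 0x1f1) (.lf 0x519)) (.nd (.lf 0x1369) (.lf 0))))))) (.nd (.nd (.nd (.nd (.nd (.nd (.lf 0xa4) (.lf 0x1409)) (.nd (.lf 0xbec) (.lf 0))) (.nd (.nd (.lf 0x6ac) (.lf 0x14b8)) (.nd (.lf 0x1060) (.lf 0)))) (.nd (.nd (.nd (.lf 0x3b8) (.lf 0x11fa)) (.nd (.lf 0x170) (.lf 0))) (.nd (.nd (.lf 0x961) (.lf 0x17bc)) (.nd (.lf 0x1255) (.lf 0))))) (.nd (.nd (.nd (.nd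 (.lf 0x234) (.lf 0x14de)) (.nd (.lf 0xd1c) (.lf 0))) (.nd (.nd (.lf 0x807) (.lf 0xddd)) (.nd (.lf 0x115f) (.lf 0)))) (.nd (.nd (.nd (.lf 0x539) (.lf 0x162e)) (.nd (.lf 0xf4f) (.lf 0))) (.nd (.nd (.lf 0xaae) (.lf 0x3ef)) (.nd (.lf 0x122e) (.lf 0)))))) (.nd (.nd (.nd (.nd (.nd (.lf 0x16c) (.lf 0xd37)) (.nd (.lf 0xc82) (.lf 0))) (.nd (.nd (.lf 0x33) (.lf 0x171b)) (.nd (.lf 0x10e8) (.lf 0)))) (.nd (.nd (.nd (.lf 0x47b) (.lf 0xf96)) (.nd (.lf 0xeca) (.lf 0))) (.nd (.nd (.lf 0xa0b) (.lf 0x17b7)) (.nd (.lf 0xddf) (.lf 0))))) (.nd (.nd (.nd (.nd (.lf 0x2f7) (.lf 0x11d4)) (.nd (.lf 0xdaf) (.lf 0))) (.nd (.nd (.lf 0x135) (.lf 0x527)) (.nd (.lf 0xf17) (.lf 0)))) (.nd (.nd (.nd (.lf 0x5f4) (.lf 0x1689)) (.nd (.lf 0xfdc) (.lf 0))) (.nd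 (.nd (.lf 0xb53) (.lf 0xe28)) (.nd (.lf 0x139a) (.lf 0))))))))
def tabA_nbbbaba : Tr := (.nd (.nd (.nd (.nd (.nd (.nd (.nd (.lf 0x27) (.lf 0xb7a)) (.nd (.lf 0xb88) (.lf 0))) (.nd (.nd (.lf 0x63b) (.lf 0x16a1)) (.nd (.lf 0x100c) (.lf 0)))) (.nd (.nd (.nd (.lf 0x33e) (.lf 0x833)) (.nd (.lf 0x78a) (.lf 0))) (.nd (.nd (.lf 0x8f8) (.lf 0x16b9)) (.nd (.lf 0x365) (.lf 0))))) (.nd (.nd (.nd (.nd (.lf 0x1b7) (.lf 0x14a0)) (.nd (.lf 0xcbc) (.lf 0))) (.nd (.nd (.lf 0x17e) (.lf 0xd58)) (.nd (.lf 0x1116) (.lf 0)))) (.nd (.nd (.nd (.lf 0x4c1) (.lf 0xd6a)) (.nd (.lf 0xeff) (.lf 0))) (.nd (.nd (.lf 0xa44) (.lf 0x4fc)) (.nd (.lf 0x138) (.lf 0)))))) (.nd (.nd (.nd (.nd (.nd (.lf 0xf0) (.lf 0x1433)) (.nd (.lf 0xc2b) (.lf 0))) (.nd (.nd (.lf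 0x6ee) (.lf 0x16ef)) (.nd (.lf 0x72d) (.lf 0)))) (.nd (.nd (.nd (.lf 0x400) (.lf 0x15a5)) (.nd (.lf 0xe6f) (.lf 0))) (.nd (.nd (.lf 0x9a0) (.lf 0x1293)) (.nd (.lf 0x1282) (.lf 0))))) (.nd (.nd (.nd (.nd (.lf 0x27e) (.lf 0x12b)) (.nd (.lf 0xd52) (.lf 0))) (.nd (.nd (.lf 0x84d) (.lf 0xec8)) (.nd (.lf 0xc85) (.lf 0)))) (.nd (.nd (.nd (.lf 0x57e) (.lf 0x1651)) (.nd (.lf 0xf8b) (.lf 0))) (.nd (.nd (.lf 0xaef) (.lf 0xfae)) (.nd (.lf 0x542) (.lf 0))))))) (.nd (.nd (.nd (.nd (.nd (.nd (.lf 0x8b) (.lf 0x692)) (.nd (.lf 0xbd8) (.lf 0))) (.nd (.nd (.lf 0x693) (.lf 0x1600)) (.nd (.lf 0xe48) (.lf 0)))) (.nd (.nd (.nd (.lf 0x39f) (.lf 0x9a3)) (.nd (.lf 0xe26) (.lf 0))) (.nd (.nd (.lf 0x46) (.lf 0xad7)) (.nd (.lf 0x1247) (.lf 0))))) (.nd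 (.nd (.nd (.nd (.lf 0x21b) (.lf 0x14d2)) (.nd (.lf 0x6bf) (.lf 0))) (.nd (.nd (.lf 0x3e) (.lf 0x174d)) (.nd (.lf 0x1151) (.lf 0)))) (.nd (.nd (.nd (.lf 0x521) (.lf 0x6fd)) (.nd (.lf 0xf3e) (.lf 0))) (.nd (.nd (.lf 0xa98) (.lf 0x1650)) (.nd (.lf 0x1330) (.lf 0)))))) (.nd (.nd (.nd (.nd (.nd (.lf 0x152) (.lf 0x146a)) (.nd (.lf 0xc72) (.lf 0))) (.nd (.nd (.lf 0x743) (.lf 0x116a)) (.nd (.lf 0xa7e) (.lf 0)))) (.nd (.nd (.nd (.lf 0x463) (.lf 0x14f0)) (.nd (.lf 0xeb6) (.lf 0))) (.nd (.nd (.lf 0x9f6) (.lf 0x15ca)) (.nd (.lf 0x12bf) (.lf 0))))) (.nd (.nd (.nd (.nd (.lf 0x2e1) (.lf 0x1526)) (.nd (.lf 0xd9e) (.lf 0))) (.nd (.nd (.lf 0x8a0) (.lf 0x124b)) (.nd (.lf 0x5e6) (.lf 0)))) (.nd (.nd (.nd (.lf 0x5db) (.lf 0x8bc)) (.nd (.lf 0xfcd)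 (.lf 0))) (.nd (.nd (.lf 0x2bf) (.lf 0x17f0)) (.nd (.lf 0x138c) (.lf 0))))))))
def tabA_nbbbabb : Tr := (.nd (.nd (.nd (.nd (.nd (.nd (.nd (.lf 0x59) (.lf 0xb7c)) (.nd (.lf 0xbae) (.lf 0))) (.nd (.nd (.lf 0x665) (.lf 0x47e)) (.nd (.lf 0xf9e) (.lf 0)))) (.nd (.nd (.nd (.lf 0x21c) (.lf 0x3a3)) (.nd (.lf 0xe03) (.lf 0))) (.nd (.nd (.lf 0x923) (.lf 0x12f0)) (.nd (.lf 0x1228) (.lf 0))))) (.nd (.nd (.nd (.nd (.lf 0x1ea) (.lf 0x14bc)) (.nd (.lf 0x864) (.lf 0))) (.nd (.nd (.lf 0x111) (.lf 0x15ac)) (.nd (.lf 0x112f) (.lf 0)))) (.nd (.nd (.nd (.lf 0x4f2) (.lf 0x12ae)) (.nd (.lf 0xc25) (.lf 0))) (.nd (.nd (.lf 0xa6a) (.lf 0x1281)) (.nd (.lf 0x1319) (.lf 0)))))) (.nd (.nd (.nd (.nd (.nd (.lf 0x121) (.lf 0x1452)) (.nd (.lf 0xc4e) (.lf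 0))) (.nd (.nd (.lf 0x71a) (.lf 0x1705)) (.nd (.lf 0xfbd) (.lf 0)))) (.nd (.nd (.nd (.lf 0x432) (.lf 0xe58)) (.nd (.lf 0x2c4) (.lf 0))) (.nd (.nd (.lf 0x9cc) (.lf 0x1523)) (.nd (.lf 0x147) (.lf 0))))) (.nd (.nd (.nd (.nd (.lf 0x186) (.lf 0xcdb)) (.nd (.lf 0xd7a) (.lf 0))) (.nd (.nd (.lf 0x66c) (.lf 0x3ba)) (.nd (.lf 0x11b1) (.lf 0)))) (.nd (.nd (.nd (.lf 0x5af) (.lf 0x1527)) (.nd (.lf 0xfad) (.lf 0))) (.nd (.nd (.lf 0xb19) (.lf 0xa8c)) (.nd (.lf 0xb94) (.lf 0))))))) (.nd (.nd (.nd (.nd (.nd (.nd (.lf 0xbd) (.lf 0x1378)) (.nd (.lf 0xc00) (.lf 0))) (.nd (.nd (.lf 0x6c2) (.lf 0x863)) (.nd (.lf 0x9f0) (.lf 0)))) (.nd (.nd (.nd (.lf 0x3d0) (.lf 0x1590)) (.nd (.lf 0xe4d) (.lf 0))) (.nd (.nd (.lf 0x975) (.lf 0x12ac)) (.nd (.lf 0x1267)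 (.lf 0))))) (.nd (.nd (.nd (.nd (.lf 0x24c) (.lf 0xdf0)) (.nd (.lf 0xd2e) (.lf 0))) (.nd (.nd (.lf 0x812) (.lf 0x843)) (.nd (.lf 0xd3e) (.lf 0)))) (.nd (.nd (.nd (.lf 0x54c) (.lf 0x163d)) (.nd (.lf 0x4c7) (.lf 0))) (.nd (.nd (.lf 0xac5) (.lf 0xea7)) (.nd (.lf 0xee) (.lf 0)))))) (.nd (.nd (.nd (.nd (.nd (.lf 0x185) (.lf 0x767)) (.nd (.lf 0xc96) (.lf 0))) (.nd (.nd (.lf 0x772) (.lf 0x1041)) (.nd (.lf 0x10f6) (.lf 0)))) (.nd (.nd (.nd (.lf 0x493) (.lf 0x45f)) (.nd (.lf 0xedd) (.lf 0))) (.nd (.nd (.lf 0xa1e) (.lf 0x17e2)) (.nd (.lf 0x12dc) (.lf 0))))) (.nd (.nd (.nd (.nd (.lf 0x30f) (.lf 0x1540)) (.nd (.lf 0xd2b) (.lf 0))) (.nd (.nd (.lf 0x8cb) (.lf 0xe31)) (.nd (.lf 0xc7) (.lf 0)))) (.nd (.nd (.nd (.lf 0x60d) (.lf 0x67d)) (.nd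 (.lf 0x224) (.lf 0))) (.nd (.nd (.lf 0x56f) (.lf 0xeaf)) (.nd (.lf 0xc5a) (.lf 0))))))))
def tabA_nbbbbaa : Tr := (.nd (.nd (.nd (.nd (.nd (.nd (.nd (.lf 0x1a) (.lf 0xf84)) (.nd (.lf 0xb80) (.lf 0))) (.nd (.nd (.lf 0x4a5) (.lf 0x138e)) (.nd (.lf 0xd11) (.lf 0)))) (.nd (.nd (.nd (.lf 0x331) (.lf 0x1552)) (.nd (.lf 0xdd9) (.lf 0))) (.nd (.nd (.lf 0x8ee) (.lf 0xcfe)) (.nd (.lf 0x1201) (.lf 0))))) (.nd (.nd (.nd (.nd (.lf 0x1ab) (.lf 0x308)) (.nd (.lf 0xcb2) (.lf 0))) (.nd (.nd (.lf 0x793) (.lf 0x172d)) (.nd (.lf 0x110e) (.lf 0)))) (.nd (.nd (.nd (.lf 0x4b6) (.lf 0xf7a)) (.nd (.lf 0xef7) (.lf 0))) (.nd (.nd (.lf 0xa3c) (.lf 0xe14)) (.nd (.lf 0x12f5) (.lf 0)))))) (.nd (.nd (.nd (.nd (.nd (.lf 0xe4) (.lf 0x142d)) (.nd (.lf 0xc21)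 (.lf 0))) (.nd (.nd (.lf 0x6e3) (.lf 0x16ea)) (.nd (.lf 0x1086) (.lf 0)))) (.nd (.nd (.nd (.lf 0x3f3) (.lf 0x159d)) (.nd (.lf 0xe66) (.lf 0))) (.nd (.nd (.lf 0x6ed) (.lf 0x1176)) (.nd (.lf 0xb92) (.lf 0))))) (.nd (.nd (.nd (.nd (.lf 0x272) (.lf 0x14fa)) (.nd (.lf 0xd49) (.lf 0))) (.nd (.nd (.lf 0x841) (.lf 0x15eb)) (.nd (.lf 0x419) (.lf 0)))) (.nd (.nd (.nd (.lf 0x571) (.lf 0xefa)) (.nd (.lf 0xf80) (.lf 0))) (.nd (.nd (.lf 0xae5) (.lf 0x17e7)) (.nd (.lf 0x54f) (.lf 0))))))) (.nd (.nd (.nd (.nd (.nd (.nd (.lf 0x7e) (.lf 0x390)) (.nd (.lf 0xbce) (.lf 0))) (.nd (.nd (.lf 0x68a) (.lf 0x808)) (.nd (.lf 0x1045) (.lf 0)))) (.nd (.nd (.nd (.lf 0x140) (.lf 0x13ad)) (.nd (.lf 0x58c) (.lf 0))) (.nd (.nd (.lf 0x790) (.lf 0xd08)) (.nd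 (.lf 0x14d) (.lf 0))))) (.nd (.nd (.nd (.nd (.lf 0x20e) (.lf 0x625)) (.nd (.lf 0xcff) (.lf 0))) (.nd (.nd (.lf 0x7e9) (.lf 0x1406)) (.nd (.lf 0x1149) (.lf 0)))) (.nd (.nd (.nd (.lf 0x31b) (.lf 0x1614)) (.nd (.lf 0x801) (.lf 0))) (.nd (.nd (.lf 0xa8d) (.lf 0x4e6)) (.nd (.lf 0x132a) (.lf 0)))))) (.nd (.nd (.nd (.nd (.nd (.lf 0x146) (.lf 0x316)) (.nd (.lf 0x9e4) (.lf 0))) (.nd (.nd (.lf 0x738) (.lf 0x1711)) (.nd (.lf 0xc15) (.lf 0)))) (.nd (.nd (.nd (.lf 0x456) (.lf 0x15d)) (.nd (.lf 0x90e) (.lf 0))) (.nd (.nd (.lf 0x9ea) (.lf 0x1785)) (.nd (.lf 0x12b8) (.lf 0))))) (.nd (.nd (.nd (.nd (.lf 0x2d4) (.lf 0x4d3)) (.nd (.lf 0xd95) (.lf 0))) (.nd (.nd (.lf 0x897) (.lf 0xff2)) (.nd (.lf 0x11c8) (.lf 0)))) (.nd (.nd (.nd (.lf 0x5d0)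 (.lf 0x582)) (.nd (.lf 0xfc3) (.lf 0))) (.nd (.nd (.lf 0xb36) (.lf 0x64c)) (.nd (.lf 0xe2b) (.lf 0))))))))
def tabA_nbbbbab : Tr := (.nd (.nd (.nd (.nd (.nd (.nd (.nd (.lf 0x4d) (.lf 0x13d8)) (.nd (.lf 0x3d1) (.lf 0))) (.nd (.nd (.lf 0x659) (.lf 0x161f)) (.nd (.lf 0x181) (.lf 0)))) (.nd (.nd (.nd (.lf 0x362) (.lf 0x1568)) (.nd (.lf 0xdfa) (.lf 0))) (.nd (.nd (.lf 0x91a) (.lf 0x17a6)) (.nd (.lf 0xf6c) (.lf 0))))) (.nd (.nd (.nd (.nd (.lf 0x1dd) (.lf 0x4d5)) (.nd (.lf 0xcd8) (.lf 0))) (.nd (.nd (.lf 0x301) (.lf 0x173d)) (.nd (.lf 0x1129) (.lf 0)))) (.nd (.nd (.nd (.lf 0x4e7) (.lf 0x6b8)) (.nd (.lf 0xf1a) (.lf 0))) (.nd (.nd (.lf 0xa63) (.lf 0xeea)) (.nd (.lf 0x93d) (.lf 0)))))) (.nd (.nd (.nd (.nd (.nd (.lf 0x5e) (.lf 0x10f))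 (.nd (.lf 0x66) (.lf 0))) (.nd (.nd (.lf 0x70e) (.lf 0x16fe)) (.nd (.lf 0x10ab) (.lf 0)))) (.nd (.nd (.nd (.lf 0x424) (.lf 0x15b7)) (.nd (.lf 0x128) (.lf 0))) (.nd (.nd (.lf 0x464) (.lf 0x17d0)) (.nd (.lf 0xe19) (.lf 0))))) (.nd (.nd (.nd (.nd (.lf 0x2a5) (.lf 0x150c)) (.nd (.lf 0x2fd) (.lf 0))) (.nd (.nd (.lf 0x86c) (.lf 0x15fe)) (.nd (.lf 0x11ab) (.lf 0)))) (.nd (.nd (.nd (.lf 0x5a3) (.lf 0xbb4)) (.nd (.lf 0xf76) (.lf 0))) (.nd (.nd (.lf 0x97c) (.lf 0x1800)) (.nd (.lf 0xf87) (.lf 0))))))) (.nd (.nd (.nd (.nd (.nd (.nd (.lf 0xb1) (.lf 0x1411)) (.nd (.lf 0xbf6) (.lf 0))) (.nd (.nd (.lf 0x6b7) (.lf 0x14fe)) (.nd (.lf 0x1067) (.lf 0)))) (.nd (.nd (.nd (.lf 0x3c5) (.lf 0x158b)) (.nd (.lf 0x32d) (.lf 0))) (.nd (.nd (.lf 0x96a)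 (.lf 0x16d5)) (.nd (.lf 0x125e) (.lf 0))))) (.nd (.nd (.nd (.nd (.lf 0x240) (.lf 0x14e3)) (.nd (.lf 0xd25) (.lf 0))) (.nd (.nd (.lf 0x813) (.lf 0xdd6)) (.nd (.lf 0x1163) (.lf 0)))) (.nd (.nd (.nd (.lf 0x544) (.lf 0x1635)) (.nd (.lf 0x270) (.lf 0))) (.nd (.nd (.lf 0xab9) (.lf 0x171f)) (.nd (.lf 0x1343) (.lf 0)))))) (.nd (.nd (.nd (.nd (.nd (.lf 0x178) (.lf 0xecf)) (.nd (.lf 0xc8d) (.lf 0))) (.nd (.nd (.lf 0x766) (.lf 0x1691)) (.nd (.lf 0x10ee) (.lf 0)))) (.nd (.nd (.nd (.lf 0x489) (.lf 0xb4d)) (.nd (.lf 0x8b0) (.lf 0))) (.nd (.nd (.lf 0xa14) (.lf 0x17dd)) (.nd (.lf 0x12d6) (.lf 0))))) (.nd (.nd (.nd (.nd (.lf 0x303) (.lf 0x1536)) (.nd (.lf 0xdba) (.lf 0))) (.nd (.nd (.lf 0x8c0) (.lf 0xc87)) (.nd (.lf 0x116d) (.lf 0)))) (.nd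 (.nd (.nd (.lf 0x601) (.lf 0x168e)) (.nd (.lf 0xfe4) (.lf 0))) (.nd (.nd (.lf 0xb5e) (.lf 0x17b3)) (.nd (.lf 0x13a2) (.lf 0))))))))
def tabA_nbbbbba : Tr := (.nd (.nd (.nd (.nd (.nd (.nd (.nd (.lf 0x34) (.lf 0x64f)) (.nd (.lf 0xb91) (.lf 0))) (.nd (.nd (.lf 0x643) (.lf 0x2a9)) (.nd (.lf 0x9bb) (.lf 0)))) (.nd (.nd (.nd (.lf 0x34a) (.lf 0x155e)) (.nd (.lf 0xcd9) (.lf 0))) (.nd (.nd (.lf 0x904) (.lf 0x1136)) (.nd (.lf 0xd97) (.lf 0))))) (.nd (.nd (.nd (.nd (.lf 0x1c4) (.lf 0xf59)) (.nd (.lf 0xcc3) (.lf 0))) (.nd (.nd (.lf 0x7a7) (.lf 0xaa4)) (.nd (.lf 0x111e) (.lf 0)))) (.nd (.nd (.nd (.lf 0x4cd) (.lf 0x14aa)) (.nd (.lf 0xf07) (.lf 0))) (.nd (.nd (.lf 0x50) (.lf 0x17b9)) (.nd (.lf 0x255) (.lf 0)))))) (.nd (.nd (.nd (.nd (.nd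 (.lf 0xfc) (.lf 0x42f)) (.nd (.lf 0xb3f) (.lf 0))) (.nd (.nd (.lf 0x109) (.lf 0x1648)) (.nd (.lf 0x109b) (.lf 0)))) (.nd (.nd (.nd (.lf 0x40c) (.lf 0x1493)) (.nd (.lf 0xe79) (.lf 0))) (.nd (.nd (.lf 0x9ac) (.lf 0x17cb)) (.nd (.lf 0x1289) (.lf 0))))) (.nd (.nd (.nd (.nd (.lf 0x28b) (.lf 0xf4b)) (.nd (.lf 0xd5b) (.lf 0))) (.nd (.nd (.lf 0x5f2) (.lf 0x118d)) (.nd (.lf 0x119b) (.lf 0)))) (.nd (.nd (.nd (.lf 0x589) (.lf 0x1659)) (.nd (.lf 0xf94) (.lf 0))) (.nd (.nd (.lf 0xafa) (.lf 0x1286)) (.nd (.lf 0x61d) (.lf 0))))))) (.nd (.nd (.nd (.nd (.nd (.nd (.lf 0x98) (.lf 0x699)) (.nd (.lf 0xbe1) (.lf 0))) (.nd (.nd (.lf 0x69f) (.lf 0x8f0)) (.nd (.lf 0xc6e) (.lf 0)))) (.nd (.nd (.nd (.lf 0x3ab) (.lf 0x283)) (.nd (.lf 0x71d) (.lf 0)))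 (.nd (.nd (.lf 0x958) (.lf 0x1763)) (.nd (.lf 0x3b7) (.lf 0))))) (.nd (.nd (.nd (.nd (.lf 0x228) (.lf 0x14d6)) (.nd (.lf 0xd12) (.lf 0))) (.nd (.nd (.lf 0x7fb) (.lf 0xc06)) (.nd (.lf 0x1158) (.lf 0)))) (.nd (.nd (.nd (.lf 0x52d) (.lf 0x8ba)) (.nd (.lf 0xf45) (.lf 0))) (.nd (.nd (.lf 0xaa3) (.lf 0x11db)) (.nd (.lf 0x1338) (.lf 0)))))) (.nd (.nd (.nd (.nd (.nd (.lf 0x15f) (.lf 0xbc8)) (.nd (.lf 0xc7a) (.lf 0))) (.nd (.nd (.lf 0x74f) (.lf 0xf50)) (.nd (.lf 0x10df) (.lf 0)))) (.nd (.nd (.nd (.lf 0x470) (.lf 0x15d4)) (.nd (.lf 0xebe) (.lf 0))) (.nd (.nd (.lf 0xa00) (.lf 0xeec)) (.nd (.lf 0x12c8) (.lf 0))))) (.nd (.nd (.nd (.nd (.lf 0x2ec) (.lf 0x152d)) (.nd (.lf 0xda7) (.lf 0))) (.nd (.nd (.lf 0x8ab) (.lf 0x1783)) (.nd (.lf 0x11d8)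 (.lf 0)))) (.nd (.nd (.nd (.lf 0x5e9) (.lf 0x1682)) (.nd (.lf 0x8e7) (.lf 0))) (.nd (.nd (.lf 0xb49) (.lf 0x1804)) (.nd (.lf 0xfd1) (.lf 0))))))))
def tabA_nbbbbbb : Tr := (.nd (.nd (.nd (.nd (.nd (.nd (.nd (.lf 0x65) (.lf 0x913)) (.nd (.lf 0xbb7) (.lf 0))) (.nd (.nd (.lf 0x671) (.lf 0xf5c)) (.nd (.lf 0xb5) (.lf 0)))) (.nd (.nd (.nd (.lf 0x37a) (.lf 0x4ab)) (.nd (.lf 0xe10) (.lf 0))) (.nd (.nd (.lf 0x92e) (.lf 0x14a8)) (.nd (.lf 0x122f) (.lf 0))))) (.nd (.nd (.nd (.nd (.lf 0x1f7) (.lf 0xa9b)) (.nd (.lf 0xba8) (.lf 0))) (.nd (.nd (.lf 0x7d0) (.lf 0x1320)) (.nd (.lf 0xd81) (.lf 0)))) (.nd (.nd (.nd (.lf 0x4fd) (.lf 0x15b3)) (.nd (.lf 0x278) (.lf 0))) (.nd (.nd (.lf 0xa76) (.lf 0xdf8)) (.nd (.lf 0x10a2) (.lf 0)))))) (.nd (.nd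 (.nd (.nd (.nd (.lf 0x12e) (.lf 0x1456)) (.nd (.lf 0xc57) (.lf 0))) (.nd (.nd (.lf 0x725) (.lf 0x124e)) (.nd (.lf 0xbd7) (.lf 0)))) (.nd (.nd (.nd (.lf 0x43f) (.lf 0x1530)) (.nd (.lf 0xe9b) (.lf 0))) (.nd (.nd (.lf 0x9d8) (.lf 0xb3d)) (.nd (.lf 0x114e) (.lf 0))))) (.nd (.nd (.nd (.nd (.lf 0xf) (.lf 0x5e8)) (.nd (.lf 0xd83) (.lf 0))) (.nd (.nd (.lf 0x7bd) (.lf 0xfb3)) (.nd (.lf 0x11b8) (.lf 0)))) (.nd (.nd (.nd (.lf 0x5b9) (.lf 0x1288)) (.nd (.lf 0xfb4) (.lf 0))) (.nd (.nd (.lf 0xb22) (.lf 0x1801)) (.nd (.lf 0xc2f) (.lf 0))))))) (.nd (.nd (.nd (.nd (.nd (.nd (.lf 0xca) (.lf 0x4bf)) (.nd (.lf 0xc09) (.lf 0))) (.nd (.nd (.lf 0x2e) (.lf 0x10a9)) (.nd (.lf 0x1075) (.lf 0)))) (.nd (.nd (.nd (.lf 0x3db) (.lf 0xd8d)) (.nd (.lf 0xe56)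 (.lf 0))) (.nd (.nd (.lf 0x980) (.lf 0x1328)) (.nd (.lf 0x126d) (.lf 0))))) (.nd (.nd (.nd (.nd (.lf 0x259) (.lf 0x445)) (.nd (.lf 0xabd) (.lf 0))) (.nd (.nd (.lf 0x82a) (.lf 0xa6f)) (.nd (.lf 0x1178) (.lf 0)))) (.nd (.nd (.nd (.lf 0x559) (.lf 0x1234)) (.nd (.lf 0xf6d) (.lf 0))) (.nd (.nd (.lf 0x9cd) (.lf 0x17f6)) (.nd (.lf 0x1022) (.lf 0)))))) (.nd (.nd (.nd (.nd (.nd (.lf 0x192) (.lf 0x1489)) (.nd (.lf 0x462) (.lf 0))) (.nd (.nd (.lf 0x77d) (.lf 0x1721)) (.nd (.lf 0x1100) (.lf 0)))) (.nd (.nd (.nd (.lf 0x4a0) (.lf 0x15e6)) (.nd (.lf 0xee5) (.lf 0))) (.nd (.nd (.lf 0x380) (.lf 0xb5c)) (.nd (.lf 0x12e4) (.lf 0))))) (.nd (.nd (.nd (.nd (.lf 0x31c) (.lf 0x1547)) (.nd (.lf 0xad) (.lf 0))) (.nd (.nd (.lf 0x8d6) (.lf 0x178f)) (.nd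 (.lf 0x11f5) (.lf 0)))) (.nd (.nd (.nd (.lf 0x619) (.lf 0x1694)) (.nd (.lf 0xff7) (.lf 0))) (.nd (.nd (.lf 0xaf1) (.lf 0xb2d)) (.nd (.lf 0x36b) (.lf 0))))))))
def tabA : Tr := (.nd (.nd (.nd (.nd (.nd (.nd tabA_naaaaaa tabA_naaaaab) (.nd tabA_naaaaba tabA_naaaabb)) (.nd (.nd tabA_naaabaa tabA_naaabab) (.nd tabA_naaabba tabA_naaabbb))) (.nd (.nd (.nd tabA_naabaaa tabA_naabaab) (.nd tabA_naababa tabA_naababb)) (.nd (.nd tabA_naabbaa tabA_naabbab) (.nd tabA_naabbba tabA_naabbbb)))) (.nd (.nd (.nd (.nd tabA_nabaaaa tabA_nabaaab) (.nd tabA_nabaaba tabA_nabaabb)) (.nd (.nd tabA_nababaa tabA_nababab) (.nd tabA_nababba tabA_nababbb))) (.nd (.nd (.nd tabA_nabbaaa tabA_nabbaab) (.nd tabA_nabbaba tabA_nabbabb)) (.nd (.nd tabA_nabbbaa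 tabA_nabbbab) (.nd tabA_nabbbba tabA_nabbbbb))))) (.nd (.nd (.nd (.nd (.nd tabA_nbaaaaa tabA_nbaaaab) (.nd tabA_nbaaaba tabA_nbaaabb)) (.nd (.nd tabA_nbaabaa tabA_nbaabab) (.nd tabA_nbaabba tabA_nbaabbb))) (.nd (.nd (.nd tabA_nbabaaa tabA_nbabaab) (.nd tabA_nbababa tabA_nbababb)) (.nd (.nd tabA_nbabbaa tabA_nbabbab) (.nd tabA_nbabbba tabA_nbabbbb)))) (.nd (.nd (.nd (.nd tabA_nbbaaaa tabA_nbbaaab) (.nd tabA_nbbaaba tabA_nbbaabb)) (.nd (.nd tabA_nbbabaa tabA_nbbabab) (.nd tabA_nbbabba tabA_nbbabbb))) (.nd (.nd (.nd tabA_nbbbaaa tabA_nbbbaab) (.nd tabA_nbbbaba tabA_nbbbabb)) (.nd (.nd tabA_nbbbbaa tabA_nbbbbab) (.nd tabA_nbbbbba tabA_nbbbbbb))))))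
def tabB_naaaaaa : Tr := (.nd (.nd (.nd (.nd (.nd (.nd (.nd (.lf 0x2) (.lf 0xd1f)) (.nd (.lf 0x6a4) (.lf 0x180a))) (.nd (.nd (.lf 0x61b) (.lf 0x1695)) (.nd (.lf 0xacf) (.lf 0)))) (.nd (.nd (.nd (.lf 0x31d) (.lf 0xe0d)) (.nd (.lf 0xdcc) (.lf 0))) (.nd (.nd (.lf 0x3ee) (.lf 0x132f)) (.nd (.lf 0xba6) (.lf 0))))) (.nd (.nd (.nd (.nd (.lf 0x194) (.lf 0x148c)) (.nd (.lf 0xc9f) (.lf 0))) (.nd (.nd (.lf 0x780) (.lf 0x119c)) (.nd (.lf 0x950) (.lf 0)))) (.nd (.nd (.nd (.lf 0x1ec) (.lf 0x15e8)) (.nd (.lf 0x7a2) (.lf 0))) (.nd (.nd (.lf 0x4a4) (.lf 0x17dc)) (.nd (.lf 0xf6e) (.lf 0)))))) (.nd (.nd (.nd (.nd (.nd (.lf 0xcc) (.lf 0x141f)) (.nd (.lf 0xc0b) (.lf 0))) (.nd (.nd (.lf 0x2e9) (.lf 0x16e3)) (.nd (.lf 0xc7a) (.lf 0)))) (.nd (.nd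 (.nd (.lf 0x198) (.lf 0x1593)) (.nd (.lf 0xe58) (.lf 0))) (.nd (.nd (.lf 0x449) (.lf 0x13e7)) (.nd (.lf 0xaed) (.lf 0))))) (.nd (.nd (.nd (.nd (.lf 0x25c) (.lf 0x111d)) (.nd (.lf 0xd38) (.lf 0))) (.nd (.nd (.lf 0x82d) (.lf 0x1410)) (.nd (.lf 0x117a) (.lf 0)))) (.nd (.nd (.nd (.lf 0x242) (.lf 0xfc3)) (.nd (.lf 0xf6f) (.lf 0))) (.nd (.nd (.lf 0x500) (.lf 0x15d8)) (.nd (.lf 0x134f) (.lf 0))))))) (.nd (.nd (.nd (.nd (.nd (.nd (.lf 0x68) (.lf 0xd9c)) (.nd (.lf 0x58e) (.lf 0))) (.nd (.nd (.lf 0x673) (.lf 0x10a3)) (.nd (.lf 0x8aa) (.lf 0)))) (.nd (.nd (.nd (.lf 0x37d) (.lf 0x1572)) (.nd (.lf 0x713) (.lf 0))) (.nd (.nd (.lf 0x41a) (.lf 0x16c4)) (.nd (.lf 0xc76) (.lf 0))))) (.nd (.nd (.nd (.nd (.lf 0xca) (.lf 0x14c1)) (.nd (.lf 0xceb)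 (.lf 0))) (.nd (.nd (.lf 0x7d3) (.lf 0x14c2)) (.nd (.lf 0x1136) (.lf 0)))) (.nd (.nd (.nd (.lf 0x218) (.lf 0xf6a)) (.nd (.lf 0xf2a) (.lf 0))) (.nd (.nd (.lf 0xa79) (.lf 0x1532)) (.nd (.lf 0x1117) (.lf 0)))))) (.nd (.nd (.nd (.nd (.nd (.lf 0x130) (.lf 0x1363)) (.nd (.lf 0xc5a) (.lf 0))) (.nd (.nd (.lf 0x6f6) (.lf 0x11cf)) (.nd (.lf 0x10bd) (.lf 0)))) (.nd (.nd (.nd (.lf 0x219) (.lf 0xed8)) (.nd (.lf 0xbe4) (.lf 0))) (.nd (.nd (.lf 0x9d9) (.lf 0x1444)) (.nd (.lf 0x12aa) (.lf 0))))) (.nd (.nd (.nd (.nd (.lf 0x11c) (.lf 0x10b5)) (.nd (.lf 0xd84) (.lf 0))) (.nd (.nd (.lf 0x884) (.lf 0x1613)) (.nd (.lf 0x11ba) (.lf 0)))) (.nd (.nd (.nd (.lf 0x5bc) (.lf 0x1013)) (.nd (.lf 0x867) (.lf 0))) (.nd (.nd (.lf 0x534) (.lf 0x1679)) (.nd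 (.lf 0x137d) (.lf 0))))))))
def tabB_naaaaab : Tr := (.nd (.nd (.nd (.nd (.nd (.nd (.nd (.lf 0x36) (.lf 0x1020)) (.nd (.lf 0x578) (.lf 0))) (.nd (.nd (.lf 0x2ab) (.lf 0x1262)) (.nd (.lf 0x88e) (.lf 0)))) (.nd (.nd (.nd (.lf 0x34c) (.lf 0xe30)) (.nd (.lf 0xde8) (.lf 0))) (.nd (.nd (.lf 0x403) (.lf 0x1706)) (.nd (.lf 0x1211) (.lf 0))))) (.nd (.nd (.nd (.nd (.lf 0xb6) (.lf 0x14a8)) (.nd (.lf 0x635) (.lf 0))) (.nd (.nd (.lf 0x356) (.lf 0x11cb)) (.nd (.lf 0x96a) (.lf 0)))) (.nd (.nd (.nd (.lf 0x203) (.lf 0xf43)) (.nd (.lf 0xa50) (.lf 0))) (.nd (.nd (.lf 0x4bb) (.lf 0x14ed)) (.nd (.lf 0xb35) (.lf 0)))))) (.nd (.nd (.nd (.nd (.nd (.lf 0xff) (.lf 0xfca)) (.nd (.lf 0x6b3) (.lf 0))) (.nd (.nd (.lf 0x6fa) (.lf 0x1177)) (.nd (.lf 0x1084)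 (.lf 0)))) (.nd (.nd (.nd (.lf 0x40e) (.lf 0x15ac)) (.nd (.lf 0x7f5) (.lf 0))) (.nd (.nd (.lf 0x9ae) (.lf 0x1415)) (.nd (.lf 0x128a) (.lf 0))))) (.nd (.nd (.nd (.nd (.lf 0x28d) (.lf 0xe8f)) (.nd (.lf 0xd5e) (.lf 0))) (.nd (.nd (.lf 0x859) (.lf 0x1681)) (.nd (.lf 0x119d) (.lf 0)))) (.nd (.nd (.nd (.lf 0x58c) (.lf 0xfec)) (.nd (.lf 0x82c) (.lf 0))) (.nd (.nd (.lf 0x518) (.lf 0x17fc)) (.nd (.lf 0xbaa) (.lf 0))))))) (.nd (.nd (.nd (.nd (.nd (.nd (.lf 0x9b) (.lf 0x126c)) (.nd (.lf 0xbe3) (.lf 0))) (.nd (.nd (.lf 0x6a1) (.lf 0x1321)) (.nd (.lf 0x1058) (.lf 0)))) (.nd (.nd (.nd (.lf 0x3ad) (.lf 0xf9f)) (.nd (.lf 0x72c) (.lf 0))) (.nd (.nd (.lf 0x95a) (.lf 0x17b9)) (.nd (.lf 0xa88) (.lf 0))))) (.nd (.nd (.nd (.nd (.lf 0xdf) (.lf 0xd6b))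 (.nd (.lf 0xd14) (.lf 0))) (.nd (.nd (.lf 0x384) (.lf 0x1738)) (.nd (.lf 0x115a) (.lf 0)))) (.nd (.nd (.nd (.lf 0x22d) (.lf 0x1627)) (.nd (.lf 0x7f0) (.lf 0))) (.nd (.nd (.lf 0x4eb) (.lf 0x1586)) (.nd (.lf 0xf4a) (.lf 0)))))) (.nd (.nd (.nd (.nd (.nd (.lf 0x8c) (.lf 0xcdf)) (.nd (.lf 0x605) (.lf 0))) (.nd (.nd (.lf 0x32a) (.lf 0x116b)) (.nd (.lf 0x935) (.lf 0)))) (.nd (.nd (.nd (.lf 0x1d6) (.lf 0x15af)) (.nd (.lf 0xec1) (.lf 0))) (.nd (.nd (.lf 0xa03) (.lf 0x147d)) (.nd (.lf 0xaf8) (.lf 0))))) (.nd (.nd (.nd (.nd (.lf 0x2ef) (.lf 0x152e)) (.nd (.lf 0xda9) (.lf 0))) (.nd (.nd (.lf 0x3d9) (.lf 0x154e)) (.nd (.lf 0xa18) (.lf 0)))) (.nd (.nd (.nd (.lf 0x5eb) (.lf 0x15e9)) (.nd (.lf 0x85e) (.lf 0))) (.nd (.nd (.lf 0xb4b) (.lf 0x1767))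 (.nd (.lf 0x1124) (.lf 0))))))))
def tabB_naaaaba : Tr := (.nd (.nd (.nd (.nd (.nd (.nd (.nd (.lf 0x1c) (.lf 0xc19)) (.nd (.lf 0x56d) (.lf 0))) (.nd (.nd (.lf 0x631) (.lf 0x1580)) (.nd (.lf 0x9ef) (.lf 0)))) (.nd (.nd (.nd (.lf 0x333) (.lf 0xe1e)) (.nd (.lf 0xb39) (.lf 0))) (.nd (.nd (.lf 0x8f0) (.lf 0x1345)) (.nd (.lf 0xee9) (.lf 0))))) (.nd (.nd (.nd (.nd (.lf 0x1ad) (.lf 0x1499)) (.nd (.lf 0x71e) (.lf 0))) (.nd (.nd (.lf 0x794) (.lf 0x1566)) (.nd (.lf 0x10b7) (.lf 0)))) (.nd (.nd (.nd (.lf 0x1f7) (.lf 0xf2d)) (.nd (.lf 0x7af) (.lf 0))) (.nd (.nd (.lf 0xa3e) (.lf 0x16e1)) (.nd (.lf 0x12f7) (.lf 0)))))) (.nd (.nd (.nd (.nd (.nd (.lf 0xe6) (.lf 0xefc)) (.nd (.lf 0x5c9) (.lf 0))) (.nd (.nd (.lf 0x2f4) (.lf 0x1354)) (.nd (.lf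 0x8f1) (.lf 0)))) (.nd (.nd (.nd (.lf 0x1a2) (.lf 0x1037)) (.nd (.lf 0xe68) (.lf 0))) (.nd (.nd (.lf 0x453) (.lf 0x13f5)) (.nd (.lf 0xab5) (.lf 0))))) (.nd (.nd (.nd (.nd (.lf 0x205) (.lf 0xf53)) (.nd (.lf 0x68a) (.lf 0))) (.nd (.nd (.lf 0x843) (.lf 0x1348)) (.nd (.lf 0x114f) (.lf 0)))) (.nd (.nd (.nd (.lf 0x24c) (.lf 0x164b)) (.nd (.lf 0xf82) (.lf 0))) (.nd (.nd (.lf 0x50d) (.lf 0x15ff)) (.nd (.lf 0xb9b) (.lf 0))))))) (.nd (.nd (.nd (.nd (.nd (.nd (.lf 0x30) (.lf 0xc5b)) (.nd (.lf 0xbd0) (.lf 0))) (.nd (.nd (.lf 0x68c) (.lf 0x10b4)) (.nd (.lf 0xe47) (.lf 0)))) (.nd (.nd (.nd (.lf 0x395) (.lf 0xe61)) (.nd (.lf 0xb20) (.lf 0))) (.nd (.nd (.lf 0x5d9) (.lf 0x1395)) (.nd (.lf 0xa7a) (.lf 0))))) (.nd (.nd (.nd (.nd (.lf 0xd5) (.lf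 0xd56)) (.nd (.lf 0xd00) (.lf 0))) (.nd (.nd (.lf 0x7eb) (.lf 0x120c)) (.nd (.lf 0x114a) (.lf 0)))) (.nd (.nd (.nd (.lf 0x223) (.lf 0x1616)) (.nd (.lf 0xf39) (.lf 0))) (.nd (.nd (.lf 0x4df) (.lf 0x1594)) (.nd (.lf 0xb67) (.lf 0)))))) (.nd (.nd (.nd (.nd (.nd (.lf 0xd0) (.lf 0x1462)) (.nd (.lf 0xc6a) (.lf 0))) (.nd (.nd (.lf 0x73b) (.lf 0x1712)) (.nd (.lf 0xc41) (.lf 0)))) (.nd (.nd (.nd (.lf 0x1cc) (.lf 0xee5)) (.nd (.lf 0x77f) (.lf 0))) (.nd (.nd (.lf 0x9ed) (.lf 0x16dc)) (.nd (.lf 0x12ba) (.lf 0))))) (.nd (.nd (.nd (.nd (.lf 0x126) (.lf 0xdd7)) (.nd (.lf 0xd97) (.lf 0))) (.nd (.nd (.lf 0x899) (.lf 0x156e)) (.nd (.lf 0x11ca) (.lf 0)))) (.nd (.nd (.nd (.lf 0x424) (.lf 0x1025)) (.nd (.lf 0x850) (.lf 0))) (.nd (.nd (.lf 0x5e5)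 (.lf 0x178f)) (.nd (.lf 0xbd9) (.lf 0))))))))
def tabB_naaaabb : Tr := (.nd (.nd (.nd (.nd (.nd (.nd (.nd (.lf 0x50) (.lf 0x13da)) (.nd (.lf 0xba5) (.lf 0))) (.nd (.nd (.lf 0x65b) (.lf 0x16b3)) (.nd (.lf 0x89c) (.lf 0)))) (.nd (.nd (.nd (.lf 0x365) (.lf 0x10fa)) (.nd (.lf 0xdfc) (.lf 0))) (.nd (.nd (.lf 0x630) (.lf 0x17a7)) (.nd (.lf 0x1220) (.lf 0))))) (.nd (.nd (.nd (.nd (.lf 0xc0) (.lf 0x14b8)) (.nd (.lf 0xcdb) (.lf 0))) (.nd (.nd (.lf 0x7bb) (.lf 0x11e3)) (.nd (.lf 0x978) (.lf 0)))) (.nd (.nd (.nd (.lf 0x20e) (.lf 0x14de)) (.nd (.lf 0xe5e) (.lf 0))) (.nd (.nd (.lf 0x4c9) (.lf 0x17e2)) (.nd (.lf 0x1028) (.lf 0)))))) (.nd (.nd (.nd (.nd (.nd (.lf 0x116) (.lf 0x1379)) (.nd (.lf 0x5e2) (.lf 0))) (.nd (.nd (.lf 0x30a) (.lf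 0x16ff)) (.nd (.lf 0x10ad) (.lf 0)))) (.nd (.nd (.nd (.lf 0x427) (.lf 0xec6)) (.nd (.lf 0xe8b) (.lf 0))) (.nd (.nd (.lf 0x46a) (.lf 0x142b)) (.nd (.lf 0x129a) (.lf 0))))) (.nd (.nd (.nd (.nd (.lf 0x112) (.lf 0xdb6)) (.nd (.lf 0x6a2) (.lf 0))) (.nd (.nd (.lf 0x69d) (.lf 0x12a2)) (.nd (.lf 0x9e7) (.lf 0)))) (.nd (.nd (.nd (.lf 0x5a5) (.lf 0x1668)) (.nd (.lf 0xfa6) (.lf 0))) (.nd (.nd (.lf 0x526) (.lf 0x164c)) (.nd (.lf 0x136e) (.lf 0))))))) (.nd (.nd (.nd (.nd (.nd (.nd (.lf 0xb3) (.lf 0xf9d)) (.nd (.lf 0x5b1) (.lf 0))) (.nd (.nd (.lf 0x6b8) (.lf 0x10dd)) (.nd (.lf 0x1068) (.lf 0)))) (.nd (.nd (.nd (.lf 0x18d) (.lf 0x144f)) (.nd (.lf 0xd82) (.lf 0))) (.nd (.nd (.lf 0x96c) (.lf 0x168e)) (.nd (.lf 0x1261) (.lf 0))))) (.nd (.nd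 (.nd (.nd (.lf 0xe9) (.lf 0x14e4)) (.nd (.lf 0xd27) (.lf 0))) (.nd (.nd (.lf 0x815) (.lf 0x123c)) (.nd (.lf 0xb4f) (.lf 0)))) (.nd (.nd (.nd (.lf 0x370) (.lf 0xfb1)) (.nd (.lf 0xc38) (.lf 0))) (.nd (.nd (.lf 0x4f5) (.lf 0x17ed)) (.nd (.lf 0xb81) (.lf 0)))))) (.nd (.nd (.nd (.nd (.nd (.lf 0x17b) (.lf 0x10f0)) (.nd (.lf 0x610) (.lf 0))) (.nd (.nd (.lf 0x6ad) (.lf 0x1182)) (.nd (.lf 0x10ef) (.lf 0)))) (.nd (.nd (.nd (.lf 0x1e2) (.lf 0xf09)) (.nd (.lf 0xed7) (.lf 0))) (.nd (.nd (.lf 0x498) (.lf 0x165e)) (.nd (.lf 0xb08) (.lf 0))))) (.nd (.nd (.nd (.nd (.lf 0x306) (.lf 0x1538)) (.nd (.lf 0x6d2) (.lf 0))) (.nd (.nd (.lf 0x3e4) (.lf 0x130d)) (.nd (.lf 0xa25) (.lf 0)))) (.nd (.nd (.nd (.lf 0x41d) (.lf 0x133d)) (.nd (.lf 0xfe7) (.lf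 0))) (.nd (.nd (.lf 0xb60) (.lf 0x1745)) (.nd (.lf 0xbfa) (.lf 0))))))))
def tabB_naaabaa : Tr := (.nd (.nd (.nd (.nd (.nd (.nd (.nd (.lf 0xf) (.lf 0xc12)) (.nd (.lf 0x567) (.lf 0x1808))) (.nd (.nd (.lf 0x627) (.lf 0x1066)) (.nd (.lf 0x87e) (.lf 0)))) (.nd (.nd (.nd (.lf 0x327) (.lf 0xe16)) (.nd (.lf 0xdd4) (.lf 0))) (.nd (.nd (.lf 0x8e5) (.lf 0x1339)) (.nd (.lf 0x11fc) (.lf 0))))) (.nd (.nd (.nd (.nd (.lf 0x1a1) (.lf 0x1119)) (.nd (.lf 0x621) (.lf 0))) (.nd (.nd (.lf 0x345) (.lf 0x16ad)) (.nd (.lf 0x957) (.lf 0)))) (.nd (.nd (.nd (.lf 0x1f2) (.lf 0xf24)) (.nd (.lf 0xef0) (.lf 0))) (.nd (.nd (.lf 0x4aa) (.lf 0x16a3)) (.nd (.lf 0xb1f) (.lf 0)))))) (.nd (.nd (.nd (.nd (.nd (.lf 0xd9) (.lf 0x1256)) (.nd (.lf 0x5c3) (.lf 0)))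 (.nd (.nd (.lf 0x2ee) (.lf 0x10fe)) (.nd (.lf 0xc1c) (.lf 0)))) (.nd (.nd (.nd (.lf 0x19d) (.lf 0xe9e)) (.nd (.lf 0xe60) (.lf 0))) (.nd (.nd (.lf 0x98e) (.lf 0x17c4)) (.nd (.lf 0x1277) (.lf 0))))) (.nd (.nd (.nd (.nd (.lf 0xf8) (.lf 0x14f5)) (.nd (.lf 0xd42) (.lf 0))) (.nd (.nd (.lf 0x838) (.lf 0x1588)) (.nd (.lf 0x9c3) (.lf 0)))) (.nd (.nd (.nd (.lf 0x566) (.lf 0x1643)) (.nd (.lf 0xf7a) (.lf 0))) (.nd (.nd (.lf 0x6f8) (.lf 0x15ea)) (.nd (.lf 0xc6f) (.lf 0))))))) (.nd (.nd (.nd (.nd (.nd (.nd (.lf 0x2b) (.lf 0xd07)) (.nd (.lf 0x593) (.lf 0))) (.nd (.nd (.lf 0x2c5) (.lf 0x16ac)) (.nd (.lf 0x103b) (.lf 0)))) (.nd (.nd (.nd (.lf 0x1db) (.lf 0xe57)) (.nd (.lf 0xe19) (.lf 0))) (.nd (.nd (.lf 0x5a3) (.lf 0x138c)) (.nd (.lf 0xa73)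 (.lf 0))))) (.nd (.nd (.nd (.nd (.lf 0x204) (.lf 0x14c7)) (.nd (.lf 0xcf6) (.lf 0))) (.nd (.nd (.lf 0x7df) (.lf 0x11ff)) (.nd (.lf 0xd48) (.lf 0)))) (.nd (.nd (.nd (.lf 0x50c) (.lf 0x1590)) (.nd (.lf 0x7de) (.lf 0))) (.nd (.nd (.lf 0xa84) (.lf 0x1549)) (.nd (.lf 0x1325) (.lf 0)))))) (.nd (.nd (.nd (.nd (.nd (.lf 0x13d) (.lf 0x145e)) (.nd (.lf 0xc62) (.lf 0))) (.nd (.nd (.lf 0x72f) (.lf 0x1185)) (.nd (.lf 0x10c6) (.lf 0)))) (.nd (.nd (.nd (.lf 0x44c) (.lf 0x15c5)) (.nd (.lf 0xa95) (.lf 0))) (.nd (.nd (.lf 0x9e2) (.lf 0x1631)) (.nd (.lf 0xae5) (.lf 0))))) (.nd (.nd (.nd (.nd (.lf 0x121) (.lf 0x14e6)) (.nd (.lf 0xd8e) (.lf 0))) (.nd (.nd (.lf 0x3c9) (.lf 0x12cb)) (.nd (.lf 0x119b) (.lf 0)))) (.nd (.nd (.nd (.lf 0x271) (.lf 0x101c))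 (.nd (.lf 0x84b) (.lf 0))) (.nd (.nd (.lf 0xb2f) (.lf 0x17cd)) (.nd (.lf 0xbd2) (.lf 0))))))))
def tabB_naaabab : Tr := (.nd (.nd (.nd (.nd (.nd (.nd (.nd (.lf 0x43) (.lf 0xf30)) (.nd (.lf 0xb9d) (.lf 0))) (.nd (.nd (.lf 0x64f) (.lf 0x1377)) (.nd (.lf 0x894) (.lf 0)))) (.nd (.nd (.nd (.lf 0x358) (.lf 0x1565)) (.nd (.lf 0xc86) (.lf 0))) (.nd (.nd (.lf 0x911) (.lf 0x1719)) (.nd (.lf 0xa58) (.lf 0))))) (.nd (.nd (.nd (.nd (.lf 0xbb) (.lf 0x14ad)) (.nd (.lf 0xcce) (.lf 0))) (.nd (.nd (.lf 0x7b2) (.lf 0x1739)) (.nd (.lf 0x1123) (.lf 0)))) (.nd (.nd (.nd (.lf 0x209) (.lf 0xf4d)) (.nd (.lf 0xf12) (.lf 0))) (.nd (.nd (.lf 0xa5b) (.lf 0x17ec)) (.nd (.lf 0xb3e) (.lf 0)))))) (.nd (.nd (.nd (.nd (.nd (.lf 0x69) (.lf 0x134d)) (.nd (.lf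 0xbc2) (.lf 0))) (.nd (.nd (.lf 0x305) (.lf 0x1120)) (.nd (.lf 0x10a4) (.lf 0)))) (.nd (.nd (.nd (.lf 0x41b) (.lf 0xebe)) (.nd (.lf 0x762) (.lf 0))) (.nd (.nd (.lf 0x6a8) (.lf 0x1703)) (.nd (.lf 0x128f) (.lf 0))))) (.nd (.nd (.nd (.nd (.lf 0x10d) (.lf 0x1507)) (.nd (.lf 0x69b) (.lf 0))) (.nd (.nd (.lf 0x864) (.lf 0x15ef)) (.nd (.lf 0x11a7) (.lf 0)))) (.nd (.nd (.nd (.lf 0x599) (.lf 0xff7)) (.nd (.lf 0x832) (.lf 0))) (.nd (.nd (.lf 0xb06) (.lf 0x17ff)) (.nd (.lf 0xbb2) (.lf 0))))))) (.nd (.nd (.nd (.nd (.nd (.nd (.lf 0x40) (.lf 0xc70)) (.nd (.lf 0xbee) (.lf 0))) (.nd (.nd (.lf 0x454) (.lf 0x16d3)) (.nd (.lf 0x8cd) (.lf 0)))) (.nd (.nd (.nd (.lf 0x3ba) (.lf 0x1587)) (.nd (.lf 0xe3b) (.lf 0))) (.nd (.nd (.lf 0x438) (.lf 0x13b0))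 (.nd (.lf 0xa90) (.lf 0))))) (.nd (.nd (.nd (.nd (.lf 0xe4) (.lf 0x1381)) (.nd (.lf 0x66d) (.lf 0))) (.nd (.nd (.lf 0x389) (.lf 0x16ed)) (.nd (.lf 0x9a9) (.lf 0)))) (.nd (.nd (.nd (.lf 0x232) (.lf 0x14d2)) (.nd (.lf 0xf52) (.lf 0))) (.nd (.nd (.lf 0xaaf) (.lf 0x16aa)) (.nd (.lf 0xdad) (.lf 0)))))) (.nd (.nd (.nd (.nd (.nd (.lf 0x91) (.lf 0x10d8)) (.nd (.lf 0xc84) (.lf 0))) (.nd (.nd (.lf 0x75b) (.lf 0x171c)) (.nd (.lf 0x10e9) (.lf 0)))) (.nd (.nd (.nd (.lf 0x47e) (.lf 0x13b1)) (.nd (.lf 0xecd) (.lf 0))) (.nd (.nd (.lf 0x493) (.lf 0x1779)) (.nd (.lf 0xb01) (.lf 0))))) (.nd (.nd (.nd (.nd (.lf 0x2fa) (.lf 0xdf3)) (.nd (.lf 0x6cc) (.lf 0))) (.nd (.nd (.lf 0x3de) (.lf 0x1300)) (.nd (.lf 0xa20) (.lf 0)))) (.nd (.nd (.nd (.lf 0x287)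 (.lf 0x1042)) (.nd (.lf 0xfdf) (.lf 0))) (.nd (.nd (.lf 0xb56) (.lf 0x17e8)) (.nd (.lf 0x10ab) (.lf 0))))))))
def tabB_naaabba : Tr := (.nd (.nd (.nd (.nd (.nd (.nd (.nd (.lf 0x29) (.lf 0xc21)) (.nd (.lf 0x872) (.lf 0))) (.nd (.nd (.lf 0x63e) (.lf 0x1577)) (.nd (.lf 0x889) (.lf 0)))) (.nd (.nd (.nd (.lf 0x340) (.lf 0xe29)) (.nd (.lf 0xde0) (.lf 0))) (.nd (.nd (.lf 0x3fe) (.lf 0x1352)) (.nd (.lf 0x1209) (.lf 0))))) (.nd (.nd (.nd (.nd (.lf 0xb1) (.lf 0xd1a)) (.nd (.lf 0x62d) (.lf 0))) (.nd (.nd (.lf 0x7a0) (.lf 0x11c2)) (.nd (.lf 0x964) (.lf 0)))) (.nd (.nd (.nd (.lf 0x1fc) (.lf 0xf36)) (.nd (.lf 0xd2e) (.lf 0))) (.nd (.nd (.lf 0xa47) (.lf 0x154f)) (.nd (.lf 0x12fe) (.lf 0)))))) (.nd (.nd (.nd (.nd (.nd (.lf 0xf3) (.lf 0x1435))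 (.nd (.lf 0x5cf) (.lf 0))) (.nd (.nd (.lf 0x6f0) (.lf 0x110d)) (.nd (.lf 0x1091) (.lf 0)))) (.nd (.nd (.nd (.lf 0x402) (.lf 0x10e1)) (.nd (.lf 0xe71) (.lf 0))) (.nd (.nd (.lf 0x9a3) (.lf 0x144e)) (.nd (.lf 0xabc) (.lf 0))))) (.nd (.nd (.nd (.nd (.lf 0x280) (.lf 0xd9b)) (.nd (.lf 0xa14) (.lf 0))) (.nd (.nd (.lf 0x84f) (.lf 0x176b)) (.nd (.lf 0x1193) (.lf 0)))) (.nd (.nd (.nd (.lf 0x398) (.lf 0x10a6)) (.nd (.lf 0x824) (.lf 0))) (.nd (.nd (.lf 0xaf1) (.lf 0x160d)) (.nd (.lf 0x135f) (.lf 0))))))) (.nd (.nd (.nd (.nd (.nd (.nd (.lf 0x8d) (.lf 0xc60)) (.nd (.lf 0x67a) (.lf 0))) (.nd (.nd (.lf 0x694) (.lf 0x14fb)) (.nd (.lf 0x8bf) (.lf 0)))) (.nd (.nd (.nd (.lf 0x3a1) (.lf 0x157b)) (.nd (.lf 0xe28) (.lf 0))) (.nd (.nd (.lf 0x42e)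 (.lf 0x139e)) (.nd (.lf 0xa80) (.lf 0))))) (.nd (.nd (.nd (.nd (.lf 0xda) (.lf 0x14d4)) (.nd (.lf 0x837) (.lf 0))) (.nd (.nd (.lf 0x37e) (.lf 0x1215)) (.nd (.lf 0x99c) (.lf 0)))) (.nd (.nd (.nd (.lf 0x228) (.lf 0x10be)) (.nd (.lf 0x7e9) (.lf 0))) (.nd (.nd (.lf 0xa9b) (.lf 0x157a)) (.nd (.lf 0xb6c) (.lf 0)))))) (.nd (.nd (.nd (.nd (.nd (.lf 0x155) (.lf 0x10e8)) (.nd (.lf 0xc73) (.lf 0))) (.nd (.nd (.lf 0x745) (.lf 0x12d3)) (.nd (.lf 0x10d9) (.lf 0)))) (.nd (.nd (.nd (.lf 0x1d1) (.lf 0xef1)) (.nd (.lf 0xd25) (.lf 0))) (.nd (.nd (.lf 0x487) (.lf 0x146e)) (.nd (.lf 0x12c0) (.lf 0))))) (.nd (.nd (.nd (.nd (.lf 0x2e3) (.lf 0x1132)) (.nd (.lf 0xda1) (.lf 0))) (.nd (.nd (.lf 0x3d5) (.lf 0x1780)) (.nd (.lf 0xa0d) (.lf 0)))) (.nd (.nd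 (.nd (.lf 0x5de) (.lf 0x167f)) (.nd (.lf 0xfce) (.lf 0))) (.nd (.nd (.lf 0x544) (.lf 0x17e3)) (.nd (.lf 0xbe1) (.lf 0))))))))
def tabB_naaabbb : Tr := (.nd (.nd (.nd (.nd (.nd (.nd (.nd (.lf 0x38) (.lf 0x10fd)) (.nd (.lf 0x588) (.lf 0))) (.nd (.nd (.lf 0x668) (.lf 0x109a)) (.nd (.lf 0xb70) (.lf 0)))) (.nd (.nd (.nd (.lf 0x169) (.lf 0xefb)) (.nd (.lf 0xe06) (.lf 0))) (.nd (.nd (.lf 0x924) (.lf 0x1793)) (.nd (.lf 0xe79) (.lf 0))))) (.nd (.nd (.nd (.nd (.lf 0xc5) (.lf 0xd41)) (.nd (.lf 0x646) (.lf 0))) (.nd (.nd (.lf 0x366) (.lf 0x11f0)) (.nd (.lf 0x980) (.lf 0)))) (.nd (.nd (.nd (.lf 0x213) (.lf 0x1607)) (.nd (.lf 0xc8a) (.lf 0))) (.nd (.nd (.lf 0xa6d) (.lf 0x1560)) (.nd (.lf 0xf8b) (.lf 0)))))) (.nd (.nd (.nd (.nd (.nd (.lf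 0x73) (.lf 0xcbc)) (.nd (.lf 0x5e9) (.lf 0))) (.nd (.nd (.lf 0x3b8) (.lf 0x1130)) (.nd (.lf 0x914) (.lf 0)))) (.nd (.nd (.nd (.lf 0x1bc) (.lf 0x15bc)) (.nd (.lf 0xe93) (.lf 0))) (.nd (.nd (.lf 0x470) (.lf 0x1787)) (.nd (.lf 0xada) (.lf 0))))) (.nd (.nd (.nd (.nd (.lf 0x117) (.lf 0x12e6)) (.nd (.lf 0xd7c) (.lf 0))) (.nd (.nd (.lf 0x3bd) (.lf 0x1602)) (.nd (.lf 0x11b2) (.lf 0)))) (.nd (.nd (.nd (.lf 0x4b8) (.lf 0x166c)) (.nd (.lf 0x83f) (.lf 0))) (.nd (.nd (.lf 0xb1b) (.lf 0x17a6)) (.nd (.lf 0x1375) (.lf 0))))))) (.nd (.nd (.nd (.nd (.nd (.nd (.lf 0xbf) (.lf 0x1071)) (.nd (.lf 0x5b6) (.lf 0))) (.nd (.nd (.lf 0x6c4) (.lf 0x13b4)) (.nd (.lf 0x106f) (.lf 0)))) (.nd (.nd (.nd (.lf 0x193) (.lf 0x1142)) (.nd (.lf 0xe4e) (.lf 0)))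 (.nd (.nd (.lf 0x977) (.lf 0x155a)) (.nd (.lf 0xa9d) (.lf 0))))) (.nd (.nd (.nd (.nd (.lf 0x24f) (.lf 0x14ea)) (.nd (.lf 0xd30) (.lf 0))) (.nd (.nd (.lf 0x820) (.lf 0x124a)) (.nd (.lf 0x116f) (.lf 0)))) (.nd (.nd (.nd (.lf 0x54f) (.lf 0xfbc)) (.nd (.lf 0xf64) (.lf 0))) (.nd (.nd (.lf 0x4fb) (.lf 0x15c3)) (.nd (.lf 0xb87) (.lf 0)))))) (.nd (.nd (.nd (.nd (.nd (.lf 0x188) (.lf 0xe52)) (.nd (.lf 0x82a) (.lf 0))) (.nd (.nd (.lf 0x774) (.lf 0x118c)) (.nd (.lf 0x105c) (.lf 0)))) (.nd (.nd (.nd (.lf 0x1e7) (.lf 0x15e1)) (.nd (.lf 0xee0) (.lf 0))) (.nd (.nd (.lf 0x788) (.lf 0x14a7)) (.nd (.lf 0xb11) (.lf 0))))) (.nd (.nd (.nd (.nd (.lf 0x312) (.lf 0x1541)) (.nd (.lf 0xdc3) (.lf 0))) (.nd (.nd (.lf 0x3e9) (.lf 0x178d)) (.nd (.lf 0xa2d)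 (.lf 0)))) (.nd (.nd (.nd (.lf 0x60f) (.lf 0x135c)) (.nd (.lf 0xfee) (.lf 0))) (.nd (.nd (.lf 0x55d) (.lf 0x17db)) (.nd (.lf 0x13aa) (.lf 0))))))))
def tabB_naabaaa : Tr := (.nd (.nd (.nd (.nd (.nd (.nd (.nd (.lf 0x1) (.lf 0x13b2)) (.nd (.lf 0x564) (.lf 0x17c9))) (.nd (.nd (.lf 0x622) (.lf 0x156f)) (.nd (.lf 0xfa2) (.lf 0)))) (.nd (.nd (.nd (.lf 0x148) (.lf 0xe13)) (.nd (.lf 0x6e2) (.lf 0))) (.nd (.nd (.lf 0x3f1) (.lf 0x142c)) (.nd (.lf 0xa37) (.lf 0))))) (.nd (.nd (.nd (.nd (.lf 0xa3) (.lf 0x1492)) (.nd (.lf 0xca3) (.lf 0))) (.nd (.nd (.lf 0x49e) (.lf 0x1727)) (.nd (.lf 0x953) (.lf 0)))) (.nd (.nd (.nd (.lf 0x1ef) (.lf 0x15eb)) (.nd (.lf 0xb13) (.lf 0))) (.nd (.nd (.lf 0xa2e) (.lf 0x14b5)) (.nd (.lf 0x12eb) (.lf 0)))))) (.nd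 (.nd (.nd (.nd (.nd (.lf 0x52) (.lf 0xca0)) (.nd (.lf 0x5c0) (.lf 0))) (.nd (.nd (.lf 0x6d4) (.lf 0x1567)) (.nd (.lf 0x8e8) (.lf 0)))) (.nd (.nd (.nd (.lf 0x3e3) (.lf 0x1595)) (.nd (.lf 0x748) (.lf 0))) (.nd (.nd (.lf 0x44b) (.lf 0x13e1)) (.nd (.lf 0xaaa) (.lf 0))))) (.nd (.nd (.nd (.nd (.lf 0x262) (.lf 0xd89)) (.nd (.lf 0x681) (.lf 0))) (.nd (.nd (.lf 0x833) (.lf 0x1266)) (.nd (.lf 0x9c0) (.lf 0)))) (.nd (.nd (.nd (.lf 0x560) (.lf 0x1494)) (.nd (.lf 0xf74) (.lf 0))) (.nd (.nd (.lf 0xad7) (.lf 0x17f7)) (.nd (.lf 0xb91) (.lf 0))))))) (.nd (.nd (.nd (.nd (.nd (.nd (.lf 0x6e) (.lf 0xc4e)) (.nd (.lf 0x844) (.lf 0))) (.nd (.nd (.lf 0x679) (.lf 0x16c0)) (.nd (.lf 0x8af) (.lf 0)))) (.nd (.nd (.nd (.lf 0x171) (.lf 0xe54)) (.nd (.lf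 0xe15) (.lf 0))) (.nd (.nd (.lf 0x936) (.lf 0x17ae)) (.nd (.lf 0x1234) (.lf 0))))) (.nd (.nd (.nd (.nd (.lf 0x1ff) (.lf 0xed2)) (.nd (.lf 0xcef) (.lf 0))) (.nd (.nd (.lf 0x7d8) (.lf 0x11fb)) (.nd (.lf 0x113d) (.lf 0)))) (.nd (.nd (.nd (.lf 0x21b) (.lf 0x13db)) (.nd (.lf 0x7db) (.lf 0))) (.nd (.nd (.lf 0xa7e) (.lf 0x153a)) (.nd (.lf 0xb5e) (.lf 0)))))) (.nd (.nd (.nd (.nd (.nd (.lf 0x7b) (.lf 0xcc7)) (.nd (.lf 0xc1e) (.lf 0))) (.nd (.nd (.lf 0x72b) (.lf 0x170a)) (.nd (.lf 0x91f) (.lf 0)))) (.nd (.nd (.nd (.lf 0x1c4) (.lf 0xedc)) (.nd (.lf 0xea2) (.lf 0))) (.nd (.nd (.lf 0x478) (.lf 0x1640)) (.nd (.lf 0x12ae) (.lf 0))))) (.nd (.nd (.nd (.nd (.lf 0x2c4) (.lf 0x1093)) (.nd (.lf 0xbbd) (.lf 0))) (.nd (.nd (.lf 0x88a) (.lf 0x12dc))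 (.nd (.lf 0x9f9) (.lf 0)))) (.nd (.nd (.nd (.lf 0x26e) (.lf 0x1017)) (.nd (.lf 0x849) (.lf 0))) (.nd (.nd (.lf 0x537) (.lf 0x1688)) (.nd (.lf 0xbcf) (.lf 0))))))))
def tabB_naabaab : Tr := (.nd (.nd (.nd (.nd (.nd (.nd (.nd (.lf 0x15) (.lf 0xc2d)) (.nd (.lf 0xb98) (.lf 0))) (.nd (.nd (.lf 0x3d0) (.lf 0x16a9)) (.nd (.lf 0x101d) (.lf 0)))) (.nd (.nd (.nd (.lf 0x15c) (.lf 0xe33)) (.nd (.lf 0x6fc) (.lf 0))) (.nd (.nd (.lf 0x7f3) (.lf 0x1579)) (.nd (.lf 0xa51) (.lf 0))))) (.nd (.nd (.nd (.nd (.lf 0x1cd) (.lf 0xfe0)) (.nd (.lf 0x638) (.lf 0))) (.nd (.nd (.lf 0x7ad) (.lf 0x135e)) (.nd (.lf 0x96d) (.lf 0)))) (.nd (.nd (.nd (.lf 0x4d7) (.lf 0xf47)) (.nd (.lf 0xb0c) (.lf 0))) (.nd (.nd (.lf 0x4be) (.lf 0x1539)) (.nd (.lf 0x1308) (.lf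 0)))))) (.nd (.nd (.nd (.nd (.nd (.lf 0x106) (.lf 0xca8)) (.nd (.lf 0xc39) (.lf 0))) (.nd (.nd (.lf 0x700) (.lf 0x111c)) (.nd (.lf 0xdec) (.lf 0)))) (.nd (.nd (.nd (.lf 0x1ae) (.lf 0x131b)) (.nd (.lf 0x75f) (.lf 0))) (.nd (.nd (.lf 0x800) (.lf 0x17ca)) (.nd (.lf 0xac5) (.lf 0))))) (.nd (.nd (.nd (.nd (.lf 0x10a) (.lf 0xda6)) (.nd (.lf 0xd64) (.lf 0))) (.nd (.nd (.lf 0x85f) (.lf 0x176d)) (.nd (.lf 0xe26) (.lf 0)))) (.nd (.nd (.nd (.lf 0x592) (.lf 0x1207)) (.nd (.lf 0xf99) (.lf 0))) (.nd (.nd (.lf 0xb03) (.lf 0x16b4)) (.nd (.lf 0x1367) (.lf 0))))))) (.nd (.nd (.nd (.nd (.nd (.nd (.lf 0x9c) (.lf 0x1406)) (.nd (.lf 0x5a8) (.lf 0))) (.nd (.nd (.lf 0x2d7) (.lf 0x10d1)) (.nd (.lf 0x8c9) (.lf 0)))) (.nd (.nd (.nd (.lf 0x185) (.lf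 0xe72)) (.nd (.lf 0xe37) (.lf 0))) (.nd (.nd (.lf 0x95d) (.lf 0x13ab)) (.nd (.lf 0xa8d) (.lf 0))))) (.nd (.nd (.nd (.nd (.lf 0x231) (.lf 0xd6f)) (.nd (.lf 0xd18) (.lf 0))) (.nd (.nd (.lf 0x804) (.lf 0x1225)) (.nd (.lf 0x9a4) (.lf 0)))) (.nd (.nd (.nd (.lf 0x535) (.lf 0x162a)) (.nd (.lf 0x81c) (.lf 0))) (.nd (.nd (.lf 0xaab) (.lf 0x172b)) (.nd (.lf 0xb78) (.lf 0)))))) (.nd (.nd (.nd (.nd (.nd (.lf 0x168) (.lf 0xce2)) (.nd (.lf 0x8e4) (.lf 0))) (.nd (.nd (.lf 0x756) (.lf 0x1170)) (.nd (.lf 0x939) (.lf 0)))) (.nd (.nd (.nd (.lf 0x477) (.lf 0xf5e)) (.nd (.lf 0x78e) (.lf 0))) (.nd (.nd (.lf 0x48f) (.lf 0x17a2)) (.nd (.lf 0x12ce) (.lf 0))))) (.nd (.nd (.nd (.nd (.lf 0x2f3) (.lf 0x1457)) (.nd (.lf 0x6c9) (.lf 0))) (.nd (.nd (.lf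 0x8b2) (.lf 0x132c)) (.nd (.lf 0xa7d) (.lf 0)))) (.nd (.nd (.nd (.lf 0x5f0) (.lf 0x103d)) (.nd (.lf 0xac0) (.lf 0))) (.nd (.nd (.lf 0x54b) (.lf 0x17eb)) (.nd (.lf 0xc3e) (.lf 0))))))))
def tabB_naababa : Tr := (.nd (.nd (.nd (.nd (.nd (.nd (.nd (.lf 0xb) (.lf 0x13c1)) (.nd (.lf 0xb85) (.lf 0))) (.nd (.nd (.lf 0x637) (.lf 0x169f)) (.nd (.lf 0x932) (.lf 0)))) (.nd (.nd (.nd (.lf 0x152) (.lf 0xe23)) (.nd (.lf 0x998) (.lf 0))) (.nd (.nd (.lf 0x3fb) (.lf 0x179c)) (.nd (.lf 0xa43) (.lf 0))))) (.nd (.nd (.nd (.nd (.lf 0xae) (.lf 0x1472)) (.nd (.lf 0xcb8) (.lf 0))) (.nd (.nd (.lf 0x34d) (.lf 0x163e)) (.nd (.lf 0x960) (.lf 0)))) (.nd (.nd (.nd (.lf 0x1f9) (.lf 0xf31)) (.nd (.lf 0x9e6) (.lf 0))) (.nd (.nd (.lf 0x4b3) (.lf 0x15ed)) (.nd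 (.lf 0xb29) (.lf 0)))))) (.nd (.nd (.nd (.nd (.nd (.lf 0x5c) (.lf 0xc9a)) (.nd (.lf 0xc28) (.lf 0))) (.nd (.nd (.lf 0x2f7) (.lf 0x1384)) (.nd (.lf 0x108c) (.lf 0)))) (.nd (.nd (.nd (.lf 0x3fc) (.lf 0x15a1)) (.nd (.lf 0x753) (.lf 0))) (.nd (.nd (.lf 0x458) (.lf 0x1694)) (.nd (.lf 0x127e) (.lf 0))))) (.nd (.nd (.nd (.nd (.lf 0x100) (.lf 0x1082)) (.nd (.lf 0x68d) (.lf 0))) (.nd (.nd (.lf 0x3a5) (.lf 0x1750)) (.nd (.lf 0x9ce) (.lf 0)))) (.nd (.nd (.nd (.lf 0x57a) (.lf 0x143b)) (.nd (.lf 0x821) (.lf 0))) (.nd (.nd (.lf 0x510) (.lf 0x1603)) (.nd (.lf 0x12f2) (.lf 0))))))) (.nd (.nd (.nd (.nd (.nd (.nd (.lf 0x87) (.lf 0xc5d)) (.nd (.lf 0xbd5) (.lf 0))) (.nd (.nd (.lf 0x468) (.lf 0x10b9)) (.nd (.lf 0x1049) (.lf 0)))) (.nd (.nd (.nd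 (.lf 0x39b) (.lf 0xe66)) (.nd (.lf 0x722) (.lf 0))) (.nd (.nd (.lf 0x949) (.lf 0x1723)) (.nd (.lf 0x1244) (.lf 0))))) (.nd (.nd (.nd (.nd (.lf 0x217) (.lf 0x1159)) (.nd (.lf 0x65c) (.lf 0))) (.nd (.nd (.lf 0x7ef) (.lf 0x13de)) (.nd (.lf 0xdf9) (.lf 0)))) (.nd (.nd (.nd (.lf 0x51e) (.lf 0x1490)) (.nd (.lf 0x7e7) (.lf 0))) (.nd (.nd (.lf 0x4e2) (.lf 0x17f3)) (.nd (.lf 0xb69) (.lf 0)))))) (.nd (.nd (.nd (.nd (.nd (.lf 0x85) (.lf 0x1467)) (.nd (.lf 0x5fd) (.lf 0))) (.nd (.nd (.lf 0x6c3) (.lf 0x1158)) (.nd (.lf 0x10d3) (.lf 0)))) (.nd (.nd (.nd (.lf 0x45f) (.lf 0x122c)) (.nd (.lf 0x782) (.lf 0))) (.nd (.nd (.lf 0x484) (.lf 0x1732)) (.nd (.lf 0x12bd) (.lf 0))))) (.nd (.nd (.nd (.nd (.lf 0x2dd) (.lf 0xdda)) (.nd (.lf 0x6bc) (.lf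 0))) (.nd (.nd (.lf 0x3d2) (.lf 0x13c7)) (.nd (.lf 0xa08) (.lf 0)))) (.nd (.nd (.nd (.lf 0x279) (.lf 0x13bf)) (.nd (.lf 0xfcb) (.lf 0))) (.nd (.nd (.lf 0xb3c) (.lf 0x16c7)) (.nd (.lf 0xbdd) (.lf 0))))))))
def tabB_naababb : Tr := (.nd (.nd (.nd (.nd (.nd (.nd (.nd (.lf 0x56) (.lf 0xebc)) (.nd (.lf 0x9cb) (.lf 0))) (.nd (.nd (.lf 0x661) (.lf 0x1097)) (.nd (.lf 0xf85) (.lf 0)))) (.nd (.nd (.nd (.lf 0x36b) (.lf 0xe44)) (.nd (.lf 0x70a) (.lf 0))) (.nd (.nd (.lf 0x412) (.lf 0x174d)) (.nd (.lf 0xa61) (.lf 0))))) (.nd (.nd (.nd (.nd (.lf 0x1e6) (.lf 0xe56)) (.nd (.lf 0x643) (.lf 0))) (.nd (.nd (.lf 0x7c0) (.lf 0x1742)) (.nd (.lf 0xfff) (.lf 0)))) (.nd (.nd (.nd (.lf 0x4dc) (.lf 0xf5a)) (.nd (.lf 0xcee) (.lf 0))) (.nd (.nd (.lf 0x743)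 (.lf 0x17e6)) (.nd (.lf 0xbbc) (.lf 0)))))) (.nd (.nd (.nd (.nd (.nd (.lf 0x11d) (.lf 0x1450)) (.nd (.lf 0x62e) (.lf 0))) (.nd (.nd (.lf 0x716) (.lf 0x112d)) (.nd (.lf 0x10af) (.lf 0)))) (.nd (.nd (.nd (.lf 0x1b9) (.lf 0x1252)) (.nd (.lf 0xe8e) (.lf 0))) (.nd (.nd (.lf 0x9c9) (.lf 0x17a4)) (.nd (.lf 0xad5) (.lf 0))))) (.nd (.nd (.nd (.nd (.lf 0x2ae) (.lf 0xdbb)) (.nd (.lf 0x6a5) (.lf 0))) (.nd (.nd (.lf 0x875) (.lf 0x12ab)) (.nd (.lf 0x9ea) (.lf 0)))) (.nd (.nd (.nd (.lf 0x5ab) (.lf 0x1478)) (.nd (.lf 0x83d) (.lf 0))) (.nd (.nd (.lf 0xb17) (.lf 0x17ea)) (.nd (.lf 0xc1a) (.lf 0))))))) (.nd (.nd (.nd (.nd (.nd (.nd (.lf 0xba) (.lf 0xc7e)) (.nd (.lf 0xbfd) (.lf 0))) (.nd (.nd (.lf 0x2e1) (.lf 0x15d2)) (.nd (.lf 0x8d9) (.lf 0))))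 (.nd (.nd (.nd (.lf 0x3cd) (.lf 0xe86)) (.nd (.lf 0x73d) (.lf 0))) (.nd (.nd (.lf 0x972) (.lf 0x1411)) (.nd (.lf 0xa9a) (.lf 0))))) (.nd (.nd (.nd (.nd (.lf 0x249) (.lf 0x1172)) (.nd (.lf 0xc45) (.lf 0))) (.nd (.nd (.lf 0x81b) (.lf 0x1243)) (.nd (.lf 0x116a) (.lf 0)))) (.nd (.nd (.nd (.lf 0x23a) (.lf 0x1335)) (.nd (.lf 0x803) (.lf 0))) (.nd (.nd (.lf 0x4f8) (.lf 0x17be)) (.nd (.lf 0xb84) (.lf 0)))))) (.nd (.nd (.nd (.nd (.nd (.lf 0x181) (.lf 0x1483)) (.nd (.lf 0xc93) (.lf 0))) (.nd (.nd (.lf 0x76e) (.lf 0x14fa)) (.nd (.lf 0x10f5) (.lf 0)))) (.nd (.nd (.nd (.lf 0x490) (.lf 0xf0e)) (.nd (.lf 0x79a) (.lf 0))) (.nd (.nd (.lf 0x49b) (.lf 0x15f3)) (.nd (.lf 0xdf4) (.lf 0))))) (.nd (.nd (.nd (.nd (.lf 0x30b) (.lf 0x153c)) (.nd (.lf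 0xdbe) (.lf 0))) (.nd (.nd (.lf 0x8c7) (.lf 0x178c)) (.nd (.lf 0xef4) (.lf 0)))) (.nd (.nd (.nd (.lf 0x28f) (.lf 0x168f)) (.nd (.lf 0xd65) (.lf 0))) (.nd (.nd (.lf 0xb65) (.lf 0x1755)) (.nd (.lf 0x13a5) (.lf 0))))))))
def tabB_naabbaa : Tr := (.nd (.nd (.nd (.nd (.nd (.nd (.nd (.lf 0x6) (.lf 0x13bd)) (.nd (.lf 0xb7c) (.lf 0))) (.nd (.nd (.lf 0x62c) (.lf 0x1495)) (.nd (.lf 0xc79) (.lf 0)))) (.nd (.nd (.nd (.lf 0x32d) (.lf 0x1550)) (.nd (.lf 0x6e7) (.lf 0))) (.nd (.nd (.lf 0x3f6) (.lf 0x1341)) (.nd (.lf 0xa3c) (.lf 0))))) (.nd (.nd (.nd (.nd (.lf 0xa9) (.lf 0x1446)) (.nd (.lf 0xcaf) (.lf 0))) (.nd (.nd (.lf 0x348) (.lf 0x1369)) (.nd (.lf 0x95b) (.lf 0)))) (.nd (.nd (.nd (.lf 0x4b2) (.lf 0x1563)) (.nd (.lf 0xb24) (.lf 0))) (.nd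 (.nd (.lf 0x4ad) (.lf 0x17e7)) (.nd (.lf 0x1035) (.lf 0)))))) (.nd (.nd (.nd (.nd (.nd (.lf 0xe0) (.lf 0xc94)) (.nd (.lf 0xc1d) (.lf 0))) (.nd (.nd (.lf 0x2f1) (.lf 0x1100)) (.nd (.lf 0x8ee) (.lf 0)))) (.nd (.nd (.nd (.lf 0x3ef) (.lf 0xea3)) (.nd (.lf 0x74e) (.lf 0))) (.nd (.nd (.lf 0x450) (.lf 0x167a)) (.nd (.lf 0xba1) (.lf 0))))) (.nd (.nd (.nd (.nd (.lf 0xfb) (.lf 0x14f8)) (.nd (.lf 0xb8b) (.lf 0))) (.nd (.nd (.lf 0x3a0) (.lf 0x1766)) (.nd (.lf 0x1187) (.lf 0)))) (.nd (.nd (.nd (.lf 0x24a) (.lf 0x1648)) (.nd (.lf 0xef5) (.lf 0))) (.nd (.nd (.lf 0xae2) (.lf 0x15f4)) (.nd (.lf 0xb97) (.lf 0))))))) (.nd (.nd (.nd (.nd (.nd (.nd (.lf 0x7a) (.lf 0xc57)) (.nd (.lf 0x596) (.lf 0))) (.nd (.nd (.lf 0x2c8) (.lf 0x14d3)) (.nd (.lf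 0x1041) (.lf 0)))) (.nd (.nd (.nd (.lf 0x390) (.lf 0xe5c)) (.nd (.lf 0x71c) (.lf 0))) (.nd (.nd (.lf 0x426) (.lf 0x17b0)) (.nd (.lf 0x123d) (.lf 0))))) (.nd (.nd (.nd (.nd (.lf 0x20a) (.lf 0x148d)) (.nd (.lf 0xcfb) (.lf 0))) (.nd (.nd (.lf 0x7e6) (.lf 0x1206)) (.nd (.lf 0x992) (.lf 0)))) (.nd (.nd (.nd (.lf 0x220) (.lf 0xf7d)) (.nd (.lf 0xf37) (.lf 0))) (.nd (.nd (.lf 0xa8a) (.lf 0x1552)) (.nd (.lf 0x1012) (.lf 0)))))) (.nd (.nd (.nd (.nd (.nd (.lf 0x80) (.lf 0xccc)) (.nd (.lf 0x5f7) (.lf 0))) (.nd (.nd (.lf 0x735) (.lf 0x1151)) (.nd (.lf 0x10cc) (.lf 0)))) (.nd (.nd (.nd (.lf 0x452) (.lf 0x1219)) (.nd (.lf 0x77c) (.lf 0))) (.nd (.nd (.lf 0x9e8) (.lf 0x145c)) (.nd (.lf 0x12b5) (.lf 0))))) (.nd (.nd (.nd (.nd (.lf 0x2d0) (.lf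 0xdd1)) (.nd (.lf 0xd91) (.lf 0))) (.nd (.nd (.lf 0x827) (.lf 0x12d2)) (.nd (.lf 0xa00) (.lf 0)))) (.nd (.nd (.nd (.lf 0x5cd) (.lf 0x113e)) (.nd (.lf 0xbcc) (.lf 0))) (.nd (.nd (.lf 0x53c) (.lf 0x17f6)) (.nd (.lf 0xbd6) (.lf 0))))))))
def tabB_naabbab : Tr := (.nd (.nd (.nd (.nd (.nd (.nd (.nd (.lf 0x1a) (.lf 0x13d5)) (.nd (.lf 0xba0) (.lf 0))) (.nd (.nd (.lf 0x2b3) (.lf 0x1604)) (.nd (.lf 0x897) (.lf 0)))) (.nd (.nd (.nd (.lf 0x161) (.lf 0x12d4)) (.nd (.lf 0xdf6) (.lf 0))) (.nd (.nd (.lf 0x40c) (.lf 0x1365)) (.nd (.lf 0x121b) (.lf 0))))) (.nd (.nd (.nd (.nd (.lf 0x1d9) (.lf 0xe73)) (.nd (.lf 0x63d) (.lf 0))) (.nd (.nd (.lf 0x35e) (.lf 0x13c5)) (.nd (.lf 0xf2c) (.lf 0)))) (.nd (.nd (.nd (.lf 0x4e3) (.lf 0x15e4)) (.nd (.lf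 0xf17) (.lf 0))) (.nd (.nd (.lf 0xa60) (.lf 0x150d)) (.nd (.lf 0xd2c) (.lf 0)))))) (.nd (.nd (.nd (.nd (.nd (.lf 0x111) (.lf 0x1447)) (.nd (.lf 0x5df) (.lf 0))) (.nd (.nd (.lf 0x4ac) (.lf 0x16fc)) (.nd (.lf 0x10a9) (.lf 0)))) (.nd (.nd (.nd (.lf 0x1b3) (.lf 0xec2)) (.nd (.lf 0xe87) (.lf 0))) (.nd (.nd (.lf 0x9be) (.lf 0x1448)) (.nd (.lf 0xacb) (.lf 0))))) (.nd (.nd (.nd (.nd (.lf 0x2a1) (.lf 0x150a)) (.nd (.lf 0xd6e) (.lf 0))) (.nd (.nd (.lf 0x869) (.lf 0x12a0)) (.nd (.lf 0x9e3) (.lf 0)))) (.nd (.nd (.nd (.lf 0x59f) (.lf 0x13ac)) (.nd (.lf 0xfa3) (.lf 0))) (.nd (.nd (.lf 0xb0d) (.lf 0x163b)) (.nd (.lf 0x136a) (.lf 0))))))) (.nd (.nd (.nd (.nd (.nd (.nd (.lf 0xad) (.lf 0x140f)) (.nd (.lf 0xbf3) (.lf 0))) (.nd (.nd (.lf 0x2dc)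 (.lf 0x16d6)) (.nd (.lf 0x8d2) (.lf 0)))) (.nd (.nd (.nd (.lf 0x3c1) (.lf 0x1060)) (.nd (.lf 0xe3f) (.lf 0))) (.nd (.nd (.lf 0x43b) (.lf 0x13b8)) (.nd (.lf 0x125b) (.lf 0))))) (.nd (.nd (.nd (.nd (.lf 0x23d) (.lf 0xd76)) (.nd (.lf 0x670) (.lf 0))) (.nd (.nd (.lf 0x38b) (.lf 0x1233)) (.nd (.lf 0x9ab) (.lf 0)))) (.nd (.nd (.nd (.lf 0x541) (.lf 0xfaf)) (.nd (.lf 0xf58) (.lf 0))) (.nd (.nd (.lf 0xab6) (.lf 0x17c7)) (.nd (.lf 0xb7e) (.lf 0)))))) (.nd (.nd (.nd (.nd (.nd (.lf 0x175) (.lf 0x147c)) (.nd (.lf 0x85c) (.lf 0))) (.nd (.nd (.lf 0x332) (.lf 0x171f)) (.nd (.lf 0x10ed) (.lf 0)))) (.nd (.nd (.nd (.lf 0x485) (.lf 0x15db)) (.nd (.lf 0xed3) (.lf 0))) (.nd (.nd (.lf 0xa12) (.lf 0x1789)) (.nd (.lf 0xb05) (.lf 0))))) (.nd (.nd (.nd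 (.nd (.lf 0x300) (.lf 0x11ec)) (.nd (.lf 0xdb7) (.lf 0))) (.nd (.nd (.lf 0x8bc) (.lf 0x1305)) (.nd (.lf 0xca4) (.lf 0)))) (.nd (.nd (.nd (.lf 0x5fe) (.lf 0x1046)) (.nd (.lf 0xe51) (.lf 0))) (.nd (.nd (.lf 0xb5c) (.lf 0x1728)) (.nd (.lf 0x13a0) (.lf 0))))))))
def tabB_naabbba : Tr := (.nd (.nd (.nd (.nd (.nd (.nd (.nd (.lf 0x10) (.lf 0x13c8)) (.nd (.lf 0xb64) (.lf 0))) (.nd (.nd (.lf 0x642) (.lf 0x11dc)) (.nd (.lf 0xc88) (.lf 0)))) (.nd (.nd (.nd (.lf 0x157) (.lf 0x155c)) (.nd (.lf 0xde3) (.lf 0))) (.nd (.nd (.lf 0x901) (.lf 0x1355)) (.nd (.lf 0xa4a) (.lf 0))))) (.nd (.nd (.nd (.nd (.lf 0x1c0) (.lf 0x14a4)) (.nd (.lf 0x632) (.lf 0))) (.nd (.nd (.lf 0x51c) (.lf 0x1642)) (.nd (.lf 0x111b) (.lf 0)))) (.nd (.nd (.nd (.lf 0x4ca)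 (.lf 0x148b)) (.nd (.lf 0xf05) (.lf 0))) (.nd (.nd (.lf 0xa4c) (.lf 0x14e8)) (.nd (.lf 0xd4d) (.lf 0)))))) (.nd (.nd (.nd (.nd (.nd (.lf 0x64) (.lf 0x130e)) (.nd (.lf 0xc30) (.lf 0))) (.nd (.nd (.lf 0x2fc) (.lf 0x16f2)) (.nd (.lf 0xfa7) (.lf 0)))) (.nd (.nd (.nd (.lf 0x1a9) (.lf 0x15a9)) (.nd (.lf 0xe76) (.lf 0))) (.nd (.nd (.lf 0x45d) (.lf 0x15a6)) (.nd (.lf 0x1286) (.lf 0))))) (.nd (.nd (.nd (.nd (.lf 0x105) (.lf 0x1500)) (.nd (.lf 0xd58) (.lf 0))) (.nd (.nd (.lf 0x855) (.lf 0x128e)) (.nd (.lf 0x1040) (.lf 0)))) (.nd (.nd (.nd (.lf 0x585) (.lf 0x117f)) (.nd (.lf 0xf92) (.lf 0))) (.nd (.nd (.lf 0x515) (.lf 0x1614)) (.nd (.lf 0x1109) (.lf 0))))))) (.nd (.nd (.nd (.nd (.nd (.nd (.lf 0x94) (.lf 0xcf8)) (.nd (.lf 0x8ec) (.lf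 0))) (.nd (.nd (.lf 0x2d2) (.lf 0x16cc)) (.nd (.lf 0x1052) (.lf 0)))) (.nd (.nd (.nd (.lf 0x180) (.lf 0xe9b)) (.nd (.lf 0xe2e) (.lf 0))) (.nd (.nd (.lf 0x954) (.lf 0x13a2)) (.nd (.lf 0x124c) (.lf 0))))) (.nd (.nd (.nd (.nd (.lf 0x224) (.lf 0xd63)) (.nd (.lf 0xd0e) (.lf 0))) (.nd (.nd (.lf 0x381) (.lf 0x121c)) (.nd (.lf 0x99f) (.lf 0)))) (.nd (.nd (.nd (.lf 0x529) (.lf 0x13f8)) (.nd (.lf 0x7ec) (.lf 0))) (.nd (.nd (.lf 0x9dc) (.lf 0x165b)) (.nd (.lf 0xb71) (.lf 0)))))) (.nd (.nd (.nd (.nd (.nd (.lf 0x8a) (.lf 0xd5f)) (.nd (.lf 0x602) (.lf 0))) (.nd (.nd (.lf 0x334) (.lf 0x1163)) (.nd (.lf 0x10de) (.lf 0)))) (.nd (.nd (.nd (.lf 0x46c) (.lf 0x15c4)) (.nd (.lf 0xebb) (.lf 0))) (.nd (.nd (.lf 0x8f6) (.lf 0x16d0)) (.nd (.lf 0x12c4)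 (.lf 0))))) (.nd (.nd (.nd (.nd (.lf 0x12e) (.lf 0x141c)) (.nd (.lf 0x75c) (.lf 0))) (.nd (.nd (.lf 0x3d7) (.lf 0x12ee)) (.nd (.lf 0x11d6) (.lf 0)))) (.nd (.nd (.nd (.lf 0x27f) (.lf 0x1032)) (.nd (.lf 0x85a) (.lf 0))) (.nd (.nd (.lf 0x546) (.lf 0x1700)) (.nd (.lf 0x1392) (.lf 0))))))))
def tabB_naabbbb : Tr := (.nd (.nd (.nd (.nd (.nd (.nd (.nd (.lf 0x61) (.lf 0x13e2)) (.nd (.lf 0x58b) (.lf 0))) (.nd (.nd (.lf 0x2bd) (.lf 0x1685)) (.nd (.lf 0x102f) (.lf 0)))) (.nd (.nd (.nd (.lf 0x376) (.lf 0x1570)) (.nd (.lf 0xe0c) (.lf 0))) (.nd (.nd (.lf 0x417) (.lf 0x1376)) (.nd (.lf 0xa69) (.lf 0))))) (.nd (.nd (.nd (.nd (.lf 0x1f3) (.lf 0x113c)) (.nd (.lf 0xce9) (.lf 0))) (.nd (.nd (.lf 0x7cc) (.lf 0x11f4)) (.nd (.lf 0xb8e) (.lf 0))))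 (.nd (.nd (.nd (.lf 0x4f9) (.lf 0x1155)) (.nd (.lf 0x7d4) (.lf 0))) (.nd (.nd (.lf 0xa72) (.lf 0x152d)) (.nd (.lf 0xb53) (.lf 0)))))) (.nd (.nd (.nd (.nd (.nd (.lf 0x76) (.lf 0x1263)) (.nd (.lf 0x5ec) (.lf 0))) (.nd (.nd (.lf 0x313) (.lf 0x12ff)) (.nd (.lf 0x10b8) (.lf 0)))) (.nd (.nd (.nd (.lf 0x1bf) (.lf 0x15bf)) (.nd (.lf 0xe98) (.lf 0))) (.nd (.nd (.lf 0x9d4) (.lf 0x17bb)) (.nd (.lf 0x1034) (.lf 0))))) (.nd (.nd (.nd (.nd (.lf 0x2b8) (.lf 0xdc2)) (.nd (.lf 0xd81) (.lf 0))) (.nd (.nd (.lf 0x3c0) (.lf 0x12b8)) (.nd (.lf 0x11b5) (.lf 0)))) (.nd (.nd (.nd (.lf 0x269) (.lf 0x166f)) (.nd (.lf 0xf34) (.lf 0))) (.nd (.nd (.lf 0x991) (.lf 0x16fa)) (.nd (.lf 0x1378) (.lf 0))))))) (.nd (.nd (.nd (.nd (.nd (.nd (.lf 0x4d) (.lf 0x1419))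 (.nd (.lf 0x5b9) (.lf 0))) (.nd (.nd (.lf 0x2e7) (.lf 0x10ec)) (.nd (.lf 0x1073) (.lf 0)))) (.nd (.nd (.nd (.lf 0x27c) (.lf 0xe8d)) (.nd (.lf 0xe53) (.lf 0))) (.nd (.nd (.lf 0x97c) (.lf 0x13d3)) (.nd (.lf 0xaa1) (.lf 0))))) (.nd (.nd (.nd (.nd (.lf 0x255) (.lf 0x134b)) (.nd (.lf 0x67c) (.lf 0))) (.nd (.nd (.lf 0x826) (.lf 0x157c)) (.nd (.lf 0x9b8) (.lf 0)))) (.nd (.nd (.nd (.lf 0x555) (.lf 0x163f)) (.nd (.lf 0x80c) (.lf 0))) (.nd (.nd (.lf 0xacc) (.lf 0x15cb)) (.nd (.lf 0xb8a) (.lf 0)))))) (.nd (.nd (.nd (.nd (.nd (.lf 0x18e) (.lf 0x1487)) (.nd (.lf 0x619) (.lf 0))) (.nd (.nd (.lf 0x33e) (.lf 0x1196)) (.nd (.lf 0x9af) (.lf 0)))) (.nd (.nd (.nd (.lf 0x49c) (.lf 0x15e5)) (.nd (.lf 0x807) (.lf 0))) (.nd (.nd (.lf 0xa24) (.lf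 0x14ac)) (.nd (.lf 0x1090) (.lf 0))))) (.nd (.nd (.nd (.nd (.lf 0x318) (.lf 0xe08)) (.nd (.lf 0xdc9) (.lf 0))) (.nd (.nd (.lf 0x3eb) (.lf 0x15fc)) (.nd (.lf 0xa30) (.lf 0)))) (.nd (.nd (.nd (.lf 0x294) (.lf 0x1692)) (.nd (.lf 0xff3) (.lf 0))) (.nd (.nd (.lf 0x55f) (.lf 0x17a0)) (.nd (.lf 0x13ae) (.lf 0))))))))
def tabB_nabaaaa : Tr := (.nd (.nd (.nd (.nd (.nd (.nd (.nd (.lf 0x0) (.lf 0xd19)) (.nd (.lf 0xb72) (.lf 0x17de))) (.nd (.nd (.lf 0x298) (.lf 0x1699)) (.nd (.lf 0xffb) (.lf 0)))) (.nd (.nd (.nd (.lf 0x146) (.lf 0xe0f)) (.nd (.lf 0xdce) (.lf 0))) (.nd (.nd (.lf 0x8dc) (.lf 0x15b8)) (.nd (.lf 0x11f9) (.lf 0))))) (.nd (.nd (.nd (.nd (.lf 0x197) (.lf 0xd01)) (.nd (.lf 0xca1) (.lf 0))) (.nd (.nd (.lf 0x783) (.lf 0x1302))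 (.nd (.lf 0x952) (.lf 0)))) (.nd (.nd (.nd (.lf 0x4a3) (.lf 0x1502)) (.nd (.lf 0xeea) (.lf 0))) (.nd (.nd (.lf 0xa2b) (.lf 0x173d)) (.nd (.lf 0xb1a) (.lf 0)))))) (.nd (.nd (.nd (.nd (.nd (.lf 0x51) (.lf 0x1194)) (.nd (.lf 0xc0f) (.lf 0))) (.nd (.nd (.lf 0x6d1) (.lf 0x10f3)) (.nd (.lf 0x106d) (.lf 0)))) (.nd (.nd (.nd (.lf 0x3e1) (.lf 0x1282)) (.nd (.lf 0xe59) (.lf 0))) (.nd (.nd (.lf 0x44a) (.lf 0x17c2)) (.nd (.lf 0x126f) (.lf 0))))) (.nd (.nd (.nd (.nd (.lf 0x25f) (.lf 0x14f0)) (.nd (.lf 0xd3a) (.lf 0))) (.nd (.nd (.lf 0x39a) (.lf 0x175d)) (.nd (.lf 0xa70) (.lf 0)))) (.nd (.nd (.nd (.lf 0x243) (.lf 0xfc6)) (.nd (.lf 0xedf) (.lf 0))) (.nd (.nd (.lf 0xad4) (.lf 0x15da)) (.nd (.lf 0xb90) (.lf 0))))))) (.nd (.nd (.nd (.nd (.nd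 (.nd (.lf 0x6b) (.lf 0x13e8)) (.nd (.lf 0xbbb) (.lf 0))) (.nd (.nd (.lf 0x676) (.lf 0x1669)) (.nd (.lf 0x8ab) (.lf 0)))) (.nd (.nd (.nd (.lf 0x380) (.lf 0x11ea)) (.nd (.lf 0xc09) (.lf 0))) (.nd (.nd (.lf 0x41c) (.lf 0x151c)) (.nd (.lf 0xa6e) (.lf 0))))) (.nd (.nd (.nd (.nd (.lf 0xcb) (.lf 0x1278)) (.nd (.lf 0xced) (.lf 0))) (.nd (.nd (.lf 0x36d) (.lf 0x159e)) (.nd (.lf 0x988) (.lf 0)))) (.nd (.nd (.nd (.lf 0x503) (.lf 0x154d)) (.nd (.lf 0xaa9) (.lf 0))) (.nd (.nd (.lf 0x4d6) (.lf 0x1534)) (.nd (.lf 0x131f) (.lf 0)))))) (.nd (.nd (.nd (.nd (.nd (.lf 0x133) (.lf 0xcc5)) (.nd (.lf 0x5f1) (.lf 0))) (.nd (.nd (.lf 0x317) (.lf 0x1540)) (.nd (.lf 0x91e) (.lf 0)))) (.nd (.nd (.nd (.lf 0x443) (.lf 0xed9)) (.nd (.lf 0xe9f) (.lf 0)))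 (.nd (.nd (.lf 0x9db) (.lf 0x15e2)) (.nd (.lf 0x12ac) (.lf 0))))) (.nd (.nd (.nd (.nd (.lf 0x2c1) (.lf 0x1518)) (.nd (.lf 0x6af) (.lf 0))) (.nd (.nd (.lf 0x3c5) (.lf 0x1776)) (.nd (.lf 0x11bc) (.lf 0)))) (.nd (.nd (.nd (.lf 0x5bf) (.lf 0x1543)) (.nd (.lf 0x8a8) (.lf 0))) (.nd (.nd (.lf 0xb27) (.lf 0x1682)) (.nd (.lf 0xbce) (.lf 0))))))))
def tabB_nabaaab : Tr := (.nd (.nd (.nd (.nd (.nd (.nd (.nd (.lf 0x39) (.lf 0xc2a)) (.nd (.lf 0x579) (.lf 0))) (.nd (.nd (.lf 0x647) (.lf 0x1083)) (.nd (.lf 0x88f) (.lf 0)))) (.nd (.nd (.nd (.lf 0x15b) (.lf 0xe32)) (.nd (.lf 0xdeb) (.lf 0))) (.nd (.nd (.lf 0x404) (.lf 0x164a)) (.nd (.lf 0xdff) (.lf 0))))) (.nd (.nd (.nd (.nd (.lf 0xb7) (.lf 0x14aa)) (.nd (.lf 0x636) (.lf 0))) (.nd (.nd (.lf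 0x357) (.lf 0x11d1)) (.nd (.lf 0x1115) (.lf 0)))) (.nd (.nd (.nd (.lf 0x4d3) (.lf 0xf45)) (.nd (.lf 0xf0d) (.lf 0))) (.nd (.nd (.lf 0xa54) (.lf 0x14f3)) (.nd (.lf 0x1306) (.lf 0)))))) (.nd (.nd (.nd (.nd (.nd (.lf 0x65) (.lf 0xca6)) (.nd (.lf 0xc36) (.lf 0))) (.nd (.nd (.lf 0x6fd) (.lf 0x14a2)) (.nd (.lf 0x109e) (.lf 0)))) (.nd (.nd (.nd (.lf 0x411) (.lf 0x15b0)) (.nd (.lf 0x75e) (.lf 0))) (.nd (.nd (.lf 0x9b0) (.lf 0x16a2)) (.nd (.lf 0xac4) (.lf 0))))) (.nd (.nd (.nd (.nd (.lf 0x290) (.lf 0xda5)) (.nd (.lf 0xd61) (.lf 0))) (.nd (.nd (.lf 0x3ae) (.lf 0x156b)) (.nd (.lf 0x119f) (.lf 0)))) (.nd (.nd (.nd (.lf 0x58f) (.lf 0x165c)) (.nd (.lf 0xf96) (.lf 0))) (.nd (.nd (.lf 0xb00) (.lf 0x16e4)) (.nd (.lf 0xc04) (.lf 0))))))) (.nd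 (.nd (.nd (.nd (.nd (.nd (.lf 0x9e) (.lf 0x1403)) (.nd (.lf 0x5a6) (.lf 0))) (.nd (.nd (.lf 0x2d6) (.lf 0x10d0)) (.nd (.lf 0x8c8) (.lf 0)))) (.nd (.nd (.nd (.lf 0x184) (.lf 0x1420)) (.nd (.lf 0x72e) (.lf 0))) (.nd (.nd (.lf 0x7b1) (.lf 0x13a9)) (.nd (.lf 0xa8b) (.lf 0))))) (.nd (.nd (.nd (.nd (.lf 0x22e) (.lf 0xd6d)) (.nd (.lf 0x667) (.lf 0))) (.nd (.nd (.lf 0x801) (.lf 0x1751)) (.nd (.lf 0x115b) (.lf 0)))) (.nd (.nd (.nd (.lf 0x533) (.lf 0x14b9)) (.nd (.lf 0xf49) (.lf 0))) (.nd (.nd (.lf 0xaa8) (.lf 0x179b)) (.nd (.lf 0xb75) (.lf 0)))))) (.nd (.nd (.nd (.nd (.nd (.lf 0x165) (.lf 0xdd5)) (.nd (.lf 0x606) (.lf 0))) (.nd (.nd (.lf 0x754) (.lf 0x116e)) (.nd (.lf 0x10e4) (.lf 0)))) (.nd (.nd (.nd (.lf 0x1d7) (.lf 0x1255)) (.nd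 (.lf 0x78c) (.lf 0))) (.nd (.nd (.lf 0xa04) (.lf 0x147e)) (.nd (.lf 0x1251) (.lf 0))))) (.nd (.nd (.nd (.nd (.lf 0x2f0) (.lf 0x11e2)) (.nd (.lf 0x6c8) (.lf 0))) (.nd (.nd (.lf 0x8b0) (.lf 0x16c2)) (.nd (.lf 0xe97) (.lf 0)))) (.nd (.nd (.nd (.lf 0x5ee) (.lf 0x103c)) (.nd (.lf 0xabb) (.lf 0))) (.nd (.nd (.lf 0xb4d) (.lf 0x1730)) (.nd (.lf 0xbed) (.lf 0))))))))
def tabB_nabaaba : Tr := (.nd (.nd (.nd (.nd (.nd (.nd (.nd (.lf 0x1f) (.lf 0xf4c)) (.nd (.lf 0x56e) (.lf 0))) (.nd (.nd (.lf 0x634) (.lf 0x1425)) (.nd (.lf 0x1008) (.lf 0)))) (.nd (.nd (.nd (.lf 0x151) (.lf 0xfde)) (.nd (.lf 0x6ec) (.lf 0))) (.nd (.nd (.lf 0x8f3) (.lf 0x1349)) (.nd (.lf 0x1203) (.lf 0))))) (.nd (.nd (.nd (.nd (.lf 0x1b0) (.lf 0xd13)) (.nd (.lf 0xcb6)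 (.lf 0))) (.nd (.nd (.lf 0x797) (.lf 0x11b7)) (.nd (.lf 0xf0a) (.lf 0)))) (.nd (.nd (.nd (.lf 0x1f8) (.lf 0xf2e)) (.nd (.lf 0xefa) (.lf 0))) (.nd (.nd (.lf 0xa3f) (.lf 0x14d0)) (.nd (.lf 0xb28) (.lf 0)))))) (.nd (.nd (.nd (.nd (.nd (.lf 0x5b) (.lf 0xef2)) (.nd (.lf 0x5ca) (.lf 0))) (.nd (.nd (.lf 0x2f6) (.lf 0x1104)) (.nd (.lf 0x1089) (.lf 0)))) (.nd (.nd (.nd (.lf 0x1a3) (.lf 0x159f)) (.nd (.lf 0xe69) (.lf 0))) (.nd (.nd (.lf 0x456) (.lf 0x13fc)) (.nd (.lf 0xf21) (.lf 0))))) (.nd (.nd (.nd (.nd (.lf 0x276) (.lf 0x1192)) (.nd (.lf 0xd4c) (.lf 0))) (.nd (.nd (.lf 0x3a4) (.lf 0x127d)) (.nd (.lf 0x118b) (.lf 0)))) (.nd (.nd (.nd (.lf 0x577) (.lf 0xfdc)) (.nd (.lf 0x81f) (.lf 0))) (.nd (.nd (.lf 0x50e) (.lf 0x1601)) (.nd (.lf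 0xb9c) (.lf 0))))))) (.nd (.nd (.nd (.nd (.nd (.nd (.lf 0x84) (.lf 0xc5c)) (.nd (.lf 0xbd3) (.lf 0))) (.nd (.nd (.lf 0x2cc) (.lf 0x11e6)) (.nd (.lf 0x8b9) (.lf 0)))) (.nd (.nd (.nd (.lf 0x17a) (.lf 0x12b4)) (.nd (.lf 0x721) (.lf 0))) (.nd (.nd (.lf 0x947) (.lf 0x1399)) (.nd (.lf 0x10f8) (.lf 0))))) (.nd (.nd (.nd (.nd (.lf 0x214) (.lf 0x14ce)) (.nd (.lf 0xd02) (.lf 0))) (.nd (.nd (.lf 0x37a) (.lf 0x174c)) (.nd (.lf 0x114d) (.lf 0)))) (.nd (.nd (.nd (.lf 0x51b) (.lf 0x1618)) (.nd (.lf 0xd57) (.lf 0))) (.nd (.nd (.lf 0x4e1) (.lf 0x1599)) (.nd (.lf 0xb68) (.lf 0)))))) (.nd (.nd (.nd (.nd (.nd (.lf 0x14b) (.lf 0xcd2)) (.nd (.lf 0xc6c) (.lf 0))) (.nd (.nd (.lf 0x73e) (.lf 0x1368)) (.nd (.lf 0x10d2) (.lf 0)))) (.nd (.nd (.nd (.lf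 0x45c) (.lf 0x15cc)) (.nd (.lf 0xeb1) (.lf 0))) (.nd (.nd (.lf 0x9f0) (.lf 0x1466)) (.nd (.lf 0x1144) (.lf 0))))) (.nd (.nd (.nd (.nd (.lf 0x127) (.lf 0x1523)) (.nd (.lf 0xd9a) (.lf 0))) (.nd (.nd (.lf 0x851) (.lf 0x1474)) (.nd (.lf 0xe6d) (.lf 0)))) (.nd (.nd (.nd (.lf 0x5d4) (.lf 0x1026)) (.nd (.lf 0xfc8) (.lf 0))) (.nd (.nd (.lf 0xb3a) (.lf 0x16b5)) (.nd (.lf 0xdee) (.lf 0))))))))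
def tabB_nabaabb : Tr := (.nd (.nd (.nd (.nd (.nd (.nd (.nd (.lf 0x53) (.lf 0x13dc)) (.nd (.lf 0xba8) (.lf 0))) (.nd (.nd (.lf 0x65e) (.lf 0x1095)) (.nd (.lf 0x89e) (.lf 0)))) (.nd (.nd (.nd (.lf 0x368) (.lf 0xe43)) (.nd (.lf 0xdfe) (.lf 0))) (.nd (.nd (.lf 0x91c) (.lf 0x17a9)) (.nd (.lf 0x1222) (.lf 0))))) (.nd (.nd (.nd (.nd (.lf 0x1e3) (.lf 0x11d8)) (.nd (.lf 0xc14) (.lf 0))) (.nd (.nd (.lf 0x7bd) (.lf 0x1740)) (.nd (.lf 0x97a) (.lf 0)))) (.nd (.nd (.nd (.lf 0x4ec) (.lf 0xf93)) (.nd (.lf 0xf1d) (.lf 0))) (.nd (.nd (.lf 0xa67) (.lf 0x16d4)) (.nd (.lf 0x110e) (.lf 0)))))) (.nd (.nd (.nd (.nd (.nd (.lf 0x11a) (.lf 0x144d)) (.nd (.lf 0x5e4) (.lf 0))) (.nd (.nd (.lf 0x30c) (.lf 0x15b1)) (.nd (.lf 0xf71) (.lf 0)))) (.nd (.nd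 (.nd (.lf 0x42a) (.lf 0xec7)) (.nd (.lf 0xb9e) (.lf 0))) (.nd (.nd (.lf 0x46b) (.lf 0x1641)) (.nd (.lf 0x129d) (.lf 0))))) (.nd (.nd (.nd (.nd (.lf 0x113) (.lf 0xdb8)) (.nd (.lf 0xd75) (.lf 0))) (.nd (.nd (.lf 0x3b9) (.lf 0x132d)) (.nd (.lf 0x11ad) (.lf 0)))) (.nd (.nd (.nd (.lf 0x263) (.lf 0x1004)) (.nd (.lf 0xfa8) (.lf 0))) (.nd (.nd (.lf 0x528) (.lf 0x17df)) (.nd (.lf 0xd71) (.lf 0))))))) (.nd (.nd (.nd (.nd (.nd (.nd (.lf 0x47) (.lf 0x133a)) (.nd (.lf 0x818) (.lf 0))) (.nd (.nd (.lf 0x6bb) (.lf 0x1114)) (.nd (.lf 0x106a) (.lf 0)))) (.nd (.nd (.nd (.lf 0x3ca) (.lf 0x158d)) (.nd (.lf 0x73c) (.lf 0))) (.nd (.nd (.lf 0x43f) (.lf 0x17bf)) (.nd (.lf 0x1264) (.lf 0))))) (.nd (.nd (.nd (.nd (.lf 0xea) (.lf 0x1174)) (.nd (.lf 0x674)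 (.lf 0))) (.nd (.nd (.lf 0x38f) (.lf 0x1240)) (.nd (.lf 0x1167) (.lf 0)))) (.nd (.nd (.nd (.lf 0x239) (.lf 0x1637)) (.nd (.lf 0x802) (.lf 0))) (.nd (.nd (.lf 0xabf) (.lf 0x15b6)) (.nd (.lf 0x1346) (.lf 0)))))) (.nd (.nd (.nd (.nd (.nd (.lf 0x17e) (.lf 0xcf2)) (.nd (.lf 0x7a7) (.lf 0))) (.nd (.nd (.lf 0x76b) (.lf 0x1721)) (.nd (.lf 0x10f2) (.lf 0)))) (.nd (.nd (.nd (.lf 0x48e) (.lf 0xf94)) (.nd (.lf 0xb61) (.lf 0))) (.nd (.nd (.lf 0xa19) (.lf 0x149c)) (.nd (.lf 0x1092) (.lf 0))))) (.nd (.nd (.nd (.nd (.lf 0x308) (.lf 0x1175)) (.nd (.lf 0x6d3) (.lf 0))) (.nd (.nd (.lf 0x3e5) (.lf 0x1311)) (.nd (.lf 0xa27) (.lf 0)))) (.nd (.nd (.nd (.lf 0x28e) (.lf 0x13cf)) (.nd (.lf 0x86b) (.lf 0))) (.nd (.nd (.lf 0x64d) (.lf 0x1805)) (.nd (.lf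 0xbfb) (.lf 0))))))))
def tabB_nababaa : Tr := (.nd (.nd (.nd (.nd (.nd (.nd (.nd (.lf 0x5) (.lf 0x13b9)) (.nd (.lf 0x569) (.lf 0x1800))) (.nd (.nd (.lf 0x62a) (.lf 0x1067)) (.nd (.lf 0x1001) (.lf 0)))) (.nd (.nd (.nd (.lf 0x14c) (.lf 0x1497)) (.nd (.lf 0x6e6) (.lf 0))) (.nd (.nd (.lf 0x3f5) (.lf 0x15cd)) (.nd (.lf 0x11fd) (.lf 0))))) (.nd (.nd (.nd (.nd (.lf 0x1a4) (.lf 0xd0a)) (.nd (.lf 0xcab) (.lf 0))) (.nd (.nd (.lf 0x346) (.lf 0x11ac)) (.nd (.lf 0x110a) (.lf 0)))) (.nd (.nd (.nd (.lf 0x4b0) (.lf 0xf26)) (.nd (.lf 0xef3) (.lf 0))) (.nd (.nd (.lf 0xa34) (.lf 0x14c4)) (.nd (.lf 0xd12) (.lf 0)))))) (.nd (.nd (.nd (.nd (.nd (.lf 0xdc) (.lf 0x142a)) (.nd (.lf 0x5c4) (.lf 0))) (.nd (.nd (.lf 0x6dd) (.lf 0x10ff)) (.nd (.lf 0xb38)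 (.lf 0)))) (.nd (.nd (.nd (.lf 0x19e) (.lf 0xea0)) (.nd (.lf 0x74c) (.lf 0))) (.nd (.nd (.lf 0x990) (.lf 0x13e9)) (.nd (.lf 0xaae) (.lf 0))))) (.nd (.nd (.nd (.nd (.lf 0x26b) (.lf 0x14f6)) (.nd (.lf 0xd45) (.lf 0))) (.nd (.nd (.lf 0x39f) (.lf 0x1763)) (.nd (.lf 0x1186) (.lf 0)))) (.nd (.nd (.nd (.lf 0x56a) (.lf 0x1645)) (.nd (.lf 0xf7c) (.lf 0))) (.nd (.nd (.lf 0x509) (.lf 0x178a)) (.nd (.lf 0xb95) (.lf 0))))))) (.nd (.nd (.nd (.nd (.nd (.nd (.lf 0x77) (.lf 0x13ef)) (.nd (.lf 0xbc6) (.lf 0))) (.nd (.nd (.lf 0x682) (.lf 0x16c3)) (.nd (.lf 0x8b3) (.lf 0)))) (.nd (.nd (.nd (.lf 0x38c) (.lf 0x1578)) (.nd (.lf 0xe1c) (.lf 0))) (.nd (.nd (.lf 0x93d) (.lf 0x1622)) (.nd (.lf 0x123b) (.lf 0))))) (.nd (.nd (.nd (.nd (.lf 0x14a) (.lf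 0xd50)) (.nd (.lf 0xc2e) (.lf 0))) (.nd (.nd (.lf 0x375) (.lf 0x174a)) (.nd (.lf 0x1145) (.lf 0)))) (.nd (.nd (.nd (.lf 0x50f) (.lf 0xf79)) (.nd (.lf 0xf35) (.lf 0))) (.nd (.nd (.lf 0x4db) (.lf 0x154a)) (.nd (.lf 0xf60) (.lf 0)))))) (.nd (.nd (.nd (.nd (.nd (.lf 0x140) (.lf 0x105d)) (.nd (.lf 0x5f6) (.lf 0))) (.nd (.nd (.lf 0x31c) (.lf 0x170e)) (.nd (.lf 0x10c9) (.lf 0)))) (.nd (.nd (.nd (.lf 0x44f) (.lf 0x15c6)) (.nd (.lf 0x77a) (.lf 0))) (.nd (.nd (.lf 0x9e5) (.lf 0x1459)) (.nd (.lf 0xeca) (.lf 0))))) (.nd (.nd (.nd (.nd (.lf 0x2cd) (.lf 0xdd0)) (.nd (.lf 0x6b5) (.lf 0))) (.nd (.nd (.lf 0x892) (.lf 0x12cf)) (.nd (.lf 0x11c3) (.lf 0)))) (.nd (.nd (.nd (.lf 0x272) (.lf 0x1675)) (.nd (.lf 0xfbd) (.lf 0))) (.nd (.nd (.lf 0x53b)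 (.lf 0x16a4)) (.nd (.lf 0x10a0) (.lf 0))))))))
def tabB_nababab : Tr := (.nd (.nd (.nd (.nd (.nd (.nd (.nd (.lf 0x46) (.lf 0x124d)) (.nd (.lf 0x8f8) (.lf 0))) (.nd (.nd (.lf 0x2b2) (.lf 0x108a)) (.nd (.lf 0x1022) (.lf 0)))) (.nd (.nd (.nd (.lf 0x35b) (.lf 0xe3a)) (.nd (.lf 0xdf5) (.lf 0))) (.nd (.nd (.lf 0x40a) (.lf 0x1364)) (.nd (.lf 0xdae) (.lf 0))))) (.nd (.nd (.nd (.nd (.lf 0x1ba) (.lf 0xd2f)) (.nd (.lf 0xcd1) (.lf 0))) (.nd (.nd (.lf 0x7b5) (.lf 0x11da)) (.nd (.lf 0x1127) (.lf 0)))) (.nd (.nd (.nd (.lf 0x4e0) (.lf 0x15fe)) (.nd (.lf 0xf15) (.lf 0))) (.nd (.nd (.lf 0xa5d) (.lf 0x150b)) (.nd (.lf 0xb40) (.lf 0)))))) (.nd (.nd (.nd (.nd (.nd (.lf 0x6a) (.lf 0x1445)) (.nd (.lf 0xc40) (.lf 0))) (.nd (.nd (.lf 0x708) (.lf 0x1122))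 (.nd (.lf 0x10a7) (.lf 0)))) (.nd (.nd (.nd (.lf 0x41e) (.lf 0xec0)) (.nd (.lf 0xe84) (.lf 0))) (.nd (.nd (.lf 0x9bb) (.lf 0x1768)) (.nd (.lf 0x1293) (.lf 0))))) (.nd (.nd (.nd (.nd (.lf 0x10e) (.lf 0x1509)) (.nd (.lf 0xd6a) (.lf 0))) (.nd (.nd (.lf 0x866) (.lf 0x1557)) (.nd (.lf 0x11a9) (.lf 0)))) (.nd (.nd (.nd (.lf 0x25e) (.lf 0xff8)) (.nd (.lf 0xfa0) (.lf 0))) (.nd (.nd (.lf 0xb09) (.lf 0x1636)) (.nd (.lf 0xbb3) (.lf 0))))))) (.nd (.nd (.nd (.nd (.nd (.nd (.lf 0xaa) (.lf 0xc72)) (.nd (.lf 0x5ad) (.lf 0))) (.nd (.nd (.lf 0x6b0) (.lf 0x16d5)) (.nd (.lf 0x8d0) (.lf 0)))) (.nd (.nd (.nd (.lf 0x3be) (.lf 0x1589)) (.nd (.lf 0xe3d) (.lf 0))) (.nd (.nd (.lf 0x965) (.lf 0x13b5)) (.nd (.lf 0x1257) (.lf 0))))) (.nd (.nd (.nd (.nd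 (.lf 0xe5) (.lf 0xd74)) (.nd (.lf 0xd20) (.lf 0))) (.nd (.nd (.lf 0x38a) (.lf 0x1231)) (.nd (.lf 0x9aa) (.lf 0)))) (.nd (.nd (.nd (.lf 0x53e) (.lf 0xfac)) (.nd (.lf 0xf56) (.lf 0))) (.nd (.nd (.lf 0xab3) (.lf 0x1596)) (.nd (.lf 0x1340) (.lf 0)))))) (.nd (.nd (.nd (.nd (.nd (.lf 0x172) (.lf 0x1479)) (.nd (.lf 0xc87) (.lf 0))) (.nd (.nd (.lf 0x331) (.lf 0x1178)) (.nd (.lf 0x10eb) (.lf 0)))) (.nd (.nd (.nd (.lf 0x1dd) (.lf 0xf86)) (.nd (.lf 0xecf) (.lf 0))) (.nd (.nd (.lf 0x8c6) (.lf 0x16ea)) (.nd (.lf 0xb02) (.lf 0))))) (.nd (.nd (.nd (.nd (.lf 0x2fd) (.lf 0x1242)) (.nd (.lf 0xdb4) (.lf 0))) (.nd (.nd (.lf 0x8ba) (.lf 0x1788)) (.nd (.lf 0xa76) (.lf 0)))) (.nd (.nd (.nd (.lf 0x5fa) (.lf 0x1043)) (.nd (.lf 0x865) (.lf 0))) (.nd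 (.nd (.lf 0xb5a) (.lf 0x17b4)) (.nd (.lf 0x139d) (.lf 0))))))))
def tabB_nababba : Tr := (.nd (.nd (.nd (.nd (.nd (.nd (.nd (.lf 0x2c) (.lf 0x12c5)) (.nd (.lf 0x8a3) (.lf 0))) (.nd (.nd (.lf 0x640) (.lf 0x1451)) (.nd (.lf 0xfb4) (.lf 0)))) (.nd (.nd (.nd (.lf 0x156) (.lf 0xfc9)) (.nd (.lf 0x715) (.lf 0))) (.nd (.nd (.lf 0x8fe) (.lf 0x1353)) (.nd (.lf 0xf3b) (.lf 0))))) (.nd (.nd (.nd (.nd (.lf 0xb2) (.lf 0x1265)) (.nd (.lf 0xcbe) (.lf 0))) (.nd (.nd (.lf 0x559) (.lf 0x1731)) (.nd (.lf 0x1118) (.lf 0)))) (.nd (.nd (.nd (.lf 0x4c7) (.lf 0x15f7)) (.nd (.lf 0xf02) (.lf 0))) (.nd (.nd (.lf 0x551) (.lf 0x16e6)) (.nd (.lf 0xf7b) (.lf 0)))))) (.nd (.nd (.nd (.nd (.nd (.lf 0xf6) (.lf 0x1438)) (.nd (.lf 0x97b) (.lf 0))) (.nd (.nd (.lf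 0x2fb) (.lf 0x1111)) (.nd (.lf 0x1094) (.lf 0)))) (.nd (.nd (.nd (.lf 0x405) (.lf 0xeb0)) (.nd (.lf 0xe74) (.lf 0))) (.nd (.nd (.lf 0x9a6) (.lf 0x155d)) (.nd (.lf 0xabe) (.lf 0))))) (.nd (.nd (.nd (.nd (.lf 0x283) (.lf 0x14bb)) (.nd (.lf 0xd55) (.lf 0))) (.nd (.nd (.lf 0x565) (.lf 0x1619)) (.nd (.lf 0x9d2) (.lf 0)))) (.nd (.nd (.nd (.lf 0x582) (.lf 0x1653)) (.nd (.lf 0xf8e) (.lf 0))) (.nd (.nd (.lf 0xaf4) (.lf 0x160e)) (.nd (.lf 0x11e9) (.lf 0))))))) (.nd (.nd (.nd (.nd (.nd (.nd (.lf 0x37) (.lf 0x117b)) (.nd (.lf 0xbdc) (.lf 0))) (.nd (.nd (.lf 0x2d1) (.lf 0x10c5)) (.nd (.lf 0x8c0) (.lf 0)))) (.nd (.nd (.nd (.lf 0x17f) (.lf 0x157e)) (.nd (.lf 0xe2b) (.lf 0))) (.nd (.nd (.lf 0x951) (.lf 0x17a3)) (.nd (.lf 0x124b) (.lf 0)))))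 (.nd (.nd (.nd (.nd (.lf 0xdb) (.lf 0xd60)) (.nd (.lf 0x660) (.lf 0))) (.nd (.nd (.lf 0x37f) (.lf 0x1678)) (.nd (.lf 0xee7) (.lf 0)))) (.nd (.nd (.nd (.lf 0x527) (.lf 0x1621)) (.nd (.lf 0x7ea) (.lf 0))) (.nd (.nd (.lf 0xa9e) (.lf 0x1715)) (.nd (.lf 0x1334) (.lf 0)))))) (.nd (.nd (.nd (.nd (.nd (.lf 0x158) (.lf 0x122d)) (.nd (.lf 0x601) (.lf 0))) (.nd (.nd (.lf 0x326) (.lf 0x1383)) (.nd (.lf 0x10db) (.lf 0)))) (.nd (.nd (.nd (.lf 0x469) (.lf 0x1011)) (.nd (.lf 0xeb8) (.lf 0))) (.nd (.nd (.lf 0x976) (.lf 0x1473)) (.nd (.lf 0x106b) (.lf 0))))) (.nd (.nd (.nd (.nd (.lf 0x2e6) (.lf 0x152a)) (.nd (.lf 0xda3) (.lf 0))) (.nd (.nd (.lf 0x3d6) (.lf 0x1782)) (.nd (.lf 0x11d4) (.lf 0)))) (.nd (.nd (.nd (.lf 0x27e) (.lf 0x1030)) (.nd (.lf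 0xfd1) (.lf 0))) (.nd (.nd (.lf 0x545) (.lf 0x1711)) (.nd (.lf 0x12c3) (.lf 0))))))))
def tabB_nababbb : Tr := (.nd (.nd (.nd (.nd (.nd (.nd (.nd (.lf 0x5e) (.lf 0xf73)) (.nd (.lf 0x589) (.lf 0))) (.nd (.nd (.lf 0x66b) (.lf 0x16b9)) (.nd (.lf 0xd3b) (.lf 0)))) (.nd (.nd (.nd (.lf 0x374) (.lf 0xe91)) (.nd (.lf 0xe09) (.lf 0))) (.nd (.nd (.lf 0x927) (.lf 0x1453)) (.nd (.lf 0x122a) (.lf 0))))) (.nd (.nd (.nd (.nd (.lf 0xc6) (.lf 0x10c1)) (.nd (.lf 0xce6) (.lf 0))) (.nd (.nd (.lf 0x367) (.lf 0x1744)) (.nd (.lf 0x982) (.lf 0)))) (.nd (.nd (.nd (.lf 0x4f7) (.lf 0x1072)) (.nd (.lf 0x7d2) (.lf 0))) (.nd (.nd (.lf 0xa6f) (.lf 0x16df)) (.nd (.lf 0xcff) (.lf 0)))))) (.nd (.nd (.nd (.nd (.nd (.lf 0x74) (.lf 0x136d)) (.nd (.lf 0x5ea) (.lf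 0))) (.nd (.nd (.lf 0x311) (.lf 0x1707)) (.nd (.lf 0x915) (.lf 0)))) (.nd (.nd (.nd (.lf 0x1bd) (.lf 0xed0)) (.nd (.lf 0x76f) (.lf 0))) (.nd (.nd (.lf 0x9d1) (.lf 0x16ba)) (.nd (.lf 0x12a3) (.lf 0))))) (.nd (.nd (.nd (.nd (.lf 0x12a) (.lf 0xdc0)) (.nd (.lf 0x917) (.lf 0))) (.nd (.nd (.lf 0x3bf) (.lf 0x1773)) (.nd (.lf 0x11b3) (.lf 0)))) (.nd (.nd (.nd (.lf 0x268) (.lf 0x166e)) (.nd (.lf 0xf1b) (.lf 0))) (.nd (.nd (.lf 0xb1d) (.lf 0x16db)) (.nd (.lf 0xbc7) (.lf 0))))))) (.nd (.nd (.nd (.nd (.nd (.nd (.lf 0x4c) (.lf 0xc83)) (.nd (.lf 0xc05) (.lf 0))) (.nd (.nd (.lf 0x6c7) (.lf 0x16de)) (.nd (.lf 0xc80) (.lf 0)))) (.nd (.nd (.nd (.lf 0x1b7) (.lf 0x1591)) (.nd (.lf 0xe50) (.lf 0))) (.nd (.nd (.lf 0x858) (.lf 0x168c)) (.nd (.lf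 0xa9f) (.lf 0))))) (.nd (.nd (.nd (.nd (.lf 0x252) (.lf 0xd80)) (.nd (.lf 0xd32) (.lf 0))) (.nd (.nd (.lf 0x394) (.lf 0x1758)) (.nd (.lf 0x1171) (.lf 0)))) (.nd (.nd (.nd (.lf 0x552) (.lf 0xfbe)) (.nd (.lf 0x80b) (.lf 0))) (.nd (.nd (.lf 0xaca) (.lf 0x17d5)) (.nd (.lf 0xb88) (.lf 0)))))) (.nd (.nd (.nd (.nd (.nd (.lf 0x9d) (.lf 0x1230)) (.nd (.lf 0xc99) (.lf 0))) (.nd (.nd (.lf 0x776) (.lf 0x14f4)) (.nd (.lf 0x10fb) (.lf 0)))) (.nd (.nd (.nd (.lf 0x1e8) (.lf 0xf13)) (.nd (.lf 0xee1) (.lf 0))) (.nd (.nd (.lf 0x4a0) (.lf 0x17bc)) (.nd (.lf 0xb12) (.lf 0))))) (.nd (.nd (.nd (.nd (.lf 0x141) (.lf 0xe03)) (.nd (.lf 0x6d9) (.lf 0))) (.nd (.nd (.lf 0x3ea) (.lf 0x1455)) (.nd (.lf 0x11ef) (.lf 0)))) (.nd (.nd (.nd (.lf 0x293) (.lf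 0x1691)) (.nd (.lf 0xff0) (.lf 0))) (.nd (.nd (.lf 0x55e) (.lf 0x17ef)) (.nd (.lf 0x13ad) (.lf 0))))))))
def tabB_nabbaaa : Tr := (.nd (.nd (.nd (.nd (.nd (.nd (.nd (.lf 0xc) (.lf 0xff9)) (.nd (.lf 0xb47) (.lf 0x17fd))) (.nd (.nd (.lf 0x29b) (.lf 0x1064)) (.nd (.lf 0x87b) (.lf 0)))) (.nd (.nd (.nd (.lf 0x149) (.lf 0x154c)) (.nd (.lf 0x6e3) (.lf 0))) (.nd (.nd (.lf 0x8e2) (.lf 0x1337)) (.nd (.lf 0xa38) (.lf 0))))) (.nd (.nd (.nd (.nd (.lf 0xa4) (.lf 0x1493)) (.nd (.lf 0xca5) (.lf 0))) (.nd (.nd (.lf 0x786) (.lf 0x1486)) (.nd (.lf 0x955) (.lf 0)))) (.nd (.nd (.nd (.lf 0x1f0) (.lf 0xf22)) (.nd (.lf 0x7a8) (.lf 0))) (.nd (.nd (.lf 0x4a9) (.lf 0x1620)) (.nd (.lf 0xb1e) (.lf 0)))))) (.nd (.nd (.nd (.nd (.nd (.lf 0xd6) (.lf 0x1426))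 (.nd (.lf 0x5c1) (.lf 0))) (.nd (.nd (.lf 0x6d6) (.lf 0x1506)) (.nd (.lf 0xa28) (.lf 0)))) (.nd (.nd (.nd (.lf 0x3e6) (.lf 0xe9c)) (.nd (.lf 0x749) (.lf 0))) (.nd (.nd (.lf 0x98b) (.lf 0x179f)) (.nd (.lf 0x1274) (.lf 0))))) (.nd (.nd (.nd (.nd (.lf 0xf7) (.lf 0xd8a)) (.nd (.lf 0x683) (.lf 0))) (.nd (.nd (.lf 0x835) (.lf 0x1760)) (.nd (.lf 0x1181) (.lf 0)))) (.nd (.nd (.nd (.lf 0x563) (.lf 0x109d)) (.nd (.lf 0xf76) (.lf 0))) (.nd (.nd (.lf 0x506) (.lf 0x16be)) (.nd (.lf 0x12ea) (.lf 0))))))) (.nd (.nd (.nd (.nd (.nd (.nd (.lf 0x2a) (.lf 0x13ec)) (.nd (.lf 0xbbf) (.lf 0))) (.nd (.nd (.lf 0x67b) (.lf 0x110c)) (.nd (.lf 0x1039) (.lf 0)))) (.nd (.nd (.nd (.lf 0x387) (.lf 0x12c9)) (.nd (.lf 0xe17) (.lf 0))) (.nd (.nd (.lf 0x938)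 (.lf 0x178b)) (.nd (.lf 0x1121) (.lf 0))))) (.nd (.nd (.nd (.nd (.lf 0x202) (.lf 0x14c6)) (.nd (.lf 0xcf3) (.lf 0))) (.nd (.nd (.lf 0x7dc) (.lf 0x1747)) (.nd (.lf 0x113f) (.lf 0)))) (.nd (.nd (.nd (.lf 0x50a) (.lf 0xf72)) (.nd (.lf 0xeab) (.lf 0))) (.nd (.nd (.lf 0xa81) (.lf 0x1545)) (.nd (.lf 0xb5f) (.lf 0)))))) (.nd (.nd (.nd (.nd (.nd (.lf 0x13a) (.lf 0xcc8)) (.nd (.lf 0x6ea) (.lf 0))) (.nd (.nd (.lf 0x72d) (.lf 0x1146)) (.nd (.lf 0x921) (.lf 0)))) (.nd (.nd (.nd (.lf 0x2c6) (.lf 0xedd)) (.nd (.lf 0x777) (.lf 0))) (.nd (.nd (.lf 0x9df) (.lf 0x171d)) (.nd (.lf 0x12b0) (.lf 0))))) (.nd (.nd (.nd (.nd (.lf 0x2c7) (.lf 0xdcd)) (.nd (.lf 0xd8b) (.lf 0))) (.nd (.nd (.lf 0x88d) (.lf 0x12ca)) (.nd (.lf 0x11c1) (.lf 0)))) (.nd (.nd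 (.nd (.lf 0x26f) (.lf 0x1019)) (.nd (.lf 0x84a) (.lf 0))) (.nd (.nd (.lf 0xb2d) (.lf 0x1689)) (.nd (.lf 0x1382) (.lf 0))))))))
def tabB_nabbaab : Tr := (.nd (.nd (.nd (.nd (.nd (.nd (.nd (.lf 0x16) (.lf 0x13d2)) (.nd (.lf 0x57c) (.lf 0))) (.nd (.nd (.lf 0x64c) (.lf 0x1086)) (.nd (.lf 0x893) (.lf 0)))) (.nd (.nd (.nd (.lf 0x355) (.lf 0xe35)) (.nd (.lf 0x6fe) (.lf 0))) (.nd (.nd (.lf 0x90e) (.lf 0x16c1)) (.nd (.lf 0xda4) (.lf 0))))) (.nd (.nd (.nd (.nd (.lf 0x1d0) (.lf 0x14ab)) (.nd (.lf 0xccb) (.lf 0))) (.nd (.nd (.lf 0x7b0) (.lf 0x12c1)) (.nd (.lf 0x96f) (.lf 0)))) (.nd (.nd (.nd (.lf 0x4da) (.lf 0xf91)) (.nd (.lf 0xdef) (.lf 0))) (.nd (.nd (.lf 0x726) (.lf 0x16fb)) (.nd (.lf 0x130a) (.lf 0)))))) (.nd (.nd (.nd (.nd (.nd (.lf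 0x109) (.lf 0x1398)) (.nd (.lf 0x5db) (.lf 0))) (.nd (.nd (.lf 0x703) (.lf 0x111f)) (.nd (.lf 0x10a2) (.lf 0)))) (.nd (.nd (.nd (.lf 0x1af) (.lf 0xebd)) (.nd (.lf 0xe81) (.lf 0))) (.nd (.nd (.lf 0x463) (.lf 0x14df)) (.nd (.lf 0x128d) (.lf 0))))) (.nd (.nd (.nd (.nd (.lf 0x297) (.lf 0x14e7)) (.nd (.lf 0x69a) (.lf 0))) (.nd (.nd (.lf 0x862) (.lf 0x169c)) (.nd (.lf 0x11a4) (.lf 0)))) (.nd (.nd (.nd (.lf 0x25b) (.lf 0x11bb)) (.nd (.lf 0xe00) (.lf 0))) (.nd (.nd (.lf 0x98f) (.lf 0x17b8)) (.nd (.lf 0xbb0) (.lf 0))))))) (.nd (.nd (.nd (.nd (.nd (.nd (.lf 0x3f) (.lf 0x1408)) (.nd (.lf 0x5aa) (.lf 0))) (.nd (.nd (.lf 0x6ab) (.lf 0x16d2)) (.nd (.lf 0x105f) (.lf 0)))) (.nd (.nd (.nd (.lf 0x3b7) (.lf 0x1584)) (.nd (.lf 0xc27) (.lf 0)))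 (.nd (.nd (.lf 0x437) (.lf 0x13af)) (.nd (.lf 0x1254) (.lf 0))))) (.nd (.nd (.nd (.nd (.lf 0x13f) (.lf 0x11f7)) (.nd (.lf 0xd1b) (.lf 0))) (.nd (.nd (.lf 0x388) (.lf 0x1510)) (.nd (.lf 0x9a5) (.lf 0)))) (.nd (.nd (.nd (.lf 0x538) (.lf 0x162d)) (.nd (.lf 0x7f7) (.lf 0))) (.nd (.nd (.lf 0xaad) (.lf 0x158c)) (.nd (.lf 0xb79) (.lf 0)))))) (.nd (.nd (.nd (.nd (.nd (.lf 0x90) (.lf 0x11a1)) (.nd (.lf 0xc81) (.lf 0))) (.nd (.nd (.lf 0x32e) (.lf 0x11c8)) (.nd (.lf 0x93a) (.lf 0)))) (.nd (.nd (.nd (.lf 0x1da) (.lf 0x11b8)) (.nd (.lf 0x78f) (.lf 0))) (.nd (.nd (.lf 0xa0a) (.lf 0x171a)) (.nd (.lf 0xaff) (.lf 0))))) (.nd (.nd (.nd (.nd (.lf 0x134) (.lf 0x1452)) (.nd (.lf 0xb14) (.lf 0))) (.nd (.nd (.lf 0x3dd) (.lf 0x1785)) (.nd (.lf 0xa1f)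 (.lf 0)))) (.nd (.nd (.nd (.lf 0x286) (.lf 0x161d)) (.nd (.lf 0xfdb) (.lf 0))) (.nd (.nd (.lf 0x54c) (.lf 0x1734)) (.nd (.lf 0xf51) (.lf 0))))))))
def tabB_nabbaba : Tr := (.nd (.nd (.nd (.nd (.nd (.nd (.nd (.lf 0x26) (.lf 0xc1f)) (.nd (.lf 0x816) (.lf 0))) (.nd (.nd (.lf 0x2a5) (.lf 0x1079)) (.nd (.lf 0x995) (.lf 0)))) (.nd (.nd (.nd (.lf 0x33d) (.lf 0xe25)) (.nd (.lf 0xddf) (.lf 0))) (.nd (.nd (.lf 0x3fd) (.lf 0x1350)) (.nd (.lf 0x1208) (.lf 0))))) (.nd (.nd (.nd (.nd (.lf 0xb0) (.lf 0x149f)) (.nd (.lf 0x62b) (.lf 0))) (.nd (.nd (.lf 0x34f) (.lf 0x11be)) (.nd (.lf 0x961) (.lf 0)))) (.nd (.nd (.nd (.lf 0x1fb) (.lf 0x1387)) (.nd (.lf 0xefe) (.lf 0))) (.nd (.nd (.lf 0x4b4) (.lf 0x170d)) (.nd (.lf 0x12fd) (.lf 0)))))) (.nd (.nd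 (.nd (.nd (.nd (.lf 0x5d) (.lf 0xc9b)) (.nd (.lf 0x5ce) (.lf 0))) (.nd (.nd (.lf 0x6ed) (.lf 0x16ee)) (.nd (.lf 0x108f) (.lf 0)))) (.nd (.nd (.nd (.lf 0x3ff) (.lf 0x12a5)) (.nd (.lf 0xe6e) (.lf 0))) (.nd (.nd (.lf 0x459) (.lf 0x16bd)) (.nd (.lf 0x1281) (.lf 0))))) (.nd (.nd (.nd (.nd (.lf 0x27d) (.lf 0x14fc)) (.nd (.lf 0x68f) (.lf 0))) (.nd (.nd (.lf 0x84c) (.lf 0x176a)) (.nd (.lf 0x1191) (.lf 0)))) (.nd (.nd (.nd (.lf 0x57d) (.lf 0xfe3)) (.nd (.lf 0x823) (.lf 0))) (.nd (.nd (.lf 0xaee) (.lf 0x16dd)) (.nd (.lf 0xba2) (.lf 0))))))) (.nd (.nd (.nd (.nd (.nd (.nd (.lf 0x34) (.lf 0xc5f)) (.nd (.lf 0xbd7) (.lf 0))) (.nd (.nd (.lf 0x692) (.lf 0x16c9)) (.nd (.lf 0x8bd) (.lf 0)))) (.nd (.nd (.nd (.lf 0x39e) (.lf 0x1088)) (.nd (.lf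 0x725) (.lf 0))) (.nd (.nd (.lf 0x42d) (.lf 0x155b)) (.nd (.lf 0x1134) (.lf 0))))) (.nd (.nd (.nd (.nd (.lf 0x21a) (.lf 0xd5b)) (.nd (.lf 0x65d) (.lf 0))) (.nd (.nd (.lf 0x7f1) (.lf 0x1213)) (.nd (.lf 0x1150) (.lf 0)))) (.nd (.nd (.nd (.lf 0x520) (.lf 0xf89)) (.nd (.lf 0x7e8) (.lf 0))) (.nd (.nd (.lf 0x4e4) (.lf 0x1575)) (.nd (.lf 0xb6a) (.lf 0)))))) (.nd (.nd (.nd (.nd (.nd (.lf 0x86) (.lf 0x1469)) (.nd (.lf 0xc71) (.lf 0))) (.nd (.nd (.lf 0x742) (.lf 0x125d)) (.nd (.lf 0x10d7) (.lf 0)))) (.nd (.nd (.nd (.lf 0x462) (.lf 0x15cf)) (.nd (.lf 0xeb5) (.lf 0))) (.nd (.nd (.lf 0x486) (.lf 0x146c)) (.nd (.lf 0xed6) (.lf 0))))) (.nd (.nd (.nd (.nd (.lf 0x2e0) (.lf 0xddc)) (.nd (.lf 0x6bd) (.lf 0))) (.nd (.nd (.lf 0x6ee) (.lf 0x14e1))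 (.nd (.lf 0xa0b) (.lf 0)))) (.nd (.nd (.nd (.lf 0x5da) (.lf 0x167e)) (.nd (.lf 0xfcc) (.lf 0))) (.nd (.nd (.lf 0xb3f) (.lf 0x16ce)) (.nd (.lf 0xc53) (.lf 0))))))))
def tabB_nabbabb : Tr := (.nd (.nd (.nd (.nd (.nd (.nd (.nd (.lf 0x20) (.lf 0xd33)) (.nd (.lf 0xbad) (.lf 0))) (.nd (.nd (.lf 0x2b9) (.lf 0x1571)) (.nd (.lf 0x8a2) (.lf 0)))) (.nd (.nd (.nd (.lf 0x36e) (.lf 0x1513)) (.nd (.lf 0x70b) (.lf 0))) (.nd (.nd (.lf 0x922) (.lf 0x17aa)) (.nd (.lf 0xa63) (.lf 0))))) (.nd (.nd (.nd (.nd (.lf 0x1e9) (.lf 0xd40)) (.nd (.lf 0x644) (.lf 0))) (.nd (.nd (.lf 0x7c3) (.lf 0x1313)) (.nd (.lf 0x112e) (.lf 0)))) (.nd (.nd (.nd (.lf 0x4f1) (.lf 0x102d)) (.nd (.lf 0xcae) (.lf 0))) (.nd (.nd (.lf 0x4cd) (.lf 0x174f)) (.nd (.lf 0x1318) (.lf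 0)))))) (.nd (.nd (.nd (.nd (.nd (.lf 0x120) (.lf 0xcbb)) (.nd (.lf 0x63f) (.lf 0))) (.nd (.nd (.lf 0x719) (.lf 0x112f)) (.nd (.lf 0x912) (.lf 0)))) (.nd (.nd (.nd (.lf 0x431) (.lf 0x12af)) (.nd (.lf 0x76c) (.lf 0))) (.nd (.nd (.lf 0x46e) (.lf 0x15f1)) (.nd (.lf 0xeb6) (.lf 0))))) (.nd (.nd (.nd (.nd (.lf 0x2b1) (.lf 0x1511)) (.nd (.lf 0xd79) (.lf 0))) (.nd (.nd (.lf 0x878) (.lf 0x1772)) (.nd (.lf 0x11b0) (.lf 0)))) (.nd (.nd (.nd (.lf 0x5ae) (.lf 0x1007)) (.nd (.lf 0x83e) (.lf 0))) (.nd (.nd (.lf 0x52b) (.lf 0x16f1)) (.nd (.lf 0xbc3) (.lf 0))))))) (.nd (.nd (.nd (.nd (.nd (.nd (.lf 0xbc) (.lf 0xc7f)) (.nd (.lf 0xbff) (.lf 0))) (.nd (.nd (.lf 0x6c1) (.lf 0x13b7)) (.nd (.lf 0xe40) (.lf 0)))) (.nd (.nd (.nd (.lf 0x192) (.lf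 0x1573)) (.nd (.lf 0xdea) (.lf 0))) (.nd (.nd (.lf 0x442) (.lf 0x1676)) (.nd (.lf 0xa9c) (.lf 0))))) (.nd (.nd (.nd (.nd (.lf 0xed) (.lf 0xd7d)) (.nd (.lf 0x6da) (.lf 0))) (.nd (.nd (.lf 0x81e) (.lf 0x150e)) (.nd (.lf 0x116c) (.lf 0)))) (.nd (.nd (.nd (.lf 0x23c) (.lf 0x163c)) (.nd (.lf 0xf63) (.lf 0))) (.nd (.nd (.lf 0x4fa) (.lf 0x15c2)) (.nd (.lf 0xb86) (.lf 0)))))) (.nd (.nd (.nd (.nd (.nd (.lf 0x9a) (.lf 0x11e7)) (.nd (.lf 0x6dc) (.lf 0))) (.nd (.nd (.lf 0x339) (.lf 0x118a)) (.nd (.lf 0x948) (.lf 0)))) (.nd (.nd (.nd (.lf 0x492) (.lf 0xf0f)) (.nd (.lf 0x79b) (.lf 0))) (.nd (.nd (.lf 0x4c0) (.lf 0x17e1)) (.nd (.lf 0xb0e) (.lf 0))))) (.nd (.nd (.nd (.nd (.lf 0x13e) (.lf 0x153f)) (.nd (.lf 0xdc1) (.lf 0))) (.nd (.nd (.lf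 0x8ca) (.lf 0x1319)) (.nd (.lf 0xa2c) (.lf 0)))) (.nd (.nd (.nd (.lf 0x60c) (.lf 0x1051)) (.nd (.lf 0xfed) (.lf 0))) (.nd (.nd (.lf 0x55b) (.lf 0x17cc)) (.nd (.lf 0xbfe) (.lf 0))))))))
def tabB_nabbbaa : Tr := (.nd (.nd (.nd (.nd (.nd (.nd (.nd (.lf 0x19) (.lf 0xe4f)) (.nd (.lf 0xb7f) (.lf 0))) (.nd (.nd (.lf 0x2a0) (.lf 0x169d)) (.nd (.lf 0x91b) (.lf 0)))) (.nd (.nd (.nd (.lf 0x330) (.lf 0xe1d)) (.nd (.lf 0xa17) (.lf 0))) (.nd (.nd (.lf 0x8ed) (.lf 0x179a)) (.nd (.lf 0xa3d) (.lf 0))))) (.nd (.nd (.nd (.nd (.lf 0x1aa) (.lf 0xf32)) (.nd (.lf 0x626) (.lf 0))) (.nd (.nd (.lf 0x792) (.lf 0x1576)) (.nd (.lf 0x95c) (.lf 0)))) (.nd (.nd (.nd (.lf 0x4b5) (.lf 0x109c)) (.nd (.lf 0xef6) (.lf 0))) (.nd (.nd (.lf 0xa3b) (.lf 0x14ca))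 (.nd (.lf 0x12f4) (.lf 0)))))) (.nd (.nd (.nd (.nd (.nd (.lf 0xe3) (.lf 0xf8d)) (.nd (.lf 0xc20) (.lf 0))) (.nd (.nd (.lf 0x2f2) (.lf 0x1101)) (.nd (.lf 0x1085) (.lf 0)))) (.nd (.nd (.nd (.lf 0x3f2) (.lf 0x159c)) (.nd (.lf 0x74f) (.lf 0))) (.nd (.nd (.lf 0x451) (.lf 0x1670)) (.nd (.lf 0xab4) (.lf 0))))) (.nd (.nd (.nd (.nd (.lf 0xfc) (.lf 0x11de)) (.nd (.lf 0x688) (.lf 0))) (.nd (.nd (.lf 0x840) (.lf 0x14cd)) (.nd (.lf 0x9c8) (.lf 0)))) (.nd (.nd (.nd (.lf 0x24b) (.lf 0xfd9)) (.nd (.lf 0xd3c) (.lf 0))) (.nd (.nd (.lf 0xae4) (.lf 0x17ab)) (.nd (.lf 0xb9a) (.lf 0))))))) (.nd (.nd (.nd (.nd (.nd (.nd (.lf 0x2f) (.lf 0xcde)) (.nd (.lf 0xbcd) (.lf 0))) (.nd (.nd (.lf 0x689) (.lf 0x1698)) (.nd (.lf 0x1044) (.lf 0)))) (.nd (.nd (.nd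 (.lf 0x393) (.lf 0xe5f)) (.nd (.lf 0xe21) (.lf 0))) (.nd (.nd (.lf 0x943) (.lf 0x1393)) (.nd (.lf 0xa78) (.lf 0))))) (.nd (.nd (.nd (.nd (.lf 0x20d) (.lf 0xd53)) (.nd (.lf 0xcfe) (.lf 0))) (.nd (.nd (.lf 0x54e) (.lf 0x15e0)) (.nd (.lf 0x993) (.lf 0)))) (.nd (.nd (.nd (.lf 0x221) (.lf 0xf7e)) (.nd (.lf 0x7e3) (.lf 0))) (.nd (.nd (.lf 0xa8c) (.lf 0x170f)) (.nd (.lf 0x1329) (.lf 0)))))) (.nd (.nd (.nd (.nd (.nd (.lf 0x81) (.lf 0x1461)) (.nd (.lf 0x5f9) (.lf 0))) (.nd (.nd (.lf 0x31f) (.lf 0x1152)) (.nd (.lf 0x928) (.lf 0)))) (.nd (.nd (.nd (.lf 0x455) (.lf 0xee4)) (.nd (.lf 0x77d) (.lf 0))) (.nd (.nd (.lf 0x9e9) (.lf 0x17d6)) (.nd (.lf 0x12b7) (.lf 0))))) (.nd (.nd (.nd (.nd (.lf 0x2d3) (.lf 0xdd3)) (.nd (.lf 0xd94) (.lf 0)))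 (.nd (.nd (.lf 0x896) (.lf 0x162e)) (.nd (.lf 0xa02) (.lf 0)))) (.nd (.nd (.nd (.lf 0x275) (.lf 0x1677)) (.nd (.lf 0xfc2) (.lf 0))) (.nd (.nd (.lf 0x53d) (.lf 0x1701)) (.nd (.lf 0xbd8) (.lf 0))))))))
def tabB_nabbbab : Tr := (.nd (.nd (.nd (.nd (.nd (.nd (.nd (.lf 0x1b) (.lf 0x13d7)) (.nd (.lf 0x9fd) (.lf 0))) (.nd (.nd (.lf 0x658) (.lf 0x16b1)) (.nd (.lf 0x94a) (.lf 0)))) (.nd (.nd (.nd (.lf 0x162) (.lf 0xe3e)) (.nd (.lf 0x704) (.lf 0))) (.nd (.nd (.lf 0x8b4) (.lf 0x15ce)) (.nd (.lf 0xa5c) (.lf 0))))) (.nd (.nd (.nd (.nd (.lf 0x1dc) (.lf 0xd36)) (.nd (.lf 0xcd7) (.lf 0))) (.nd (.nd (.lf 0x35f) (.lf 0x11e0)) (.nd (.lf 0xb18) (.lf 0)))) (.nd (.nd (.nd (.lf 0x4e6) (.lf 0xf55)) (.nd (.lf 0xf19) (.lf 0))) (.nd (.nd (.lf 0xa62)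 (.lf 0x150f)) (.nd (.lf 0x1312) (.lf 0)))))) (.nd (.nd (.nd (.nd (.nd (.lf 0x114) (.lf 0x1449)) (.nd (.lf 0x5e1) (.lf 0))) (.nd (.nd (.lf 0x309) (.lf 0x1129)) (.nd (.lf 0xb36) (.lf 0)))) (.nd (.nd (.nd (.lf 0x1b4) (.lf 0xec4)) (.nd (.lf 0xe8a) (.lf 0))) (.nd (.nd (.lf 0x9c1) (.lf 0x17b5)) (.nd (.lf 0x1299) (.lf 0))))) (.nd (.nd (.nd (.nd (.lf 0x2a4) (.lf 0x108b)) (.nd (.lf 0x6a0) (.lf 0))) (.nd (.nd (.lf 0x3b6) (.lf 0x12a1)) (.nd (.lf 0xe2a) (.lf 0)))) (.nd (.nd (.nd (.lf 0x5a2) (.lf 0xffc)) (.nd (.lf 0x8f7) (.lf 0))) (.nd (.nd (.lf 0xb0f) (.lf 0x1644)) (.nd (.lf 0xbb7) (.lf 0))))))) (.nd (.nd (.nd (.nd (.nd (.nd (.lf 0x44) (.lf 0xc75)) (.nd (.lf 0xbf5) (.lf 0))) (.nd (.nd (.lf 0x6b6) (.lf 0x16d8)) (.nd (.lf 0x8d3) (.lf 0))))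 (.nd (.nd (.nd (.lf 0x3c4) (.lf 0x146f)) (.nd (.lf 0xe42) (.lf 0))) (.nd (.nd (.lf 0x969) (.lf 0x13ba)) (.nd (.lf 0xa96) (.lf 0))))) (.nd (.nd (.nd (.nd (.lf 0x16e) (.lf 0x14e2)) (.nd (.lf 0x671) (.lf 0))) (.nd (.nd (.lf 0x812) (.lf 0x15d0)) (.nd (.lf 0x9ac) (.lf 0)))) (.nd (.nd (.nd (.lf 0x236) (.lf 0xfb0)) (.nd (.lf 0x7fd) (.lf 0))) (.nd (.nd (.lf 0x4f4) (.lf 0x15a5)) (.nd (.lf 0xf00) (.lf 0)))))) (.nd (.nd (.nd (.nd (.nd (.lf 0x95) (.lf 0x147f)) (.nd (.lf 0xc8c) (.lf 0))) (.nd (.nd (.lf 0x765) (.lf 0x14ee)) (.nd (.lf 0xb34) (.lf 0)))) (.nd (.nd (.nd (.lf 0x488) (.lf 0x15dc)) (.nd (.lf 0x796) (.lf 0))) (.nd (.nd (.lf 0x5d6) (.lf 0x1496)) (.nd (.lf 0xb07) (.lf 0))))) (.nd (.nd (.nd (.nd (.lf 0x139) (.lf 0x1535)) (.nd (.lf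 0xdb9) (.lf 0))) (.nd (.nd (.lf 0x3e2) (.lf 0x1749)) (.nd (.lf 0xfd2) (.lf 0)))) (.nd (.nd (.nd (.lf 0x600) (.lf 0x12de)) (.nd (.lf 0x868) (.lf 0))) (.nd (.nd (.lf 0x553) (.lf 0x1737)) (.nd (.lf 0xbf8) (.lf 0))))))))
def tabB_nabbbba : Tr := (.nd (.nd (.nd (.nd (.nd (.nd (.nd (.lf 0x33) (.lf 0xf6d)) (.nd (.lf 0x576) (.lf 0))) (.nd (.nd (.lf 0x2aa) (.lf 0x13e3)) (.nd (.lf 0x8c4) (.lf 0)))) (.nd (.nd (.nd (.lf 0x349) (.lf 0xe2f)) (.nd (.lf 0xd4f) (.lf 0))) (.nd (.nd (.lf 0x903) (.lf 0x1783)) (.nd (.lf 0x1210) (.lf 0))))) (.nd (.nd (.nd (.nd (.lf 0x1c3) (.lf 0x12b1)) (.nd (.lf 0xcc2) (.lf 0))) (.nd (.nd (.lf 0x354) (.lf 0x12bf)) (.nd (.lf 0xcc1) (.lf 0)))) (.nd (.nd (.nd (.lf 0x201) (.lf 0x14b7)) (.nd (.lf 0xf06) (.lf 0))) (.nd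 (.nd (.lf 0x910) (.lf 0x14eb)) (.nd (.lf 0x12cd) (.lf 0)))))) (.nd (.nd (.nd (.nd (.nd (.lf 0x62) (.lf 0xca2)) (.nd (.lf 0xc32) (.lf 0))) (.nd (.nd (.lf 0x504) (.lf 0x15e7)) (.nd (.lf 0x8ff) (.lf 0)))) (.nd (.nd (.nd (.lf 0x40b) (.lf 0xeb3)) (.nd (.lf 0x75a) (.lf 0))) (.nd (.nd (.lf 0x45e) (.lf 0x14a9)) (.nd (.lf 0x1288) (.lf 0))))) (.nd (.nd (.nd (.nd (.lf 0x28a) (.lf 0xf3d)) (.nd (.lf 0x695) (.lf 0))) (.nd (.nd (.lf 0x857) (.lf 0x1542)) (.nd (.lf 0xfa9) (.lf 0)))) (.nd (.nd (.nd (.lf 0x256) (.lf 0x1658)) (.nd (.lf 0xab2) (.lf 0))) (.nd (.nd (.lf 0x517) (.lf 0x16fd)) (.nd (.lf 0xba9) (.lf 0))))))) (.nd (.nd (.nd (.nd (.nd (.nd (.lf 0x3a) (.lf 0xc65)) (.nd (.lf 0xbe0) (.lf 0))) (.nd (.nd (.lf 0x69e) (.lf 0x10c8)) (.nd (.lf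 0xc49) (.lf 0)))) (.nd (.nd (.nd (.lf 0x3aa) (.lf 0x133f)) (.nd (.lf 0xe31) (.lf 0))) (.nd (.nd (.lf 0x432) (.lf 0x16f0)) (.nd (.lf 0xb30) (.lf 0))))) (.nd (.nd (.nd (.nd (.lf 0x227) (.lf 0xf5d)) (.nd (.lf 0xd11) (.lf 0))) (.nd (.nd (.lf 0x7fa) (.lf 0x1611)) (.nd (.lf 0x9a0) (.lf 0)))) (.nd (.nd (.nd (.lf 0x52c) (.lf 0x1524)) (.nd (.lf 0xf44) (.lf 0))) (.nd (.nd (.lf 0xaa2) (.lf 0x1797)) (.nd (.lf 0x12e4) (.lf 0)))))) (.nd (.nd (.nd (.nd (.nd (.lf 0x8b) (.lf 0xcdc)) (.nd (.lf 0x603) (.lf 0))) (.nd (.nd (.lf 0x329) (.lf 0x1330)) (.nd (.lf 0x104e) (.lf 0)))) (.nd (.nd (.nd (.lf 0x46f) (.lf 0x13ee)) (.nd (.lf 0x789) (.lf 0))) (.nd (.nd (.lf 0x48b) (.lf 0x147a)) (.nd (.lf 0xaf7) (.lf 0))))) (.nd (.nd (.nd (.nd (.lf 0x12f) (.lf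 0x118e)) (.nd (.lf 0x6c5) (.lf 0))) (.nd (.nd (.lf 0x3d8) (.lf 0x12f5)) (.nd (.lf 0xbdf) (.lf 0)))) (.nd (.nd (.nd (.lf 0x5e8) (.lf 0x1554)) (.nd (.lf 0x85d) (.lf 0))) (.nd (.nd (.lf 0xb48) (.lf 0x1802)) (.nd (.lf 0x1212) (.lf 0))))))))
def tabB_nabbbbb : Tr := (.nd (.nd (.nd (.nd (.nd (.nd (.nd (.lf 0x25) (.lf 0xe05)) (.nd (.lf 0xbb6) (.lf 0))) (.nd (.nd (.lf 0x2be) (.lf 0x162f)) (.nd (.lf 0xfe4) (.lf 0)))) (.nd (.nd (.nd (.lf 0x379) (.lf 0xe4d)) (.nd (.lf 0x710) (.lf 0))) (.nd (.nd (.lf 0x418) (.lf 0x1514)) (.nd (.lf 0x122e) (.lf 0))))) (.nd (.nd (.nd (.nd (.lf 0x1f6) (.lf 0x13cc)) (.nd (.lf 0xb43) (.lf 0))) (.nd (.nd (.lf 0x36a) (.lf 0x1553)) (.nd (.lf 0x985) (.lf 0)))) (.nd (.nd (.nd (.lf 0x4fc) (.lf 0x160b)) (.nd (.lf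 0xf28) (.lf 0))) (.nd (.nd (.lf 0x4d2) (.lf 0x1531)) (.nd (.lf 0x131d) (.lf 0)))))) (.nd (.nd (.nd (.nd (.nd (.lf 0x12d) (.lf 0x1358)) (.nd (.lf 0x5ed) (.lf 0))) (.nd (.nd (.lf 0x724) (.lf 0x15b5)) (.nd (.lf 0x91a) (.lf 0)))) (.nd (.nd (.nd (.lf 0x43e) (.lf 0x14dd)) (.nd (.lf 0xe9a) (.lf 0))) (.nd (.nd (.lf 0x4c1) (.lf 0x1786)) (.nd (.lf 0x12a8) (.lf 0))))) (.nd (.nd (.nd (.nd (.lf 0x11b) (.lf 0x1516)) (.nd (.lf 0x6ac) (.lf 0))) (.nd (.nd (.lf 0x4bd) (.lf 0x12bb)) (.nd (.lf 0x9f4) (.lf 0)))) (.nd (.nd (.nd (.lf 0x26a) (.lf 0x100f)) (.nd (.lf 0xfb3) (.lf 0))) (.nd (.nd (.lf 0x811) (.lf 0x1774)) (.nd (.lf 0x137a) (.lf 0))))))) (.nd (.nd (.nd (.nd (.nd (.nd (.lf 0xc9) (.lf 0xf75)) (.nd (.lf 0xc08) (.lf 0))) (.nd (.nd (.lf 0x2e8)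 (.lf 0x16e2)) (.nd (.lf 0x1074) (.lf 0)))) (.nd (.nd (.nd (.lf 0x3da) (.lf 0xe94)) (.nd (.lf 0x744) (.lf 0))) (.nd (.nd (.lf 0x97f) (.lf 0x13d6)) (.nd (.lf 0xbeb) (.lf 0))))) (.nd (.nd (.nd (.nd (.lf 0xf2) (.lf 0x14ef)) (.nd (.lf 0xd37) (.lf 0))) (.nd (.nd (.lf 0x829) (.lf 0x125a)) (.nd (.lf 0x9b9) (.lf 0)))) (.nd (.nd (.nd (.lf 0x558) (.lf 0x1301)) (.nd (.lf 0xf6c) (.lf 0))) (.nd (.nd (.lf 0x4ff) (.lf 0x1667)) (.nd (.lf 0x134e) (.lf 0)))))) (.nd (.nd (.nd (.nd (.nd (.lf 0x191) (.lf 0x1488)) (.nd (.lf 0x61a) (.lf 0))) (.nd (.nd (.lf 0x33f) (.lf 0x1199)) (.nd (.lf 0x94e) (.lf 0)))) (.nd (.nd (.nd (.lf 0x49f) (.lf 0xf18)) (.nd (.lf 0x7a1) (.lf 0))) (.nd (.nd (.lf 0xa26) (.lf 0x16e9)) (.nd (.lf 0xb16) (.lf 0))))) (.nd (.nd (.nd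 (.nd (.lf 0x31b) (.lf 0xe0b)) (.nd (.lf 0xdcb) (.lf 0))) (.nd (.nd (.lf 0x3ec) (.lf 0x132a)) (.nd (.lf 0xa32) (.lf 0)))) (.nd (.nd (.nd (.lf 0x618) (.lf 0x15df)) (.nd (.lf 0xff6) (.lf 0))) (.nd (.nd (.lf 0x937) (.lf 0x17fe)) (.nd (.lf 0xc07) (.lf 0))))))))
def tabB_nbaaaaa : Tr := (.nd (.nd (.nd (.nd (.nd (.nd (.nd (.lf 0x4) (.lf 0xc0a)) (.nd (.lf 0x562) (.lf 0x17d7))) (.nd (.nd (.lf 0x61d) (.lf 0x1697)) (.nd (.lf 0x877) (.lf 0)))) (.nd (.nd (.nd (.lf 0x31e) (.lf 0xfe1)) (.nd (.lf 0x6df) (.lf 0))) (.nd (.nd (.lf 0x8da) (.lf 0x1792)) (.nd (.lf 0xa35) (.lf 0))))) (.nd (.nd (.nd (.nd (.lf 0xa1) (.lf 0x148e)) (.nd (.lf 0x61c) (.lf 0))) (.nd (.nd (.lf 0x341) (.lf 0x1205)) (.nd (.lf 0x1102) (.lf 0)))) (.nd (.nd (.nd (.lf 0x1ed)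 (.lf 0x137e)) (.nd (.lf 0xee8) (.lf 0))) (.nd (.nd (.lf 0xa29) (.lf 0x17ce)) (.nd (.lf 0x12e7) (.lf 0)))))) (.nd (.nd (.nd (.nd (.nd (.lf 0xce) (.lf 0xc8b)) (.nd (.lf 0xc0d) (.lf 0))) (.nd (.nd (.lf 0x2ff) (.lf 0x144b)) (.nd (.lf 0x8e6) (.lf 0)))) (.nd (.nd (.nd (.lf 0x3df) (.lf 0xe96)) (.nd (.lf 0x746) (.lf 0))) (.nd (.nd (.lf 0x984) (.lf 0x15a0)) (.nd (.lf 0xaa6) (.lf 0))))) (.nd (.nd (.nd (.nd (.lf 0xf4) (.lf 0xd86)) (.nd (.lf 0x67f) (.lf 0))) (.nd (.nd (.lf 0x41f) (.lf 0x175b)) (.nd (.lf 0x9bc) (.lf 0)))) (.nd (.nd (.nd (.lf 0x55c) (.lf 0x1168)) (.nd (.lf 0xf70) (.lf 0))) (.nd (.nd (.lf 0xad3) (.lf 0x1753)) (.nd (.lf 0x12d7) (.lf 0))))))) (.nd (.nd (.nd (.nd (.nd (.nd (.lf 0x27) (.lf 0xc4c)) (.nd (.lf 0x997) (.lf 0)))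 (.nd (.nd (.lf 0x675) (.lf 0x10a5)) (.nd (.lf 0xcd0) (.lf 0)))) (.nd (.nd (.nd (.lf 0x16f) (.lf 0x1437)) (.nd (.lf 0xde9) (.lf 0))) (.nd (.nd (.lf 0x931) (.lf 0x16b2)) (.nd (.lf 0xd23) (.lf 0))))) (.nd (.nd (.nd (.nd (.lf 0x1fa) (.lf 0xd47)) (.nd (.lf 0x87d) (.lf 0))) (.nd (.nd (.lf 0x36c) (.lf 0x11f8)) (.nd (.lf 0x1138) (.lf 0)))) (.nd (.nd (.nd (.lf 0x501) (.lf 0x160c)) (.nd (.lf 0x7d9) (.lf 0))) (.nd (.nd (.lf 0xa7b) (.lf 0x1533)) (.nd (.lf 0xb59) (.lf 0)))))) (.nd (.nd (.nd (.nd (.nd (.lf 0x79) (.lf 0x113a)) (.nd (.lf 0x5ef) (.lf 0))) (.nd (.nd (.lf 0x6be) (.lf 0x1140)) (.nd (.lf 0xd1e) (.lf 0)))) (.nd (.nd (.nd (.lf 0x1c2) (.lf 0x1526)) (.nd (.lf 0x773) (.lf 0))) (.nd (.nd (.lf 0x476) (.lf 0x1626)) (.nd (.lf 0xae0) (.lf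 0))))) (.nd (.nd (.nd (.nd (.lf 0x2bf) (.lf 0xdc6)) (.nd (.lf 0x6ae) (.lf 0))) (.nd (.nd (.lf 0x886) (.lf 0x15bd)) (.nd (.lf 0x9f6) (.lf 0)))) (.nd (.nd (.nd (.lf 0x26c) (.lf 0x1014)) (.nd (.lf 0x847) (.lf 0))) (.nd (.nd (.lf 0xb25) (.lf 0x167b)) (.nd (.lf 0x137f) (.lf 0))))))))
def tabB_nbaaaab : Tr := (.nd (.nd (.nd (.nd (.nd (.nd (.nd (.lf 0x13) (.lf 0x13cb)) (.nd (.lf 0xb94) (.lf 0))) (.nd (.nd (.lf 0x557) (.lf 0x16a5)) (.nd (.lf 0x1018) (.lf 0)))) (.nd (.nd (.nd (.lf 0x34e) (.lf 0x1561)) (.nd (.lf 0x6f9) (.lf 0))) (.nd (.nd (.lf 0x908) (.lf 0x135a)) (.nd (.lf 0xa4e) (.lf 0))))) (.nd (.nd (.nd (.nd (.lf 0x1c8) (.lf 0xe46)) (.nd (.lf 0xcc6) (.lf 0))) (.nd (.nd (.lf 0x7a9) (.lf 0x1735)) (.nd (.lf 0x96b) (.lf 0)))) (.nd (.nd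 (.nd (.lf 0x4d1) (.lf 0x1460)) (.nd (.lf 0xf0b) (.lf 0))) (.nd (.nd (.lf 0xa52) (.lf 0x14f2)) (.nd (.lf 0xe92) (.lf 0)))))) (.nd (.nd (.nd (.nd (.nd (.lf 0x101) (.lf 0x143d)) (.nd (.lf 0x5d7) (.lf 0))) (.nd (.nd (.lf 0x6fb) (.lf 0x16f5)) (.nd (.lf 0x902) (.lf 0)))) (.nd (.nd (.nd (.lf 0x1ac) (.lf 0x15ae)) (.nd (.lf 0xe7c) (.lf 0))) (.nd (.nd (.lf 0x460) (.lf 0x14f1)) (.nd (.lf 0xac3) (.lf 0))))) (.nd (.nd (.nd (.nd (.lf 0x108) (.lf 0x10e6)) (.nd (.lf 0x697) (.lf 0))) (.nd (.nd (.lf 0x85b) (.lf 0x1294)) (.nd (.lf 0x9d8) (.lf 0)))) (.nd (.nd (.nd (.lf 0x258) (.lf 0x15c9)) (.nd (.lf 0xe8c) (.lf 0))) (.nd (.nd (.lf 0xafe) (.lf 0x16f3)) (.nd (.lf 0xbab) (.lf 0))))))) (.nd (.nd (.nd (.nd (.nd (.nd (.lf 0x3c) (.lf 0xc67)) (.nd (.lf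 0xbe5) (.lf 0))) (.nd (.nd (.lf 0x6a3) (.lf 0x10ce)) (.nd (.lf 0xc97) (.lf 0)))) (.nd (.nd (.nd (.lf 0x3af) (.lf 0xe70)) (.nd (.lf 0xe34) (.lf 0))) (.nd (.nd (.lf 0x434) (.lf 0x1771)) (.nd (.lf 0x1250) (.lf 0))))) (.nd (.nd (.nd (.nd (.lf 0x22c) (.lf 0x14d9)) (.nd (.lf 0xd16) (.lf 0))) (.nd (.nd (.lf 0x7ff) (.lf 0x1221)) (.nd (.lf 0x9a2) (.lf 0)))) (.nd (.nd (.nd (.lf 0x531) (.lf 0x1629)) (.nd (.lf 0xaf2) (.lf 0))) (.nd (.nd (.lf 0xaa7) (.lf 0x1769)) (.nd (.lf 0xea5) (.lf 0)))))) (.nd (.nd (.nd (.nd (.nd (.lf 0x163) (.lf 0x1298)) (.nd (.lf 0xc7d) (.lf 0))) (.nd (.nd (.lf 0x752) (.lf 0x15d6)) (.nd (.lf 0x10e3) (.lf 0)))) (.nd (.nd (.nd (.lf 0x474) (.lf 0x15d7)) (.nd (.lf 0x78b) (.lf 0))) (.nd (.nd (.lf 0x48d) (.lf 0x1710))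 (.nd (.lf 0xafa) (.lf 0))))) (.nd (.nd (.nd (.nd (.lf 0x131) (.lf 0x1357)) (.nd (.lf 0xdab) (.lf 0))) (.nd (.nd (.lf 0x8ae) (.lf 0x12f8)) (.nd (.lf 0x11db) (.lf 0)))) (.nd (.nd (.nd (.lf 0x282) (.lf 0x1684)) (.nd (.lf 0xfd8) (.lf 0))) (.nd (.nd (.lf 0x549) (.lf 0x16f6)) (.nd (.lf 0x1201) (.lf 0))))))))
def tabB_nbaaaba : Tr := (.nd (.nd (.nd (.nd (.nd (.nd (.nd (.lf 0x9) (.lf 0x12da)) (.nd (.lf 0x7be) (.lf 0))) (.nd (.nd (.lf 0x2a2) (.lf 0x1674)) (.nd (.lf 0x883) (.lf 0)))) (.nd (.nd (.nd (.lf 0x335) (.lf 0xe20)) (.nd (.lf 0xddb) (.lf 0))) (.nd (.nd (.lf 0x3f9) (.lf 0x155e)) (.nd (.lf 0xb89) (.lf 0))))) (.nd (.nd (.nd (.nd (.lf 0xac) (.lf 0x149a)) (.nd (.lf 0x628) (.lf 0))) (.nd (.nd (.lf 0x34b) (.lf 0x11b6)) (.nd (.lf 0x95e)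 (.lf 0)))) (.nd (.nd (.nd (.lf 0x4ba) (.lf 0x15f2)) (.nd (.lf 0xef8) (.lf 0))) (.nd (.nd (.lf 0x4b1) (.lf 0x17da)) (.nd (.lf 0x12f9) (.lf 0)))))) (.nd (.nd (.nd (.nd (.nd (.lf 0xe8) (.lf 0xc98)) (.nd (.lf 0xc25) (.lf 0))) (.nd (.nd (.lf 0x32f) (.lf 0x1103)) (.nd (.lf 0x8fd) (.lf 0)))) (.nd (.nd (.nd (.lf 0x3f7) (.lf 0xea9)) (.nd (.lf 0x751) (.lf 0))) (.nd (.nd (.lf 0x999) (.lf 0x13fa)) (.nd (.lf 0x123a) (.lf 0))))) (.nd (.nd (.nd (.nd (.lf 0xfe) (.lf 0xd96)) (.nd (.lf 0x7bc) (.lf 0))) (.nd (.nd (.lf 0x845) (.lf 0x127a)) (.nd (.lf 0x9cc) (.lf 0)))) (.nd (.nd (.nd (.lf 0x575) (.lf 0xff1)) (.nd (.lf 0xf84) (.lf 0))) (.nd (.nd (.lf 0xae9) (.lf 0x172f)) (.nd (.lf 0x1326) (.lf 0))))))) (.nd (.nd (.nd (.nd (.nd (.nd (.lf 0x82) (.lf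 0x13f6)) (.nd (.lf 0x5d2) (.lf 0))) (.nd (.nd (.lf 0x68e) (.lf 0x141a)) (.nd (.lf 0xc6d) (.lf 0)))) (.nd (.nd (.nd (.lf 0x397) (.lf 0xee2)) (.nd (.lf 0xe24) (.lf 0))) (.nd (.nd (.lf 0x429) (.lf 0x17b3)) (.nd (.lf 0xbec) (.lf 0))))) (.nd (.nd (.nd (.nd (.lf 0x212) (.lf 0x14cc)) (.nd (.lf 0x65a) (.lf 0))) (.nd (.nd (.lf 0x71a) (.lf 0x128b)) (.nd (.lf 0x114b) (.lf 0)))) (.nd (.nd (.nd (.lf 0x519) (.lf 0xf83)) (.nd (.lf 0x7e5) (.lf 0))) (.nd (.nd (.lf 0xa91) (.lf 0x1562)) (.nd (.lf 0xfe6) (.lf 0)))))) (.nd (.nd (.nd (.nd (.nd (.lf 0x83) (.lf 0x1464)) (.nd (.lf 0x5fb) (.lf 0))) (.nd (.nd (.lf 0x321) (.lf 0x1713)) (.nd (.lf 0x92a) (.lf 0)))) (.nd (.nd (.nd (.lf 0x45a) (.lf 0x1165)) (.nd (.lf 0xeaf) (.lf 0))) (.nd (.nd (.lf 0x482)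 (.lf 0x1465)) (.nd (.lf 0xaeb) (.lf 0))))) (.nd (.nd (.nd (.nd (.lf 0x2d8) (.lf 0x1522)) (.nd (.lf 0x6ba) (.lf 0))) (.nd (.nd (.lf 0x3cf) (.lf 0x167d)) (.nd (.lf 0x11cc) (.lf 0)))) (.nd (.nd (.nd (.lf 0x277) (.lf 0x161b)) (.nd (.lf 0xf67) (.lf 0))) (.nd (.nd (.lf 0x53f) (.lf 0x16af)) (.nd (.lf 0xbda) (.lf 0))))))))
def tabB_nbaaabb : Tr := (.nd (.nd (.nd (.nd (.nd (.nd (.nd (.lf 0x1d) (.lf 0xc3f)) (.nd (.lf 0x583) (.lf 0))) (.nd (.nd (.lf 0x2b6) (.lf 0x1431)) (.nd (.lf 0xec9) (.lf 0)))) (.nd (.nd (.nd (.lf 0x164) (.lf 0x156a)) (.nd (.lf 0x707) (.lf 0))) (.nd (.nd (.lf 0x410) (.lf 0x16c8)) (.nd (.lf 0xa5e) (.lf 0))))) (.nd (.nd (.nd (.nd (.lf 0x1e1) (.lf 0xd39)) (.nd (.lf 0x641) (.lf 0))) (.nd (.nd (.lf 0x361) (.lf 0x173e))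 (.nd (.lf 0x979) (.lf 0)))) (.nd (.nd (.nd (.lf 0x4ea) (.lf 0xf57)) (.nd (.lf 0x7c9) (.lf 0))) (.nd (.nd (.lf 0xa65) (.lf 0x151a)) (.nd (.lf 0x1314) (.lf 0)))))) (.nd (.nd (.nd (.nd (.nd (.lf 0x118) (.lf 0xcb7)) (.nd (.lf 0xc47) (.lf 0))) (.nd (.nd (.lf 0x711) (.lf 0x112b)) (.nd (.lf 0x90d) (.lf 0)))) (.nd (.nd (.nd (.lf 0x1b6) (.lf 0x111e)) (.nd (.lf 0x769) (.lf 0))) (.nd (.nd (.lf 0x9c5) (.lf 0x142e)) (.nd (.lf 0xad2) (.lf 0))))) (.nd (.nd (.nd (.nd (.lf 0x2a9) (.lf 0x10c3)) (.nd (.lf 0xd73) (.lf 0))) (.nd (.nd (.lf 0x870) (.lf 0x14b2)) (.nd (.lf 0x1147) (.lf 0)))) (.nd (.nd (.nd (.lf 0x3b1) (.lf 0x12e8)) (.nd (.lf 0x83b) (.lf 0))) (.nd (.nd (.lf 0x662) (.lf 0x164f)) (.nd (.lf 0x1370) (.lf 0))))))) (.nd (.nd (.nd (.nd (.nd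 (.nd (.lf 0xb5) (.lf 0x1078)) (.nd (.lf 0xbf9) (.lf 0))) (.nd (.nd (.lf 0x2df) (.lf 0x10df)) (.nd (.lf 0x8d6) (.lf 0)))) (.nd (.nd (.nd (.lf 0x3c8) (.lf 0xe83)) (.nd (.lf 0xe45) (.lf 0))) (.nd (.nd (.lf 0x96e) (.lf 0x14cb)) (.nd (.lf 0xa98) (.lf 0))))) (.nd (.nd (.nd (.nd (.lf 0x244) (.lf 0xd7a)) (.nd (.lf 0x819) (.lf 0))) (.nd (.nd (.lf 0x817) (.lf 0x1436)) (.nd (.lf 0xfb2) (.lf 0)))) (.nd (.nd (.nd (.lf 0x371) (.lf 0x13e5)) (.nd (.lf 0xf5c) (.lf 0))) (.nd (.nd (.lf 0xabd) (.lf 0x1661)) (.nd (.lf 0xcb2) (.lf 0)))))) (.nd (.nd (.nd (.nd (.nd (.lf 0x97) (.lf 0xcf5)) (.nd (.lf 0xc90) (.lf 0))) (.nd (.nd (.lf 0x336) (.lf 0x16a1)) (.nd (.lf 0x945) (.lf 0)))) (.nd (.nd (.nd (.lf 0x48c) (.lf 0x15dd)) (.nd (.lf 0x798) (.lf 0))) (.nd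 (.nd (.lf 0x499) (.lf 0x17b6)) (.nd (.lf 0x12d8) (.lf 0))))) (.nd (.nd (.nd (.nd (.lf 0x13b) (.lf 0xdfb)) (.nd (.lf 0xce5) (.lf 0))) (.nd (.nd (.lf 0x8c2) (.lf 0x16b6)) (.nd (.lf 0x11e5) (.lf 0)))) (.nd (.nd (.nd (.lf 0x604) (.lf 0x14a3)) (.nd (.lf 0xfe9) (.lf 0))) (.nd (.nd (.lf 0x556) (.lf 0x174b)) (.nd (.lf 0x1391) (.lf 0))))))))
def tabB_nbaabaa : Tr := (.nd (.nd (.nd (.nd (.nd (.nd (.nd (.lf 0x11) (.lf 0x11cd)) (.nd (.lf 0x8fb) (.lf 0x17e5))) (.nd (.nd (.lf 0x29d) (.lf 0x135d)) (.nd (.lf 0xa42) (.lf 0)))) (.nd (.nd (.nd (.lf 0x328) (.lf 0xe18)) (.nd (.lf 0x6e5) (.lf 0))) (.nd (.nd (.lf 0x8e7) (.lf 0x1795)) (.nd (.lf 0xa3a) (.lf 0))))) (.nd (.nd (.nd (.nd (.lf 0xa6) (.lf 0xf9c)) (.nd (.lf 0xca9) (.lf 0))) (.nd (.nd (.lf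 0x78a) (.lf 0x11aa)) (.nd (.lf 0xfb9) (.lf 0)))) (.nd (.nd (.nd (.lf 0x4ae) (.lf 0xf25)) (.nd (.lf 0x7aa) (.lf 0))) (.nd (.nd (.lf 0xa33) (.lf 0x14c3)) (.nd (.lf 0x12f0) (.lf 0)))))) (.nd (.nd (.nd (.nd (.nd (.lf 0x55) (.lf 0xc92)) (.nd (.lf 0xc18) (.lf 0))) (.nd (.nd (.lf 0x6db) (.lf 0x1489)) (.nd (.lf 0x983) (.lf 0)))) (.nd (.nd (.nd (.lf 0x289) (.lf 0x1433)) (.nd (.lf 0x74b) (.lf 0))) (.nd (.nd (.lf 0x44e) (.lf 0x17c6)) (.nd (.lf 0x1279) (.lf 0))))) (.nd (.nd (.nd (.nd (.lf 0xf9) (.lf 0xd8f)) (.nd (.lf 0x685) (.lf 0))) (.nd (.nd (.lf 0x83a) (.lf 0x126a)) (.nd (.lf 0x1184) (.lf 0)))) (.nd (.nd (.nd (.lf 0x568) (.lf 0xfd3)) (.nd (.lf 0xe11) (.lf 0))) (.nd (.nd (.lf 0xade) (.lf 0x16ec)) (.nd (.lf 0x1356) (.lf 0))))))) (.nd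 (.nd (.nd (.nd (.nd (.nd (.lf 0x75) (.lf 0xc54)) (.nd (.lf 0xbc4) (.lf 0))) (.nd (.nd (.lf 0x680) (.lf 0x10ae)) (.nd (.lf 0xc5e) (.lf 0)))) (.nd (.nd (.nd (.lf 0x174) (.lf 0xe63)) (.nd (.lf 0xe1b) (.lf 0))) (.nd (.nd (.lf 0x923) (.lf 0x138f)) (.nd (.lf 0x1239) (.lf 0))))) (.nd (.nd (.nd (.nd (.lf 0x206) (.lf 0x1463)) (.nd (.lf 0x654) (.lf 0))) (.nd (.nd (.lf 0x7e1) (.lf 0x1748)) (.nd (.lf 0x1143) (.lf 0)))) (.nd (.nd (.nd (.lf 0x21e) (.lf 0x1612)) (.nd (.lf 0xc95) (.lf 0))) (.nd (.nd (.lf 0xa86) (.lf 0x15ee)) (.nd (.lf 0xb62) (.lf 0)))))) (.nd (.nd (.nd (.nd (.nd (.lf 0x7e) (.lf 0xcca)) (.nd (.lf 0xc64) (.lf 0))) (.nd (.nd (.lf 0x730) (.lf 0x14c9)) (.nd (.lf 0x925) (.lf 0)))) (.nd (.nd (.nd (.lf 0x1c7) (.lf 0x1246)) (.nd (.lf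 0x779) (.lf 0))) (.nd (.nd (.lf 0x9e4) (.lf 0x1456)) (.nd (.lf 0xc31) (.lf 0))))) (.nd (.nd (.nd (.nd (.lf 0x2cb) (.lf 0xdcf)) (.nd (.lf 0x6b4) (.lf 0))) (.nd (.nd (.lf 0x890) (.lf 0x13a1)) (.nd (.lf 0x9fc) (.lf 0)))) (.nd (.nd (.nd (.lf 0x5c8) (.lf 0x101f)) (.nd (.lf 0xfbb) (.lf 0))) (.nd (.nd (.lf 0xb31) (.lf 0x1804)) (.nd (.lf 0x121a) (.lf 0))))))))
def tabB_nbaabab : Tr := (.nd (.nd (.nd (.nd (.nd (.nd (.nd (.lf 0x18) (.lf 0xc35)) (.nd (.lf 0x57e) (.lf 0))) (.nd (.nd (.lf 0x651) (.lf 0x1253)) (.nd (.lf 0xd7f) (.lf 0)))) (.nd (.nd (.nd (.lf 0x15f) (.lf 0xe39)) (.nd (.lf 0x701) (.lf 0))) (.nd (.nd (.lf 0x913) (.lf 0x1361)) (.nd (.lf 0x1218) (.lf 0))))) (.nd (.nd (.nd (.nd (.lf 0x1d5) (.lf 0x14ae)) (.nd (.lf 0x63b) (.lf 0)))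 (.nd (.nd (.lf 0x35c) (.lf 0x11d9)) (.nd (.lf 0x1125) (.lf 0)))) (.nd (.nd (.nd (.lf 0x4de) (.lf 0xf4e)) (.nd (.lf 0xf14) (.lf 0))) (.nd (.nd (.lf 0x4c3) (.lf 0x17cf)) (.nd (.lf 0x104b) (.lf 0)))))) (.nd (.nd (.nd (.nd (.nd (.lf 0x10c) (.lf 0xcac)) (.nd (.lf 0x5dd) (.lf 0))) (.nd (.nd (.lf 0x706) (.lf 0x169e)) (.nd (.lf 0x909) (.lf 0)))) (.nd (.nd (.nd (.lf 0x1b1) (.lf 0x15b3)) (.nd (.lf 0xb42) (.lf 0))) (.nd (.nd (.lf 0x465) (.lf 0x1424)) (.nd (.lf 0x1291) (.lf 0))))) (.nd (.nd (.nd (.nd (.lf 0x29c) (.lf 0xdaa)) (.nd (.lf 0xd68) (.lf 0))) (.nd (.nd (.lf 0x3b3) (.lf 0x129c)) (.nd (.lf 0x9e0) (.lf 0)))) (.nd (.nd (.nd (.lf 0x25d) (.lf 0x1662)) (.nd (.lf 0xf9e) (.lf 0))) (.nd (.nd (.lf 0x521) (.lf 0x1632)) (.nd (.lf 0xd9e) (.lf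 0))))))) (.nd (.nd (.nd (.nd (.nd (.nd (.lf 0xa8) (.lf 0x140d)) (.nd (.lf 0x5ac) (.lf 0))) (.nd (.nd (.lf 0x2da) (.lf 0x10d6)) (.nd (.lf 0x1063) (.lf 0)))) (.nd (.nd (.nd (.lf 0x3bc) (.lf 0xe7b)) (.nd (.lf 0xe3c) (.lf 0))) (.nd (.nd (.lf 0x669) (.lf 0x1442)) (.nd (.lf 0xa92) (.lf 0))))) (.nd (.nd (.nd (.nd (.lf 0x238) (.lf 0x1169)) (.nd (.lf 0x66e) (.lf 0))) (.nd (.nd (.lf 0x80a) (.lf 0x122f)) (.nd (.lf 0xb55) (.lf 0)))) (.nd (.nd (.nd (.lf 0x233) (.lf 0x150c)) (.nd (.lf 0xf54) (.lf 0))) (.nd (.nd (.lf 0xab1) (.lf 0x1761)) (.nd (.lf 0xb7b) (.lf 0)))))) (.nd (.nd (.nd (.nd (.nd (.lf 0x170) (.lf 0xce8)) (.nd (.lf 0xc85) (.lf 0))) (.nd (.nd (.lf 0x75d) (.lf 0x1505)) (.nd (.lf 0x93c) (.lf 0)))) (.nd (.nd (.nd (.lf 0x480) (.lf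 0xf03)) (.nd (.lf 0x791) (.lf 0))) (.nd (.nd (.lf 0xa0f) (.lf 0x16fe)) (.nd (.lf 0xe10) (.lf 0))))) (.nd (.nd (.nd (.nd (.lf 0x136) (.lf 0xf9a)) (.nd (.lf 0x6ce) (.lf 0))) (.nd (.nd (.lf 0x8b8) (.lf 0x13e0)) (.nd (.lf 0xa41) (.lf 0)))) (.nd (.nd (.nd (.lf 0x5f8) (.lf 0x168a)) (.nd (.lf 0xbb9) (.lf 0))) (.nd (.nd (.lf 0xb58) (.lf 0x171b)) (.nd (.lf 0xbf1) (.lf 0))))))))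
def tabB_nbaabba : Tr := (.nd (.nd (.nd (.nd (.nd (.nd (.nd (.lf 0xe) (.lf 0x13c6)) (.nd (.lf 0x971) (.lf 0))) (.nd (.nd (.lf 0x2a7) (.lf 0x107c)) (.nd (.lf 0x1010) (.lf 0)))) (.nd (.nd (.nd (.lf 0x2c0) (.lf 0x12cc)) (.nd (.lf 0x6f2) (.lf 0))) (.nd (.nd (.lf 0x8fc) (.lf 0x159a)) (.nd (.lf 0xa48) (.lf 0))))) (.nd (.nd (.nd (.nd (.lf 0x1bb) (.lf 0x1108)) (.nd (.lf 0xcbd) (.lf 0))) (.nd (.nd (.lf 0x351) (.lf 0x147b)) (.nd (.lf 0x1002) (.lf 0)))) (.nd (.nd (.nd (.lf 0x4c5) (.lf 0x15f6)) (.nd (.lf 0xdb3) (.lf 0))) (.nd (.nd (.lf 0x4b6) (.lf 0x1628)) (.nd (.lf 0xb2e) (.lf 0)))))) (.nd (.nd (.nd (.nd (.nd (.lf 0x5f) (.lf 0xc9d)) (.nd (.lf 0x5d0) (.lf 0))) (.nd (.nd (.lf 0x6f1) (.lf 0x1110)) (.nd (.lf 0x8fa) (.lf 0)))) (.nd (.nd (.nd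 (.lf 0x1a7) (.lf 0xeae)) (.nd (.lf 0x757) (.lf 0))) (.nd (.nd (.lf 0x45b) (.lf 0x1402)) (.nd (.lf 0x1283) (.lf 0))))) (.nd (.nd (.nd (.nd (.lf 0x103) (.lf 0x14fe)) (.nd (.lf 0x691) (.lf 0))) (.nd (.nd (.lf 0x3a8) (.lf 0x1752)) (.nd (.lf 0x1195) (.lf 0)))) (.nd (.nd (.nd (.lf 0x253) (.lf 0x1652)) (.nd (.lf 0xb99) (.lf 0))) (.nd (.nd (.lf 0x513) (.lf 0x17fb)) (.nd (.lf 0xba4) (.lf 0))))))) (.nd (.nd (.nd (.nd (.nd (.nd (.lf 0x8f) (.lf 0x12b9)) (.nd (.lf 0x5a0) (.lf 0))) (.nd (.nd (.lf 0x696) (.lf 0x16ca)) (.nd (.lf 0x104d) (.lf 0)))) (.nd (.nd (.nd (.lf 0x3a3) (.lf 0xe6b)) (.nd (.lf 0x727) (.lf 0))) (.nd (.nd (.lf 0x94f) (.lf 0x17b7)) (.nd (.lf 0xa82) (.lf 0))))) (.nd (.nd (.nd (.nd (.lf 0x21f) (.lf 0x1154)) (.nd (.lf 0x65f)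 (.lf 0))) (.nd (.nd (.lf 0x51a) (.lf 0x1217)) (.nd (.lf 0x99d) (.lf 0)))) (.nd (.nd (.nd (.lf 0x525) (.lf 0x161f)) (.nd (.lf 0xf41) (.lf 0))) (.nd (.nd (.lf 0x4e7) (.lf 0x157d)) (.nd (.lf 0xb6d) (.lf 0)))))) (.nd (.nd (.nd (.nd (.nd (.lf 0x88) (.lf 0xcd8)) (.nd (.lf 0xc74) (.lf 0))) (.nd (.nd (.lf 0x747) (.lf 0x1161)) (.nd (.lf 0x92f) (.lf 0)))) (.nd (.nd (.nd (.lf 0x467) (.lf 0x14ff)) (.nd (.lf 0x785) (.lf 0))) (.nd (.nd (.lf 0x9fa) (.lf 0x16d9)) (.nd (.lf 0x12c2) (.lf 0))))) (.nd (.nd (.nd (.nd (.lf 0x12c) (.lf 0x1529)) (.nd (.lf 0x6c0) (.lf 0))) (.nd (.nd (.lf 0x650) (.lf 0x15fb)) (.nd (.lf 0x11d3) (.lf 0)))) (.nd (.nd (.nd (.lf 0x5e0) (.lf 0x14f7)) (.nd (.lf 0xfd0) (.lf 0))) (.nd (.nd (.lf 0xb41) (.lf 0x17f5)) (.nd (.lf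 0x138e) (.lf 0))))))))
def tabB_nbaabbb : Tr := (.nd (.nd (.nd (.nd (.nd (.nd (.nd (.lf 0x22) (.lf 0xc46)) (.nd (.lf 0xbaf) (.lf 0))) (.nd (.nd (.lf 0x2bb) (.lf 0x16b7)) (.nd (.lf 0x8a4) (.lf 0)))) (.nd (.nd (.nd (.lf 0x372) (.lf 0xe49)) (.nd (.lf 0x70d) (.lf 0))) (.nd (.nd (.lf 0x415) (.lf 0x1373)) (.nd (.lf 0x1229) (.lf 0))))) (.nd (.nd (.nd (.nd (.lf 0x1ee) (.lf 0xeeb)) (.nd (.lf 0xce4) (.lf 0))) (.nd (.nd (.lf 0x7c7) (.lf 0x1724)) (.nd (.lf 0x1131) (.lf 0)))) (.nd (.nd (.nd (.lf 0x4f6) (.lf 0x1608)) (.nd (.lf 0xa10) (.lf 0))) (.nd (.nd (.lf 0x4cf) (.lf 0x1528)) (.nd (.lf 0xb50) (.lf 0)))))) (.nd (.nd (.nd (.nd (.nd (.lf 0x125) (.lf 0x1454)) (.nd (.lf 0xc52) (.lf 0))) (.nd (.nd (.lf 0x71d) (.lf 0x1362)) (.nd (.lf 0x10b3)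 (.lf 0)))) (.nd (.nd (.nd (.lf 0x436) (.lf 0x1059)) (.nd (.lf 0xe95) (.lf 0))) (.nd (.nd (.lf 0x8dd) (.lf 0x143a)) (.nd (.lf 0xadb) (.lf 0))))) (.nd (.nd (.nd (.nd (.lf 0x2b4) (.lf 0xdbf)) (.nd (.lf 0xd7e) (.lf 0))) (.nd (.nd (.lf 0x87c) (.lf 0x12b3)) (.nd (.lf 0x9ee) (.lf 0)))) (.nd (.nd (.nd (.lf 0x5b2) (.lf 0x100a)) (.nd (.lf 0xbe9) (.lf 0))) (.nd (.nd (.lf 0x52d) (.lf 0x1660)) (.nd (.lf 0xd09) (.lf 0))))))) (.nd (.nd (.nd (.nd (.nd (.nd (.lf 0xc1) (.lf 0x1416)) (.nd (.lf 0x5b7) (.lf 0))) (.nd (.nd (.lf 0x2e5) (.lf 0x10ea)) (.nd (.lf 0xc0c) (.lf 0)))) (.nd (.nd (.nd (.lf 0x3d4) (.lf 0xe89)) (.nd (.lf 0x740) (.lf 0))) (.nd (.nd (.lf 0x444) (.lf 0x17c0)) (.nd (.lf 0xe38) (.lf 0))))) (.nd (.nd (.nd (.nd (.lf 0xef) (.lf 0x13fd))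 (.nd (.lf 0xd31) (.lf 0))) (.nd (.nd (.lf 0x822) (.lf 0x1624)) (.nd (.lf 0x9b6) (.lf 0)))) (.nd (.nd (.nd (.lf 0x23e) (.lf 0x10b0)) (.nd (.lf 0xf66) (.lf 0))) (.nd (.nd (.lf 0xac9) (.lf 0x16e8)) (.nd (.lf 0x134a) (.lf 0)))))) (.nd (.nd (.nd (.nd (.nd (.lf 0x189) (.lf 0xcf9)) (.nd (.lf 0x617) (.lf 0))) (.nd (.nd (.lf 0x33c) (.lf 0x14bf)) (.nd (.lf 0x10f9) (.lf 0)))) (.nd (.nd (.nd (.lf 0x497) (.lf 0xf11)) (.nd (.lf 0x79d) (.lf 0))) (.nd (.nd (.lf 0xa21) (.lf 0x17dd)) (.nd (.lf 0x12df) (.lf 0))))) (.nd (.nd (.nd (.nd (.lf 0x314) (.lf 0xe02)) (.nd (.lf 0xdc4) (.lf 0))) (.nd (.nd (.lf 0x8ce) (.lf 0x159b)) (.nd (.lf 0xd54) (.lf 0)))) (.nd (.nd (.nd (.lf 0x611) (.lf 0x1055)) (.nd (.lf 0x871) (.lf 0))) (.nd (.nd (.lf 0x5bd) (.lf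 0x17f9)) (.nd (.lf 0x1006) (.lf 0))))))))
def tabB_nbabaaa : Tr := (.nd (.nd (.nd (.nd (.nd (.nd (.nd (.lf 0xa) (.lf 0x13b3)) (.nd (.lf 0xb77) (.lf 0x17f2))) (.nd (.nd (.lf 0x29a) (.lf 0x12a7)) (.nd (.lf 0x87a) (.lf 0)))) (.nd (.nd (.nd (.lf 0x190) (.lf 0x1501)) (.nd (.lf 0x9cf) (.lf 0))) (.nd (.nd (.lf 0x8e0) (.lf 0x1725)) (.nd (.lf 0x103e) (.lf 0))))) (.nd (.nd (.nd (.nd (.lf 0x19c) (.lf 0xd03)) (.nd (.lf 0x61f) (.lf 0))) (.nd (.nd (.lf 0x343) (.lf 0x14e9)) (.nd (.lf 0xe07) (.lf 0)))) (.nd (.nd (.nd (.lf 0x4a8) (.lf 0x15ec)) (.nd (.lf 0xeec) (.lf 0))) (.nd (.nd (.lf 0xa2f) (.lf 0x1615)) (.nd (.lf 0xb1c) (.lf 0)))))) (.nd (.nd (.nd (.nd (.nd (.lf 0xd4) (.lf 0xc8e)) (.nd (.lf 0xc13) (.lf 0))) (.nd (.nd (.lf 0x2ec) (.lf 0x16e5))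 (.nd (.lf 0x8e9) (.lf 0)))) (.nd (.nd (.nd (.lf 0x19b) (.lf 0x1597)) (.nd (.lf 0xe5d) (.lf 0))) (.nd (.nd (.lf 0x989) (.lf 0x143c)) (.nd (.lf 0x1273) (.lf 0))))) (.nd (.nd (.nd (.nd (.lf 0x264) (.lf 0x14c8)) (.nd (.lf 0xd3e) (.lf 0))) (.nd (.nd (.lf 0x39c) (.lf 0x1267)) (.nd (.lf 0x9ff) (.lf 0)))) (.nd (.nd (.nd (.lf 0x245) (.lf 0xfcf)) (.nd (.lf 0x814) (.lf 0))) (.nd (.nd (.lf 0xad9) (.lf 0x15e6)) (.nd (.lf 0xc34) (.lf 0))))))) (.nd (.nd (.nd (.nd (.nd (.nd (.lf 0x6f) (.lf 0x13eb)) (.nd (.lf 0x591) (.lf 0))) (.nd (.nd (.lf 0x2c3) (.lf 0x10aa)) (.nd (.lf 0x974) (.lf 0)))) (.nd (.nd (.nd (.lf 0x385) (.lf 0xe55)) (.nd (.lf 0x717) (.lf 0))) (.nd (.nd (.lf 0x7cd) (.lf 0x138a)) (.nd (.lf 0xa71) (.lf 0))))) (.nd (.nd (.nd (.nd (.lf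 0xcd) (.lf 0xd4a)) (.nd (.lf 0xcf1) (.lf 0))) (.nd (.nd (.lf 0x7da) (.lf 0x1746)) (.nd (.lf 0x98a) (.lf 0)))) (.nd (.nd (.nd (.lf 0x508) (.lf 0x1610)) (.nd (.lf 0xf2f) (.lf 0))) (.nd (.nd (.lf 0x4d8) (.lf 0x17f0)) (.nd (.lf 0x1322) (.lf 0)))))) (.nd (.nd (.nd (.nd (.nd (.lf 0x138) (.lf 0x145a)) (.nd (.lf 0x5f3) (.lf 0))) (.nd (.nd (.lf 0x319) (.lf 0x11d5)) (.nd (.lf 0x10c2) (.lf 0)))) (.nd (.nd (.nd (.lf 0x448) (.lf 0x101a)) (.nd (.lf 0xea4) (.lf 0))) (.nd (.nd (.lf 0x9de) (.lf 0x162b)) (.nd (.lf 0xae3) (.lf 0))))) (.nd (.nd (.nd (.nd (.lf 0x11f) (.lf 0x151b)) (.nd (.lf 0x6b1) (.lf 0))) (.nd (.nd (.lf 0x3c7) (.lf 0x12c8)) (.nd (.lf 0x11bf) (.lf 0)))) (.nd (.nd (.nd (.lf 0x5c2) (.lf 0x152c)) (.nd (.lf 0xfb7) (.lf 0))) (.nd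 (.nd (.lf 0xb2b) (.lf 0x17cb)) (.nd (.lf 0xdaf) (.lf 0))))))))
def tabB_nbabaab : Tr := (.nd (.nd (.nd (.nd (.nd (.nd (.nd (.lf 0x3e) (.lf 0x13d0)) (.nd (.lf 0x57b) (.lf 0))) (.nd (.nd (.lf 0x2af) (.lf 0x1412)) (.nd (.lf 0x891) (.lf 0)))) (.nd (.nd (.nd (.lf 0x353) (.lf 0x1564)) (.nd (.lf 0xdf0) (.lf 0))) (.nd (.nd (.lf 0x407) (.lf 0x17a5)) (.nd (.lf 0x1216) (.lf 0))))) (.nd (.nd (.nd (.nd (.lf 0xb9) (.lf 0xd29)) (.nd (.lf 0xcc9) (.lf 0))) (.nd (.nd (.lf 0x359) (.lf 0x1525)) (.nd (.lf 0xad8) (.lf 0)))) (.nd (.nd (.nd (.lf 0x207) (.lf 0xf48)) (.nd (.lf 0x7c1) (.lf 0))) (.nd (.nd (.lf 0xa56) (.lf 0x1605)) (.nd (.lf 0x1309) (.lf 0)))))) (.nd (.nd (.nd (.nd (.nd (.lf 0x67) (.lf 0x1441)) (.nd (.lf 0xc3b) (.lf 0))) (.nd (.nd (.lf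 0x303) (.lf 0x16f7)) (.nd (.lf 0x906) (.lf 0)))) (.nd (.nd (.nd (.lf 0x416) (.lf 0x1296)) (.nd (.lf 0x7a3) (.lf 0))) (.nd (.nd (.lf 0x9b4) (.lf 0x1421)) (.nd (.lf 0xf61) (.lf 0))))) (.nd (.nd (.nd (.nd (.lf 0x295) (.lf 0xda7)) (.nd (.lf 0xd66) (.lf 0))) (.nd (.nd (.lf 0x3b0) (.lf 0x176e)) (.nd (.lf 0x11a2) (.lf 0)))) (.nd (.nd (.nd (.lf 0x594) (.lf 0xff4)) (.nd (.lf 0x830) (.lf 0))) (.nd (.nd (.lf 0x51d) (.lf 0x1625)) (.nd (.lf 0x10cd) (.lf 0))))))) (.nd (.nd (.nd (.nd (.nd (.nd (.lf 0xa2) (.lf 0xc6b)) (.nd (.lf 0xbea) (.lf 0))) (.nd (.nd (.lf 0x6a9) (.lf 0x16d1)) (.nd (.lf 0x105e) (.lf 0)))) (.nd (.nd (.nd (.lf 0x3b5) (.lf 0x111a)) (.nd (.lf 0x731) (.lf 0))) (.nd (.nd (.lf 0x95f) (.lf 0x177d)) (.nd (.lf 0xe65) (.lf 0)))))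 (.nd (.nd (.nd (.nd (.lf 0xe2) (.lf 0x12d1)) (.nd (.lf 0x66a) (.lf 0))) (.nd (.nd (.lf 0x59a) (.lf 0x1228)) (.nd (.lf 0xbf4) (.lf 0)))) (.nd (.nd (.nd (.lf 0x230) (.lf 0x162c)) (.nd (.lf 0x7f4) (.lf 0))) (.nd (.nd (.lf 0x4ee) (.lf 0x158b)) (.nd (.lf 0x133b) (.lf 0)))))) (.nd (.nd (.nd (.nd (.nd (.lf 0x16a) (.lf 0xce3)) (.nd (.lf 0x608) (.lf 0))) (.nd (.nd (.lf 0x52f) (.lf 0x13f7)) (.nd (.lf 0x9f1) (.lf 0)))) (.nd (.nd (.nd (.lf 0x479) (.lf 0xeff)) (.nd (.lf 0xec8) (.lf 0))) (.nd (.nd (.lf 0xa09) (.lf 0x1485)) (.nd (.lf 0x12d0) (.lf 0))))) (.nd (.nd (.nd (.nd (.lf 0x2f5) (.lf 0xdf1)) (.nd (.lf 0x6ca) (.lf 0))) (.nd (.nd (.lf 0x7d0) (.lf 0x12fc)) (.nd (.lf 0x11dd) (.lf 0)))) (.nd (.nd (.nd (.lf 0x5f2) (.lf 0x1371)) (.nd (.lf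 0x861) (.lf 0))) (.nd (.nd (.lf 0xb51) (.lf 0x1809)) (.nd (.lf 0xbef) (.lf 0))))))))
def tabB_nbababa : Tr := (.nd (.nd (.nd (.nd (.nd (.nd (.nd (.lf 0x24) (.lf 0x13c3)) (.nd (.lf 0x570) (.lf 0))) (.nd (.nd (.lf 0x639) (.lf 0x16a0)) (.nd (.lf 0x887) (.lf 0)))) (.nd (.nd (.nd (.lf 0x33b) (.lf 0x1558)) (.nd (.lf 0x6ef) (.lf 0))) (.nd (.nd (.lf 0x8cb) (.lf 0x1705)) (.nd (.lf 0xa44) (.lf 0))))) (.nd (.nd (.nd (.nd (.lf 0x1b5) (.lf 0xd22)) (.nd (.lf 0xcba) (.lf 0))) (.nd (.nd (.lf 0x79c) (.lf 0x11bd)) (.nd (.lf 0xab7) (.lf 0)))) (.nd (.nd (.nd (.lf 0x4bf) (.lf 0xf4f)) (.nd (.lf 0x7b3) (.lf 0))) (.nd (.nd (.lf 0xa1a) (.lf 0x175a)) (.nd (.lf 0xb2a) (.lf 0)))))) (.nd (.nd (.nd (.nd (.nd (.lf 0xee) (.lf 0x1432)) (.nd (.lf 0x60b) (.lf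 0))) (.nd (.nd (.lf 0x6eb) (.lf 0x140c)) (.nd (.lf 0xb49) (.lf 0)))) (.nd (.nd (.nd (.lf 0x1a5) (.lf 0x15a3)) (.nd (.lf 0xac8) (.lf 0))) (.nd (.nd (.lf 0x99e) (.lf 0x1400)) (.nd (.lf 0xab9) (.lf 0))))) (.nd (.nd (.nd (.nd (.lf 0x27b) (.lf 0xd99)) (.nd (.lf 0xc16) (.lf 0))) (.nd (.nd (.lf 0x46d) (.lf 0x1284)) (.nd (.lf 0x118f) (.lf 0)))) (.nd (.nd (.nd (.lf 0x250) (.lf 0x1650)) (.nd (.lf 0xf8a) (.lf 0))) (.nd (.nd (.lf 0x795) (.lf 0x1609)) (.nd (.lf 0xb9f) (.lf 0))))))) (.nd (.nd (.nd (.nd (.nd (.nd (.lf 0x89) (.lf 0x13f9)) (.nd (.lf 0x59c) (.lf 0))) (.nd (.nd (.lf 0x2ce) (.lf 0x15fa)) (.nd (.lf 0xeef) (.lf 0)))) (.nd (.nd (.nd (.lf 0x17c) (.lf 0x12e2)) (.nd (.lf 0xa55) (.lf 0))) (.nd (.nd (.lf 0x94b) (.lf 0x139b)) (.nd (.lf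 0x1245) (.lf 0))))) (.nd (.nd (.nd (.nd (.lf 0xd8) (.lf 0x133c)) (.nd (.lf 0xd06) (.lf 0))) (.nd (.nd (.lf 0x37c) (.lf 0x15bb)) (.nd (.lf 0x99a) (.lf 0)))) (.nd (.nd (.nd (.lf 0x226) (.lf 0x161c)) (.nd (.lf 0xd69) (.lf 0))) (.nd (.nd (.lf 0xa97) (.lf 0x17f4)) (.nd (.lf 0x132e) (.lf 0)))))) (.nd (.nd (.nd (.nd (.nd (.lf 0x150) (.lf 0xcd5)) (.nd (.lf 0x68b) (.lf 0))) (.nd (.nd (.lf 0x323) (.lf 0x115d)) (.nd (.lf 0x10d5) (.lf 0)))) (.nd (.nd (.nd (.lf 0x1cf) (.lf 0xeed)) (.nd (.lf 0xeb4) (.lf 0))) (.nd (.nd (.lf 0x9f5) (.lf 0x146a)) (.nd (.lf 0xaef) (.lf 0))))) (.nd (.nd (.nd (.nd (.lf 0x129) (.lf 0x14c5)) (.nd (.lf 0xa07) (.lf 0))) (.nd (.nd (.lf 0x3d3) (.lf 0x170b)) (.nd (.lf 0x10e2) (.lf 0)))) (.nd (.nd (.nd (.lf 0x5d8) (.lf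 0x102c)) (.nd (.lf 0x854) (.lf 0))) (.nd (.nd (.lf 0xb3d) (.lf 0x177a)) (.nd (.lf 0xfd5) (.lf 0))))))))
def tabB_nbababb : Tr := (.nd (.nd (.nd (.nd (.nd (.nd (.nd (.lf 0x57) (.lf 0xf0c)) (.nd (.lf 0x586) (.lf 0))) (.nd (.nd (.lf 0x663) (.lf 0x1098)) (.nd (.lf 0x1029) (.lf 0)))) (.nd (.nd (.nd (.lf 0x167) (.lf 0x156d)) (.nd (.lf 0xe01) (.lf 0))) (.nd (.nd (.lf 0x920) (.lf 0x142f)) (.nd (.lf 0x1226) (.lf 0))))) (.nd (.nd (.nd (.nd (.lf 0xc3) (.lf 0xd3f)) (.nd (.lf 0xce0) (.lf 0))) (.nd (.nd (.lf 0x364) (.lf 0x11ee)) (.nd (.lf 0x97d) (.lf 0)))) (.nd (.nd (.nd (.lf 0x211) (.lf 0x1374)) (.nd (.lf 0xf20) (.lf 0))) (.nd (.nd (.lf 0x4cc) (.lf 0x1521)) (.nd (.lf 0xb4a) (.lf 0)))))) (.nd (.nd (.nd (.nd (.nd (.lf 0x71) (.lf 0x11c0))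 (.nd (.lf 0x5e7) (.lf 0))) (.nd (.nd (.lf 0x30e) (.lf 0x1704)) (.nd (.lf 0x9bf) (.lf 0)))) (.nd (.nd (.nd (.lf 0x42f) (.lf 0xecc)) (.nd (.lf 0xe90) (.lf 0))) (.nd (.nd (.lf 0x9ca) (.lf 0x17d2)) (.nd (.lf 0xad6) (.lf 0))))) (.nd (.nd (.nd (.nd (.lf 0x115) (.lf 0xdbc)) (.nd (.lf 0xcfd) (.lf 0))) (.nd (.nd (.lf 0x3bb) (.lf 0x14be)) (.nd (.lf 0x11af) (.lf 0)))) (.nd (.nd (.nd (.lf 0x265) (.lf 0x166a)) (.nd (.lf 0xfab) (.lf 0))) (.nd (.nd (.lf 0x52a) (.lf 0x16ae)) (.nd (.lf 0x11ab) (.lf 0))))))) (.nd (.nd (.nd (.nd (.nd (.nd (.lf 0x49) (.lf 0xfad)) (.nd (.lf 0x5b4) (.lf 0))) (.nd (.nd (.lf 0x6bf) (.lf 0x146b)) (.nd (.lf 0x106e) (.lf 0)))) (.nd (.nd (.nd (.lf 0x3ce) (.lf 0x158f)) (.nd (.lf 0xe4b) (.lf 0))) (.nd (.nd (.lf 0x441)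 (.lf 0x13ca)) (.nd (.lf 0xf97) (.lf 0))))) (.nd (.nd (.nd (.nd (.lf 0xec) (.lf 0x11f2)) (.nd (.lf 0xd2d) (.lf 0))) (.nd (.nd (.lf 0x391) (.lf 0x1756)) (.nd (.lf 0x9b2) (.lf 0)))) (.nd (.nd (.nd (.lf 0x54a) (.lf 0xfb8)) (.nd (.lf 0xf62) (.lf 0))) (.nd (.nd (.lf 0x92d) (.lf 0x175f)) (.nd (.lf 0x107e) (.lf 0)))))) (.nd (.nd (.nd (.nd (.nd (.lf 0x183) (.lf 0xcf4)) (.nd (.lf 0x613) (.lf 0))) (.nd (.nd (.lf 0x770) (.lf 0x1188)) (.nd (.lf 0x10f1) (.lf 0)))) (.nd (.nd (.nd (.lf 0x1e5) (.lf 0x15de)) (.nd (.lf 0xedb) (.lf 0))) (.nd (.nd (.lf 0xa1d) (.lf 0x14a1)) (.nd (.lf 0xb8c) (.lf 0))))) (.nd (.nd (.nd (.nd (.lf 0x30d) (.lf 0x153d)) (.nd (.lf 0x6d5) (.lf 0))) (.nd (.nd (.lf 0x3e7) (.lf 0x1733)) (.nd (.lf 0xa2a) (.lf 0)))) (.nd (.nd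 (.nd (.lf 0x60a) (.lf 0x1690)) (.nd (.lf 0x86e) (.lf 0))) (.nd (.nd (.lf 0xaa0) (.lf 0x17d9)) (.nd (.lf 0x13a7) (.lf 0))))))))
def tabB_nbabbaa : Tr := (.nd (.nd (.nd (.nd (.nd (.nd (.nd (.lf 0x17) (.lf 0xc17)) (.nd (.lf 0x56b) (.lf 0))) (.nd (.nd (.lf 0x523) (.lf 0x1069)) (.nd (.lf 0x881) (.lf 0)))) (.nd (.nd (.nd (.lf 0x14e) (.lf 0x1003)) (.nd (.lf 0xdd8) (.lf 0))) (.nd (.nd (.lf 0x8eb) (.lf 0x1798)) (.nd (.lf 0x1200) (.lf 0))))) (.nd (.nd (.nd (.nd (.lf 0x1a8) (.lf 0x1498)) (.nd (.lf 0xcb1) (.lf 0))) (.nd (.nd (.lf 0x790) (.lf 0x172c)) (.nd (.lf 0xa5f) (.lf 0)))) (.nd (.nd (.nd (.lf 0x1f5) (.lf 0x15f0)) (.nd (.lf 0x7ac) (.lf 0))) (.nd (.nd (.lf 0xa39) (.lf 0x1716)) (.nd (.lf 0xb22) (.lf 0)))))) (.nd (.nd (.nd (.nd (.nd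 (.lf 0x58) (.lf 0x124f)) (.nd (.lf 0x5c6) (.lf 0))) (.nd (.nd (.lf 0x6e1) (.lf 0x114c)) (.nd (.lf 0xa87) (.lf 0)))) (.nd (.nd (.nd (.lf 0x1a0) (.lf 0xea6)) (.nd (.lf 0xe64) (.lf 0))) (.nd (.nd (.lf 0x994) (.lf 0x13ed)) (.nd (.lf 0x127c) (.lf 0))))) (.nd (.nd (.nd (.nd (.lf 0x270) (.lf 0xd93)) (.nd (.lf 0xb5b) (.lf 0))) (.nd (.nd (.lf 0x7dd) (.lf 0x1272)) (.nd (.lf 0x9c7) (.lf 0)))) (.nd (.nd (.nd (.lf 0x56f) (.lf 0x1223)) (.nd (.lf 0xf7f) (.lf 0))) (.nd (.nd (.lf 0x50b) (.lf 0x15f8)) (.nd (.lf 0x108e) (.lf 0))))))) (.nd (.nd (.nd (.nd (.nd (.nd (.lf 0x7c) (.lf 0xc59)) (.nd (.lf 0xbcb) (.lf 0))) (.nd (.nd (.lf 0x687) (.lf 0x10b2)) (.nd (.lf 0x9b3) (.lf 0)))) (.nd (.nd (.nd (.lf 0x177) (.lf 0x102a)) (.nd (.lf 0xe1f) (.lf 0)))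 (.nd (.nd (.lf 0x7f2) (.lf 0x15d3)) (.nd (.lf 0x123e) (.lf 0))))) (.nd (.nd (.nd (.nd (.lf 0xd3) (.lf 0xd52)) (.nd (.lf 0x657) (.lf 0))) (.nd (.nd (.lf 0x377) (.lf 0x1342)) (.nd (.lf 0xf1c) (.lf 0)))) (.nd (.nd (.nd (.lf 0x514) (.lf 0x10a8)) (.nd (.lf 0x7e2) (.lf 0))) (.nd (.nd (.lf 0x4dd) (.lf 0x1634)) (.nd (.lf 0x1328) (.lf 0)))))) (.nd (.nd (.nd (.nd (.nd (.lf 0x145) (.lf 0xfa5)) (.nd (.lf 0xc68) (.lf 0))) (.nd (.nd (.lf 0x736) (.lf 0x158e)) (.nd (.lf 0xadd) (.lf 0)))) (.nd (.nd (.nd (.lf 0x1ca) (.lf 0xf1e)) (.nd (.lf 0x89d) (.lf 0))) (.nd (.nd (.lf 0x47f) (.lf 0x16ef)) (.nd (.lf 0xae8) (.lf 0))))) (.nd (.nd (.nd (.nd (.lf 0x124) (.lf 0x1009)) (.nd (.lf 0x6b7) (.lf 0))) (.nd (.nd (.lf 0x3cc) (.lf 0x160a)) (.nd (.lf 0x11c6)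 (.lf 0)))) (.nd (.nd (.nd (.lf 0x274) (.lf 0x1023)) (.nd (.lf 0x84e) (.lf 0))) (.nd (.nd (.lf 0x645) (.lf 0x17c8)) (.nd (.lf 0x109b) (.lf 0))))))))
def tabB_nbabbab : Tr := (.nd (.nd (.nd (.nd (.nd (.nd (.nd (.lf 0x4b) (.lf 0x1336)) (.nd (.lf 0x580) (.lf 0))) (.nd (.nd (.lf 0x656) (.lf 0x142d)) (.nd (.lf 0x1024) (.lf 0)))) (.nd (.nd (.nd (.lf 0x360) (.lf 0x10da)) (.nd (.lf 0xdf8) (.lf 0))) (.nd (.nd (.lf 0x918) (.lf 0x1366)) (.nd (.lf 0x121d) (.lf 0))))) (.nd (.nd (.nd (.nd (.lf 0xbe) (.lf 0x14b4)) (.nd (.lf 0x775) (.lf 0))) (.nd (.nd (.lf 0x7b9) (.lf 0x173c)) (.nd (.lf 0x975) (.lf 0)))) (.nd (.nd (.nd (.lf 0x20c) (.lf 0x15b2)) (.nd (.lf 0x7c6) (.lf 0))) (.nd (.nd (.lf 0x4c6) (.lf 0x173f)) (.nd (.lf 0x1310) (.lf 0)))))) (.nd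 (.nd (.nd (.nd (.nd (.lf 0x6c) (.lf 0xcb0)) (.nd (.lf 0xc43) (.lf 0))) (.nd (.nd (.lf 0x70c) (.lf 0x1128)) (.nd (.lf 0x90b) (.lf 0)))) (.nd (.nd (.nd (.lf 0x423) (.lf 0xec3)) (.nd (.lf 0x766) (.lf 0))) (.nd (.nd (.lf 0x4f0) (.lf 0x1508)) (.nd (.lf 0x1297) (.lf 0))))) (.nd (.nd (.nd (.nd (.lf 0x110) (.lf 0xdb2)) (.nd (.lf 0x69f) (.lf 0))) (.nd (.nd (.lf 0x86a) (.lf 0x176f)) (.nd (.lf 0xf68) (.lf 0)))) (.nd (.nd (.nd (.lf 0x260) (.lf 0xffa)) (.nd (.lf 0x836) (.lf 0))) (.nd (.nd (.lf 0x524) (.lf 0x163d)) (.nd (.lf 0x1075) (.lf 0))))))) (.nd (.nd (.nd (.nd (.nd (.nd (.lf 0xaf) (.lf 0xc82)) (.nd (.lf 0x5af) (.lf 0))) (.nd (.nd (.lf 0x595) (.lf 0x16d7)) (.nd (.lf 0xc51) (.lf 0)))) (.nd (.nd (.nd (.lf 0x18b) (.lf 0x1397)) (.nd (.lf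 0x738) (.lf 0))) (.nd (.nd (.lf 0x968) (.lf 0x166d)) (.nd (.lf 0xdd2) (.lf 0))))) (.nd (.nd (.nd (.nd (.lf 0xe7) (.lf 0xd77)) (.nd (.lf 0xd24) (.lf 0))) (.nd (.nd (.lf 0x810) (.lf 0x1235)) (.nd (.lf 0x1162) (.lf 0)))) (.nd (.nd (.nd (.lf 0x542) (.lf 0x10ba)) (.nd (.lf 0xf59) (.lf 0))) (.nd (.nd (.lf 0x76d) (.lf 0x15a4)) (.nd (.lf 0x101e) (.lf 0)))))) (.nd (.nd (.nd (.nd (.nd (.lf 0x176) (.lf 0xcec)) (.nd (.lf 0x60e) (.lf 0))) (.nd (.nd (.lf 0x763) (.lf 0x1720)) (.nd (.lf 0x942) (.lf 0)))) (.nd (.nd (.nd (.lf 0x1df) (.lf 0x132b)) (.nd (.lf 0xe80) (.lf 0))) (.nd (.nd (.lf 0x496) (.lf 0x1568)) (.nd (.lf 0x12d5) (.lf 0))))) (.nd (.nd (.nd (.nd (.lf 0x301) (.lf 0x1517)) (.nd (.lf 0x6d0) (.lf 0))) (.nd (.nd (.lf 0x8be) (.lf 0x1714))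 (.nd (.lf 0xa23) (.lf 0)))) (.nd (.nd (.nd (.lf 0x28b) (.lf 0x168d)) (.nd (.lf 0xfe2) (.lf 0))) (.nd (.nd (.lf 0xb5d) (.lf 0x1770)) (.nd (.lf 0xbf6) (.lf 0))))))))
def tabB_nbabbba : Tr := (.nd (.nd (.nd (.nd (.nd (.nd (.nd (.lf 0x31) (.lf 0xc24)) (.nd (.lf 0xb8f) (.lf 0))) (.nd (.nd (.lf 0x3f0) (.lf 0x107f)) (.nd (.lf 0x88c) (.lf 0)))) (.nd (.nd (.nd (.lf 0x347) (.lf 0xe2d)) (.nd (.lf 0x6f5) (.lf 0))) (.nd (.nd (.lf 0x401) (.lf 0x13e6)) (.nd (.lf 0x120e) (.lf 0))))) (.nd (.nd (.nd (.nd (.lf 0xb4) (.lf 0x1180)) (.nd (.lf 0x633) (.lf 0))) (.nd (.nd (.lf 0x7a5) (.lf 0x11c7)) (.nd (.lf 0x967) (.lf 0)))) (.nd (.nd (.nd (.lf 0x200) (.lf 0xf3e)) (.nd (.lf 0x7ba) (.lf 0))) (.nd (.nd (.lf 0x4b9) (.lf 0x16c6)) (.nd (.lf 0xb32) (.lf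 0)))))) (.nd (.nd (.nd (.nd (.nd (.lf 0xfa) (.lf 0x1386)) (.nd (.lf 0xacd) (.lf 0))) (.nd (.nd (.lf 0x6f7) (.lf 0x1113)) (.nd (.lf 0x1099) (.lf 0)))) (.nd (.nd (.nd (.lf 0x409) (.lf 0xeb2)) (.nd (.lf 0xe78) (.lf 0))) (.nd (.nd (.lf 0x5b0) (.lf 0x140e)) (.nd (.lf 0x1287) (.lf 0))))) (.nd (.nd (.nd (.nd (.lf 0x288) (.lf 0xda0)) (.nd (.lf 0xd59) (.lf 0))) (.nd (.nd (.lf 0x3ab) (.lf 0x168b)) (.nd (.lf 0x109f) (.lf 0)))) (.nd (.nd (.nd (.lf 0x587) (.lf 0xfea)) (.nd (.lf 0x828) (.lf 0))) (.nd (.nd (.lf 0xaf9) (.lf 0x1617)) (.nd (.lf 0x1070) (.lf 0))))))) (.nd (.nd (.nd (.nd (.nd (.nd (.lf 0x96) (.lf 0x10ca)) (.nd (.lf 0xbde) (.lf 0))) (.nd (.nd (.lf 0x69c) (.lf 0x10c7)) (.nd (.lf 0x1054) (.lf 0)))) (.nd (.nd (.nd (.lf 0x3a9) (.lf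 0x14d6)) (.nd (.lf 0x72a) (.lf 0))) (.nd (.nd (.lf 0x956) (.lf 0x13a3)) (.nd (.lf 0xa85) (.lf 0))))) (.nd (.nd (.nd (.nd (.lf 0xdd) (.lf 0x14d5)) (.nd (.lf 0x664) (.lf 0))) (.nd (.nd (.lf 0x7f8) (.lf 0x169a)) (.nd (.lf 0x1157) (.lf 0)))) (.nd (.nd (.nd (.lf 0x22b) (.lf 0x1409)) (.nd (.lf 0x7ed) (.lf 0))) (.nd (.nd (.lf 0x4e9) (.lf 0x1582)) (.nd (.lf 0x115e) (.lf 0)))))) (.nd (.nd (.nd (.nd (.nd (.lf 0x15d) (.lf 0x1470)) (.nd (.lf 0x6b9) (.lf 0))) (.nd (.nd (.lf 0x74d) (.lf 0x12be)) (.nd (.lf 0x933) (.lf 0)))) (.nd (.nd (.nd (.lf 0x1d4) (.lf 0xef7)) (.nd (.lf 0xccd) (.lf 0))) (.nd (.nd (.lf 0x48a) (.lf 0x1796)) (.nd (.lf 0x12c6) (.lf 0))))) (.nd (.nd (.nd (.nd (.lf 0x2ea) (.lf 0xde5)) (.nd (.lf 0x80f) (.lf 0))) (.nd (.nd (.lf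 0x8a9) (.lf 0x12f1)) (.nd (.lf 0xa13) (.lf 0)))) (.nd (.nd (.nd (.lf 0x5e6) (.lf 0x1033)) (.nd (.lf 0xfd4) (.lf 0))) (.nd (.nd (.lf 0x58d) (.lf 0x16f9)) (.nd (.lf 0xbe7) (.lf 0))))))))
def tabB_nbabbbb : Tr := (.nd (.nd (.nd (.nd (.nd (.nd (.nd (.lf 0x63) (.lf 0x13e4)) (.nd (.lf 0xbb4) (.lf 0))) (.nd (.nd (.lf 0x66f) (.lf 0x10a1)) (.nd (.lf 0x8a7) (.lf 0)))) (.nd (.nd (.nd (.lf 0x16c) (.lf 0xe4c)) (.nd (.lf 0xe0e) (.lf 0))) (.nd (.nd (.lf 0x92c) (.lf 0x17ad)) (.nd (.lf 0xa6a) (.lf 0))))) (.nd (.nd (.nd (.nd (.lf 0xc8) (.lf 0xd44)) (.nd (.lf 0x64a) (.lf 0))) (.nd (.nd (.lf 0x7ce) (.lf 0x11f5)) (.nd (.lf 0x1133) (.lf 0)))) (.nd (.nd (.nd (.lf 0x216) (.lf 0x13f0)) (.nd (.lf 0x7d5) (.lf 0))) (.nd (.nd (.lf 0xa74) (.lf 0x1702))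 (.nd (.lf 0x119e) (.lf 0)))))) (.nd (.nd (.nd (.nd (.nd (.lf 0x12b) (.lf 0xcc0)) (.nd (.lf 0xc56) (.lf 0))) (.nd (.nd (.lf 0x5be) (.lf 0x1137)) (.nd (.lf 0x919) (.lf 0)))) (.nd (.nd (.nd (.lf 0x43c) (.lf 0xed4)) (.nd (.lf 0x771) (.lf 0))) (.nd (.nd (.lf 0x9d6) (.lf 0x1696)) (.nd (.lf 0x12a6) (.lf 0))))) (.nd (.nd (.nd (.nd (.lf 0x2ba) (.lf 0x1515)) (.nd (.lf 0xa7f) (.lf 0))) (.nd (.nd (.lf 0x7f9) (.lf 0x15c1)) (.nd (.lf 0x9f3) (.lf 0)))) (.nd (.nd (.nd (.lf 0x5b8) (.lf 0x100c)) (.nd (.lf 0x9c4) (.lf 0))) (.nd (.nd (.lf 0x532) (.lf 0x17d3)) (.nd (.lf 0xbca) (.lf 0))))))) (.nd (.nd (.nd (.nd (.nd (.nd (.lf 0xc7) (.lf 0x141b)) (.nd (.lf 0x941) (.lf 0))) (.nd (.nd (.lf 0x6cb) (.lf 0x16e0)) (.nd (.lf 0x8e1) (.lf 0)))) (.nd (.nd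 (.nd (.lf 0x196) (.lf 0x1592)) (.nd (.lf 0xde4) (.lf 0))) (.nd (.nd (.lf 0x447) (.lf 0x15d1)) (.nd (.lf 0xb33) (.lf 0))))) (.nd (.nd (.nd (.nd (.lf 0x257) (.lf 0xd83)) (.nd (.lf 0xd35) (.lf 0))) (.nd (.nd (.lf 0x396) (.lf 0x1759)) (.nd (.lf 0x1176) (.lf 0)))) (.nd (.nd (.nd (.lf 0x240) (.lf 0xfc0)) (.nd (.lf 0xf6b) (.lf 0))) (.nd (.nd (.lf 0xace) (.lf 0x1665)) (.nd (.lf 0x134c) (.lf 0)))))) (.nd (.nd (.nd (.nd (.nd (.lf 0x9f) (.lf 0x1038)) (.nd (.lf 0xc91) (.lf 0))) (.nd (.nd (.lf 0x77b) (.lf 0x1197)) (.nd (.lf 0x9b5) (.lf 0)))) (.nd (.nd (.nd (.lf 0x1ea) (.lf 0xf16)) (.nd (.lf 0xee3) (.lf 0))) (.nd (.nd (.lf 0x4a2) (.lf 0x179e)) (.nd (.lf 0x12e3) (.lf 0))))) (.nd (.nd (.nd (.nd (.lf 0x143) (.lf 0xe0a)) (.nd (.lf 0x82e) (.lf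 0))) (.nd (.nd (.lf 0x8d4) (.lf 0x1327)) (.nd (.lf 0x11f3) (.lf 0)))) (.nd (.nd (.nd (.lf 0x616) (.lf 0x1179)) (.nd (.lf 0x874) (.lf 0))) (.nd (.nd (.lf 0xb6e) (.lf 0x1806)) (.nd (.lf 0xc03) (.lf 0))))))))
def tabB_nbbaaaa : Tr := (.nd (.nd (.nd (.nd (.nd (.nd (.nd (.lf 0x7) (.lf 0x120d)) (.nd (.lf 0xb74) (.lf 0x17c3))) (.nd (.nd (.lf 0x620) (.lf 0x1062)) (.nd (.lf 0xffd) (.lf 0)))) (.nd (.nd (.nd (.lf 0x320) (.lf 0xe12)) (.nd (.lf 0x6e0) (.lf 0))) (.nd (.nd (.lf 0x8de) (.lf 0x1794)) (.nd (.lf 0x11fa) (.lf 0))))) (.nd (.nd (.nd (.nd (.lf 0x199) (.lf 0x1491)) (.nd (.lf 0x61e) (.lf 0))) (.nd (.nd (.lf 0x342) (.lf 0x11a3)) (.nd (.lf 0x1105) (.lf 0)))) (.nd (.nd (.nd (.lf 0x4a5) (.lf 0xf1f)) (.nd (.lf 0x7a4) (.lf 0))) (.nd (.nd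 (.lf 0x4a6) (.lf 0x16a8)) (.nd (.lf 0x12e9) (.lf 0)))))) (.nd (.nd (.nd (.nd (.nd (.lf 0xd1) (.lf 0x1422)) (.nd (.lf 0xc11) (.lf 0))) (.nd (.nd (.lf 0x2eb) (.lf 0x10f4)) (.nd (.lf 0x107a) (.lf 0)))) (.nd (.nd (.nd (.lf 0x19a) (.lf 0xe99)) (.nd (.lf 0xe5b) (.lf 0))) (.nd (.nd (.lf 0x986) (.lf 0x13df)) (.nd (.lf 0x1271) (.lf 0))))) (.nd (.nd (.nd (.nd (.lf 0xf5) (.lf 0xd87)) (.nd (.lf 0xc89) (.lf 0))) (.nd (.nd (.lf 0x831) (.lf 0x1757)) (.nd (.lf 0x117d) (.lf 0)))) (.nd (.nd (.nd (.lf 0x3c3) (.lf 0x14da)) (.nd (.lf 0x813) (.lf 0))) (.nd (.nd (.lf 0x502) (.lf 0x161e)) (.nd (.lf 0x1351) (.lf 0))))))) (.nd (.nd (.nd (.nd (.nd (.nd (.lf 0x28) (.lf 0x13ea)) (.nd (.lf 0x590) (.lf 0))) (.nd (.nd (.lf 0x2c2) (.lf 0x16bf)) (.nd (.lf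 0x8ad) (.lf 0)))) (.nd (.nd (.nd (.lf 0x382) (.lf 0x1574)) (.nd (.lf 0xe14) (.lf 0))) (.nd (.nd (.lf 0x934) (.lf 0x1388)) (.nd (.lf 0x1232) (.lf 0))))) (.nd (.nd (.nd (.nd (.lf 0x1fd) (.lf 0xd49)) (.nd (.lf 0x64e) (.lf 0))) (.nd (.nd (.lf 0x7d7) (.lf 0x13c2)) (.nd (.lf 0x113b) (.lf 0)))) (.nd (.nd (.nd (.lf 0x505) (.lf 0x160f)) (.nd (.lf 0x93e) (.lf 0))) (.nd (.nd (.lf 0x734) (.lf 0x1537)) (.nd (.lf 0x1320) (.lf 0)))))) (.nd (.nd (.nd (.nd (.nd (.lf 0x135) (.lf 0x11b1)) (.nd (.lf 0xa93) (.lf 0))) (.nd (.nd (.lf 0x729) (.lf 0x1709)) (.nd (.lf 0x10bf) (.lf 0)))) (.nd (.nd (.nd (.lf 0x445) (.lf 0xfda)) (.nd (.lf 0xea1) (.lf 0))) (.nd (.nd (.lf 0x4d4) (.lf 0x144a)) (.nd (.lf 0x12ad) (.lf 0))))) (.nd (.nd (.nd (.nd (.lf 0x11e)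 (.lf 0xdca)) (.nd (.lf 0xd88) (.lf 0))) (.nd (.nd (.lf 0x888) (.lf 0x1778)) (.nd (.lf 0x9f8) (.lf 0)))) (.nd (.nd (.nd (.lf 0x383) (.lf 0x1015)) (.nd (.lf 0xfb6) (.lf 0))) (.nd (.nd (.lf 0x536) (.lf 0x1803)) (.nd (.lf 0x1380) (.lf 0))))))))
def tabB_nbbaaab : Tr := (.nd (.nd (.nd (.nd (.nd (.nd (.nd (.lf 0x3b) (.lf 0x13cd)) (.nd (.lf 0xb96) (.lf 0))) (.nd (.nd (.lf 0x2ad) (.lf 0x16a7)) (.nd (.lf 0x101b) (.lf 0)))) (.nd (.nd (.nd (.lf 0x350) (.lf 0x138d)) (.nd (.lf 0xded) (.lf 0))) (.nd (.nd (.lf 0x8e3) (.lf 0x135b)) (.nd (.lf 0x1214) (.lf 0))))) (.nd (.nd (.nd (.nd (.lf 0x1cb) (.lf 0xd28)) (.nd (.lf 0x649) (.lf 0))) (.nd (.nd (.lf 0x40d) (.lf 0x11d2)) (.nd (.lf 0xe41) (.lf 0)))) (.nd (.nd (.nd (.lf 0x4d5) (.lf 0x123f)) (.nd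 (.lf 0x7bf) (.lf 0))) (.nd (.nd (.lf 0x5d3) (.lf 0x1654)) (.nd (.lf 0x1307) (.lf 0)))))) (.nd (.nd (.nd (.nd (.nd (.lf 0x104) (.lf 0x1440)) (.nd (.lf 0x81a) (.lf 0))) (.nd (.nd (.lf 0x302) (.lf 0x13f1)) (.nd (.lf 0x904) (.lf 0)))) (.nd (.nd (.nd (.lf 0x413) (.lf 0xeba)) (.nd (.lf 0xe7f) (.lf 0))) (.nd (.nd (.lf 0x461) (.lf 0x1708)) (.nd (.lf 0x128c) (.lf 0))))) (.nd (.nd (.nd (.nd (.lf 0x292) (.lf 0x1503)) (.nd (.lf 0x698) (.lf 0))) (.nd (.nd (.lf 0x648) (.lf 0x1295)) (.nd (.lf 0x9da) (.lf 0)))) (.nd (.nd (.nd (.lf 0x259) (.lf 0x165d)) (.nd (.lf 0x82f) (.lf 0))) (.nd (.nd (.lf 0xaa5) (.lf 0x165a)) (.nd (.lf 0xbac) (.lf 0))))))) (.nd (.nd (.nd (.nd (.nd (.nd (.lf 0x3d) (.lf 0xc69)) (.nd (.lf 0x5a7) (.lf 0))) (.nd (.nd (.lf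 0x6a6) (.lf 0x1149)) (.nd (.lf 0x105b) (.lf 0)))) (.nd (.nd (.nd (.lf 0x3b2) (.lf 0x10bc)) (.nd (.lf 0xe36) (.lf 0))) (.nd (.nd (.lf 0x435) (.lf 0x165f)) (.nd (.lf 0x1249) (.lf 0))))) (.nd (.nd (.nd (.nd (.lf 0xe1) (.lf 0x14dc)) (.nd (.lf 0xd17) (.lf 0))) (.nd (.nd (.lf 0x386) (.lf 0x130c)) (.nd (.lf 0x115c) (.lf 0)))) (.nd (.nd (.nd (.lf 0x22f) (.lf 0x10c0)) (.nd (.lf 0xf4b) (.lf 0))) (.nd (.nd (.lf 0x4ed) (.lf 0x158a)) (.nd (.lf 0xb76) (.lf 0)))))) (.nd (.nd (.nd (.nd (.nd (.lf 0x8e) (.lf 0xce1)) (.nd (.lf 0x623) (.lf 0))) (.nd (.nd (.lf 0x32c) (.lf 0x14e3)) (.nd (.lf 0x10e5) (.lf 0)))) (.nd (.nd (.nd (.lf 0x1d8) (.lf 0xefd)) (.nd (.lf 0xec5) (.lf 0))) (.nd (.nd (.lf 0xa06) (.lf 0x1480)) (.nd (.lf 0xafd) (.lf 0))))) (.nd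 (.nd (.nd (.nd (.lf 0x132) (.lf 0x1530)) (.nd (.lf 0xdac) (.lf 0))) (.nd (.nd (.lf 0x3db) (.lf 0x12fb)) (.nd (.lf 0xa1c) (.lf 0)))) (.nd (.nd (.nd (.lf 0x284) (.lf 0x141e)) (.nd (.lf 0x860) (.lf 0))) (.nd (.nd (.lf 0xb4e) (.lf 0x17d8)) (.nd (.lf 0x1396) (.lf 0))))))))
def tabB_nbbaaba : Tr := (.nd (.nd (.nd (.nd (.nd (.nd (.nd (.lf 0x21) (.lf 0x13c0)) (.nd (.lf 0xb83) (.lf 0))) (.nd (.nd (.lf 0x2a3) (.lf 0x1077)) (.nd (.lf 0x885) (.lf 0)))) (.nd (.nd (.nd (.lf 0x338) (.lf 0x1556)) (.nd (.lf 0xddd) (.lf 0))) (.nd (.nd (.lf 0x8f5) (.lf 0x15c0)) (.nd (.lf 0x1204) (.lf 0))))) (.nd (.nd (.nd (.nd (.lf 0x1b2) (.lf 0x149d)) (.nd (.lf 0x629) (.lf 0))) (.nd (.nd (.lf 0x799) (.lf 0x1236)) (.nd (.lf 0x1112) (.lf 0)))) (.nd (.nd (.nd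 (.lf 0x4bc) (.lf 0x1536)) (.nd (.lf 0xb04) (.lf 0))) (.nd (.nd (.lf 0xa40) (.lf 0x14d1)) (.nd (.lf 0x12fa) (.lf 0)))))) (.nd (.nd (.nd (.nd (.nd (.lf 0xeb) (.lf 0x11c4)) (.nd (.lf 0xc26) (.lf 0))) (.nd (.nd (.lf 0x6e8) (.lf 0x1106)) (.nd (.lf 0x8f4) (.lf 0)))) (.nd (.nd (.nd (.lf 0x3fa) (.lf 0xeaa)) (.nd (.lf 0x8c3) (.lf 0))) (.nd (.nd (.lf 0x99b) (.lf 0x1693)) (.nd (.lf 0xab8) (.lf 0))))) (.nd (.nd (.nd (.nd (.lf 0x278) (.lf 0xd98)) (.nd (.lf 0xd4e) (.lf 0))) (.nd (.nd (.lf 0x848) (.lf 0x1280)) (.nd (.lf 0x118d) (.lf 0)))) (.nd (.nd (.nd (.lf 0x24e) (.lf 0x164e)) (.nd (.lf 0xf87) (.lf 0))) (.nd (.nd (.lf 0x51f) (.lf 0x1638)) (.nd (.lf 0x1332) (.lf 0))))))) (.nd (.nd (.nd (.nd (.nd (.nd (.lf 0x32) (.lf 0x1053)) (.nd (.lf 0x59b)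 (.lf 0))) (.nd (.nd (.lf 0x690) (.lf 0x163a)) (.nd (.lf 0xfd6) (.lf 0)))) (.nd (.nd (.nd (.lf 0x399) (.lf 0x1429)) (.nd (.lf 0xd4b) (.lf 0))) (.nd (.nd (.lf 0x42b) (.lf 0x139a)) (.nd (.lf 0xa7c) (.lf 0))))) (.nd (.nd (.nd (.nd (.lf 0xd7) (.lf 0x14cf)) (.nd (.lf 0xd04) (.lf 0))) (.nd (.nd (.lf 0x7ee) (.lf 0x153e)) (.nd (.lf 0x114e) (.lf 0)))) (.nd (.nd (.nd (.lf 0x225) (.lf 0x161a)) (.nd (.lf 0xf3c) (.lf 0))) (.nd (.nd (.lf 0xa94) (.lf 0x1781)) (.nd (.lf 0x1190) (.lf 0)))))) (.nd (.nd (.nd (.nd (.nd (.lf 0x14d) (.lf 0xcd4)) (.nd (.lf 0xc6e) (.lf 0))) (.nd (.nd (.lf 0x322) (.lf 0x144c)) (.nd (.lf 0x92b) (.lf 0)))) (.nd (.nd (.nd (.lf 0x1ce) (.lf 0x14d8)) (.nd (.lf 0x781) (.lf 0))) (.nd (.nd (.lf 0x9f2) (.lf 0x1468)) (.nd (.lf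 0xaec) (.lf 0))))) (.nd (.nd (.nd (.nd (.lf 0x2db) (.lf 0xdd9)) (.nd (.lf 0x8bb) (.lf 0))) (.nd (.nd (.lf 0x723) (.lf 0x164d)) (.nd (.lf 0x11ce) (.lf 0)))) (.nd (.nd (.nd (.lf 0x5d5) (.lf 0x167c)) (.nd (.lf 0x852) (.lf 0))) (.nd (.nd (.lf 0x540) (.lf 0x17bd)) (.nd (.lf 0x1389) (.lf 0))))))))
def tabB_nbbaabb : Tr := (.nd (.nd (.nd (.nd (.nd (.nd (.nd (.lf 0x1e) (.lf 0x13dd)) (.nd (.lf 0x584) (.lf 0))) (.nd (.nd (.lf 0x2b7) (.lf 0x1289)) (.nd (.lf 0x89f) (.lf 0)))) (.nd (.nd (.nd (.lf 0x369) (.lf 0x156c)) (.nd (.lf 0x709) (.lf 0))) (.nd (.nd (.lf 0x91d) (.lf 0x136b)) (.nd (.lf 0x1224) (.lf 0))))) (.nd (.nd (.nd (.nd (.lf 0xc2) (.lf 0xd3d)) (.nd (.lf 0xcdd) (.lf 0))) (.nd (.nd (.lf 0x362) (.lf 0x1741)) (.nd (.lf 0x1036) (.lf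 0)))) (.nd (.nd (.nd (.lf 0x210) (.lf 0xfc7)) (.nd (.lf 0xe7d) (.lf 0))) (.nd (.nd (.lf 0x4cb) (.lf 0x15f5)) (.nd (.lf 0x1317) (.lf 0)))))) (.nd (.nd (.nd (.nd (.nd (.lf 0x70) (.lf 0xcb9)) (.nd (.lf 0xc4a) (.lf 0))) (.nd (.nd (.lf 0x714) (.lf 0x152b)) (.nd (.lf 0x90f) (.lf 0)))) (.nd (.nd (.nd (.lf 0x42c) (.lf 0x15b9)) (.nd (.lf 0x76a) (.lf 0))) (.nd (.nd (.lf 0x8a0) (.lf 0x1430)) (.nd (.lf 0x129e) (.lf 0))))) (.nd (.nd (.nd (.nd (.lf 0x2ac) (.lf 0xdba)) (.nd (.lf 0xc4d) (.lf 0))) (.nd (.nd (.lf 0x873) (.lf 0x12a9)) (.nd (.lf 0xb19) (.lf 0)))) (.nd (.nd (.nd (.lf 0x5a9) (.lf 0x1005)) (.nd (.lf 0xfaa) (.lf 0))) (.nd (.nd (.lf 0xb15) (.lf 0x1651)) (.nd (.lf 0xbbe) (.lf 0))))))) (.nd (.nd (.nd (.nd (.nd (.nd (.lf 0xb8) (.lf 0xc7c))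 (.nd (.lf 0x5b3) (.lf 0))) (.nd (.nd (.lf 0x47b) (.lf 0x16da)) (.nd (.lf 0x8d8) (.lf 0)))) (.nd (.nd (.nd (.lf 0x18f) (.lf 0xe85)) (.nd (.lf 0xe48) (.lf 0))) (.nd (.nd (.lf 0x440) (.lf 0x153b)) (.nd (.lf 0x112c) (.lf 0))))) (.nd (.nd (.nd (.nd (.lf 0x247) (.lf 0xd7b)) (.nd (.lf 0xd2b) (.lf 0))) (.nd (.nd (.lf 0x5c7) (.lf 0x1276)) (.nd (.lf 0x9b1) (.lf 0)))) (.nd (.nd (.nd (.lf 0x547) (.lf 0x1639)) (.nd (.lf 0xf5f) (.lf 0))) (.nd (.nd (.lf 0xac1) (.lf 0x15ba)) (.nd (.lf 0x103a) (.lf 0)))))) (.nd (.nd (.nd (.nd (.nd (.lf 0x98) (.lf 0x1482)) (.nd (.lf 0x612) (.lf 0))) (.nd (.nd (.lf 0x337) (.lf 0x1722)) (.nd (.lf 0x946) (.lf 0)))) (.nd (.nd (.nd (.lf 0x1e4) (.lf 0x152f)) (.nd (.lf 0xaf3) (.lf 0))) (.nd (.nd (.lf 0xa1b) (.lf 0x17a1))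 (.nd (.lf 0xb0a) (.lf 0))))) (.nd (.nd (.nd (.nd (.lf 0x13c) (.lf 0xdfd)) (.nd (.lf 0xdbd) (.lf 0))) (.nd (.nd (.lf 0x8c5) (.lf 0x16f4)) (.nd (.lf 0x11e8) (.lf 0)))) (.nd (.nd (.nd (.lf 0x607) (.lf 0x104f)) (.nd (.lf 0x86c) (.lf 0))) (.nd (.nd (.lf 0x624) (.lf 0x1754)) (.nd (.lf 0xbfc) (.lf 0))))))))
def tabB_nbbabaa : Tr := (.nd (.nd (.nd (.nd (.nd (.nd (.nd (.lf 0x14) (.lf 0x13bb)) (.nd (.lf 0xb7a) (.lf 0x180b))) (.nd (.nd (.lf 0x29e) (.lf 0x169b)) (.nd (.lf 0x880) (.lf 0)))) (.nd (.nd (.nd (.lf 0x32b) (.lf 0x127f)) (.nd (.lf 0xdd6) (.lf 0))) (.nd (.nd (.lf 0x895) (.lf 0x133e)) (.nd (.lf 0x11fe) (.lf 0))))) (.nd (.nd (.nd (.nd (.lf 0xa7) (.lf 0xd0b)) (.nd (.lf 0xcad) (.lf 0))) (.nd (.nd (.lf 0x78d) (.lf 0x172a)) (.nd (.lf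 0x110b) (.lf 0)))) (.nd (.nd (.nd (.lf 0x1f4) (.lf 0xf27)) (.nd (.lf 0x7ab) (.lf 0))) (.nd (.nd (.lf 0xa36) (.lf 0x15d5)) (.nd (.lf 0xb21) (.lf 0)))))) (.nd (.nd (.nd (.nd (.nd (.lf 0xde) (.lf 0x11ae)) (.nd (.lf 0xc1b) (.lf 0))) (.nd (.nd (.lf 0x6de) (.lf 0x131c)) (.nd (.lf 0x1081) (.lf 0)))) (.nd (.nd (.nd (.lf 0x3ed) (.lf 0x1551)) (.nd (.lf 0xe62) (.lf 0))) (.nd (.nd (.lf 0x8d5) (.lf 0x159d)) (.nd (.lf 0xab0) (.lf 0))))) (.nd (.nd (.nd (.nd (.lf 0x26d) (.lf 0xd92)) (.nd (.lf 0x686) (.lf 0))) (.nd (.nd (.lf 0x83c) (.lf 0x1765)) (.nd (.lf 0x9c6) (.lf 0)))) (.nd (.nd (.nd (.lf 0x56c) (.lf 0x1647)) (.nd (.lf 0x98c) (.lf 0))) (.nd (.nd (.lf 0xae1) (.lf 0x1646)) (.nd (.lf 0xf38) (.lf 0))))))) (.nd (.nd (.nd (.nd (.nd (.nd (.lf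 0x2d) (.lf 0xf29)) (.nd (.lf 0xbc8) (.lf 0))) (.nd (.nd (.lf 0x684) (.lf 0x1481)) (.nd (.lf 0x103f) (.lf 0)))) (.nd (.nd (.nd (.lf 0x38e) (.lf 0xe5a)) (.nd (.lf 0x71b) (.lf 0))) (.nd (.nd (.lf 0x93f) (.lf 0x1390)) (.nd (.lf 0xa75) (.lf 0))))) (.nd (.nd (.nd (.nd (.lf 0xd2) (.lf 0xd51)) (.nd (.lf 0x655) (.lf 0))) (.nd (.nd (.lf 0x7e4) (.lf 0x154b)) (.nd (.lf 0xa53) (.lf 0)))) (.nd (.nd (.nd (.lf 0x511) (.lf 0x117c)) (.nd (.lf 0x7e0) (.lf 0))) (.nd (.nd (.lf 0xa89) (.lf 0x17f1)) (.nd (.lf 0xb63) (.lf 0)))))) (.nd (.nd (.nd (.nd (.nd (.lf 0x142) (.lf 0x145f)) (.nd (.lf 0x615) (.lf 0))) (.nd (.nd (.lf 0x733) (.lf 0x1671)) (.nd (.lf 0x926) (.lf 0)))) (.nd (.nd (.nd (.lf 0x1c9) (.lf 0x15c8)) (.nd (.lf 0xeac) (.lf 0))) (.nd (.nd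 (.lf 0x47d) (.lf 0x145b)) (.nd (.lf 0xae7) (.lf 0))))) (.nd (.nd (.nd (.nd (.lf 0x123) (.lf 0x1520)) (.nd (.lf 0x834) (.lf 0))) (.nd (.nd (.lf 0x3cb) (.lf 0x177c)) (.nd (.lf 0x9fe) (.lf 0)))) (.nd (.nd (.nd (.lf 0x5cb) (.lf 0x1021)) (.nd (.lf 0x84d) (.lf 0))) (.nd (.nd (.lf 0x7b7) (.lf 0x17c5)) (.nd (.lf 0xbd4) (.lf 0))))))))
def tabB_nbbabab : Tr := (.nd (.nd (.nd (.nd (.nd (.nd (.nd (.lf 0x48) (.lf 0xc37)) (.nd (.lf 0x57f) (.lf 0))) (.nd (.nd (.lf 0x653) (.lf 0x16b0)) (.nd (.lf 0xb3b) (.lf 0)))) (.nd (.nd (.nd (.lf 0x35d) (.lf 0xfef)) (.nd (.lf 0x702) (.lf 0))) (.nd (.nd (.lf 0x916) (.lf 0x16c5)) (.nd (.lf 0xa5a) (.lf 0))))) (.nd (.nd (.nd (.nd (.lf 0xbd) (.lf 0x14b1)) (.nd (.lf 0xcd3) (.lf 0))) (.nd (.nd (.lf 0x7b6) (.lf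 0x14b3)) (.nd (.lf 0x973) (.lf 0)))) (.nd (.nd (.nd (.lf 0x20b) (.lf 0x12ed)) (.nd (.lf 0x7c5) (.lf 0))) (.nd (.nd (.lf 0x4c4) (.lf 0x1764)) (.nd (.lf 0x130f) (.lf 0)))))) (.nd (.nd (.nd (.nd (.nd (.lf 0x10f) (.lf 0xfe8)) (.nd (.lf 0xc42) (.lf 0))) (.nd (.nd (.lf 0x307) (.lf 0x1126)) (.nd (.lf 0x90a) (.lf 0)))) (.nd (.nd (.nd (.lf 0x420) (.lf 0x15b4)) (.nd (.lf 0x764) (.lf 0))) (.nd (.nd (.lf 0x466) (.lf 0x1427)) (.nd (.lf 0xb46) (.lf 0))))) (.nd (.nd (.nd (.nd (.lf 0x29f) (.lf 0xfb5)) (.nd (.lf 0xd6c) (.lf 0))) (.nd (.nd (.lf 0x3b4) (.lf 0x129f)) (.nd (.lf 0x9e1) (.lf 0)))) (.nd (.nd (.nd (.lf 0x59d) (.lf 0x1664)) (.nd (.lf 0xfa1) (.lf 0))) (.nd (.nd (.lf 0xb0b) (.lf 0x178e)) (.nd (.lf 0xbb5) (.lf 0))))))) (.nd (.nd (.nd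 (.nd (.nd (.nd (.lf 0x42) (.lf 0xeda)) (.nd (.lf 0xbf2) (.lf 0))) (.nd (.nd (.lf 0x6b2) (.lf 0x1475)) (.nd (.lf 0x1065) (.lf 0)))) (.nd (.nd (.nd (.lf 0x18a) (.lf 0x14af)) (.nd (.lf 0x737) (.lf 0))) (.nd (.nd (.lf 0x43a) (.lf 0x16cf)) (.nd (.lf 0x1259) (.lf 0))))) (.nd (.nd (.nd (.nd (.lf 0x23b) (.lf 0x14e0)) (.nd (.lf 0xd21) (.lf 0))) (.nd (.nd (.lf 0x80d) (.lf 0x15a2)) (.nd (.lf 0x1160) (.lf 0)))) (.nd (.nd (.nd (.lf 0x234) (.lf 0x1633)) (.nd (.lf 0x7fb) (.lf 0))) (.nd (.nd (.lf 0x4f2) (.lf 0x1598)) (.nd (.lf 0xb7d) (.lf 0)))))) (.nd (.nd (.nd (.nd (.nd (.lf 0x93) (.lf 0xcea)) (.nd (.lf 0x60d) (.lf 0))) (.nd (.nd (.lf 0x760) (.lf 0x171e)) (.nd (.lf 0x940) (.lf 0)))) (.nd (.nd (.nd (.lf 0x483) (.lf 0xf04)) (.nd (.lf 0xed1)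 (.lf 0))) (.nd (.nd (.lf 0x495) (.lf 0x148f)) (.nd (.lf 0x1139) (.lf 0))))) (.nd (.nd (.nd (.nd (.lf 0x137) (.lf 0xdf7)) (.nd (.lf 0x6cf) (.lf 0))) (.nd (.nd (.lf 0x3e0) (.lf 0x1304)) (.nd (.lf 0xa22) (.lf 0)))) (.nd (.nd (.nd (.lf 0x5fc) (.lf 0x1045)) (.nd (.lf 0xe7e) (.lf 0))) (.nd (.nd (.lf 0x550) (.lf 0x17e4)) (.nd (.lf 0x139f) (.lf 0))))))))
def tabB_nbbabba : Tr := (.nd (.nd (.nd (.nd (.nd (.nd (.nd (.lf 0x2e) (.lf 0xc23)) (.nd (.lf 0x574) (.lf 0))) (.nd (.nd (.lf 0x2a8) (.lf 0x107d)) (.nd (.lf 0x88b) (.lf 0)))) (.nd (.nd (.nd (.lf 0x344) (.lf 0xe2c)) (.nd (.lf 0x6f3) (.lf 0))) (.nd (.nd (.lf 0x400) (.lf 0x13d1)) (.nd (.lf 0xa49) (.lf 0))))) (.nd (.nd (.nd (.nd (.lf 0x1be) (.lf 0xd1c)) (.nd (.lf 0xc0e) (.lf 0))) (.nd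 (.nd (.lf 0x352) (.lf 0x11c5)) (.nd (.lf 0x966) (.lf 0)))) (.nd (.nd (.nd (.lf 0x1fe) (.lf 0x12a4)) (.nd (.lf 0x7b8) (.lf 0))) (.nd (.nd (.lf 0xa4b) (.lf 0x17e9)) (.nd (.lf 0xbba) (.lf 0)))))) (.nd (.nd (.nd (.nd (.nd (.lf 0x60) (.lf 0xfcd)) (.nd (.lf 0xc2f) (.lf 0))) (.nd (.nd (.lf 0x6f4) (.lf 0x151f)) (.nd (.lf 0x1096) (.lf 0)))) (.nd (.nd (.nd (.lf 0x406) (.lf 0x12c7)) (.nd (.lf 0x758) (.lf 0))) (.nd (.nd (.lf 0x9a8) (.lf 0x140b)) (.nd (.lf 0x125c) (.lf 0))))) (.nd (.nd (.nd (.nd (.lf 0x285) (.lf 0xdc8)) (.nd (.lf 0x693) (.lf 0))) (.nd (.nd (.lf 0x853) (.lf 0x15f9)) (.nd (.lf 0x1198) (.lf 0)))) (.nd (.nd (.nd (.lf 0x254) (.lf 0x1655)) (.nd (.lf 0xf90) (.lf 0))) (.nd (.nd (.lf 0xaf6) (.lf 0x1762)) (.nd (.lf 0xba7) (.lf 0)))))))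 (.nd (.nd (.nd (.nd (.nd (.nd (.lf 0x92) (.lf 0xc63)) (.nd (.lf 0x5a1) (.lf 0))) (.nd (.nd (.lf 0x699) (.lf 0x16cb)) (.nd (.lf 0x1050) (.lf 0)))) (.nd (.nd (.nd (.lf 0x3a6) (.lf 0xe6c)) (.nd (.lf 0x728) (.lf 0))) (.nd (.nd (.lf 0x430) (.lf 0x175c)) (.nd (.lf 0xa83) (.lf 0))))) (.nd (.nd (.nd (.nd (.lf 0x222) (.lf 0xd62)) (.nd (.lf 0xd0c) (.lf 0))) (.nd (.nd (.lf 0x7f6) (.lf 0x1656)) (.nd (.lf 0x1156) (.lf 0)))) (.nd (.nd (.nd (.lf 0x22a) (.lf 0x1623)) (.nd (.lf 0x98d) (.lf 0))) (.nd (.nd (.lf 0x4e8) (.lf 0x1581)) (.nd (.lf 0xb6f) (.lf 0)))))) (.nd (.nd (.nd (.nd (.nd (.lf 0x15a) (.lf 0xcda)) (.nd (.lf 0xc77) (.lf 0))) (.nd (.nd (.lf 0x74a) (.lf 0x1717)) (.nd (.lf 0x930) (.lf 0)))) (.nd (.nd (.nd (.lf 0x1d3) (.lf 0x15a7)) (.nd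 (.lf 0xeb9) (.lf 0))) (.nd (.nd (.lf 0x489) (.lf 0x17ba)) (.nd (.lf 0xaf5) (.lf 0))))) (.nd (.nd (.nd (.nd (.lf 0x248) (.lf 0xde1)) (.nd (.lf 0x6c2) (.lf 0))) (.nd (.nd (.lf 0x8a6) (.lf 0x12ec)) (.nd (.lf 0xa11) (.lf 0)))) (.nd (.nd (.nd (.lf 0x5e3) (.lf 0x1344)) (.nd (.lf 0x8cf) (.lf 0))) (.nd (.nd (.lf 0xb44) (.lf 0x17f8)) (.nd (.lf 0xbe6) (.lf 0))))))))
def tabB_nbbabbb : Tr := (.nd (.nd (.nd (.nd (.nd (.nd (.nd (.lf 0x23) (.lf 0xc48)) (.nd (.lf 0xbb1) (.lf 0))) (.nd (.nd (.lf 0x66c) (.lf 0x1394)) (.nd (.lf 0x8a5) (.lf 0)))) (.nd (.nd (.nd (.lf 0x16b) (.lf 0xe4a)) (.nd (.lf 0x70e) (.lf 0))) (.nd (.nd (.lf 0x929) (.lf 0x17ac)) (.nd (.lf 0xa68) (.lf 0))))) (.nd (.nd (.nd (.nd (.lf 0x1f1) (.lf 0xd43)) (.nd (.lf 0xce7) (.lf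 0))) (.nd (.nd (.lf 0x7ca) (.lf 0x1673)) (.nd (.lf 0xc3a) (.lf 0)))) (.nd (.nd (.nd (.lf 0x215) (.lf 0xf65)) (.nd (.lf 0xc2b) (.lf 0))) (.nd (.nd (.lf 0x4d0) (.lf 0x1547)) (.nd (.lf 0xe1a) (.lf 0)))))) (.nd (.nd (.nd (.nd (.nd (.lf 0x128) (.lf 0xcbf)) (.nd (.lf 0x9d3) (.lf 0))) (.nd (.nd (.lf 0x720) (.lf 0x119a)) (.nd (.lf 0x10b6) (.lf 0)))) (.nd (.nd (.nd (.lf 0x439) (.lf 0x15be)) (.nd (.lf 0xbe2) (.lf 0))) (.nd (.nd (.lf 0x472) (.lf 0x143f)) (.nd (.lf 0xadc) (.lf 0))))) (.nd (.nd (.nd (.nd (.lf 0x119) (.lf 0x13a6)) (.nd (.lf 0x6aa) (.lf 0))) (.nd (.nd (.lf 0x87f) (.lf 0x1555)) (.nd (.lf 0x11b4) (.lf 0)))) (.nd (.nd (.nd (.lf 0x5b5) (.lf 0x100b)) (.nd (.lf 0x842) (.lf 0))) (.nd (.nd (.lf 0x530) (.lf 0x16bc)) (.nd (.lf 0xbc9)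 (.lf 0))))))) (.nd (.nd (.nd (.nd (.nd (.nd (.lf 0xc4) (.lf 0x1417)) (.nd (.lf 0xc06) (.lf 0))) (.nd (.nd (.lf 0x473) (.lf 0x1519)) (.nd (.lf 0x8df) (.lf 0)))) (.nd (.nd (.nd (.lf 0x195) (.lf 0x120f)) (.nd (.lf 0x741) (.lf 0))) (.nd (.nd (.lf 0x446) (.lf 0x17c1)) (.nd (.lf 0x1269) (.lf 0))))) (.nd (.nd (.nd (.nd (.lf 0xf0) (.lf 0x105a)) (.nd (.lf 0x89a) (.lf 0))) (.nd (.nd (.lf 0x825) (.lf 0x1258)) (.nd (.lf 0x1173) (.lf 0)))) (.nd (.nd (.nd (.lf 0x23f) (.lf 0xfbf)) (.nd (.lf 0xf69) (.lf 0))) (.nd (.nd (.lf 0x4fd) (.lf 0x15c7)) (.nd (.lf 0xf1a) (.lf 0)))))) (.nd (.nd (.nd (.nd (.nd (.lf 0x18c) (.lf 0xcfa)) (.nd (.lf 0x809) (.lf 0))) (.nd (.nd (.lf 0x778) (.lf 0x1458)) (.nd (.lf 0x94c) (.lf 0)))) (.nd (.nd (.nd (.lf 0x49a)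 (.lf 0x15e3)) (.nd (.lf 0x79f) (.lf 0))) (.nd (.nd (.lf 0x4a1) (.lf 0x1726)) (.nd (.lf 0x1238) (.lf 0))))) (.nd (.nd (.nd (.nd (.lf 0x316) (.lf 0x1544)) (.nd (.lf 0xdc7) (.lf 0))) (.nd (.nd (.lf 0x8d1) (.lf 0x15d9)) (.nd (.lf 0x11f1) (.lf 0)))) (.nd (.nd (.nd (.lf 0x614) (.lf 0x1057)) (.nd (.lf 0xff2) (.lf 0))) (.nd (.nd (.lf 0xb6b) (.lf 0x1799)) (.nd (.lf 0xc02) (.lf 0))))))))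
def tabB_nbbbaaa : Tr := (.nd (.nd (.nd (.nd (.nd (.nd (.nd (.lf 0x3) (.lf 0x13b6)) (.nd (.lf 0xafc) (.lf 0x1807))) (.nd (.nd (.lf 0x625) (.lf 0x1657)) (.nd (.lf 0xffe) (.lf 0)))) (.nd (.nd (.nd (.lf 0x325) (.lf 0x13a4)) (.nd (.lf 0x9d5) (.lf 0))) (.nd (.nd (.lf 0x3f3) (.lf 0x1338)) (.nd (.lf 0xd05) (.lf 0))))) (.nd (.nd (.nd (.nd (.lf 0x19f) (.lf 0x1247)) (.nd (.lf 0xca7) (.lf 0))) (.nd (.nd (.lf 0x787) (.lf 0x11a8)) (.nd (.lf 0x1048) (.lf 0)))) (.nd (.nd (.nd (.lf 0x4ab) (.lf 0xf23)) (.nd (.lf 0xeee) (.lf 0))) (.nd (.nd (.lf 0xa31) (.lf 0x14ba)) (.nd (.lf 0x12ef) (.lf 0)))))) (.nd (.nd (.nd (.nd (.nd (.lf 0x54) (.lf 0xc8f)) (.nd (.lf 0xc15) (.lf 0))) (.nd (.nd (.lf 0x6d8) (.lf 0x10fc)) (.nd (.lf 0x8ea) (.lf 0)))) (.nd (.nd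 (.nd (.lf 0x3e8) (.lf 0xe9d)) (.nd (.lf 0xc8d) (.lf 0))) (.nd (.nd (.lf 0x44d) (.lf 0x1687)) (.nd (.lf 0xaac) (.lf 0))))) (.nd (.nd (.nd (.nd (.lf 0x267) (.lf 0xd8c)) (.nd (.lf 0x987) (.lf 0))) (.nd (.nd (.lf 0x39d) (.lf 0x1268)) (.nd (.lf 0x1183) (.lf 0)))) (.nd (.nd (.nd (.lf 0x246) (.lf 0x1316)) (.nd (.lf 0xf78) (.lf 0))) (.nd (.nd (.lf 0x507) (.lf 0x16b8)) (.nd (.lf 0xb93) (.lf 0))))))) (.nd (.nd (.nd (.nd (.nd (.nd (.lf 0x72) (.lf 0x1237)) (.nd (.lf 0xbc1) (.lf 0))) (.nd (.nd (.lf 0x67d) (.lf 0x10ac)) (.nd (.lf 0x8b1) (.lf 0)))) (.nd (.nd (.nd (.lf 0x173) (.lf 0x1107)) (.nd (.lf 0x718) (.lf 0))) (.nd (.nd (.lf 0x422) (.lf 0x138b)) (.nd (.lf 0xc50) (.lf 0))))) (.nd (.nd (.nd (.nd (.lf 0xcf) (.lf 0xdb1)) (.nd (.lf 0x652)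 (.lf 0))) (.nd (.nd (.lf 0x373) (.lf 0x173b)) (.nd (.lf 0x1141) (.lf 0)))) (.nd (.nd (.nd (.lf 0x21d) (.lf 0xf77)) (.nd (.lf 0x806) (.lf 0))) (.nd (.nd (.lf 0x4d9) (.lf 0x1546)) (.nd (.lf 0x1324) (.lf 0)))))) (.nd (.nd (.nd (.nd (.nd (.lf 0x7d) (.lf 0x145d)) (.nd (.lf 0x5f4) (.lf 0))) (.nd (.nd (.lf 0x31a) (.lf 0x1148)) (.nd (.lf 0x10c4) (.lf 0)))) (.nd (.nd (.nd (.lf 0x1c6) (.lf 0x129b)) (.nd (.lf 0xea7) (.lf 0))) (.nd (.nd (.lf 0x47a) (.lf 0x17d4)) (.nd (.lf 0x12b2) (.lf 0))))) (.nd (.nd (.nd (.nd (.lf 0x2c9) (.lf 0x151d)) (.nd (.lf 0xd8d) (.lf 0))) (.nd (.nd (.lf 0x573) (.lf 0x177b)) (.nd (.lf 0x9fb) (.lf 0)))) (.nd (.nd (.nd (.lf 0x5c5) (.lf 0x15d4)) (.nd (.lf 0xfba) (.lf 0))) (.nd (.nd (.lf 0x539) (.lf 0x176c)) (.nd (.lf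 0x1333) (.lf 0))))))))
def tabB_nbbbaab : Tr := (.nd (.nd (.nd (.nd (.nd (.nd (.nd (.lf 0x41) (.lf 0x1027)) (.nd (.lf 0x5cc) (.lf 0))) (.nd (.nd (.lf 0x2b0) (.lf 0x16ab)) (.nd (.lf 0xa66) (.lf 0)))) (.nd (.nd (.nd (.lf 0x15e) (.lf 0xe77)) (.nd (.lf 0xdf2) (.lf 0))) (.nd (.nd (.lf 0x408) (.lf 0x1360)) (.nd (.lf 0xa57) (.lf 0))))) (.nd (.nd (.nd (.nd (.lf 0x1d2) (.lf 0xd2a)) (.nd (.lf 0x63a) (.lf 0))) (.nd (.nd (.lf 0x35a) (.lf 0x11d7)) (.nd (.lf 0x970) (.lf 0)))) (.nd (.nd (.nd (.lf 0x208) (.lf 0x15fd)) (.nd (.lf 0x7c2) (.lf 0))) (.nd (.nd (.lf 0xa59) (.lf 0x1504)) (.nd (.lf 0x130b) (.lf 0)))))) (.nd (.nd (.nd (.nd (.nd (.lf 0x10b) (.lf 0xcaa)) (.nd (.lf 0xc3d) (.lf 0))) (.nd (.nd (.lf 0x677) (.lf 0x16f8)) (.nd (.lf 0x907)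 (.lf 0)))) (.nd (.nd (.nd (.lf 0x419) (.lf 0x1405)) (.nd (.lf 0x761) (.lf 0))) (.nd (.nd (.lf 0x9b7) (.lf 0x1423)) (.nd (.lf 0xac7) (.lf 0))))) (.nd (.nd (.nd (.nd (.lf 0x299) (.lf 0xda8)) (.nd (.lf 0xd67) (.lf 0))) (.nd (.nd (.lf 0x863) (.lf 0x12db)) (.nd (.lf 0x11a5) (.lf 0)))) (.nd (.nd (.nd (.lf 0x597) (.lf 0xff5)) (.nd (.lf 0xf9b) (.lf 0))) (.nd (.nd (.lf 0x8f2) (.lf 0x1630)) (.nd (.lf 0xc9c) (.lf 0))))))) (.nd (.nd (.nd (.nd (.nd (.nd (.lf 0xa5) (.lf 0x140a)) (.nd (.lf 0xbc0) (.lf 0))) (.nd (.nd (.lf 0x2d9) (.lf 0x10d4)) (.nd (.lf 0x1061) (.lf 0)))) (.nd (.nd (.nd (.lf 0x187) (.lf 0x1585)) (.nd (.lf 0x732) (.lf 0))) (.nd (.nd (.lf 0x962) (.lf 0x177e)) (.nd (.lf 0xa8f) (.lf 0))))) (.nd (.nd (.nd (.nd (.lf 0x235) (.lf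 0xd72)) (.nd (.lf 0xd1d) (.lf 0))) (.nd (.nd (.lf 0x808) (.lf 0x1484)) (.nd (.lf 0x9a7) (.lf 0)))) (.nd (.nd (.nd (.lf 0x53a) (.lf 0xfa4)) (.nd (.lf 0xf50) (.lf 0))) (.nd (.nd (.lf 0x4ef) (.lf 0x17e0)) (.nd (.lf 0xbd1) (.lf 0)))))) (.nd (.nd (.nd (.nd (.nd (.lf 0x16d) (.lf 0x1477)) (.nd (.lf 0x609) (.lf 0))) (.nd (.nd (.lf 0x759) (.lf 0x11a6)) (.nd (.lf 0x93b) (.lf 0)))) (.nd (.nd (.nd (.lf 0x47c) (.lf 0xf01)) (.nd (.lf 0xecb) (.lf 0))) (.nd (.nd (.lf 0xa0c) (.lf 0x1777)) (.nd (.lf 0xd5a) (.lf 0))))) (.nd (.nd (.nd (.nd (.lf 0x2f8) (.lf 0x10f6)) (.nd (.lf 0xdb0) (.lf 0))) (.nd (.nd (.lf 0x8b5) (.lf 0x149e)) (.nd (.lf 0x11df) (.lf 0)))) (.nd (.nd (.nd (.lf 0x5f5) (.lf 0x1680)) (.nd (.lf 0xfdd) (.lf 0))) (.nd (.nd (.lf 0xb54)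 (.lf 0x170c)) (.nd (.lf 0xbf0) (.lf 0))))))))
def tabB_nbbbaba : Tr := (.nd (.nd (.nd (.nd (.nd (.nd (.nd (.lf 0xd) (.lf 0x13c4)) (.nd (.lf 0x571) (.lf 0))) (.nd (.nd (.lf 0x63c) (.lf 0x107b)) (.nd (.lf 0x100d) (.lf 0)))) (.nd (.nd (.nd (.lf 0x154) (.lf 0x1559)) (.nd (.lf 0xa0e) (.lf 0))) (.nd (.nd (.lf 0x8f9) (.lf 0x179d)) (.nd (.lf 0xa46) (.lf 0))))) (.nd (.nd (.nd (.nd (.lf 0x1b8) (.lf 0xf40)) (.nd (.lf 0x9ba) (.lf 0))) (.nd (.nd (.lf 0x79e) (.lf 0x11ed)) (.nd (.lf 0x963) (.lf 0)))) (.nd (.nd (.nd (.lf 0x4c2) (.lf 0xf33)) (.nd (.lf 0x7b4) (.lf 0))) (.nd (.nd (.lf 0xa45) (.lf 0x14db)) (.nd (.lf 0xb2c) (.lf 0)))))) (.nd (.nd (.nd (.nd (.nd (.lf 0xf1) (.lf 0x1434)) (.nd (.lf 0xc2c) (.lf 0))) (.nd (.nd (.lf 0x2f9) (.lf 0x120a))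 (.nd (.lf 0xc61) (.lf 0)))) (.nd (.nd (.nd (.lf 0x1a6) (.lf 0xead)) (.nd (.lf 0x755) (.lf 0))) (.nd (.nd (.lf 0x9a1) (.lf 0x1401)) (.nd (.lf 0xde2) (.lf 0))))) (.nd (.nd (.nd (.nd (.lf 0x102) (.lf 0x14fd)) (.nd (.lf 0x841) (.lf 0))) (.nd (.nd (.lf 0x3a7) (.lf 0x1285)) (.nd (.lf 0x9d0) (.lf 0)))) (.nd (.nd (.nd (.lf 0x251) (.lf 0x126d)) (.nd (.lf 0xf8c) (.lf 0))) (.nd (.nd (.lf 0x512) (.lf 0x175e)) (.nd (.lf 0xe75) (.lf 0))))))) (.nd (.nd (.nd (.nd (.nd (.nd (.lf 0x35) (.lf 0x13fb)) (.nd (.lf 0x59e) (.lf 0))) (.nd (.nd (.lf 0x2cf) (.lf 0x11e4)) (.nd (.lf 0x104c) (.lf 0)))) (.nd (.nd (.nd (.lf 0x17d) (.lf 0xe6a)) (.nd (.lf 0xe27) (.lf 0))) (.nd (.nd (.lf 0x94d) (.lf 0x1407)) (.nd (.lf 0x1248) (.lf 0))))) (.nd (.nd (.nd (.nd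 (.lf 0x21c) (.lf 0xd5d)) (.nd (.lf 0xd08) (.lf 0))) (.nd (.nd (.lf 0x421) (.lf 0x15aa)) (.nd (.lf 0xb52) (.lf 0)))) (.nd (.nd (.nd (.lf 0x522) (.lf 0x11e1)) (.nd (.lf 0xf3f) (.lf 0))) (.nd (.nd (.lf 0xa99) (.lf 0x1583)) (.nd (.lf 0x1331) (.lf 0)))))) (.nd (.nd (.nd (.nd (.nd (.lf 0x153) (.lf 0xcd6)) (.nd (.lf 0x5ff) (.lf 0))) (.nd (.nd (.lf 0x324) (.lf 0x115f)) (.nd (.lf 0x92e) (.lf 0)))) (.nd (.nd (.nd (.lf 0x464) (.lf 0xf81)) (.nd (.lf 0x784) (.lf 0))) (.nd (.nd (.lf 0x9f7) (.lf 0x146d)) (.nd (.lf 0xaf0) (.lf 0))))) (.nd (.nd (.nd (.nd (.lf 0x2e2) (.lf 0x1527)) (.nd (.lf 0xd9f) (.lf 0))) (.nd (.nd (.lf 0x8a1) (.lf 0x12e1)) (.nd (.lf 0x11d0) (.lf 0)))) (.nd (.nd (.nd (.lf 0x5dc) (.lf 0x102e)) (.nd (.lf 0x856) (.lf 0))) (.nd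 (.nd (.lf 0x543) (.lf 0x1801)) (.nd (.lf 0xf8f) (.lf 0))))))))
def tabB_nbbbabb : Tr := (.nd (.nd (.nd (.nd (.nd (.nd (.nd (.lf 0x5a) (.lf 0x1290)) (.nd (.lf 0x958) (.lf 0))) (.nd (.nd (.lf 0x666) (.lf 0x1241)) (.nd (.lf 0x102b) (.lf 0)))) (.nd (.nd (.nd (.lf 0x36f) (.lf 0x1047)) (.nd (.lf 0xe04) (.lf 0))) (.nd (.nd (.lf 0x414) (.lf 0x1372)) (.nd (.lf 0xa64) (.lf 0))))) (.nd (.nd (.nd (.nd (.lf 0x1eb) (.lf 0x14bd)) (.nd (.lf 0x7fe) (.lf 0))) (.nd (.nd (.lf 0x7c4) (.lf 0x1743)) (.nd (.lf 0x97e) (.lf 0)))) (.nd (.nd (.nd (.lf 0x4f3) (.lf 0x1606)) (.nd (.lf 0x7cf) (.lf 0))) (.nd (.nd (.lf 0xa6b) (.lf 0x17ee)) (.nd (.lf 0xb4c) (.lf 0)))))) (.nd (.nd (.nd (.nd (.nd (.lf 0x122) (.lf 0xd10)) (.nd (.lf 0xc4f) (.lf 0))) (.nd (.nd (.lf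 0x30f) (.lf 0x131e)) (.nd (.lf 0x10b1) (.lf 0)))) (.nd (.nd (.nd (.lf 0x433) (.lf 0xece)) (.nd (.lf 0xd15) (.lf 0))) (.nd (.nd (.lf 0x9cd) (.lf 0x1439)) (.nd (.lf 0xeb7) (.lf 0))))) (.nd (.nd (.nd (.nd (.lf 0x27a) (.lf 0x1512)) (.nd (.lf 0x6a7) (.lf 0))) (.nd (.nd (.lf 0x879) (.lf 0x13ff)) (.nd (.lf 0x9ec) (.lf 0)))) (.nd (.nd (.nd (.lf 0x266) (.lf 0x1476)) (.nd (.lf 0xfae) (.lf 0))) (.nd (.nd (.lf 0x7cb) (.lf 0x1659)) (.nd (.lf 0xbc5) (.lf 0))))))) (.nd (.nd (.nd (.nd (.nd (.nd (.lf 0x4a) (.lf 0x1413)) (.nd (.lf 0xc01) (.lf 0))) (.nd (.nd (.lf 0x2e4) (.lf 0x10e7)) (.nd (.lf 0x8db) (.lf 0)))) (.nd (.nd (.nd (.lf 0x3d1) (.lf 0xe88)) (.nd (.lf 0x73f) (.lf 0))) (.nd (.nd (.lf 0x4a7) (.lf 0x13ce)) (.nd (.lf 0x1227) (.lf 0)))))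 (.nd (.nd (.nd (.nd (.lf 0x24d) (.lf 0x14a0)) (.nd (.lf 0x678) (.lf 0))) (.nd (.nd (.lf 0x392) (.lf 0x1418)) (.nd (.lf 0x116d) (.lf 0)))) (.nd (.nd (.nd (.lf 0x54d) (.lf 0x1428)) (.nd (.lf 0x805) (.lf 0))) (.nd (.nd (.lf 0xac6) (.lf 0x16e7)) (.nd (.lf 0x1347) (.lf 0)))))) (.nd (.nd (.nd (.nd (.nd (.lf 0x186) (.lf 0xcf7)) (.nd (.lf 0xbae) (.lf 0))) (.nd (.nd (.lf 0x33a) (.lf 0x13d9)) (.nd (.lf 0x10f7) (.lf 0)))) (.nd (.nd (.nd (.lf 0x494) (.lf 0xf10)) (.nd (.lf 0xede) (.lf 0))) (.nd (.nd (.lf 0x49d) (.lf 0x14a5)) (.nd (.lf 0x12dd) (.lf 0))))) (.nd (.nd (.nd (.nd (.lf 0x310) (.lf 0x1166)) (.nd (.lf 0x6d7) (.lf 0))) (.nd (.nd (.lf 0x8cc) (.lf 0x131a)) (.nd (.lf 0x11eb) (.lf 0)))) (.nd (.nd (.nd (.lf 0x291) (.lf 0x14e5)) (.nd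 (.lf 0x86f) (.lf 0))) (.nd (.nd (.lf 0xb66) (.lf 0x1784)) (.nd (.lf 0x13a8) (.lf 0))))))))
def tabB_nbbbbaa : Tr := (.nd (.nd (.nd (.nd (.nd (.nd (.nd (.lf 0x8) (.lf 0x13be)) (.nd (.lf 0x9dd) (.lf 0))) (.nd (.nd (.lf 0x62f) (.lf 0x106c)) (.nd (.lf 0x882) (.lf 0)))) (.nd (.nd (.nd (.lf 0x14f) (.lf 0x127b)) (.nd (.lf 0x6e9) (.lf 0))) (.nd (.nd (.lf 0x3f8) (.lf 0x1343)) (.nd (.lf 0x1202) (.lf 0))))) (.nd (.nd (.nd (.nd (.lf 0xab) (.lf 0xd0f)) (.nd (.lf 0xcb3) (.lf 0))) (.nd (.nd (.lf 0x34a) (.lf 0x172e)) (.nd (.lf 0x110f) (.lf 0)))) (.nd (.nd (.nd (.lf 0x4b7) (.lf 0xf2b)) (.nd (.lf 0x7ae) (.lf 0))) (.nd (.nd (.lf 0x4af) (.lf 0x174e)) (.nd (.lf 0x12f6) (.lf 0)))))) (.nd (.nd (.nd (.nd (.nd (.lf 0x59) (.lf 0xc96)) (.nd (.lf 0xc22)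 (.lf 0))) (.nd (.nd (.lf 0x6e4) (.lf 0x16eb)) (.nd (.lf 0x1087) (.lf 0)))) (.nd (.nd (.nd (.lf 0x3f4) (.lf 0xea8)) (.nd (.lf 0xe67) (.lf 0))) (.nd (.nd (.lf 0x996) (.lf 0x13f4)) (.nd (.lf 0x11a0) (.lf 0))))) (.nd (.nd (.nd (.nd (.lf 0x273) (.lf 0xd95)) (.nd (.lf 0x7a6) (.lf 0))) (.nd (.nd (.lf 0x3a2) (.lf 0x1275)) (.nd (.lf 0x1189) (.lf 0)))) (.nd (.nd (.nd (.lf 0x572) (.lf 0x1649)) (.nd (.lf 0x81d) (.lf 0))) (.nd (.nd (.lf 0xae6) (.lf 0x17d0)) (.nd (.lf 0xfd7) (.lf 0))))))) (.nd (.nd (.nd (.nd (.nd (.nd (.lf 0x7f) (.lf 0x13f3)) (.nd (.lf 0x598) (.lf 0))) (.nd (.nd (.lf 0x2ca) (.lf 0x1270)) (.nd (.lf 0x8b7) (.lf 0)))) (.nd (.nd (.nd (.lf 0x178) (.lf 0x108d)) (.nd (.lf 0x71f) (.lf 0))) (.nd (.nd (.lf 0x428) (.lf 0x17b1)) (.nd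 (.lf 0x100e) (.lf 0))))) (.nd (.nd (.nd (.nd (.lf 0x20f) (.lf 0xd90)) (.nd (.lf 0x659) (.lf 0))) (.nd (.nd (.lf 0x378) (.lf 0x1718)) (.nd (.lf 0xa1e) (.lf 0)))) (.nd (.nd (.nd (.lf 0x516) (.lf 0xf80)) (.nd (.lf 0xd70) (.lf 0))) (.nd (.nd (.lf 0xa8e) (.lf 0x1736)) (.nd (.lf 0x1315) (.lf 0)))))) (.nd (.nd (.nd (.nd (.nd (.lf 0x147) (.lf 0xccf)) (.nd (.lf 0xbdb) (.lf 0))) (.nd (.nd (.lf 0x739) (.lf 0x1153)) (.nd (.lf 0x10cf) (.lf 0)))) (.nd (.nd (.nd (.lf 0x457) (.lf 0x15ca)) (.nd (.lf 0xc00) (.lf 0))) (.nd (.nd (.lf 0x9eb) (.lf 0x166b)) (.nd (.lf 0xaea) (.lf 0))))) (.nd (.nd (.nd (.nd (.lf 0x2d5) (.lf 0x14c0)) (.nd (.lf 0xa05) (.lf 0))) (.nd (.nd (.lf 0x898) (.lf 0x12d6)) (.nd (.lf 0x11c9) (.lf 0)))) (.nd (.nd (.nd (.lf 0x5d1)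 (.lf 0x13f2)) (.nd (.lf 0xfc4) (.lf 0))) (.nd (.nd (.lf 0xb37) (.lf 0x1729)) (.nd (.lf 0x1385) (.lf 0))))))))
def tabB_nbbbbab : Tr := (.nd (.nd (.nd (.nd (.nd (.nd (.nd (.lf 0x4e) (.lf 0xc3c)) (.nd (.lf 0xba3) (.lf 0))) (.nd (.nd (.lf 0x2b5) (.lf 0x1635)) (.nd (.lf 0x89b) (.lf 0)))) (.nd (.nd (.nd (.lf 0x363) (.lf 0x1569)) (.nd (.lf 0x705) (.lf 0))) (.nd (.nd (.lf 0x40f) (.lf 0x143e)) (.nd (.lf 0x121e) (.lf 0))))) (.nd (.nd (.nd (.nd (.lf 0x1de) (.lf 0x14b6)) (.nd (.lf 0xcd9) (.lf 0))) (.nd (.nd (.lf 0x4e5) (.lf 0x12f3)) (.nd (.lf 0x112a) (.lf 0)))) (.nd (.nd (.nd (.lf 0x491) (.lf 0x1600)) (.nd (.lf 0x7c8) (.lf 0))) (.nd (.nd (.lf 0x4c8) (.lf 0x1791)) (.nd (.lf 0xb45) (.lf 0)))))) (.nd (.nd (.nd (.nd (.nd (.lf 0x6d) (.lf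 0xcb4)) (.nd (.lf 0xc44) (.lf 0))) (.nd (.nd (.lf 0x70f) (.lf 0x126b)) (.nd (.lf 0x90c) (.lf 0)))) (.nd (.nd (.nd (.lf 0x425) (.lf 0x12b6)) (.nd (.lf 0x768) (.lf 0))) (.nd (.nd (.lf 0x9c2) (.lf 0x17d1)) (.nd (.lf 0xad1) (.lf 0))))) (.nd (.nd (.nd (.nd (.lf 0x2a6) (.lf 0xdb5)) (.nd (.lf 0xcfc) (.lf 0))) (.nd (.nd (.lf 0x86d) (.lf 0x12e0)) (.nd (.lf 0xfc5) (.lf 0)))) (.nd (.nd (.nd (.lf 0x261) (.lf 0x1666)) (.nd (.lf 0x839) (.lf 0))) (.nd (.nd (.lf 0xb10) (.lf 0x177f)) (.nd (.lf 0x136c) (.lf 0))))))) (.nd (.nd (.nd (.nd (.nd (.nd (.lf 0x45) (.lf 0xc78)) (.nd (.lf 0xbf7) (.lf 0))) (.nd (.nd (.lf 0x2de) (.lf 0x126e)) (.nd (.lf 0xf88) (.lf 0)))) (.nd (.nd (.nd (.lf 0x3c6) (.lf 0xe82)) (.nd (.lf 0x73a) (.lf 0))) (.nd (.nd (.lf 0x43d)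 (.lf 0x13bc)) (.nd (.lf 0x125f) (.lf 0))))) (.nd (.nd (.nd (.nd (.lf 0x241) (.lf 0xd78)) (.nd (.lf 0xd26) (.lf 0))) (.nd (.nd (.lf 0x38d) (.lf 0x1404)) (.nd (.lf 0x1164) (.lf 0)))) (.nd (.nd (.nd (.lf 0x237) (.lf 0x157f)) (.nd (.lf 0xf5b) (.lf 0))) (.nd (.nd (.lf 0xaba) (.lf 0x15ad)) (.nd (.lf 0xb80) (.lf 0)))))) (.nd (.nd (.nd (.nd (.nd (.lf 0x179) (.lf 0xcf0)) (.nd (.lf 0x8ef) (.lf 0))) (.nd (.nd (.lf 0x767) (.lf 0x117e)) (.nd (.lf 0x944) (.lf 0)))) (.nd (.nd (.nd (.lf 0x1e0) (.lf 0xf07)) (.nd (.lf 0xed5) (.lf 0))) (.nd (.nd (.lf 0xa15) (.lf 0x16cd)) (.nd (.lf 0xc55) (.lf 0))))) (.nd (.nd (.nd (.nd (.lf 0x304) (.lf 0xdfa)) (.nd (.lf 0xc10) (.lf 0))) (.nd (.nd (.lf 0x8c1) (.lf 0x15a8)) (.nd (.lf 0xb26) (.lf 0)))) (.nd (.nd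 (.nd (.lf 0x28c) (.lf 0x104a)) (.nd (.lf 0xfe5) (.lf 0))) (.nd (.nd (.lf 0x554) (.lf 0x17fa)) (.nd (.lf 0x122b) (.lf 0))))))))
def tabB_nbbbbba : Tr := (.nd (.nd (.nd (.nd (.nd (.nd (.nd (.lf 0x12) (.lf 0x13c9)) (.nd (.lf 0xb92) (.lf 0))) (.nd (.nd (.lf 0x581) (.lf 0x1080)) (.nd (.lf 0x1016) (.lf 0)))) (.nd (.nd (.nd (.lf 0x159) (.lf 0x155f)) (.nd (.lf 0xde6) (.lf 0))) (.nd (.nd (.lf 0x905) (.lf 0x1359)) (.nd (.lf 0xa4d) (.lf 0))))) (.nd (.nd (.nd (.nd (.lf 0x1c5) (.lf 0x14a6)) (.nd (.lf 0xcc4) (.lf 0))) (.nd (.nd (.lf 0x793) (.lf 0x149b)) (.nd (.lf 0x1000) (.lf 0)))) (.nd (.nd (.nd (.lf 0x4ce) (.lf 0xf42)) (.nd (.lf 0xf08) (.lf 0))) (.nd (.nd (.lf 0xa4f) (.lf 0x14ec)) (.nd (.lf 0x1303) (.lf 0)))))) (.nd (.nd (.nd (.nd (.nd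 (.lf 0xfd) (.lf 0xd9d)) (.nd (.lf 0xc33) (.lf 0))) (.nd (.nd (.lf 0x2fe) (.lf 0x1116)) (.nd (.lf 0x900) (.lf 0)))) (.nd (.nd (.nd (.lf 0x1ab) (.lf 0x15ab)) (.nd (.lf 0xe7a) (.lf 0))) (.nd (.nd (.lf 0x9ad) (.lf 0x1414)) (.nd (.lf 0xac2) (.lf 0))))) (.nd (.nd (.nd (.nd (.lf 0x107) (.lf 0xda2)) (.nd (.lf 0xd5c) (.lf 0))) (.nd (.nd (.lf 0x3ac) (.lf 0x1292)) (.nd (.lf 0x9d7) (.lf 0)))) (.nd (.nd (.nd (.lf 0x58a) (.lf 0xfeb)) (.nd (.lf 0xf95) (.lf 0))) (.nd (.nd (.lf 0xafb) (.lf 0x1686)) (.nd (.lf 0x1260) (.lf 0))))))) (.nd (.nd (.nd (.nd (.nd (.nd (.lf 0x99) (.lf 0xc66)) (.nd (.lf 0x5a4) (.lf 0))) (.nd (.nd (.lf 0x2d4) (.lf 0x10cb)) (.nd (.lf 0x1056) (.lf 0)))) (.nd (.nd (.nd (.lf 0x182) (.lf 0xe6f)) (.nd (.lf 0xd0d) (.lf 0)))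 (.nd (.nd (.lf 0x959) (.lf 0x1663)) (.nd (.lf 0x124e) (.lf 0))))) (.nd (.nd (.nd (.nd (.lf 0x229) (.lf 0x14d7)) (.nd (.lf 0x665) (.lf 0))) (.nd (.nd (.lf 0x7fc) (.lf 0x121f)) (.nd (.lf 0x10dc) (.lf 0)))) (.nd (.nd (.nd (.lf 0x52e) (.lf 0xf98)) (.nd (.lf 0xf46) (.lf 0))) (.nd (.nd (.lf 0xaa4) (.lf 0x1775)) (.nd (.lf 0xb73) (.lf 0)))))) (.nd (.nd (.nd (.nd (.nd (.lf 0x160) (.lf 0x1471)) (.nd (.lf 0xc7b) (.lf 0))) (.nd (.nd (.lf 0x750) (.lf 0x16a6)) (.nd (.lf 0x10e0) (.lf 0)))) (.nd (.nd (.nd (.lf 0x471) (.lf 0xef9)) (.nd (.lf 0xebf) (.lf 0))) (.nd (.nd (.lf 0xa01) (.lf 0x173a)) (.nd (.lf 0xb82) (.lf 0))))) (.nd (.nd (.nd (.nd (.lf 0x2ed) (.lf 0xde7)) (.nd (.lf 0x6c6) (.lf 0))) (.nd (.nd (.lf 0x8ac) (.lf 0x13fe)) (.nd (.lf 0xa16)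 (.lf 0)))) (.nd (.nd (.nd (.lf 0x281) (.lf 0x1683)) (.nd (.lf 0xdde) (.lf 0))) (.nd (.nd (.lf 0x548) (.lf 0x17b2)) (.nd (.lf 0xbe8) (.lf 0))))))))
def tabB_nbbbbbb : Tr := (.nd (.nd (.nd (.nd (.nd (.nd (.nd (.lf 0x66) (.lf 0xc4b)) (.nd (.lf 0xbb8) (.lf 0))) (.nd (.nd (.lf 0x672) (.lf 0x16bb)) (.nd (.lf 0x1031) (.lf 0)))) (.nd (.nd (.nd (.lf 0x37b) (.lf 0x1323)) (.nd (.lf 0x712) (.lf 0))) (.nd (.nd (.lf 0x8b6) (.lf 0x137c)) (.nd (.lf 0xa6c) (.lf 0))))) (.nd (.nd (.nd (.nd (.lf 0x166) (.lf 0xd46)) (.nd (.lf 0x64b) (.lf 0))) (.nd (.nd (.lf 0x7d1) (.lf 0x11f6)) (.nd (.lf 0x1135) (.lf 0)))) (.nd (.nd (.nd (.lf 0x4fe) (.lf 0x125e)) (.nd (.lf 0x7d6) (.lf 0))) (.nd (.nd (.lf 0xa77) (.lf 0x172d)) (.nd (.lf 0xb57) (.lf 0)))))) (.nd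 (.nd (.nd (.nd (.nd (.lf 0x78) (.lf 0xcc3)) (.nd (.lf 0xc58) (.lf 0))) (.nd (.nd (.lf 0x315) (.lf 0x14f9)) (.nd (.lf 0x10bb) (.lf 0)))) (.nd (.nd (.nd (.lf 0x1c1) (.lf 0x151e)) (.nd (.lf 0x772) (.lf 0))) (.nd (.nd (.lf 0x475) (.lf 0x1443)) (.nd (.lf 0xadf) (.lf 0))))) (.nd (.nd (.nd (.nd (.lf 0x2bc) (.lf 0xdc5)) (.nd (.lf 0xcb5) (.lf 0))) (.nd (.nd (.lf 0x3c2) (.lf 0x12bc)) (.nd (.lf 0x11b9) (.lf 0)))) (.nd (.nd (.nd (.lf 0x5ba) (.lf 0x13d4)) (.nd (.lf 0x846) (.lf 0))) (.nd (.nd (.lf 0xb23) (.lf 0x1672)) (.nd (.lf 0x137b) (.lf 0))))))) (.nd (.nd (.nd (.nd (.nd (.nd (.lf 0x4f) (.lf 0x141d)) (.nd (.lf 0x5bb) (.lf 0))) (.nd (.nd (.lf 0x6cd) (.lf 0x10ee)) (.nd (.lf 0x1076) (.lf 0)))) (.nd (.nd (.nd (.lf 0x3dc) (.lf 0x120b)) (.nd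 (.lf 0x9bd) (.lf 0))) (.nd (.nd (.lf 0x981) (.lf 0x13d8)) (.nd (.lf 0xaa3) (.lf 0))))) (.nd (.nd (.nd (.nd (.lf 0x25a) (.lf 0x139c)) (.nd (.lf 0x67e) (.lf 0))) (.nd (.nd (.lf 0x82b) (.lf 0x136f)) (.nd (.lf 0xc29) (.lf 0)))) (.nd (.nd (.nd (.lf 0x55a) (.lf 0xfc1)) (.nd (.lf 0x80e) (.lf 0))) (.nd (.nd (.lf 0xad0) (.lf 0x17af)) (.nd (.lf 0xb8d) (.lf 0)))))) (.nd (.nd (.nd (.nd (.nd (.lf 0xa0) (.lf 0x148a)) (.nd (.lf 0xc9e) (.lf 0))) (.nd (.nd (.lf 0x77e) (.lf 0x12d9)) (.nd (.lf 0xf3a) (.lf 0)))) (.nd (.nd (.nd (.lf 0x481) (.lf 0x14bc)) (.nd (.lf 0xee6) (.lf 0))) (.nd (.nd (.lf 0x6ff) (.lf 0x14b0)) (.nd (.lf 0x12e5) (.lf 0))))) (.nd (.nd (.nd (.nd (.lf 0x144) (.lf 0x1548)) (.nd (.lf 0xd85) (.lf 0))) (.nd (.nd (.lf 0x8d7) (.lf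 0x1790)) (.nd (.lf 0xe22) (.lf 0)))) (.nd (.nd (.nd (.lf 0x296) (.lf 0x15b7)) (.nd (.lf 0x876) (.lf 0))) (.nd (.nd (.lf 0x561) (.lf 0x17a8)) (.nd (.lf 0xd34) (.lf 0))))))))
def tabB : Tr := (.nd (.nd (.nd (.nd (.nd (.nd tabB_naaaaaa tabB_naaaaab) (.nd tabB_naaaaba tabB_naaaabb)) (.nd (.nd tabB_naaabaa tabB_naaabab) (.nd tabB_naaabba tabB_naaabbb))) (.nd (.nd (.nd tabB_naabaaa tabB_naabaab) (.nd tabB_naababa tabB_naababb)) (.nd (.nd tabB_naabbaa tabB_naabbab) (.nd tabB_naabbba tabB_naabbbb)))) (.nd (.nd (.nd (.nd tabB_nabaaaa tabB_nabaaab) (.nd tabB_nabaaba tabB_nabaabb)) (.nd (.nd tabB_nababaa tabB_nababab) (.nd tabB_nababba tabB_nababbb))) (.nd (.nd (.nd tabB_nabbaaa tabB_nabbaab) (.nd tabB_nabbaba tabB_nabbabb)) (.nd (.nd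 tabB_nabbbaa tabB_nabbbab) (.nd tabB_nabbbba tabB_nabbbbb))))) (.nd (.nd (.nd (.nd (.nd tabB_nbaaaaa tabB_nbaaaab) (.nd tabB_nbaaaba tabB_nbaaabb)) (.nd (.nd tabB_nbaabaa tabB_nbaabab) (.nd tabB_nbaabba tabB_nbaabbb))) (.nd (.nd (.nd tabB_nbabaaa tabB_nbabaab) (.nd tabB_nbababa tabB_nbababb)) (.nd (.nd tabB_nbabbaa tabB_nbabbab) (.nd tabB_nbabbba tabB_nbabbbb)))) (.nd (.nd (.nd (.nd tabB_nbbaaaa tabB_nbbaaab) (.nd tabB_nbbaaba tabB_nbbaabb)) (.nd (.nd tabB_nbbabaa tabB_nbbabab) (.nd tabB_nbbabba tabB_nbbabbb))) (.nd (.nd (.nd tabB_nbbbaaa tabB_nbbbaab) (.nd tabB_nbbbaba tabB_nbbbabb)) (.nd (.nd tabB_nbbbbaa tabB_nbbbbab) (.nd tabB_nbbbbba tabB_nbbbbbb))))))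
def witA_naaaaaa : Tr := (.nd (.nd (.nd (.nd (.nd (.nd (.nd (.lf 0x0) (.lf 0x5900)) (.nd (.lf 0x0) (.lf 0x1d3c))) (.nd (.nd (.lf 0x0) (.lf 0x702)) (.nd (.lf 0x0) (.lf 0)))) (.nd (.nd (.nd (.lf 0x6e9c) (.lf 0x0)) (.nd (.lf 0x130b) (.lf 0))) (.nd (.nd (.lf 0x0) (.lf 0x0)) (.nd (.lf 0x0) (.lf 0))))) (.nd (.nd (.nd (.nd (.lf 0x0) (.lf 0x0)) (.nd (.lf 0x780c) (.lf 0))) (.nd (.nd (.lf 0x0) (.lf 0x0)) (.nd (.lf 0x0) (.lf 0)))) (.nd (.nd (.nd (.lf 0x0) (.lf 0x0)) (.nd (.lf 0x0) (.lf 0))) (.nd (.nd (.lf 0x0) (.lf 0x0)) (.nd (.lf 0x0) (.lf 0)))))) (.nd (.nd (.nd (.nd (.nd (.lf 0x0) (.lf 0x0)) (.nd (.lf 0x0) (.lf 0))) (.nd (.nd (.lf 0x0) (.lf 0x2d40)) (.nd (.lf 0x0) (.lf 0)))) (.nd (.nd (.nd (.lf 0x0) (.lf 0x5044)) (.nd (.lf 0x0) (.lf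 0))) (.nd (.nd (.lf 0x0) (.lf 0x5513)) (.nd (.lf 0x2805) (.lf 0))))) (.nd (.nd (.nd (.nd (.lf 0x0) (.lf 0x6e77)) (.nd (.lf 0x5d2d) (.lf 0))) (.nd (.nd (.lf 0x0) (.lf 0xb96)) (.nd (.lf 0x0) (.lf 0)))) (.nd (.nd (.nd (.lf 0x0) (.lf 0x190a)) (.nd (.lf 0x0) (.lf 0))) (.nd (.nd (.lf 0x0) (.lf 0x364d)) (.nd (.lf 0x309b) (.lf 0))))))) (.nd (.nd (.nd (.nd (.nd (.nd (.lf 0x0) (.lf 0x5907)) (.nd (.lf 0x0) (.lf 0))) (.nd (.nd (.lf 0x5005) (.lf 0x5c70)) (.nd (.lf 0x0) (.lf 0)))) (.nd (.nd (.nd (.lf 0x0) (.lf 0x5026)) (.nd (.lf 0x0) (.lf 0))) (.nd (.nd (.lf 0x0) (.lf 0x0)) (.nd (.lf 0x933) (.lf 0))))) (.nd (.nd (.nd (.nd (.lf 0x0) (.lf 0x0)) (.nd (.lf 0x0) (.lf 0))) (.nd (.nd (.lf 0x0) (.lf 0x0)) (.nd (.lf 0x1984) (.lf 0)))) (.nd (.nd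 (.nd (.lf 0x0) (.lf 0x69a4)) (.nd (.lf 0x0) (.lf 0))) (.nd (.nd (.lf 0x0) (.lf 0x195a)) (.nd (.lf 0x0) (.lf 0)))))) (.nd (.nd (.nd (.nd (.nd (.lf 0x0) (.lf 0x0)) (.nd (.lf 0x0) (.lf 0))) (.nd (.nd (.lf 0x0) (.lf 0x556a)) (.nd (.lf 0x0) (.lf 0)))) (.nd (.nd (.nd (.lf 0x0) (.lf 0x0)) (.nd (.lf 0x0) (.lf 0))) (.nd (.nd (.lf 0x550a) (.lf 0x5f16)) (.nd (.lf 0x0) (.lf 0))))) (.nd (.nd (.nd (.nd (.lf 0x0) (.lf 0x5869)) (.nd (.lf 0x1e3c) (.lf 0))) (.nd (.nd (.lf 0x0) (.lf 0x79b)) (.nd (.lf 0x0) (.lf 0)))) (.nd (.nd (.nd (.lf 0x0) (.lf 0x3b6d)) (.nd (.lf 0x0) (.lf 0))) (.nd (.nd (.lf 0x0) (.lf 0x842f)) (.nd (.lf 0x0) (.lf 0))))))))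
def witA_naaaaab : Tr := (.nd (.nd (.nd (.nd (.nd (.nd (.nd (.lf 0x0) (.lf 0x30ab)) (.nd (.lf 0x0) (.lf 0))) (.nd (.nd (.lf 0x0) (.lf 0x0)) (.nd (.lf 0x58ab) (.lf 0)))) (.nd (.nd (.nd (.lf 0x0) (.lf 0x4a5f)) (.nd (.lf 0x0) (.lf 0))) (.nd (.nd (.lf 0x0) (.lf 0x648e)) (.nd (.lf 0x3626) (.lf 0))))) (.nd (.nd (.nd (.nd (.lf 0x0) (.lf 0x0)) (.nd (.lf 0x762b) (.lf 0))) (.nd (.nd (.lf 0x0) (.lf 0x1906)) (.nd (.lf 0x0) (.lf 0)))) (.nd (.nd (.nd (.lf 0x0) (.lf 0x0)) (.nd (.lf 0x0) (.lf 0))) (.nd (.nd (.lf 0x0) (.lf 0x48a3)) (.nd (.lf 0x0) (.lf 0)))))) (.nd (.nd (.nd (.nd (.nd (.lf 0x0) (.lf 0x0)) (.nd (.lf 0xe47) (.lf 0))) (.nd (.nd (.lf 0x0) (.lf 0x2148)) (.nd (.lf 0x7203) (.lf 0)))) (.nd (.nd (.nd (.lf 0x0) (.lf 0x4235)) (.nd (.lf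 0x0) (.lf 0))) (.nd (.nd (.lf 0x546c) (.lf 0x8329)) (.nd (.lf 0x985) (.lf 0))))) (.nd (.nd (.nd (.nd (.lf 0x0) (.lf 0x2c37)) (.nd (.lf 0x0) (.lf 0))) (.nd (.nd (.lf 0x0) (.lf 0x6da7)) (.nd (.lf 0x0) (.lf 0)))) (.nd (.nd (.nd (.lf 0x0) (.lf 0x5b5d)) (.nd (.lf 0x114d) (.lf 0))) (.nd (.nd (.lf 0x0) (.lf 0x4c6d)) (.nd (.lf 0x0) (.lf 0))))))) (.nd (.nd (.nd (.nd (.nd (.nd (.lf 0x0) (.lf 0x7706)) (.nd (.lf 0x0) (.lf 0))) (.nd (.nd (.lf 0x0) (.lf 0x5b08)) (.nd (.lf 0x0) (.lf 0)))) (.nd (.nd (.nd (.lf 0x0) (.lf 0x21d)) (.nd (.lf 0x0) (.lf 0))) (.nd (.nd (.lf 0x7d1c) (.lf 0x554e)) (.nd (.lf 0x0) (.lf 0))))) (.nd (.nd (.nd (.nd (.lf 0x0) (.lf 0x0)) (.nd (.lf 0x0) (.lf 0))) (.nd (.nd (.lf 0x0) (.lf 0x1ea2)) (.nd (.lf 0x0) (.lf 0))))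 (.nd (.nd (.nd (.lf 0x0) (.lf 0x0)) (.nd (.lf 0x0) (.lf 0))) (.nd (.nd (.lf 0x0) (.lf 0x1429)) (.nd (.lf 0x1f62) (.lf 0)))))) (.nd (.nd (.nd (.nd (.nd (.lf 0x0) (.lf 0x818a)) (.nd (.lf 0x0) (.lf 0))) (.nd (.nd (.lf 0x8279) (.lf 0x5a48)) (.nd (.lf 0x0) (.lf 0)))) (.nd (.nd (.nd (.lf 0x0) (.lf 0x0)) (.nd (.lf 0x0) (.lf 0))) (.nd (.nd (.lf 0x0) (.lf 0x5d86)) (.nd (.lf 0x0) (.lf 0))))) (.nd (.nd (.nd (.nd (.lf 0x0) (.lf 0x6e6c)) (.nd (.lf 0x0) (.lf 0))) (.nd (.nd (.lf 0x3c09) (.lf 0x100f)) (.nd (.lf 0x0) (.lf 0)))) (.nd (.nd (.nd (.lf 0x0) (.lf 0x5578)) (.nd (.lf 0x0) (.lf 0))) (.nd (.nd (.lf 0x0) (.lf 0x7a2)) (.nd (.lf 0x0) (.lf 0))))))))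
def witA_naaaaba : Tr := (.nd (.nd (.nd (.nd (.nd (.nd (.nd (.lf 0x0) (.lf 0x2093)) (.nd (.lf 0x0) (.lf 0))) (.nd (.nd (.lf 0x0) (.lf 0x6c1f)) (.nd (.lf 0x0) (.lf 0)))) (.nd (.nd (.nd (.lf 0x0) (.lf 0x0)) (.nd (.lf 0x0) (.lf 0))) (.nd (.nd (.lf 0x0) (.lf 0x4a2c)) (.nd (.lf 0x5590) (.lf 0))))) (.nd (.nd (.nd (.nd (.lf 0x0) (.lf 0x4c52)) (.nd (.lf 0x2761) (.lf 0))) (.nd (.nd (.lf 0x404) (.lf 0x6494)) (.nd (.lf 0x6aa3) (.lf 0)))) (.nd (.nd (.nd (.lf 0x0) (.lf 0x0)) (.nd (.lf 0x7e54) (.lf 0))) (.nd (.nd (.lf 0x0) (.lf 0x3d75)) (.nd (.lf 0x25a) (.lf 0)))))) (.nd (.nd (.nd (.nd (.nd (.lf 0x0) (.lf 0x224f)) (.nd (.lf 0x0) (.lf 0))) (.nd (.nd (.lf 0x0) (.lf 0x739b)) (.nd (.lf 0x40b) (.lf 0)))) (.nd (.nd (.nd (.lf 0x0) (.lf 0x367))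 (.nd (.lf 0x2c1f) (.lf 0))) (.nd (.nd (.lf 0x0) (.lf 0x6092)) (.nd (.lf 0x2c48) (.lf 0))))) (.nd (.nd (.nd (.nd (.lf 0x3f09) (.lf 0x5481)) (.nd (.lf 0x0) (.lf 0))) (.nd (.nd (.lf 0x0) (.lf 0x7794)) (.nd (.lf 0x7f2a) (.lf 0)))) (.nd (.nd (.nd (.lf 0x0) (.lf 0x0)) (.nd (.lf 0x0) (.lf 0))) (.nd (.nd (.lf 0x0) (.lf 0x5966)) (.nd (.lf 0x457f) (.lf 0))))))) (.nd (.nd (.nd (.nd (.nd (.nd (.lf 0x0) (.lf 0x0)) (.nd (.lf 0x0) (.lf 0))) (.nd (.nd (.lf 0x0) (.lf 0x0)) (.nd (.lf 0x40c) (.lf 0)))) (.nd (.nd (.nd (.lf 0x0) (.lf 0x248a)) (.nd (.lf 0x0) (.lf 0))) (.nd (.nd (.lf 0x0) (.lf 0x0)) (.nd (.lf 0x0) (.lf 0))))) (.nd (.nd (.nd (.nd (.lf 0x0) (.lf 0x0)) (.nd (.lf 0x286f) (.lf 0))) (.nd (.nd (.lf 0x0) (.lf 0x7e70)) (.nd (.lf 0x6784)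 (.lf 0)))) (.nd (.nd (.nd (.lf 0x0) (.lf 0x0)) (.nd (.lf 0x8375) (.lf 0))) (.nd (.nd (.lf 0x0) (.lf 0xca6)) (.nd (.lf 0x0) (.lf 0)))))) (.nd (.nd (.nd (.nd (.nd (.lf 0x0) (.lf 0x1451)) (.nd (.lf 0x0) (.lf 0))) (.nd (.nd (.lf 0x0) (.lf 0x5e78)) (.nd (.lf 0x0) (.lf 0)))) (.nd (.nd (.nd (.lf 0x0) (.lf 0x7f79)) (.nd (.lf 0x0) (.lf 0))) (.nd (.nd (.lf 0x0) (.lf 0x5456)) (.nd (.lf 0x0) (.lf 0))))) (.nd (.nd (.nd (.nd (.lf 0x0) (.lf 0x0)) (.nd (.lf 0x0) (.lf 0))) (.nd (.nd (.lf 0x6a20) (.lf 0x251b)) (.nd (.lf 0x5d83) (.lf 0)))) (.nd (.nd (.nd (.lf 0x0) (.lf 0x0)) (.nd (.lf 0x0) (.lf 0))) (.nd (.nd (.lf 0x3d34) (.lf 0x4274)) (.nd (.lf 0x0) (.lf 0))))))))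
def witA_naaaabb : Tr := (.nd (.nd (.nd (.nd (.nd (.nd (.nd (.lf 0x0) (.lf 0x0)) (.nd (.lf 0x0) (.lf 0))) (.nd (.nd (.lf 0x0) (.lf 0x0)) (.nd (.lf 0x1c04) (.lf 0)))) (.nd (.nd (.nd (.lf 0x0) (.lf 0x7719)) (.nd (.lf 0x0) (.lf 0))) (.nd (.nd (.lf 0x0) (.lf 0x101c)) (.nd (.lf 0x0) (.lf 0))))) (.nd (.nd (.nd (.nd (.lf 0x0) (.lf 0x0)) (.nd (.lf 0x0) (.lf 0))) (.nd (.nd (.lf 0x0) (.lf 0x251b)) (.nd (.lf 0x0) (.lf 0)))) (.nd (.nd (.nd (.lf 0x0) (.lf 0x0)) (.nd (.lf 0x1980) (.lf 0))) (.nd (.nd (.lf 0x6c15) (.lf 0x5070)) (.nd (.lf 0x621d) (.lf 0)))))) (.nd (.nd (.nd (.nd (.nd (.lf 0x0) (.lf 0x0)) (.nd (.lf 0x0) (.lf 0))) (.nd (.nd (.lf 0x875d) (.lf 0x3d34)) (.nd (.lf 0x0) (.lf 0)))) (.nd (.nd (.nd (.lf 0x0) (.lf 0x233)) (.nd (.lf 0x221)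 (.lf 0))) (.nd (.nd (.lf 0x0) (.lf 0x117)) (.nd (.lf 0x7dad) (.lf 0))))) (.nd (.nd (.nd (.nd (.lf 0x0) (.lf 0x567d)) (.nd (.lf 0x0) (.lf 0))) (.nd (.nd (.lf 0x0) (.lf 0x5285)) (.nd (.lf 0x3f59) (.lf 0)))) (.nd (.nd (.nd (.lf 0x0) (.lf 0x0)) (.nd (.lf 0x859b) (.lf 0))) (.nd (.nd (.lf 0x0) (.lf 0x1a08)) (.nd (.lf 0x0) (.lf 0))))))) (.nd (.nd (.nd (.nd (.nd (.nd (.lf 0x0) (.lf 0x50ac)) (.nd (.lf 0x0) (.lf 0))) (.nd (.nd (.lf 0x3a26) (.lf 0x2739)) (.nd (.lf 0x6341) (.lf 0)))) (.nd (.nd (.nd (.lf 0x6d3f) (.lf 0x1348)) (.nd (.lf 0x0) (.lf 0))) (.nd (.nd (.lf 0x0) (.lf 0x259e)) (.nd (.lf 0x0) (.lf 0))))) (.nd (.nd (.nd (.nd (.lf 0x0) (.lf 0x1ead)) (.nd (.lf 0x5b37) (.lf 0))) (.nd (.nd (.lf 0x0) (.lf 0x4b71)) (.nd (.lf 0x0) (.lf 0))))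 (.nd (.nd (.nd (.lf 0x0) (.lf 0x7a40)) (.nd (.lf 0x6f44) (.lf 0))) (.nd (.nd (.lf 0x0) (.lf 0x1b4c)) (.nd (.lf 0x0) (.lf 0)))))) (.nd (.nd (.nd (.nd (.nd (.lf 0x0) (.lf 0x0)) (.nd (.lf 0x0) (.lf 0))) (.nd (.nd (.lf 0x0) (.lf 0x6e4f)) (.nd (.lf 0x3a41) (.lf 0)))) (.nd (.nd (.nd (.lf 0x0) (.lf 0x270a)) (.nd (.lf 0x0) (.lf 0))) (.nd (.nd (.lf 0x0) (.lf 0x86af)) (.nd (.lf 0x0) (.lf 0))))) (.nd (.nd (.nd (.nd (.lf 0x0) (.lf 0x0)) (.nd (.lf 0x399c) (.lf 0))) (.nd (.nd (.lf 0x3c2e) (.lf 0x2e9d)) (.nd (.lf 0x7b7d) (.lf 0)))) (.nd (.nd (.nd (.lf 0x0) (.lf 0x5a82)) (.nd (.lf 0x0) (.lf 0))) (.nd (.nd (.lf 0x0) (.lf 0x7c83)) (.nd (.lf 0x0) (.lf 0))))))))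
def witA_naaabaa : Tr := (.nd (.nd (.nd (.nd (.nd (.nd (.nd (.lf 0x0) (.lf 0x573c)) (.nd (.lf 0x0) (.lf 0x552c))) (.nd (.nd (.lf 0x0) (.lf 0x2887)) (.nd (.lf 0x0) (.lf 0)))) (.nd (.nd (.nd (.lf 0x0) (.lf 0x2457)) (.nd (.lf 0x0) (.lf 0))) (.nd (.nd (.lf 0x0) (.lf 0x2302)) (.nd (.lf 0x215f) (.lf 0))))) (.nd (.nd (.nd (.nd (.lf 0x0) (.lf 0x2d18)) (.nd (.lf 0x2344) (.lf 0))) (.nd (.nd (.lf 0x0) (.lf 0x343)) (.nd (.lf 0x0) (.lf 0)))) (.nd (.nd (.nd (.lf 0x0) (.lf 0x0)) (.nd (.lf 0x0) (.lf 0))) (.nd (.nd (.lf 0x0) (.lf 0x8395)) (.nd (.lf 0x7990) (.lf 0)))))) (.nd (.nd (.nd (.nd (.nd (.lf 0x0) (.lf 0x0)) (.nd (.lf 0x0) (.lf 0))) (.nd (.nd (.lf 0x0) (.lf 0x0)) (.nd (.lf 0x0) (.lf 0)))) (.nd (.nd (.nd (.lf 0x0) (.lf 0x0)) (.nd (.lf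 0x0) (.lf 0))) (.nd (.nd (.lf 0x0) (.lf 0x2c45)) (.nd (.lf 0x0) (.lf 0))))) (.nd (.nd (.nd (.nd (.lf 0x0) (.lf 0x0)) (.nd (.lf 0x0) (.lf 0))) (.nd (.nd (.lf 0x0) (.lf 0xa61)) (.nd (.lf 0x45b2) (.lf 0)))) (.nd (.nd (.nd (.lf 0x0) (.lf 0xe0f)) (.nd (.lf 0x0) (.lf 0))) (.nd (.nd (.lf 0x0) (.lf 0x0)) (.nd (.lf 0x180f) (.lf 0))))))) (.nd (.nd (.nd (.nd (.nd (.nd (.lf 0x0) (.lf 0x4d06)) (.nd (.lf 0x0) (.lf 0))) (.nd (.nd (.lf 0x0) (.lf 0x4c10)) (.nd (.lf 0x6b0e) (.lf 0)))) (.nd (.nd (.nd (.lf 0x0) (.lf 0xf47)) (.nd (.lf 0x0) (.lf 0))) (.nd (.nd (.lf 0x0) (.lf 0x71ae)) (.nd (.lf 0x0) (.lf 0))))) (.nd (.nd (.nd (.nd (.lf 0x0) (.lf 0x51a6)) (.nd (.lf 0x0) (.lf 0))) (.nd (.nd (.lf 0x0) (.lf 0x622)) (.nd (.lf 0x0) (.lf 0)))) (.nd (.nd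 (.nd (.lf 0x0) (.lf 0x3048)) (.nd (.lf 0x0) (.lf 0))) (.nd (.nd (.lf 0x0) (.lf 0x444e)) (.nd (.lf 0x173e) (.lf 0)))))) (.nd (.nd (.nd (.nd (.nd (.lf 0x0) (.lf 0x5a49)) (.nd (.lf 0x0) (.lf 0))) (.nd (.nd (.lf 0x7349) (.lf 0x1479)) (.nd (.lf 0x0) (.lf 0)))) (.nd (.nd (.nd (.lf 0x0) (.lf 0x0)) (.nd (.lf 0x0) (.lf 0))) (.nd (.nd (.lf 0x0) (.lf 0x6d43)) (.nd (.lf 0x1eaa) (.lf 0))))) (.nd (.nd (.nd (.nd (.lf 0x2606) (.lf 0x0)) (.nd (.lf 0x1073) (.lf 0))) (.nd (.nd (.lf 0x0) (.lf 0x298)) (.nd (.lf 0x7ab) (.lf 0)))) (.nd (.nd (.nd (.lf 0x0) (.lf 0x4d1f)) (.nd (.lf 0x5734) (.lf 0))) (.nd (.nd (.lf 0x0) (.lf 0x298a)) (.nd (.lf 0x0) (.lf 0))))))))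
def witA_naaabab : Tr := (.nd (.nd (.nd (.nd (.nd (.nd (.nd (.lf 0x0) (.lf 0x1ab1)) (.nd (.lf 0x0) (.lf 0))) (.nd (.nd (.lf 0x0) (.lf 0x0)) (.nd (.lf 0x0) (.lf 0)))) (.nd (.nd (.nd (.lf 0x0) (.lf 0x4d57)) (.nd (.lf 0x0) (.lf 0))) (.nd (.nd (.lf 0x0) (.lf 0x3254)) (.nd (.lf 0x4b63) (.lf 0))))) (.nd (.nd (.nd (.nd (.lf 0x0) (.lf 0x6860)) (.nd (.lf 0x0) (.lf 0))) (.nd (.nd (.lf 0x734a) (.lf 0x6e32)) (.nd (.lf 0x0) (.lf 0)))) (.nd (.nd (.nd (.lf 0x0) (.lf 0x753c)) (.nd (.lf 0x7472) (.lf 0))) (.nd (.nd (.lf 0x0) (.lf 0x5d87)) (.nd (.lf 0x0) (.lf 0)))))) (.nd (.nd (.nd (.nd (.nd (.lf 0x2c47) (.lf 0x0)) (.nd (.lf 0xf48) (.lf 0))) (.nd (.nd (.lf 0x5089) (.lf 0x3052)) (.nd (.lf 0x0) (.lf 0)))) (.nd (.nd (.nd (.lf 0x0) (.lf 0x8597))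 (.nd (.lf 0xd1d) (.lf 0))) (.nd (.nd (.lf 0x0) (.lf 0x534d)) (.nd (.lf 0x0) (.lf 0))))) (.nd (.nd (.nd (.nd (.lf 0x0) (.lf 0x0)) (.nd (.lf 0x594b) (.lf 0))) (.nd (.nd (.lf 0xead) (.lf 0x488a)) (.nd (.lf 0x0) (.lf 0)))) (.nd (.nd (.nd (.lf 0x0) (.lf 0x0)) (.nd (.lf 0x0) (.lf 0))) (.nd (.nd (.lf 0x0) (.lf 0x1217)) (.nd (.lf 0x844e) (.lf 0))))))) (.nd (.nd (.nd (.nd (.nd (.nd (.lf 0x0) (.lf 0x0)) (.nd (.lf 0x0) (.lf 0))) (.nd (.nd (.lf 0x0) (.lf 0x766b)) (.nd (.lf 0x0) (.lf 0)))) (.nd (.nd (.nd (.lf 0x0) (.lf 0x0)) (.nd (.lf 0x0) (.lf 0))) (.nd (.nd (.lf 0x1112) (.lf 0x3662)) (.nd (.lf 0x4f49) (.lf 0))))) (.nd (.nd (.nd (.nd (.lf 0x0) (.lf 0x0)) (.nd (.lf 0x0) (.lf 0))) (.nd (.nd (.lf 0x0) (.lf 0x85a4)) (.nd (.lf 0x1425) (.lf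 0)))) (.nd (.nd (.nd (.lf 0x0) (.lf 0x0)) (.nd (.lf 0x0) (.lf 0))) (.nd (.nd (.lf 0x708e) (.lf 0x3d7a)) (.nd (.lf 0x0) (.lf 0)))))) (.nd (.nd (.nd (.nd (.nd (.lf 0x0) (.lf 0x72ae)) (.nd (.lf 0x0) (.lf 0))) (.nd (.nd (.lf 0x0) (.lf 0x6bac)) (.nd (.lf 0x53b2) (.lf 0)))) (.nd (.nd (.nd (.lf 0x0) (.lf 0x20c)) (.nd (.lf 0x0) (.lf 0))) (.nd (.nd (.lf 0x0) (.lf 0x0)) (.nd (.lf 0x0) (.lf 0))))) (.nd (.nd (.nd (.nd (.lf 0x0) (.lf 0x7c82)) (.nd (.lf 0x0) (.lf 0))) (.nd (.nd (.lf 0x0) (.lf 0x0)) (.nd (.lf 0x0) (.lf 0)))) (.nd (.nd (.nd (.lf 0x0) (.lf 0x241d)) (.nd (.lf 0x0) (.lf 0))) (.nd (.nd (.lf 0x0) (.lf 0x6241)) (.nd (.lf 0x0) (.lf 0))))))))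
def witA_naaabba : Tr := (.nd (.nd (.nd (.nd (.nd (.nd (.nd (.lf 0x0) (.lf 0x6a69)) (.nd (.lf 0x0) (.lf 0))) (.nd (.nd (.lf 0x0) (.lf 0x0)) (.nd (.lf 0x0) (.lf 0)))) (.nd (.nd (.nd (.lf 0x0) (.lf 0x142c)) (.nd (.lf 0x5f3b) (.lf 0))) (.nd (.nd (.lf 0x0) (.lf 0x0)) (.nd (.lf 0x7a9b) (.lf 0))))) (.nd (.nd (.nd (.nd (.lf 0x0) (.lf 0x0)) (.nd (.lf 0x7628) (.lf 0))) (.nd (.nd (.lf 0x0) (.lf 0x974)) (.nd (.lf 0x0) (.lf 0)))) (.nd (.nd (.nd (.lf 0x0) (.lf 0x0)) (.nd (.lf 0x0) (.lf 0))) (.nd (.nd (.lf 0x0) (.lf 0x3b6a)) (.nd (.lf 0x276) (.lf 0)))))) (.nd (.nd (.nd (.nd (.nd (.lf 0x0) (.lf 0x6a46)) (.nd (.lf 0x12a4) (.lf 0))) (.nd (.nd (.lf 0x0) (.lf 0xe00)) (.nd (.lf 0x0) (.lf 0)))) (.nd (.nd (.nd (.lf 0x0) (.lf 0x0)) (.nd (.lf 0x0)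 (.lf 0))) (.nd (.nd (.lf 0x0) (.lf 0x0)) (.nd (.lf 0x579f) (.lf 0))))) (.nd (.nd (.nd (.nd (.lf 0x0) (.lf 0x3c16)) (.nd (.lf 0x491c) (.lf 0))) (.nd (.nd (.lf 0x0) (.lf 0x424a)) (.nd (.lf 0x0) (.lf 0)))) (.nd (.nd (.nd (.lf 0x0) (.lf 0x5f56)) (.nd (.lf 0x0) (.lf 0))) (.nd (.nd (.lf 0x0) (.lf 0x3f7f)) (.nd (.lf 0x5cb3) (.lf 0))))))) (.nd (.nd (.nd (.nd (.nd (.nd (.lf 0x0) (.lf 0x0)) (.nd (.lf 0x0) (.lf 0))) (.nd (.nd (.lf 0x871e) (.lf 0x4027)) (.nd (.lf 0x1d07) (.lf 0)))) (.nd (.nd (.nd (.lf 0x0) (.lf 0x1a3b)) (.nd (.lf 0x6a2a) (.lf 0))) (.nd (.nd (.lf 0x0) (.lf 0x45a3)) (.nd (.lf 0x0) (.lf 0))))) (.nd (.nd (.nd (.nd (.lf 0x0) (.lf 0x0)) (.nd (.lf 0x0) (.lf 0))) (.nd (.nd (.lf 0x0) (.lf 0x4222)) (.nd (.lf 0x0) (.lf 0)))) (.nd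 (.nd (.nd (.lf 0x0) (.lf 0x3682)) (.nd (.lf 0x353) (.lf 0))) (.nd (.nd (.lf 0x0) (.lf 0x506e)) (.nd (.lf 0xd68) (.lf 0)))))) (.nd (.nd (.nd (.nd (.nd (.lf 0x0) (.lf 0x0)) (.nd (.lf 0x107) (.lf 0))) (.nd (.nd (.lf 0x0) (.lf 0x0)) (.nd (.lf 0x0) (.lf 0)))) (.nd (.nd (.nd (.lf 0x0) (.lf 0x0)) (.nd (.lf 0x475) (.lf 0))) (.nd (.nd (.lf 0x0) (.lf 0x41a4)) (.nd (.lf 0x235a) (.lf 0))))) (.nd (.nd (.nd (.nd (.lf 0x359c) (.lf 0x2922)) (.nd (.lf 0x0) (.lf 0))) (.nd (.nd (.lf 0x0) (.lf 0x0)) (.nd (.lf 0x0) (.lf 0)))) (.nd (.nd (.nd (.lf 0x0) (.lf 0x5f7e)) (.nd (.lf 0x1462) (.lf 0))) (.nd (.nd (.lf 0x0) (.lf 0x963)) (.nd (.lf 0x960) (.lf 0))))))))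
def witA_naaabbb : Tr := (.nd (.nd (.nd (.nd (.nd (.nd (.nd (.lf 0x0) (.lf 0x4d69)) (.nd (.lf 0xe6c) (.lf 0))) (.nd (.nd (.lf 0x0) (.lf 0x0)) (.nd (.lf 0x0) (.lf 0)))) (.nd (.nd (.nd (.lf 0x0) (.lf 0x4983)) (.nd (.lf 0x0) (.lf 0))) (.nd (.nd (.lf 0x7a60) (.lf 0x2474)) (.nd (.lf 0x6504) (.lf 0))))) (.nd (.nd (.nd (.nd (.lf 0x0) (.lf 0x2499)) (.nd (.lf 0x0) (.lf 0))) (.nd (.nd (.lf 0x0) (.lf 0x590)) (.nd (.lf 0x100c) (.lf 0)))) (.nd (.nd (.nd (.lf 0x0) (.lf 0x2f9f)) (.nd (.lf 0x0) (.lf 0))) (.nd (.nd (.lf 0x0) (.lf 0x1b68)) (.nd (.lf 0x0) (.lf 0)))))) (.nd (.nd (.nd (.nd (.nd (.lf 0x0) (.lf 0x6aa)) (.nd (.lf 0x0) (.lf 0))) (.nd (.nd (.lf 0x0) (.lf 0x0)) (.nd (.lf 0x0) (.lf 0)))) (.nd (.nd (.nd (.lf 0x0) (.lf 0x0)) (.nd (.lf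 0x0) (.lf 0))) (.nd (.nd (.lf 0x0) (.lf 0x0)) (.nd (.lf 0x0) (.lf 0))))) (.nd (.nd (.nd (.nd (.lf 0x0) (.lf 0x6b14)) (.nd (.lf 0x0) (.lf 0))) (.nd (.nd (.lf 0x0) (.lf 0x7534)) (.nd (.lf 0x6a3b) (.lf 0)))) (.nd (.nd (.nd (.lf 0x0) (.lf 0x38a8)) (.nd (.lf 0x5e53) (.lf 0))) (.nd (.nd (.lf 0x0) (.lf 0x3e5e)) (.nd (.lf 0x0) (.lf 0))))))) (.nd (.nd (.nd (.nd (.nd (.nd (.lf 0x0) (.lf 0x0)) (.nd (.lf 0x0) (.lf 0))) (.nd (.nd (.lf 0x0) (.lf 0x6308)) (.nd (.lf 0x454f) (.lf 0)))) (.nd (.nd (.nd (.lf 0x0) (.lf 0xd9c)) (.nd (.lf 0x3770) (.lf 0))) (.nd (.nd (.lf 0x0) (.lf 0x4b2d)) (.nd (.lf 0x5978) (.lf 0))))) (.nd (.nd (.nd (.nd (.lf 0x0) (.lf 0x0)) (.nd (.lf 0x0) (.lf 0))) (.nd (.nd (.lf 0x0) (.lf 0x0)) (.nd (.lf 0x0) (.lf 0)))) (.nd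 (.nd (.nd (.lf 0x0) (.lf 0x0)) (.nd (.lf 0x2e5d) (.lf 0))) (.nd (.nd (.lf 0x0) (.lf 0x2b31)) (.nd (.lf 0x0) (.lf 0)))))) (.nd (.nd (.nd (.nd (.nd (.lf 0x0) (.lf 0x536)) (.nd (.lf 0x0) (.lf 0))) (.nd (.nd (.lf 0x0) (.lf 0x2e4d)) (.nd (.lf 0x5c53) (.lf 0)))) (.nd (.nd (.nd (.lf 0x0) (.lf 0x0)) (.nd (.lf 0x0) (.lf 0))) (.nd (.nd (.lf 0x0) (.lf 0x986)) (.nd (.lf 0x0) (.lf 0))))) (.nd (.nd (.nd (.nd (.lf 0x0) (.lf 0x2c5f)) (.nd (.lf 0x0) (.lf 0))) (.nd (.nd (.lf 0x0) (.lf 0x11a1)) (.nd (.lf 0x0) (.lf 0)))) (.nd (.nd (.nd (.lf 0x0) (.lf 0x66b0)) (.nd (.lf 0x556d) (.lf 0))) (.nd (.nd (.lf 0x0) (.lf 0x2212)) (.nd (.lf 0x0) (.lf 0))))))))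
def witA_naabaaa : Tr := (.nd (.nd (.nd (.nd (.nd (.nd (.nd (.lf 0x0) (.lf 0x0)) (.nd (.lf 0x0) (.lf 0x21a2))) (.nd (.nd (.lf 0x0) (.lf 0x0)) (.nd (.lf 0x7691) (.lf 0)))) (.nd (.nd (.nd (.lf 0x0) (.lf 0x8091)) (.nd (.lf 0x0) (.lf 0))) (.nd (.nd (.lf 0x0) (.lf 0x406a)) (.nd (.lf 0x0) (.lf 0))))) (.nd (.nd (.nd (.nd (.lf 0x0) (.lf 0x1342)) (.nd (.lf 0x0) (.lf 0))) (.nd (.nd (.lf 0x0) (.lf 0xd6f)) (.nd (.lf 0xe88) (.lf 0)))) (.nd (.nd (.nd (.lf 0x0) (.lf 0x0)) (.nd (.lf 0x0) (.lf 0))) (.nd (.nd (.lf 0x0) (.lf 0x7279)) (.nd (.lf 0x0) (.lf 0)))))) (.nd (.nd (.nd (.nd (.nd (.lf 0x0) (.lf 0x0)) (.nd (.lf 0x0) (.lf 0))) (.nd (.nd (.lf 0x0) (.lf 0x1425)) (.nd (.lf 0x0) (.lf 0)))) (.nd (.nd (.nd (.lf 0x0) (.lf 0x0)) (.nd (.lf 0x0) (.lf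 0))) (.nd (.nd (.lf 0x0) (.lf 0xa6a)) (.nd (.lf 0x7a5a) (.lf 0))))) (.nd (.nd (.nd (.nd (.lf 0x0) (.lf 0x1e22)) (.nd (.lf 0x0) (.lf 0))) (.nd (.nd (.lf 0x0) (.lf 0x2c05)) (.nd (.lf 0x0) (.lf 0)))) (.nd (.nd (.nd (.lf 0x0) (.lf 0x0)) (.nd (.lf 0x0) (.lf 0))) (.nd (.nd (.lf 0x0) (.lf 0x3753)) (.nd (.lf 0x0) (.lf 0))))))) (.nd (.nd (.nd (.nd (.nd (.nd (.lf 0x0) (.lf 0x7f86)) (.nd (.lf 0x0) (.lf 0))) (.nd (.nd (.lf 0x0) (.lf 0x758d)) (.nd (.lf 0x0) (.lf 0)))) (.nd (.nd (.nd (.lf 0x0) (.lf 0x2e86)) (.nd (.lf 0x8413) (.lf 0))) (.nd (.nd (.lf 0x0) (.lf 0x100)) (.nd (.lf 0x0) (.lf 0))))) (.nd (.nd (.nd (.nd (.lf 0x0) (.lf 0x22e)) (.nd (.lf 0x0) (.lf 0))) (.nd (.nd (.lf 0x613a) (.lf 0x2845)) (.nd (.lf 0x0) (.lf 0)))) (.nd (.nd (.nd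 (.lf 0x0) (.lf 0x6c7e)) (.nd (.lf 0x0) (.lf 0))) (.nd (.nd (.lf 0x0) (.lf 0x56a4)) (.nd (.lf 0x1ca6) (.lf 0)))))) (.nd (.nd (.nd (.nd (.nd (.lf 0x0) (.lf 0x0)) (.nd (.lf 0x0) (.lf 0))) (.nd (.nd (.lf 0x0) (.lf 0x2775)) (.nd (.lf 0x0) (.lf 0)))) (.nd (.nd (.nd (.lf 0x0) (.lf 0x0)) (.nd (.lf 0x5b15) (.lf 0))) (.nd (.nd (.lf 0x0) (.lf 0x519b)) (.nd (.lf 0x130c) (.lf 0))))) (.nd (.nd (.nd (.nd (.lf 0x0) (.lf 0x0)) (.nd (.lf 0x253a) (.lf 0))) (.nd (.nd (.lf 0x0) (.lf 0x0)) (.nd (.lf 0x0) (.lf 0)))) (.nd (.nd (.nd (.lf 0x0) (.lf 0x218b)) (.nd (.lf 0x7221) (.lf 0))) (.nd (.nd (.lf 0x0) (.lf 0x4905)) (.nd (.lf 0x5171) (.lf 0))))))))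
def witA_naabaab : Tr := (.nd (.nd (.nd (.nd (.nd (.nd (.nd (.lf 0x0) (.lf 0x0)) (.nd (.lf 0x0) (.lf 0))) (.nd (.nd (.lf 0x0) (.lf 0x0)) (.nd (.lf 0x0) (.lf 0)))) (.nd (.nd (.nd (.lf 0x0) (.lf 0x0)) (.nd (.lf 0x0) (.lf 0))) (.nd (.nd (.lf 0x0) (.lf 0x4313)) (.nd (.lf 0x0) (.lf 0))))) (.nd (.nd (.nd (.nd (.lf 0x0) (.lf 0x83b0)) (.nd (.lf 0x0) (.lf 0))) (.nd (.nd (.lf 0x0) (.lf 0x52a4)) (.nd (.lf 0x0) (.lf 0)))) (.nd (.nd (.nd (.lf 0x0) (.lf 0x3c07)) (.nd (.lf 0x0) (.lf 0))) (.nd (.nd (.lf 0x3257) (.lf 0x37ae)) (.nd (.lf 0x2a7b) (.lf 0)))))) (.nd (.nd (.nd (.nd (.nd (.lf 0x0) (.lf 0x1b83)) (.nd (.lf 0x0) (.lf 0))) (.nd (.nd (.lf 0x0) (.lf 0x1cae)) (.nd (.lf 0x0) (.lf 0)))) (.nd (.nd (.nd (.lf 0x0) (.lf 0x7f4c)) (.nd (.lf 0x5f5f)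 (.lf 0))) (.nd (.nd (.lf 0x0) (.lf 0x6f41)) (.nd (.lf 0x4b62) (.lf 0))))) (.nd (.nd (.nd (.nd (.lf 0x0) (.lf 0x0)) (.nd (.lf 0x0) (.lf 0))) (.nd (.nd (.lf 0x0) (.lf 0x5f24)) (.nd (.lf 0x0) (.lf 0)))) (.nd (.nd (.nd (.lf 0x0) (.lf 0x2394)) (.nd (.lf 0x0) (.lf 0))) (.nd (.nd (.lf 0x0) (.lf 0x315f)) (.nd (.lf 0x4317) (.lf 0))))))) (.nd (.nd (.nd (.nd (.nd (.nd (.lf 0x0) (.lf 0x0)) (.nd (.lf 0x0) (.lf 0))) (.nd (.nd (.lf 0x0) (.lf 0x0)) (.nd (.lf 0x0) (.lf 0)))) (.nd (.nd (.nd (.lf 0x0) (.lf 0x0)) (.nd (.lf 0x831d) (.lf 0))) (.nd (.nd (.lf 0x0) (.lf 0x0)) (.nd (.lf 0x741e) (.lf 0))))) (.nd (.nd (.nd (.nd (.lf 0x0) (.lf 0x5b03)) (.nd (.lf 0x1caf) (.lf 0))) (.nd (.nd (.lf 0x0) (.lf 0x6965)) (.nd (.lf 0x13ab) (.lf 0)))) (.nd (.nd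 (.nd (.lf 0x0) (.lf 0x4010)) (.nd (.lf 0x0) (.lf 0))) (.nd (.nd (.lf 0x0) (.lf 0x3708)) (.nd (.lf 0x6598) (.lf 0)))))) (.nd (.nd (.nd (.nd (.nd (.lf 0x0) (.lf 0x0)) (.nd (.lf 0x4012) (.lf 0))) (.nd (.nd (.lf 0x0) (.lf 0x0)) (.nd (.lf 0x0) (.lf 0)))) (.nd (.nd (.nd (.lf 0x0) (.lf 0x5242)) (.nd (.lf 0x0) (.lf 0))) (.nd (.nd (.lf 0x0) (.lf 0x59a8)) (.nd (.lf 0x0) (.lf 0))))) (.nd (.nd (.nd (.nd (.lf 0x0) (.lf 0x778f)) (.nd (.lf 0x3c68) (.lf 0))) (.nd (.nd (.lf 0x0) (.lf 0x0)) (.nd (.lf 0x5b0f) (.lf 0)))) (.nd (.nd (.nd (.lf 0x4162) (.lf 0x0)) (.nd (.lf 0x0) (.lf 0))) (.nd (.nd (.lf 0x0) (.lf 0x0)) (.nd (.lf 0x0) (.lf 0))))))))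
def witA_naababa : Tr := (.nd (.nd (.nd (.nd (.nd (.nd (.nd (.lf 0x0) (.lf 0x729a)) (.nd (.lf 0x0) (.lf 0))) (.nd (.nd (.lf 0x0) (.lf 0x4c7b)) (.nd (.lf 0x5243) (.lf 0)))) (.nd (.nd (.nd (.lf 0x0) (.lf 0x0)) (.nd (.lf 0x2690) (.lf 0))) (.nd (.nd (.lf 0x0) (.lf 0x1725)) (.nd (.lf 0x0) (.lf 0))))) (.nd (.nd (.nd (.nd (.lf 0x0) (.lf 0x2b51)) (.nd (.lf 0x0) (.lf 0))) (.nd (.nd (.lf 0x0) (.lf 0xd48)) (.nd (.lf 0x0) (.lf 0)))) (.nd (.nd (.nd (.lf 0x0) (.lf 0x0)) (.nd (.lf 0x0) (.lf 0))) (.nd (.nd (.lf 0x0) (.lf 0x93b)) (.nd (.lf 0x0) (.lf 0)))))) (.nd (.nd (.nd (.nd (.nd (.lf 0x0) (.lf 0x0)) (.nd (.lf 0x0) (.lf 0))) (.nd (.nd (.lf 0x0) (.lf 0x6171)) (.nd (.lf 0x0) (.lf 0)))) (.nd (.nd (.nd (.lf 0x0) (.lf 0x0)) (.nd (.lf 0x0) (.lf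 0))) (.nd (.nd (.lf 0x0) (.lf 0x309a)) (.nd (.lf 0x4a45) (.lf 0))))) (.nd (.nd (.nd (.nd (.lf 0x0) (.lf 0x258e)) (.nd (.lf 0x0) (.lf 0))) (.nd (.nd (.lf 0x0) (.lf 0x2835)) (.nd (.lf 0x3e3b) (.lf 0)))) (.nd (.nd (.nd (.lf 0x0) (.lf 0x81b3)) (.nd (.lf 0x0) (.lf 0))) (.nd (.nd (.lf 0x0) (.lf 0x0)) (.nd (.lf 0x1b6c) (.lf 0))))))) (.nd (.nd (.nd (.nd (.nd (.nd (.lf 0x0) (.lf 0x4eaf)) (.nd (.lf 0x0) (.lf 0))) (.nd (.nd (.lf 0x6307) (.lf 0x507c)) (.nd (.lf 0x0) (.lf 0)))) (.nd (.nd (.nd (.lf 0x0) (.lf 0x40b0)) (.nd (.lf 0x42b) (.lf 0))) (.nd (.nd (.lf 0x0) (.lf 0x629a)) (.nd (.lf 0x0) (.lf 0))))) (.nd (.nd (.nd (.nd (.lf 0x0) (.lf 0x0)) (.nd (.lf 0x6168) (.lf 0))) (.nd (.nd (.lf 0xd76) (.lf 0x7d18)) (.nd (.lf 0x13b1) (.lf 0)))) (.nd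 (.nd (.nd (.lf 0x0) (.lf 0x2c3e)) (.nd (.lf 0x0) (.lf 0))) (.nd (.nd (.lf 0x0) (.lf 0x0)) (.nd (.lf 0x7062) (.lf 0)))))) (.nd (.nd (.nd (.nd (.nd (.lf 0x0) (.lf 0x3901)) (.nd (.lf 0x0) (.lf 0))) (.nd (.nd (.lf 0x4ca0) (.lf 0x6322)) (.nd (.lf 0x283) (.lf 0)))) (.nd (.nd (.nd (.lf 0x0) (.lf 0x0)) (.nd (.lf 0x0) (.lf 0))) (.nd (.nd (.lf 0x0) (.lf 0x0)) (.nd (.lf 0x8771) (.lf 0))))) (.nd (.nd (.nd (.nd (.lf 0x0) (.lf 0x464d)) (.nd (.lf 0x0) (.lf 0))) (.nd (.nd (.lf 0x0) (.lf 0x4750)) (.nd (.lf 0xd06) (.lf 0)))) (.nd (.nd (.nd (.lf 0x0) (.lf 0x0)) (.nd (.lf 0x0) (.lf 0))) (.nd (.nd (.lf 0x7e4d) (.lf 0x8766)) (.nd (.lf 0x0) (.lf 0))))))))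
def witA_naababb : Tr := (.nd (.nd (.nd (.nd (.nd (.nd (.nd (.lf 0x0) (.lf 0x846a)) (.nd (.lf 0x0) (.lf 0))) (.nd (.nd (.lf 0x0) (.lf 0x3440)) (.nd (.lf 0x2f7a) (.lf 0)))) (.nd (.nd (.nd (.lf 0x0) (.lf 0x6e7b)) (.nd (.lf 0x0) (.lf 0))) (.nd (.nd (.lf 0x0) (.lf 0x7a3)) (.nd (.lf 0x7e85) (.lf 0))))) (.nd (.nd (.nd (.nd (.lf 0x0) (.lf 0x0)) (.nd (.lf 0x0) (.lf 0))) (.nd (.nd (.lf 0x0) (.lf 0x4ca0)) (.nd (.lf 0x0) (.lf 0)))) (.nd (.nd (.nd (.lf 0x0) (.lf 0x0)) (.nd (.lf 0x0) (.lf 0))) (.nd (.nd (.lf 0x119f) (.lf 0x4d24)) (.nd (.lf 0x6208) (.lf 0)))))) (.nd (.nd (.nd (.nd (.nd (.lf 0x0) (.lf 0x0)) (.nd (.lf 0x0) (.lf 0))) (.nd (.nd (.lf 0x0) (.lf 0x0)) (.nd (.lf 0x3f56) (.lf 0)))) (.nd (.nd (.nd (.lf 0x0) (.lf 0x0)) (.nd (.lf 0x0)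 (.lf 0))) (.nd (.nd (.lf 0x0) (.lf 0x545a)) (.nd (.lf 0x0) (.lf 0))))) (.nd (.nd (.nd (.nd (.lf 0x0) (.lf 0x0)) (.nd (.lf 0x0) (.lf 0))) (.nd (.nd (.lf 0x0) (.lf 0x737e)) (.nd (.lf 0x591f) (.lf 0)))) (.nd (.nd (.nd (.lf 0x0) (.lf 0x4f16)) (.nd (.lf 0x2168) (.lf 0))) (.nd (.nd (.lf 0x0) (.lf 0x2c18)) (.nd (.lf 0x6d14) (.lf 0))))))) (.nd (.nd (.nd (.nd (.nd (.nd (.lf 0x0) (.lf 0x0)) (.nd (.lf 0x0) (.lf 0))) (.nd (.nd (.lf 0x0) (.lf 0x12e)) (.nd (.lf 0x0) (.lf 0)))) (.nd (.nd (.nd (.lf 0x0) (.lf 0x0)) (.nd (.lf 0x0) (.lf 0))) (.nd (.nd (.lf 0x0) (.lf 0x163e)) (.nd (.lf 0x5d0a) (.lf 0))))) (.nd (.nd (.nd (.nd (.lf 0x0) (.lf 0x0)) (.nd (.lf 0x180f) (.lf 0))) (.nd (.nd (.lf 0x0) (.lf 0x0)) (.nd (.lf 0x0) (.lf 0)))) (.nd (.nd (.nd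 (.lf 0x0) (.lf 0x6b13)) (.nd (.lf 0x0) (.lf 0))) (.nd (.nd (.lf 0x0) (.lf 0x2801)) (.nd (.lf 0x5b4e) (.lf 0)))))) (.nd (.nd (.nd (.nd (.nd (.lf 0x0) (.lf 0x7183)) (.nd (.lf 0x6c96) (.lf 0))) (.nd (.nd (.lf 0x0) (.lf 0x357)) (.nd (.lf 0x0) (.lf 0)))) (.nd (.nd (.nd (.lf 0x0) (.lf 0x473e)) (.nd (.lf 0x7c7d) (.lf 0))) (.nd (.nd (.lf 0x0) (.lf 0x0)) (.nd (.lf 0x0) (.lf 0))))) (.nd (.nd (.nd (.nd (.lf 0x0) (.lf 0x0)) (.nd (.lf 0x7c7e) (.lf 0))) (.nd (.nd (.lf 0x0) (.lf 0x457c)) (.nd (.lf 0x0) (.lf 0)))) (.nd (.nd (.nd (.lf 0x0) (.lf 0x698b)) (.nd (.lf 0x0) (.lf 0))) (.nd (.nd (.lf 0x0) (.lf 0x1e32)) (.nd (.lf 0x5a12) (.lf 0))))))))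
def witA_naabbaa : Tr := (.nd (.nd (.nd (.nd (.nd (.nd (.nd (.lf 0x0) (.lf 0x0)) (.nd (.lf 0x0) (.lf 0))) (.nd (.nd (.lf 0x8469) (.lf 0x71ab)) (.nd (.lf 0x0) (.lf 0)))) (.nd (.nd (.nd (.lf 0x0) (.lf 0x0)) (.nd (.lf 0x0) (.lf 0))) (.nd (.nd (.lf 0x0) (.lf 0x0)) (.nd (.lf 0x7189) (.lf 0))))) (.nd (.nd (.nd (.nd (.lf 0x0) (.lf 0x0)) (.nd (.lf 0x0) (.lf 0))) (.nd (.nd (.lf 0x0) (.lf 0x0)) (.nd (.lf 0x0) (.lf 0)))) (.nd (.nd (.nd (.lf 0x4685) (.lf 0x0)) (.nd (.lf 0x5c32) (.lf 0))) (.nd (.nd (.lf 0x0) (.lf 0x7078)) (.nd (.lf 0x0) (.lf 0)))))) (.nd (.nd (.nd (.nd (.nd (.lf 0x0) (.lf 0x0)) (.nd (.lf 0x0) (.lf 0))) (.nd (.nd (.lf 0x0) (.lf 0x7b)) (.nd (.lf 0x0) (.lf 0)))) (.nd (.nd (.nd (.lf 0x0) (.lf 0x4391)) (.nd (.lf 0x0) (.lf 0)))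 (.nd (.nd (.lf 0x0) (.lf 0x232b)) (.nd (.lf 0x2924) (.lf 0))))) (.nd (.nd (.nd (.nd (.lf 0x0) (.lf 0x2aab)) (.nd (.lf 0xa08) (.lf 0))) (.nd (.nd (.lf 0x0) (.lf 0x3514)) (.nd (.lf 0x7a23) (.lf 0)))) (.nd (.nd (.nd (.lf 0x0) (.lf 0x6671)) (.nd (.lf 0x0) (.lf 0))) (.nd (.nd (.lf 0x0) (.lf 0x380f)) (.nd (.lf 0x0) (.lf 0))))))) (.nd (.nd (.nd (.nd (.nd (.nd (.lf 0x0) (.lf 0x8026)) (.nd (.lf 0x0) (.lf 0))) (.nd (.nd (.lf 0x0) (.lf 0x0)) (.nd (.lf 0x0) (.lf 0)))) (.nd (.nd (.nd (.lf 0x0) (.lf 0x4115)) (.nd (.lf 0x4c62) (.lf 0))) (.nd (.nd (.lf 0x0) (.lf 0x1a74)) (.nd (.lf 0x0) (.lf 0))))) (.nd (.nd (.nd (.nd (.lf 0x0) (.lf 0x0)) (.nd (.lf 0x0) (.lf 0))) (.nd (.nd (.lf 0x0) (.lf 0x0)) (.nd (.lf 0x0) (.lf 0)))) (.nd (.nd (.nd (.lf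 0x0) (.lf 0x5750)) (.nd (.lf 0x0) (.lf 0))) (.nd (.nd (.lf 0x475) (.lf 0x5557)) (.nd (.lf 0x7e92) (.lf 0)))))) (.nd (.nd (.nd (.nd (.nd (.lf 0x0) (.lf 0x7e1e)) (.nd (.lf 0x0) (.lf 0))) (.nd (.nd (.lf 0x0) (.lf 0x3b52)) (.nd (.lf 0x0) (.lf 0)))) (.nd (.nd (.nd (.lf 0x0) (.lf 0x0)) (.nd (.lf 0x243c) (.lf 0))) (.nd (.nd (.lf 0x0) (.lf 0x0)) (.nd (.lf 0x0) (.lf 0))))) (.nd (.nd (.nd (.nd (.lf 0x0) (.lf 0x424c)) (.nd (.lf 0x0) (.lf 0))) (.nd (.nd (.lf 0x0) (.lf 0x656a)) (.nd (.lf 0x7630) (.lf 0)))) (.nd (.nd (.nd (.lf 0x0) (.lf 0x200f)) (.nd (.lf 0x0) (.lf 0))) (.nd (.nd (.lf 0x0) (.lf 0x0)) (.nd (.lf 0x7163) (.lf 0))))))))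
def witA_naabbab : Tr := (.nd (.nd (.nd (.nd (.nd (.nd (.nd (.lf 0x0) (.lf 0x7f5c)) (.nd (.lf 0x2282) (.lf 0))) (.nd (.nd (.lf 0x0) (.lf 0x6206)) (.nd (.lf 0x5b43) (.lf 0)))) (.nd (.nd (.nd (.lf 0x0) (.lf 0x4836)) (.nd (.lf 0x3120) (.lf 0))) (.nd (.nd (.lf 0x0) (.lf 0x4924)) (.nd (.lf 0x0) (.lf 0))))) (.nd (.nd (.nd (.nd (.lf 0x0) (.lf 0x0)) (.nd (.lf 0x0) (.lf 0))) (.nd (.nd (.lf 0x0) (.lf 0x316d)) (.nd (.lf 0x464d) (.lf 0)))) (.nd (.nd (.nd (.lf 0x0) (.lf 0x3c59)) (.nd (.lf 0x4296) (.lf 0))) (.nd (.nd (.lf 0x0) (.lf 0x2b87)) (.nd (.lf 0x4b9f) (.lf 0)))))) (.nd (.nd (.nd (.nd (.nd (.lf 0x0) (.lf 0x0)) (.nd (.lf 0x7b5c) (.lf 0))) (.nd (.nd (.lf 0x0) (.lf 0x5118)) (.nd (.lf 0x0) (.lf 0)))) (.nd (.nd (.nd (.lf 0x0) (.lf 0x0))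 (.nd (.lf 0x0) (.lf 0))) (.nd (.nd (.lf 0x0) (.lf 0x0)) (.nd (.lf 0x0) (.lf 0))))) (.nd (.nd (.nd (.nd (.lf 0x0) (.lf 0x295c)) (.nd (.lf 0x0) (.lf 0))) (.nd (.nd (.lf 0x0) (.lf 0x4bac)) (.nd (.lf 0x8156) (.lf 0)))) (.nd (.nd (.nd (.lf 0x0) (.lf 0x469e)) (.nd (.lf 0x0) (.lf 0))) (.nd (.nd (.lf 0x0) (.lf 0x83b1)) (.nd (.lf 0x3072) (.lf 0))))))) (.nd (.nd (.nd (.nd (.nd (.nd (.lf 0x0) (.lf 0x0)) (.nd (.lf 0x829) (.lf 0))) (.nd (.nd (.lf 0x0) (.lf 0x10a0)) (.nd (.lf 0x1a17) (.lf 0)))) (.nd (.nd (.nd (.lf 0x0) (.lf 0x0)) (.nd (.lf 0x0) (.lf 0))) (.nd (.nd (.lf 0x0) (.lf 0x6c3f)) (.nd (.lf 0x0) (.lf 0))))) (.nd (.nd (.nd (.nd (.lf 0x0) (.lf 0x474a)) (.nd (.lf 0x0) (.lf 0))) (.nd (.nd (.lf 0x0) (.lf 0x1d88)) (.nd (.lf 0x857c) (.lf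 0)))) (.nd (.nd (.nd (.lf 0x0) (.lf 0x6645)) (.nd (.lf 0x5127) (.lf 0))) (.nd (.nd (.lf 0x0) (.lf 0x7b37)) (.nd (.lf 0x2d84) (.lf 0)))))) (.nd (.nd (.nd (.nd (.nd (.lf 0x0) (.lf 0x0)) (.nd (.lf 0x0) (.lf 0))) (.nd (.nd (.lf 0x0) (.lf 0x3151)) (.nd (.lf 0x0) (.lf 0)))) (.nd (.nd (.nd (.lf 0x0) (.lf 0x0)) (.nd (.lf 0x0) (.lf 0))) (.nd (.nd (.lf 0x0) (.lf 0x5d71)) (.nd (.lf 0x5fab) (.lf 0))))) (.nd (.nd (.nd (.nd (.lf 0x0) (.lf 0x0)) (.nd (.lf 0x0) (.lf 0))) (.nd (.nd (.lf 0x3f77) (.lf 0x6f92)) (.nd (.lf 0x5aa2) (.lf 0)))) (.nd (.nd (.nd (.lf 0x0) (.lf 0x0)) (.nd (.lf 0x529a) (.lf 0))) (.nd (.nd (.lf 0x0) (.lf 0x5088)) (.nd (.lf 0x1f0b) (.lf 0))))))))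
def witA_naabbba : Tr := (.nd (.nd (.nd (.nd (.nd (.nd (.nd (.lf 0x0) (.lf 0x0)) (.nd (.lf 0x0) (.lf 0))) (.nd (.nd (.lf 0x0) (.lf 0xb)) (.nd (.lf 0x0) (.lf 0)))) (.nd (.nd (.nd (.lf 0x0) (.lf 0x0)) (.nd (.lf 0x0) (.lf 0))) (.nd (.nd (.lf 0x0) (.lf 0x7f53)) (.nd (.lf 0x0) (.lf 0))))) (.nd (.nd (.nd (.nd (.lf 0x0) (.lf 0x0)) (.nd (.lf 0x4b9d) (.lf 0))) (.nd (.nd (.lf 0x0) (.lf 0x0)) (.nd (.lf 0x0) (.lf 0)))) (.nd (.nd (.nd (.lf 0x0) (.lf 0x51a8)) (.nd (.lf 0x0) (.lf 0))) (.nd (.nd (.lf 0x4f7e) (.lf 0x346a)) (.nd (.lf 0x1a) (.lf 0)))))) (.nd (.nd (.nd (.nd (.nd (.lf 0x0) (.lf 0xa1d)) (.nd (.lf 0x2a46) (.lf 0))) (.nd (.nd (.lf 0x0) (.lf 0x829f)) (.nd (.lf 0x0) (.lf 0)))) (.nd (.nd (.nd (.lf 0x0) (.lf 0x0)) (.nd (.lf 0x0) (.lf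 0))) (.nd (.nd (.lf 0x0) (.lf 0x0)) (.nd (.lf 0x0) (.lf 0))))) (.nd (.nd (.nd (.nd (.lf 0x0) (.lf 0x0)) (.nd (.lf 0x0) (.lf 0))) (.nd (.nd (.lf 0x0) (.lf 0x5e04)) (.nd (.lf 0x6b8a) (.lf 0)))) (.nd (.nd (.nd (.lf 0x0) (.lf 0x0)) (.nd (.lf 0x0) (.lf 0))) (.nd (.nd (.lf 0x0) (.lf 0x3556)) (.nd (.lf 0x5971) (.lf 0))))))) (.nd (.nd (.nd (.nd (.nd (.nd (.lf 0x0) (.lf 0x6d78)) (.nd (.lf 0x414) (.lf 0))) (.nd (.nd (.lf 0x0) (.lf 0x4d3d)) (.nd (.lf 0x0) (.lf 0)))) (.nd (.nd (.nd (.lf 0x0) (.lf 0x0)) (.nd (.lf 0x0) (.lf 0))) (.nd (.nd (.lf 0x0) (.lf 0x411)) (.nd (.lf 0x6b4f) (.lf 0))))) (.nd (.nd (.nd (.nd (.lf 0x0) (.lf 0x7b84)) (.nd (.lf 0x0) (.lf 0))) (.nd (.nd (.lf 0x0) (.lf 0x0)) (.nd (.lf 0x596c) (.lf 0)))) (.nd (.nd (.nd (.lf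 0x2542) (.lf 0x0)) (.nd (.lf 0x0) (.lf 0))) (.nd (.nd (.lf 0x0) (.lf 0x66f)) (.nd (.lf 0x0) (.lf 0)))))) (.nd (.nd (.nd (.nd (.nd (.lf 0x0) (.lf 0x0)) (.nd (.lf 0x0) (.lf 0))) (.nd (.nd (.lf 0x0) (.lf 0x6f23)) (.nd (.lf 0x0) (.lf 0)))) (.nd (.nd (.nd (.lf 0x0) (.lf 0x386e)) (.nd (.lf 0x0) (.lf 0))) (.nd (.nd (.lf 0x0) (.lf 0x2633)) (.nd (.lf 0x554f) (.lf 0))))) (.nd (.nd (.nd (.nd (.lf 0x0) (.lf 0xb84)) (.nd (.lf 0x0) (.lf 0))) (.nd (.nd (.lf 0x0) (.lf 0x8562)) (.nd (.lf 0x2365) (.lf 0)))) (.nd (.nd (.nd (.lf 0x0) (.lf 0x5f13)) (.nd (.lf 0x0) (.lf 0))) (.nd (.nd (.lf 0x0) (.lf 0x2714)) (.nd (.lf 0x0) (.lf 0))))))))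
def witA_naabbbb : Tr := (.nd (.nd (.nd (.nd (.nd (.nd (.nd (.lf 0x0) (.lf 0x5589)) (.nd (.lf 0x0) (.lf 0))) (.nd (.nd (.lf 0x0) (.lf 0x0)) (.nd (.lf 0x8467) (.lf 0)))) (.nd (.nd (.nd (.lf 0x0) (.lf 0x0)) (.nd (.lf 0x0) (.lf 0))) (.nd (.nd (.lf 0x0) (.lf 0x7915)) (.nd (.lf 0x0) (.lf 0))))) (.nd (.nd (.nd (.nd (.lf 0x0) (.lf 0x0)) (.nd (.lf 0x0) (.lf 0))) (.nd (.nd (.lf 0x0) (.lf 0x355c)) (.nd (.lf 0x507a) (.lf 0)))) (.nd (.nd (.nd (.lf 0x0) (.lf 0x0)) (.nd (.lf 0x0) (.lf 0))) (.nd (.nd (.lf 0x0) (.lf 0x681f)) (.nd (.lf 0x0) (.lf 0)))))) (.nd (.nd (.nd (.nd (.nd (.lf 0x0) (.lf 0xca2)) (.nd (.lf 0x7160) (.lf 0))) (.nd (.nd (.lf 0x0) (.lf 0x33ab)) (.nd (.lf 0x0) (.lf 0)))) (.nd (.nd (.nd (.lf 0x0) (.lf 0x1a6c)) (.nd (.lf 0x4239)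 (.lf 0))) (.nd (.nd (.lf 0x0) (.lf 0x5775)) (.nd (.lf 0x0) (.lf 0))))) (.nd (.nd (.nd (.nd (.lf 0x0) (.lf 0x0)) (.nd (.lf 0x0) (.lf 0))) (.nd (.nd (.lf 0x0) (.lf 0x7e89)) (.nd (.lf 0x6147) (.lf 0)))) (.nd (.nd (.nd (.lf 0x0) (.lf 0x0)) (.nd (.lf 0x2d37) (.lf 0))) (.nd (.nd (.lf 0x0) (.lf 0x0)) (.nd (.lf 0x0) (.lf 0))))))) (.nd (.nd (.nd (.nd (.nd (.nd (.lf 0x0) (.lf 0x0)) (.nd (.lf 0x0) (.lf 0))) (.nd (.nd (.lf 0x0) (.lf 0x3e6e)) (.nd (.lf 0x2059) (.lf 0)))) (.nd (.nd (.nd (.lf 0x0) (.lf 0x2272)) (.nd (.lf 0x0) (.lf 0))) (.nd (.nd (.lf 0x0) (.lf 0x3656)) (.nd (.lf 0x0) (.lf 0))))) (.nd (.nd (.nd (.nd (.lf 0x0) (.lf 0x5a01)) (.nd (.lf 0x0) (.lf 0))) (.nd (.nd (.lf 0x4e71) (.lf 0x4880)) (.nd (.lf 0x0) (.lf 0)))) (.nd (.nd (.nd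 (.lf 0x0) (.lf 0x2a6)) (.nd (.lf 0x2057) (.lf 0))) (.nd (.nd (.lf 0x0) (.lf 0x1f77)) (.nd (.lf 0x8691) (.lf 0)))))) (.nd (.nd (.nd (.nd (.nd (.lf 0x0) (.lf 0x2f89)) (.nd (.lf 0x0) (.lf 0))) (.nd (.nd (.lf 0x0) (.lf 0x1778)) (.nd (.lf 0x0) (.lf 0)))) (.nd (.nd (.nd (.lf 0x0) (.lf 0x0)) (.nd (.lf 0x854f) (.lf 0))) (.nd (.nd (.lf 0x0) (.lf 0x2a88)) (.nd (.lf 0x200c) (.lf 0))))) (.nd (.nd (.nd (.nd (.lf 0x0) (.lf 0x567)) (.nd (.lf 0x0) (.lf 0))) (.nd (.nd (.lf 0x0) (.lf 0x4193)) (.nd (.lf 0x0) (.lf 0)))) (.nd (.nd (.nd (.lf 0x2c7f) (.lf 0x5e3c)) (.nd (.lf 0x6645) (.lf 0))) (.nd (.nd (.lf 0x0) (.lf 0x6461)) (.nd (.lf 0x4842) (.lf 0))))))))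
def witA_nabaaaa : Tr := (.nd (.nd (.nd (.nd (.nd (.nd (.nd (.lf 0x0) (.lf 0x819a)) (.nd (.lf 0x0) (.lf 0x1e5b))) (.nd (.nd (.lf 0x0) (.lf 0x0)) (.nd (.lf 0x0) (.lf 0)))) (.nd (.nd (.nd (.lf 0x872c) (.lf 0x6a60)) (.nd (.lf 0x0) (.lf 0))) (.nd (.nd (.lf 0x0) (.lf 0x0)) (.nd (.lf 0x0) (.lf 0))))) (.nd (.nd (.nd (.nd (.lf 0x0) (.lf 0x0)) (.nd (.lf 0x3f87) (.lf 0))) (.nd (.nd (.lf 0x0) (.lf 0x2a19)) (.nd (.lf 0x0) (.lf 0)))) (.nd (.nd (.nd (.lf 0x2e0f) (.lf 0x6d0d)) (.nd (.lf 0x0) (.lf 0))) (.nd (.nd (.lf 0x0) (.lf 0x154a)) (.nd (.lf 0x0) (.lf 0)))))) (.nd (.nd (.nd (.nd (.nd (.lf 0x0) (.lf 0x0)) (.nd (.lf 0x0) (.lf 0))) (.nd (.nd (.lf 0x0) (.lf 0x83af)) (.nd (.lf 0x217b) (.lf 0)))) (.nd (.nd (.nd (.lf 0x0) (.lf 0x8098)) (.nd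 (.lf 0x1604) (.lf 0))) (.nd (.nd (.lf 0x0) (.lf 0x6a4b)) (.nd (.lf 0x0) (.lf 0))))) (.nd (.nd (.nd (.nd (.lf 0x0) (.lf 0x3134)) (.nd (.lf 0x2622) (.lf 0))) (.nd (.nd (.lf 0x0) (.lf 0x0)) (.nd (.lf 0x0) (.lf 0)))) (.nd (.nd (.nd (.lf 0x0) (.lf 0x29ae)) (.nd (.lf 0x0) (.lf 0))) (.nd (.nd (.lf 0x3faf) (.lf 0x4a3e)) (.nd (.lf 0x97b) (.lf 0))))))) (.nd (.nd (.nd (.nd (.nd (.nd (.lf 0x0) (.lf 0x0)) (.nd (.lf 0x6c65) (.lf 0))) (.nd (.nd (.lf 0x7594) (.lf 0x0)) (.nd (.lf 0x0) (.lf 0)))) (.nd (.nd (.nd (.lf 0x0) (.lf 0x0)) (.nd (.lf 0x6360) (.lf 0))) (.nd (.nd (.lf 0x0) (.lf 0x4c7e)) (.nd (.lf 0x1faa) (.lf 0))))) (.nd (.nd (.nd (.nd (.lf 0x0) (.lf 0x0)) (.nd (.lf 0x3f3b) (.lf 0))) (.nd (.nd (.lf 0x0) (.lf 0x3335)) (.nd (.lf 0x0) (.lf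 0)))) (.nd (.nd (.nd (.lf 0x0) (.lf 0x0)) (.nd (.lf 0x0) (.lf 0))) (.nd (.nd (.lf 0x0) (.lf 0x4f99)) (.nd (.lf 0x0) (.lf 0)))))) (.nd (.nd (.nd (.nd (.nd (.lf 0x0) (.lf 0x736c)) (.nd (.lf 0x0) (.lf 0))) (.nd (.nd (.lf 0x486d) (.lf 0x2a5)) (.nd (.lf 0x759d) (.lf 0)))) (.nd (.nd (.nd (.lf 0x0) (.lf 0xc60)) (.nd (.lf 0x0) (.lf 0))) (.nd (.nd (.lf 0x0) (.lf 0x0)) (.nd (.lf 0x0) (.lf 0))))) (.nd (.nd (.nd (.nd (.lf 0x0) (.lf 0x6f12)) (.nd (.lf 0x0) (.lf 0))) (.nd (.nd (.lf 0x5f01) (.lf 0x0)) (.nd (.lf 0x2510) (.lf 0)))) (.nd (.nd (.nd (.lf 0x0) (.lf 0x0)) (.nd (.lf 0x1b9e) (.lf 0))) (.nd (.nd (.lf 0x0) (.lf 0x5a4f)) (.nd (.lf 0x4e8a) (.lf 0))))))))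
def witA_nabaaab : Tr := (.nd (.nd (.nd (.nd (.nd (.nd (.nd (.lf 0x0) (.lf 0x1872)) (.nd (.lf 0x0) (.lf 0))) (.nd (.nd (.lf 0x0) (.lf 0x491c)) (.nd (.lf 0x0) (.lf 0)))) (.nd (.nd (.nd (.lf 0x0) (.lf 0x70ac)) (.nd (.lf 0x0) (.lf 0))) (.nd (.nd (.lf 0x0) (.lf 0x758f)) (.nd (.lf 0x0) (.lf 0))))) (.nd (.nd (.nd (.nd (.lf 0x0) (.lf 0x8564)) (.nd (.lf 0x0) (.lf 0))) (.nd (.nd (.lf 0x0) (.lf 0x0)) (.nd (.lf 0x0) (.lf 0)))) (.nd (.nd (.nd (.lf 0x0) (.lf 0x0)) (.nd (.lf 0x0) (.lf 0))) (.nd (.nd (.lf 0x0) (.lf 0xf1c)) (.nd (.lf 0x507) (.lf 0)))))) (.nd (.nd (.nd (.nd (.nd (.lf 0x0) (.lf 0x0)) (.nd (.lf 0x0) (.lf 0))) (.nd (.nd (.lf 0x0) (.lf 0x0)) (.nd (.lf 0x0) (.lf 0)))) (.nd (.nd (.nd (.lf 0x0) (.lf 0x0)) (.nd (.lf 0x0) (.lf 0)))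 (.nd (.nd (.lf 0x0) (.lf 0x27b2)) (.nd (.lf 0x0) (.lf 0))))) (.nd (.nd (.nd (.nd (.lf 0x0) (.lf 0x0)) (.nd (.lf 0x0) (.lf 0))) (.nd (.nd (.lf 0x0) (.lf 0x4e5d)) (.nd (.lf 0x0) (.lf 0)))) (.nd (.nd (.nd (.lf 0x0) (.lf 0x0)) (.nd (.lf 0x1b6f) (.lf 0))) (.nd (.nd (.lf 0x0) (.lf 0x0)) (.nd (.lf 0x7822) (.lf 0))))))) (.nd (.nd (.nd (.nd (.nd (.nd (.lf 0x0) (.lf 0x0)) (.nd (.lf 0x0) (.lf 0))) (.nd (.nd (.lf 0x0) (.lf 0x0)) (.nd (.lf 0x0) (.lf 0)))) (.nd (.nd (.nd (.lf 0x0) (.lf 0x0)) (.nd (.lf 0x0) (.lf 0))) (.nd (.nd (.lf 0x0) (.lf 0x783f)) (.nd (.lf 0x0) (.lf 0))))) (.nd (.nd (.nd (.nd (.lf 0x0) (.lf 0x0)) (.nd (.lf 0x2062) (.lf 0))) (.nd (.nd (.lf 0x0) (.lf 0x2563)) (.nd (.lf 0x2625) (.lf 0)))) (.nd (.nd (.nd (.lf 0x0) (.lf 0x5570))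 (.nd (.lf 0x265) (.lf 0))) (.nd (.nd (.lf 0x73a9) (.lf 0x8202)) (.nd (.lf 0x4799) (.lf 0)))))) (.nd (.nd (.nd (.nd (.nd (.lf 0x0) (.lf 0x6658)) (.nd (.lf 0x175e) (.lf 0))) (.nd (.nd (.lf 0x0) (.lf 0x3436)) (.nd (.lf 0x3464) (.lf 0)))) (.nd (.nd (.nd (.lf 0x5e9c) (.lf 0x568c)) (.nd (.lf 0x0) (.lf 0))) (.nd (.nd (.lf 0x3177) (.lf 0x3163)) (.nd (.lf 0x0) (.lf 0))))) (.nd (.nd (.nd (.nd (.lf 0x4e8f) (.lf 0x7e1c)) (.nd (.lf 0xc73) (.lf 0))) (.nd (.nd (.lf 0x0) (.lf 0x840b)) (.nd (.lf 0x382) (.lf 0)))) (.nd (.nd (.nd (.lf 0x0) (.lf 0x0)) (.nd (.lf 0x5d5e) (.lf 0))) (.nd (.nd (.lf 0x0) (.lf 0x6188)) (.nd (.lf 0x0) (.lf 0))))))))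
def witA_nabaaba : Tr := (.nd (.nd (.nd (.nd (.nd (.nd (.nd (.lf 0x0) (.lf 0x43a9)) (.nd (.lf 0x7b4c) (.lf 0))) (.nd (.nd (.lf 0x0) (.lf 0x0)) (.nd (.lf 0x0) (.lf 0)))) (.nd (.nd (.nd (.lf 0x0) (.lf 0x188c)) (.nd (.lf 0x0) (.lf 0))) (.nd (.nd (.lf 0x0) (.lf 0x0)) (.nd (.lf 0x259) (.lf 0))))) (.nd (.nd (.nd (.nd (.lf 0x0) (.lf 0x0)) (.nd (.lf 0x0) (.lf 0))) (.nd (.nd (.lf 0x0) (.lf 0x1a67)) (.nd (.lf 0x0) (.lf 0)))) (.nd (.nd (.nd (.lf 0x4208) (.lf 0x6eae)) (.nd (.lf 0x0) (.lf 0))) (.nd (.nd (.lf 0x7eaa) (.lf 0x1e06)) (.nd (.lf 0x1c98) (.lf 0)))))) (.nd (.nd (.nd (.nd (.nd (.lf 0x0) (.lf 0x0)) (.nd (.lf 0x592d) (.lf 0))) (.nd (.nd (.lf 0x0) (.lf 0x6412)) (.nd (.lf 0x4a2b) (.lf 0)))) (.nd (.nd (.nd (.lf 0x0) (.lf 0x133e)) (.nd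 (.lf 0x7025) (.lf 0))) (.nd (.nd (.lf 0x66b) (.lf 0x4a8e)) (.nd (.lf 0x0) (.lf 0))))) (.nd (.nd (.nd (.nd (.lf 0x0) (.lf 0x3c49)) (.nd (.lf 0x0) (.lf 0))) (.nd (.nd (.lf 0x0) (.lf 0x7b4d)) (.nd (.lf 0x412c) (.lf 0)))) (.nd (.nd (.nd (.lf 0x0) (.lf 0x0)) (.nd (.lf 0x0) (.lf 0))) (.nd (.nd (.lf 0x2445) (.lf 0x4d93)) (.nd (.lf 0x0) (.lf 0))))))) (.nd (.nd (.nd (.nd (.nd (.nd (.lf 0x0) (.lf 0x0)) (.nd (.lf 0x0) (.lf 0))) (.nd (.nd (.lf 0x2c0b) (.lf 0x32f)) (.nd (.lf 0x0) (.lf 0)))) (.nd (.nd (.nd (.lf 0x0) (.lf 0x230b)) (.nd (.lf 0x0) (.lf 0))) (.nd (.nd (.lf 0x0) (.lf 0x0)) (.nd (.lf 0x0) (.lf 0))))) (.nd (.nd (.nd (.nd (.lf 0x0) (.lf 0x0)) (.nd (.lf 0x0) (.lf 0))) (.nd (.nd (.lf 0x0) (.lf 0x3769)) (.nd (.lf 0x0) (.lf 0)))) (.nd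 (.nd (.nd (.lf 0x0) (.lf 0x0)) (.nd (.lf 0x0) (.lf 0))) (.nd (.nd (.lf 0x0) (.lf 0x3d35)) (.nd (.lf 0x410c) (.lf 0)))))) (.nd (.nd (.nd (.nd (.nd (.lf 0x0) (.lf 0x0)) (.nd (.lf 0x61a4) (.lf 0))) (.nd (.nd (.lf 0x0) (.lf 0x802a)) (.nd (.lf 0x6289) (.lf 0)))) (.nd (.nd (.nd (.lf 0x0) (.lf 0x0)) (.nd (.lf 0x0) (.lf 0))) (.nd (.nd (.lf 0x0) (.lf 0x631d)) (.nd (.lf 0x0) (.lf 0))))) (.nd (.nd (.nd (.nd (.lf 0x0) (.lf 0x3202)) (.nd (.lf 0x0) (.lf 0))) (.nd (.nd (.lf 0x0) (.lf 0x40b1)) (.nd (.lf 0x5b0) (.lf 0)))) (.nd (.nd (.nd (.lf 0x0) (.lf 0x0)) (.nd (.lf 0x0) (.lf 0))) (.nd (.nd (.lf 0x0) (.lf 0x7365)) (.nd (.lf 0xa0b) (.lf 0))))))))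
def witA_nabaabb : Tr := (.nd (.nd (.nd (.nd (.nd (.nd (.nd (.lf 0x0) (.lf 0xd30)) (.nd (.lf 0x0) (.lf 0))) (.nd (.nd (.lf 0x0) (.lf 0x5783)) (.nd (.lf 0x0) (.lf 0)))) (.nd (.nd (.nd (.lf 0x0) (.lf 0x0)) (.nd (.lf 0x522d) (.lf 0))) (.nd (.nd (.lf 0x426c) (.lf 0x323)) (.nd (.lf 0x0) (.lf 0))))) (.nd (.nd (.nd (.nd (.lf 0x0) (.lf 0x8376)) (.nd (.lf 0x0) (.lf 0))) (.nd (.nd (.lf 0x0) (.lf 0x0)) (.nd (.lf 0x0) (.lf 0)))) (.nd (.nd (.nd (.lf 0x0) (.lf 0x4e35)) (.nd (.lf 0x0) (.lf 0))) (.nd (.nd (.lf 0x0) (.lf 0x142c)) (.nd (.lf 0x0) (.lf 0)))))) (.nd (.nd (.nd (.nd (.nd (.lf 0x0) (.lf 0x0)) (.nd (.lf 0x0) (.lf 0))) (.nd (.nd (.lf 0x0) (.lf 0x0)) (.nd (.lf 0x349c) (.lf 0)))) (.nd (.nd (.nd (.lf 0x0) (.lf 0x4986)) (.nd (.lf 0x0)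 (.lf 0))) (.nd (.nd (.lf 0x0) (.lf 0x322c)) (.nd (.lf 0x0) (.lf 0))))) (.nd (.nd (.nd (.nd (.lf 0x0) (.lf 0x0)) (.nd (.lf 0x0) (.lf 0))) (.nd (.nd (.lf 0x0) (.lf 0xf47)) (.nd (.lf 0x0) (.lf 0)))) (.nd (.nd (.nd (.lf 0x0) (.lf 0x3b7a)) (.nd (.lf 0x0) (.lf 0))) (.nd (.nd (.lf 0x0) (.lf 0x5877)) (.nd (.lf 0x0) (.lf 0))))))) (.nd (.nd (.nd (.nd (.nd (.nd (.lf 0x0) (.lf 0x6c77)) (.nd (.lf 0x0) (.lf 0))) (.nd (.nd (.lf 0x0) (.lf 0x5941)) (.nd (.lf 0x0) (.lf 0)))) (.nd (.nd (.nd (.lf 0x0) (.lf 0x6486)) (.nd (.lf 0x0) (.lf 0))) (.nd (.nd (.lf 0x0) (.lf 0x554c)) (.nd (.lf 0x0) (.lf 0))))) (.nd (.nd (.nd (.nd (.lf 0x0) (.lf 0x6f01)) (.nd (.lf 0x0) (.lf 0))) (.nd (.nd (.lf 0x0) (.lf 0x0)) (.nd (.lf 0x0) (.lf 0)))) (.nd (.nd (.nd (.lf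 0x3f35) (.lf 0x120d)) (.nd (.lf 0x0) (.lf 0))) (.nd (.nd (.lf 0x0) (.lf 0xb1)) (.nd (.lf 0x549a) (.lf 0)))))) (.nd (.nd (.nd (.nd (.nd (.lf 0x0) (.lf 0x7d91)) (.nd (.lf 0x0) (.lf 0))) (.nd (.nd (.lf 0x0) (.lf 0x7487)) (.nd (.lf 0x0) (.lf 0)))) (.nd (.nd (.nd (.lf 0x0) (.lf 0x5786)) (.nd (.lf 0x3487) (.lf 0))) (.nd (.nd (.lf 0x0) (.lf 0x2b8b)) (.nd (.lf 0x0) (.lf 0))))) (.nd (.nd (.nd (.nd (.lf 0x0) (.lf 0xf4d)) (.nd (.lf 0x0) (.lf 0))) (.nd (.nd (.lf 0x0) (.lf 0x0)) (.nd (.lf 0x0) (.lf 0)))) (.nd (.nd (.nd (.lf 0x0) (.lf 0x3935)) (.nd (.lf 0x0) (.lf 0))) (.nd (.nd (.lf 0x0) (.lf 0x2f97)) (.nd (.lf 0x3540) (.lf 0))))))))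
def witA_nababaa : Tr := (.nd (.nd (.nd (.nd (.nd (.nd (.nd (.lf 0x0) (.lf 0x0)) (.nd (.lf 0x788f) (.lf 0x7395))) (.nd (.nd (.lf 0x0) (.lf 0x853f)) (.nd (.lf 0x0) (.lf 0)))) (.nd (.nd (.nd (.lf 0x0) (.lf 0x0)) (.nd (.lf 0x6aa5) (.lf 0))) (.nd (.nd (.lf 0x0) (.lf 0x638f)) (.nd (.lf 0x56a) (.lf 0))))) (.nd (.nd (.nd (.nd (.lf 0x0) (.lf 0x0)) (.nd (.lf 0x0) (.lf 0))) (.nd (.nd (.lf 0x0) (.lf 0x0)) (.nd (.lf 0x0) (.lf 0)))) (.nd (.nd (.nd (.lf 0x0) (.lf 0x520)) (.nd (.lf 0x0) (.lf 0))) (.nd (.nd (.lf 0x4412) (.lf 0x6e7a)) (.nd (.lf 0x0) (.lf 0)))))) (.nd (.nd (.nd (.nd (.nd (.lf 0x0) (.lf 0x0)) (.nd (.lf 0x0) (.lf 0))) (.nd (.nd (.lf 0x0) (.lf 0x6922)) (.nd (.lf 0x264c) (.lf 0)))) (.nd (.nd (.nd (.lf 0x0) (.lf 0x0)) (.nd (.lf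 0x0) (.lf 0))) (.nd (.nd (.lf 0x79a9) (.lf 0x7ea4)) (.nd (.lf 0x3c71) (.lf 0))))) (.nd (.nd (.nd (.nd (.lf 0x0) (.lf 0x858e)) (.nd (.lf 0x0) (.lf 0))) (.nd (.nd (.lf 0x0) (.lf 0x0)) (.nd (.lf 0x0) (.lf 0)))) (.nd (.nd (.nd (.lf 0x0) (.lf 0x0)) (.nd (.lf 0x2e98) (.lf 0))) (.nd (.nd (.lf 0x0) (.lf 0x2369)) (.nd (.lf 0x0) (.lf 0))))))) (.nd (.nd (.nd (.nd (.nd (.nd (.lf 0x0) (.lf 0x1987)) (.nd (.lf 0x0) (.lf 0))) (.nd (.nd (.lf 0x0) (.lf 0x4b05)) (.nd (.lf 0x0) (.lf 0)))) (.nd (.nd (.nd (.lf 0x0) (.lf 0x0)) (.nd (.lf 0x862) (.lf 0))) (.nd (.nd (.lf 0x0) (.lf 0x0)) (.nd (.lf 0x0) (.lf 0))))) (.nd (.nd (.nd (.nd (.lf 0x0) (.lf 0x0)) (.nd (.lf 0x0) (.lf 0))) (.nd (.nd (.lf 0x0) (.lf 0x0)) (.nd (.lf 0x0) (.lf 0)))) (.nd (.nd (.nd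 (.lf 0x0) (.lf 0x8628)) (.nd (.lf 0x0) (.lf 0))) (.nd (.nd (.lf 0x0) (.lf 0x185a)) (.nd (.lf 0x6da5) (.lf 0)))))) (.nd (.nd (.nd (.nd (.nd (.lf 0x0) (.lf 0x160e)) (.nd (.lf 0x569e) (.lf 0))) (.nd (.nd (.lf 0x0) (.lf 0x0)) (.nd (.lf 0x0) (.lf 0)))) (.nd (.nd (.nd (.lf 0x0) (.lf 0x6e6a)) (.nd (.lf 0x0) (.lf 0))) (.nd (.nd (.lf 0x682d) (.lf 0x5902)) (.nd (.lf 0x0) (.lf 0))))) (.nd (.nd (.nd (.nd (.lf 0x0) (.lf 0x6005)) (.nd (.lf 0x939) (.lf 0))) (.nd (.nd (.lf 0x0) (.lf 0x1260)) (.nd (.lf 0x1a1d) (.lf 0)))) (.nd (.nd (.nd (.lf 0x0) (.lf 0x2211)) (.nd (.lf 0x0) (.lf 0))) (.nd (.nd (.lf 0x0) (.lf 0x7b80)) (.nd (.lf 0x0) (.lf 0))))))))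
def witA_nababab : Tr := (.nd (.nd (.nd (.nd (.nd (.nd (.nd (.lf 0x0) (.lf 0x6e9b)) (.nd (.lf 0x0) (.lf 0))) (.nd (.nd (.lf 0x4f4f) (.lf 0x0)) (.nd (.lf 0x6a9e) (.lf 0)))) (.nd (.nd (.nd (.lf 0x0) (.lf 0x0)) (.nd (.lf 0x0) (.lf 0))) (.nd (.nd (.lf 0x0) (.lf 0x3d54)) (.nd (.lf 0x96e) (.lf 0))))) (.nd (.nd (.nd (.nd (.lf 0x0) (.lf 0x0)) (.nd (.lf 0x0) (.lf 0))) (.nd (.nd (.lf 0x0) (.lf 0x5633)) (.nd (.lf 0x0) (.lf 0)))) (.nd (.nd (.nd (.lf 0x0) (.lf 0x7401)) (.nd (.lf 0x3951) (.lf 0))) (.nd (.nd (.lf 0x36b2) (.lf 0x565d)) (.nd (.lf 0x0) (.lf 0)))))) (.nd (.nd (.nd (.nd (.nd (.lf 0x0) (.lf 0x122)) (.nd (.lf 0x0) (.lf 0))) (.nd (.nd (.lf 0x0) (.lf 0x0)) (.nd (.lf 0x0) (.lf 0)))) (.nd (.nd (.nd (.lf 0x0) (.lf 0x56a)) (.nd (.lf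 0x301e) (.lf 0))) (.nd (.nd (.lf 0x0) (.lf 0x0)) (.nd (.lf 0x0) (.lf 0))))) (.nd (.nd (.nd (.nd (.lf 0x0) (.lf 0x4f22)) (.nd (.lf 0x0) (.lf 0))) (.nd (.nd (.lf 0x4f59) (.lf 0x7661)) (.nd (.lf 0x0) (.lf 0)))) (.nd (.nd (.nd (.lf 0x0) (.lf 0x31ad)) (.nd (.lf 0x0) (.lf 0))) (.nd (.nd (.lf 0x0) (.lf 0x5f1e)) (.nd (.lf 0x2b65) (.lf 0))))))) (.nd (.nd (.nd (.nd (.nd (.nd (.lf 0x0) (.lf 0x61b2)) (.nd (.lf 0x0) (.lf 0))) (.nd (.nd (.lf 0x0) (.lf 0x0)) (.nd (.lf 0x0) (.lf 0)))) (.nd (.nd (.nd (.lf 0x0) (.lf 0x2277)) (.nd (.lf 0x7126) (.lf 0))) (.nd (.nd (.lf 0x0) (.lf 0x0)) (.nd (.lf 0x0) (.lf 0))))) (.nd (.nd (.nd (.nd (.lf 0x0) (.lf 0x478)) (.nd (.lf 0x0) (.lf 0))) (.nd (.nd (.lf 0x0) (.lf 0x2468)) (.nd (.lf 0x7489) (.lf 0)))) (.nd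 (.nd (.nd (.lf 0x0) (.lf 0x0)) (.nd (.lf 0x0) (.lf 0))) (.nd (.nd (.lf 0x0) (.lf 0xb94)) (.nd (.lf 0x0) (.lf 0)))))) (.nd (.nd (.nd (.nd (.nd (.lf 0x0) (.lf 0x7f06)) (.nd (.lf 0x0) (.lf 0))) (.nd (.nd (.lf 0x0) (.lf 0x7e95)) (.nd (.lf 0x0) (.lf 0)))) (.nd (.nd (.nd (.lf 0x0) (.lf 0x1a71)) (.nd (.lf 0x0) (.lf 0))) (.nd (.nd (.lf 0x633a) (.lf 0x7a92)) (.nd (.lf 0x0) (.lf 0))))) (.nd (.nd (.nd (.nd (.lf 0x0) (.lf 0x6b83)) (.nd (.lf 0x0) (.lf 0))) (.nd (.nd (.lf 0x0) (.lf 0x627c)) (.nd (.lf 0x7631) (.lf 0)))) (.nd (.nd (.nd (.lf 0x0) (.lf 0x0)) (.nd (.lf 0x0) (.lf 0))) (.nd (.nd (.lf 0x0) (.lf 0x2964)) (.nd (.lf 0x7668) (.lf 0))))))))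
def witA_nababba : Tr := (.nd (.nd (.nd (.nd (.nd (.nd (.nd (.lf 0x0) (.lf 0x16a1)) (.nd (.lf 0x0) (.lf 0))) (.nd (.nd (.lf 0x0) (.lf 0xd6c)) (.nd (.lf 0x0) (.lf 0)))) (.nd (.nd (.nd (.lf 0x0) (.lf 0x4c04)) (.nd (.lf 0x0) (.lf 0))) (.nd (.nd (.lf 0x0) (.lf 0x0)) (.nd (.lf 0x0) (.lf 0))))) (.nd (.nd (.nd (.nd (.lf 0x0) (.lf 0x3a6a)) (.nd (.lf 0x6c1f) (.lf 0))) (.nd (.nd (.lf 0x0) (.lf 0x0)) (.nd (.lf 0x7327) (.lf 0)))) (.nd (.nd (.nd (.lf 0x0) (.lf 0x726e)) (.nd (.lf 0x0) (.lf 0))) (.nd (.nd (.lf 0x0) (.lf 0x1bad)) (.nd (.lf 0x0) (.lf 0)))))) (.nd (.nd (.nd (.nd (.nd (.lf 0x0) (.lf 0x0)) (.nd (.lf 0x5d28) (.lf 0))) (.nd (.nd (.lf 0x0) (.lf 0x0)) (.nd (.lf 0x0) (.lf 0)))) (.nd (.nd (.nd (.lf 0x0) (.lf 0x2163)) (.nd (.lf 0x0)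 (.lf 0))) (.nd (.nd (.lf 0x0) (.lf 0x6534)) (.nd (.lf 0x0) (.lf 0))))) (.nd (.nd (.nd (.nd (.lf 0x0) (.lf 0x82b0)) (.nd (.lf 0x0) (.lf 0))) (.nd (.nd (.lf 0x0) (.lf 0x2d5c)) (.nd (.lf 0x0) (.lf 0)))) (.nd (.nd (.nd (.lf 0x0) (.lf 0x268d)) (.nd (.lf 0x7ea1) (.lf 0))) (.nd (.nd (.lf 0x0) (.lf 0x1455)) (.nd (.lf 0x0) (.lf 0))))))) (.nd (.nd (.nd (.nd (.nd (.nd (.lf 0x0) (.lf 0x0)) (.nd (.lf 0x0) (.lf 0))) (.nd (.nd (.lf 0x0) (.lf 0xb04)) (.nd (.lf 0x0) (.lf 0)))) (.nd (.nd (.nd (.lf 0x0) (.lf 0x0)) (.nd (.lf 0x0) (.lf 0))) (.nd (.nd (.lf 0x0) (.lf 0x5297)) (.nd (.lf 0x4869) (.lf 0))))) (.nd (.nd (.nd (.nd (.lf 0x0) (.lf 0x211d)) (.nd (.lf 0x0) (.lf 0))) (.nd (.nd (.lf 0x0) (.lf 0x0)) (.nd (.lf 0x0) (.lf 0)))) (.nd (.nd (.nd (.lf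 0x0) (.lf 0x0)) (.nd (.lf 0x7d28) (.lf 0))) (.nd (.nd (.lf 0x0) (.lf 0x3395)) (.nd (.lf 0x0) (.lf 0)))))) (.nd (.nd (.nd (.nd (.nd (.lf 0x0) (.lf 0x0)) (.nd (.lf 0x0) (.lf 0))) (.nd (.nd (.lf 0x0) (.lf 0x334b)) (.nd (.lf 0x0) (.lf 0)))) (.nd (.nd (.nd (.lf 0x0) (.lf 0x2651)) (.nd (.lf 0x0) (.lf 0))) (.nd (.nd (.lf 0x0) (.lf 0x428c)) (.nd (.lf 0x1f3f) (.lf 0))))) (.nd (.nd (.nd (.nd (.lf 0x0) (.lf 0x8279)) (.nd (.lf 0x0) (.lf 0))) (.nd (.nd (.lf 0x0) (.lf 0x0)) (.nd (.lf 0x66b) (.lf 0)))) (.nd (.nd (.nd (.lf 0x0) (.lf 0x3419)) (.nd (.lf 0x3379) (.lf 0))) (.nd (.nd (.lf 0x0) (.lf 0x438e)) (.nd (.lf 0x0) (.lf 0))))))))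
def witA_nababbb : Tr := (.nd (.nd (.nd (.nd (.nd (.nd (.nd (.lf 0x0) (.lf 0x0)) (.nd (.lf 0x0) (.lf 0))) (.nd (.nd (.lf 0x0) (.lf 0x0)) (.nd (.lf 0x0) (.lf 0)))) (.nd (.nd (.nd (.lf 0x0) (.lf 0x0)) (.nd (.lf 0x0) (.lf 0))) (.nd (.nd (.lf 0x0) (.lf 0x0)) (.nd (.lf 0x6860) (.lf 0))))) (.nd (.nd (.nd (.nd (.lf 0x0) (.lf 0x612e)) (.nd (.lf 0x0) (.lf 0))) (.nd (.nd (.lf 0x0) (.lf 0x1070)) (.nd (.lf 0x861a) (.lf 0)))) (.nd (.nd (.nd (.lf 0x85ac) (.lf 0x0)) (.nd (.lf 0x0) (.lf 0))) (.nd (.nd (.lf 0x0) (.lf 0x654f)) (.nd (.lf 0x4a5f) (.lf 0)))))) (.nd (.nd (.nd (.nd (.nd (.lf 0x0) (.lf 0x5f0a)) (.nd (.lf 0x0) (.lf 0))) (.nd (.nd (.lf 0x0) (.lf 0x5f9c)) (.nd (.lf 0x0) (.lf 0)))) (.nd (.nd (.nd (.lf 0x0) (.lf 0x0)) (.nd (.lf 0x0) (.lf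 0))) (.nd (.nd (.lf 0x0) (.lf 0x6616)) (.nd (.lf 0x0) (.lf 0))))) (.nd (.nd (.nd (.nd (.lf 0x0) (.lf 0x8623)) (.nd (.lf 0x0) (.lf 0))) (.nd (.nd (.lf 0x0) (.lf 0x0)) (.nd (.lf 0x43f) (.lf 0)))) (.nd (.nd (.nd (.lf 0x0) (.lf 0x0)) (.nd (.lf 0x254f) (.lf 0))) (.nd (.nd (.lf 0x2ba6) (.lf 0x6791)) (.nd (.lf 0x5f22) (.lf 0))))))) (.nd (.nd (.nd (.nd (.nd (.nd (.lf 0x0) (.lf 0x2a47)) (.nd (.lf 0x0) (.lf 0))) (.nd (.nd (.lf 0x0) (.lf 0x0)) (.nd (.lf 0x0) (.lf 0)))) (.nd (.nd (.nd (.lf 0x0) (.lf 0x5ca3)) (.nd (.lf 0x0) (.lf 0))) (.nd (.nd (.lf 0x0) (.lf 0x171f)) (.nd (.lf 0x29b0) (.lf 0))))) (.nd (.nd (.nd (.nd (.lf 0x0) (.lf 0x21a)) (.nd (.lf 0x2641) (.lf 0))) (.nd (.nd (.lf 0x0) (.lf 0x416f)) (.nd (.lf 0x3687) (.lf 0)))) (.nd (.nd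 (.nd (.lf 0x0) (.lf 0x7a82)) (.nd (.lf 0x0) (.lf 0))) (.nd (.nd (.lf 0x369) (.lf 0x741c)) (.nd (.lf 0x0) (.lf 0)))))) (.nd (.nd (.nd (.nd (.nd (.lf 0x0) (.lf 0x0)) (.nd (.lf 0x0) (.lf 0))) (.nd (.nd (.lf 0x5392) (.lf 0x0)) (.nd (.lf 0x0) (.lf 0)))) (.nd (.nd (.nd (.lf 0x0) (.lf 0x0)) (.nd (.lf 0x5b8a) (.lf 0))) (.nd (.nd (.lf 0x0) (.lf 0x5110)) (.nd (.lf 0x0) (.lf 0))))) (.nd (.nd (.nd (.nd (.lf 0x149e) (.lf 0x0)) (.nd (.lf 0x0) (.lf 0))) (.nd (.nd (.lf 0x0) (.lf 0x1c63)) (.nd (.lf 0x0) (.lf 0)))) (.nd (.nd (.nd (.lf 0x0) (.lf 0x345a)) (.nd (.lf 0xb9e) (.lf 0))) (.nd (.nd (.lf 0x0) (.lf 0x2e8a)) (.nd (.lf 0x0) (.lf 0))))))))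
def witA_nabbaaa : Tr := (.nd (.nd (.nd (.nd (.nd (.nd (.nd (.lf 0x0) (.lf 0x0)) (.nd (.lf 0x0) (.lf 0x8468))) (.nd (.nd (.lf 0x0) (.lf 0x7d52)) (.nd (.lf 0xb99) (.lf 0)))) (.nd (.nd (.nd (.lf 0x0) (.lf 0x6780)) (.nd (.lf 0x0) (.lf 0))) (.nd (.nd (.lf 0x0) (.lf 0x4534)) (.nd (.lf 0x3e2d) (.lf 0))))) (.nd (.nd (.nd (.nd (.lf 0x0) (.lf 0x0)) (.nd (.lf 0x0) (.lf 0))) (.nd (.nd (.lf 0x0) (.lf 0x522c)) (.nd (.lf 0x0) (.lf 0)))) (.nd (.nd (.nd (.lf 0x0) (.lf 0x7299)) (.nd (.lf 0x520b) (.lf 0))) (.nd (.nd (.lf 0x0) (.lf 0x1869)) (.nd (.lf 0x0) (.lf 0)))))) (.nd (.nd (.nd (.nd (.nd (.lf 0x0) (.lf 0x0)) (.nd (.lf 0x4423) (.lf 0))) (.nd (.nd (.lf 0x0) (.lf 0x0)) (.nd (.lf 0x3b6e) (.lf 0)))) (.nd (.nd (.nd (.lf 0x0) (.lf 0x5e85)) (.nd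 (.lf 0x0) (.lf 0))) (.nd (.nd (.lf 0x0) (.lf 0x5538)) (.nd (.lf 0x3e1a) (.lf 0))))) (.nd (.nd (.nd (.nd (.lf 0x0) (.lf 0x0)) (.nd (.lf 0x0) (.lf 0))) (.nd (.nd (.lf 0x0) (.lf 0x0)) (.nd (.lf 0x0) (.lf 0)))) (.nd (.nd (.nd (.lf 0x0) (.lf 0x0)) (.nd (.lf 0x6b80) (.lf 0))) (.nd (.nd (.lf 0x0) (.lf 0x4237)) (.nd (.lf 0x0) (.lf 0))))))) (.nd (.nd (.nd (.nd (.nd (.nd (.lf 0x0) (.lf 0x0)) (.nd (.lf 0x0) (.lf 0))) (.nd (.nd (.lf 0x0) (.lf 0x0)) (.nd (.lf 0x0) (.lf 0)))) (.nd (.nd (.nd (.lf 0x0) (.lf 0x6a03)) (.nd (.lf 0x0) (.lf 0))) (.nd (.nd (.lf 0x4c2c) (.lf 0x6e73)) (.nd (.lf 0x0) (.lf 0))))) (.nd (.nd (.nd (.nd (.lf 0x0) (.lf 0x35f)) (.nd (.lf 0x0) (.lf 0))) (.nd (.nd (.lf 0x0) (.lf 0x840b)) (.nd (.lf 0x451) (.lf 0)))) (.nd (.nd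 (.nd (.lf 0x0) (.lf 0x0)) (.nd (.lf 0x0) (.lf 0))) (.nd (.nd (.lf 0x0) (.lf 0x4e06)) (.nd (.lf 0x0) (.lf 0)))))) (.nd (.nd (.nd (.nd (.nd (.lf 0x0) (.lf 0x0)) (.nd (.lf 0x49a8) (.lf 0))) (.nd (.nd (.lf 0x0) (.lf 0x8777)) (.nd (.lf 0x0) (.lf 0)))) (.nd (.nd (.nd (.lf 0x0) (.lf 0x4a33)) (.nd (.lf 0x0) (.lf 0))) (.nd (.nd (.lf 0x3d88) (.lf 0x15a1)) (.nd (.lf 0x0) (.lf 0))))) (.nd (.nd (.nd (.nd (.lf 0x0) (.lf 0x0)) (.nd (.lf 0x0) (.lf 0))) (.nd (.nd (.lf 0x0) (.lf 0x849c)) (.nd (.lf 0x0) (.lf 0)))) (.nd (.nd (.nd (.lf 0x0) (.lf 0x0)) (.nd (.lf 0x0) (.lf 0))) (.nd (.nd (.lf 0x0) (.lf 0x613c)) (.nd (.lf 0x3332) (.lf 0))))))))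
def witA_nabbaab : Tr := (.nd (.nd (.nd (.nd (.nd (.nd (.nd (.lf 0x0) (.lf 0x0)) (.nd (.lf 0x0) (.lf 0))) (.nd (.nd (.lf 0x0) (.lf 0x8578)) (.nd (.lf 0x0) (.lf 0)))) (.nd (.nd (.nd (.lf 0x0) (.lf 0x3385)) (.nd (.lf 0x4525) (.lf 0))) (.nd (.nd (.lf 0x0) (.lf 0x4731)) (.nd (.lf 0x6eac) (.lf 0))))) (.nd (.nd (.nd (.nd (.lf 0x0) (.lf 0x821f)) (.nd (.lf 0x0) (.lf 0))) (.nd (.nd (.lf 0x0) (.lf 0x0)) (.nd (.lf 0x7281) (.lf 0)))) (.nd (.nd (.nd (.lf 0x0) (.lf 0x0)) (.nd (.lf 0x0) (.lf 0))) (.nd (.nd (.lf 0x0) (.lf 0x8b)) (.nd (.lf 0x70b) (.lf 0)))))) (.nd (.nd (.nd (.nd (.nd (.lf 0x0) (.lf 0x0)) (.nd (.lf 0x0) (.lf 0))) (.nd (.nd (.lf 0x0) (.lf 0x3f3e)) (.nd (.lf 0x69b) (.lf 0)))) (.nd (.nd (.nd (.lf 0x0) (.lf 0x0)) (.nd (.lf 0x0)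 (.lf 0))) (.nd (.nd (.lf 0x0) (.lf 0x0)) (.nd (.lf 0x525e) (.lf 0))))) (.nd (.nd (.nd (.nd (.lf 0x0) (.lf 0x7222)) (.nd (.lf 0x7d13) (.lf 0))) (.nd (.nd (.lf 0x0) (.lf 0x3e80)) (.nd (.lf 0x0) (.lf 0)))) (.nd (.nd (.nd (.lf 0x0) (.lf 0x0)) (.nd (.lf 0x0) (.lf 0))) (.nd (.nd (.lf 0x0) (.lf 0x5b15)) (.nd (.lf 0x0) (.lf 0))))))) (.nd (.nd (.nd (.nd (.nd (.nd (.lf 0x0) (.lf 0x3365)) (.nd (.lf 0x0) (.lf 0))) (.nd (.nd (.lf 0x0) (.lf 0x1e67)) (.nd (.lf 0x398c) (.lf 0)))) (.nd (.nd (.nd (.lf 0x0) (.lf 0x81ac)) (.nd (.lf 0x0) (.lf 0))) (.nd (.nd (.lf 0x0) (.lf 0x2c2d)) (.nd (.lf 0x8509) (.lf 0))))) (.nd (.nd (.nd (.nd (.lf 0x0) (.lf 0x6348)) (.nd (.lf 0x0) (.lf 0))) (.nd (.nd (.lf 0x0) (.lf 0x6664)) (.nd (.lf 0x0) (.lf 0)))) (.nd (.nd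 (.nd (.lf 0x0) (.lf 0x11b2)) (.nd (.lf 0x0) (.lf 0))) (.nd (.nd (.lf 0x8321) (.lf 0x5562)) (.nd (.lf 0x0) (.lf 0)))))) (.nd (.nd (.nd (.nd (.nd (.lf 0x0) (.lf 0x0)) (.nd (.lf 0x0) (.lf 0))) (.nd (.nd (.lf 0x0) (.lf 0x30a3)) (.nd (.lf 0x0) (.lf 0)))) (.nd (.nd (.nd (.lf 0x0) (.lf 0x0)) (.nd (.lf 0x0) (.lf 0))) (.nd (.nd (.lf 0x166e) (.lf 0x594a)) (.nd (.lf 0x0) (.lf 0))))) (.nd (.nd (.nd (.nd (.lf 0x0) (.lf 0x0)) (.nd (.lf 0x0) (.lf 0))) (.nd (.nd (.lf 0x0) (.lf 0x1661)) (.nd (.lf 0x0) (.lf 0)))) (.nd (.nd (.nd (.lf 0x0) (.lf 0x0)) (.nd (.lf 0x0) (.lf 0))) (.nd (.nd (.lf 0x0) (.lf 0x268e)) (.nd (.lf 0x0) (.lf 0))))))))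
def witA_nabbaba : Tr := (.nd (.nd (.nd (.nd (.nd (.nd (.nd (.lf 0x0) (.lf 0x1a11)) (.nd (.lf 0x0) (.lf 0))) (.nd (.nd (.lf 0x0) (.lf 0x610b)) (.nd (.lf 0x0) (.lf 0)))) (.nd (.nd (.nd (.lf 0x0) (.lf 0x5681)) (.nd (.lf 0x0) (.lf 0))) (.nd (.nd (.lf 0x770f) (.lf 0x7f5c)) (.nd (.lf 0x0) (.lf 0))))) (.nd (.nd (.nd (.nd (.lf 0x0) (.lf 0x1b68)) (.nd (.lf 0x0) (.lf 0))) (.nd (.nd (.lf 0x0) (.lf 0x11b1)) (.nd (.lf 0x0) (.lf 0)))) (.nd (.nd (.nd (.lf 0x0) (.lf 0x6f6c)) (.nd (.lf 0x0) (.lf 0))) (.nd (.nd (.lf 0x0) (.lf 0x8369)) (.nd (.lf 0x0) (.lf 0)))))) (.nd (.nd (.nd (.nd (.nd (.lf 0x0) (.lf 0x6d9f)) (.nd (.lf 0x0) (.lf 0))) (.nd (.nd (.lf 0x0) (.lf 0x0)) (.nd (.lf 0x0) (.lf 0)))) (.nd (.nd (.nd (.lf 0x0) (.lf 0x0)) (.nd (.lf 0x0)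 (.lf 0))) (.nd (.nd (.lf 0x0) (.lf 0x129a)) (.nd (.lf 0x0) (.lf 0))))) (.nd (.nd (.nd (.nd (.lf 0x0) (.lf 0x8772)) (.nd (.lf 0x0) (.lf 0))) (.nd (.nd (.lf 0x0) (.lf 0x0)) (.nd (.lf 0x0) (.lf 0)))) (.nd (.nd (.nd (.lf 0x0) (.lf 0x4c6f)) (.nd (.lf 0x684a) (.lf 0))) (.nd (.nd (.lf 0x0) (.lf 0x7617)) (.nd (.lf 0x0) (.lf 0))))))) (.nd (.nd (.nd (.nd (.nd (.nd (.lf 0x0) (.lf 0x0)) (.nd (.lf 0x331d) (.lf 0))) (.nd (.nd (.lf 0x0) (.lf 0x698b)) (.nd (.lf 0x0) (.lf 0)))) (.nd (.nd (.nd (.lf 0x0) (.lf 0x57a0)) (.nd (.lf 0x872e) (.lf 0))) (.nd (.nd (.lf 0x0) (.lf 0x8328)) (.nd (.lf 0x0) (.lf 0))))) (.nd (.nd (.nd (.nd (.lf 0x0) (.lf 0x2e7a)) (.nd (.lf 0x0) (.lf 0))) (.nd (.nd (.lf 0x260e) (.lf 0x760b)) (.nd (.lf 0x0) (.lf 0)))) (.nd (.nd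 (.nd (.lf 0x4082) (.lf 0x0)) (.nd (.lf 0x6a02) (.lf 0))) (.nd (.nd (.lf 0x7ba7) (.lf 0x337a)) (.nd (.lf 0x0) (.lf 0)))))) (.nd (.nd (.nd (.nd (.nd (.lf 0x0) (.lf 0x0)) (.nd (.lf 0x3f23) (.lf 0))) (.nd (.nd (.lf 0x0) (.lf 0xc8f)) (.nd (.lf 0x0) (.lf 0)))) (.nd (.nd (.nd (.lf 0x0) (.lf 0x319b)) (.nd (.lf 0x0) (.lf 0))) (.nd (.nd (.lf 0x628a) (.lf 0x46b)) (.nd (.lf 0x0) (.lf 0))))) (.nd (.nd (.nd (.nd (.lf 0x0) (.lf 0x0)) (.nd (.lf 0x0) (.lf 0))) (.nd (.nd (.lf 0x0) (.lf 0x0)) (.nd (.lf 0x0) (.lf 0)))) (.nd (.nd (.nd (.lf 0x0) (.lf 0x7215)) (.nd (.lf 0x1944) (.lf 0))) (.nd (.nd (.lf 0x0) (.lf 0x6e5f)) (.nd (.lf 0x6e03) (.lf 0))))))))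
def witA_nabbabb : Tr := (.nd (.nd (.nd (.nd (.nd (.nd (.nd (.lf 0x0) (.lf 0x0)) (.nd (.lf 0x0) (.lf 0))) (.nd (.nd (.lf 0x0) (.lf 0x0)) (.nd (.lf 0x0) (.lf 0)))) (.nd (.nd (.nd (.lf 0x0) (.lf 0x67d)) (.nd (.lf 0x0) (.lf 0))) (.nd (.nd (.lf 0x0) (.lf 0x8645)) (.nd (.lf 0x0) (.lf 0))))) (.nd (.nd (.nd (.nd (.lf 0x0) (.lf 0x0)) (.nd (.lf 0x0) (.lf 0))) (.nd (.nd (.lf 0x0) (.lf 0x2299)) (.nd (.lf 0x735a) (.lf 0)))) (.nd (.nd (.nd (.lf 0x0) (.lf 0x0)) (.nd (.lf 0x0) (.lf 0))) (.nd (.nd (.lf 0x7c0c) (.lf 0x2a97)) (.nd (.lf 0x9a9) (.lf 0)))))) (.nd (.nd (.nd (.nd (.nd (.lf 0x0) (.lf 0x0)) (.nd (.lf 0x0) (.lf 0))) (.nd (.nd (.lf 0x0) (.lf 0x8772)) (.nd (.lf 0x0) (.lf 0)))) (.nd (.nd (.nd (.lf 0x0) (.lf 0x57a2)) (.nd (.lf 0x0) (.lf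 0))) (.nd (.nd (.lf 0x0) (.lf 0x6f26)) (.nd (.lf 0x7f7c) (.lf 0))))) (.nd (.nd (.nd (.nd (.lf 0x0) (.lf 0x0)) (.nd (.lf 0x0) (.lf 0))) (.nd (.nd (.lf 0x0) (.lf 0x647a)) (.nd (.lf 0x1755) (.lf 0)))) (.nd (.nd (.nd (.lf 0x0) (.lf 0x0)) (.nd (.lf 0x0) (.lf 0))) (.nd (.nd (.lf 0x0) (.lf 0x2c2b)) (.nd (.lf 0x410f) (.lf 0))))))) (.nd (.nd (.nd (.nd (.nd (.nd (.lf 0x0) (.lf 0xd16)) (.nd (.lf 0x0) (.lf 0))) (.nd (.nd (.lf 0x0) (.lf 0x0)) (.nd (.lf 0x2285) (.lf 0)))) (.nd (.nd (.nd (.lf 0x0) (.lf 0x50)) (.nd (.lf 0x0) (.lf 0))) (.nd (.nd (.lf 0x0) (.lf 0x822)) (.nd (.lf 0x0) (.lf 0))))) (.nd (.nd (.nd (.nd (.lf 0x0) (.lf 0x0)) (.nd (.lf 0x0) (.lf 0))) (.nd (.nd (.lf 0x0) (.lf 0x4576)) (.nd (.lf 0x3833) (.lf 0)))) (.nd (.nd (.nd (.lf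 0x0) (.lf 0x0)) (.nd (.lf 0x7062) (.lf 0))) (.nd (.nd (.lf 0x0) (.lf 0x2977)) (.nd (.lf 0x30a7) (.lf 0)))))) (.nd (.nd (.nd (.nd (.nd (.lf 0x0) (.lf 0x674a)) (.nd (.lf 0x0) (.lf 0))) (.nd (.nd (.lf 0x0) (.lf 0x378c)) (.nd (.lf 0x68b2) (.lf 0)))) (.nd (.nd (.nd (.lf 0x0) (.lf 0x0)) (.nd (.lf 0x0) (.lf 0))) (.nd (.nd (.lf 0x4d30) (.lf 0x4e8d)) (.nd (.lf 0x3d8e) (.lf 0))))) (.nd (.nd (.nd (.nd (.lf 0x0) (.lf 0x0)) (.nd (.lf 0x0) (.lf 0))) (.nd (.nd (.lf 0x0) (.lf 0x2272)) (.nd (.lf 0x879b) (.lf 0)))) (.nd (.nd (.nd (.lf 0x0) (.lf 0x1236)) (.nd (.lf 0x97f) (.lf 0))) (.nd (.nd (.lf 0x7535) (.lf 0x5099)) (.nd (.lf 0x6377) (.lf 0))))))))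
def witA_nabbbaa : Tr := (.nd (.nd (.nd (.nd (.nd (.nd (.nd (.lf 0x0) (.lf 0xb28)) (.nd (.lf 0x0) (.lf 0))) (.nd (.nd (.lf 0x0) (.lf 0x2b46)) (.nd (.lf 0x0) (.lf 0)))) (.nd (.nd (.nd (.lf 0x0) (.lf 0x0)) (.nd (.lf 0x11a8) (.lf 0))) (.nd (.nd (.lf 0x0) (.lf 0x0)) (.nd (.lf 0x60e) (.lf 0))))) (.nd (.nd (.nd (.nd (.lf 0x0) (.lf 0x17ab)) (.nd (.lf 0x492c) (.lf 0))) (.nd (.nd (.lf 0x0) (.lf 0x6e1a)) (.nd (.lf 0x0) (.lf 0)))) (.nd (.nd (.nd (.lf 0x0) (.lf 0x5f93)) (.nd (.lf 0x6392) (.lf 0))) (.nd (.nd (.lf 0x0) (.lf 0x4369)) (.nd (.lf 0x4f58) (.lf 0)))))) (.nd (.nd (.nd (.nd (.nd (.lf 0x0) (.lf 0x2533)) (.nd (.lf 0x0) (.lf 0))) (.nd (.nd (.lf 0x0) (.lf 0x3945)) (.nd (.lf 0x0) (.lf 0)))) (.nd (.nd (.nd (.lf 0x0) (.lf 0x0)) (.nd (.lf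 0x0) (.lf 0))) (.nd (.nd (.lf 0x0) (.lf 0x2a11)) (.nd (.lf 0x5c0d) (.lf 0))))) (.nd (.nd (.nd (.nd (.lf 0x0) (.lf 0x1db3)) (.nd (.lf 0x0) (.lf 0))) (.nd (.nd (.lf 0x0) (.lf 0x2d29)) (.nd (.lf 0x0) (.lf 0)))) (.nd (.nd (.nd (.lf 0x0) (.lf 0x1813)) (.nd (.lf 0x0) (.lf 0))) (.nd (.nd (.lf 0xf7c) (.lf 0x482)) (.nd (.lf 0x7646) (.lf 0))))))) (.nd (.nd (.nd (.nd (.nd (.nd (.lf 0x0) (.lf 0x0)) (.nd (.lf 0x0) (.lf 0))) (.nd (.nd (.lf 0x0) (.lf 0x0)) (.nd (.lf 0x0) (.lf 0)))) (.nd (.nd (.nd (.lf 0x0) (.lf 0x2e5d)) (.nd (.lf 0x0) (.lf 0))) (.nd (.nd (.lf 0x0) (.lf 0x6271)) (.nd (.lf 0x0) (.lf 0))))) (.nd (.nd (.nd (.nd (.lf 0x0) (.lf 0x6597)) (.nd (.lf 0x0) (.lf 0))) (.nd (.nd (.lf 0x0) (.lf 0x569f)) (.nd (.lf 0x0) (.lf 0)))) (.nd (.nd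 (.nd (.lf 0x0) (.lf 0x827e)) (.nd (.lf 0x0) (.lf 0))) (.nd (.nd (.lf 0x0) (.lf 0x5f02)) (.nd (.lf 0x5f5e) (.lf 0)))))) (.nd (.nd (.nd (.nd (.nd (.lf 0x4aa2) (.lf 0x0)) (.nd (.lf 0x4887) (.lf 0))) (.nd (.nd (.lf 0x0) (.lf 0x1847)) (.nd (.lf 0x0) (.lf 0)))) (.nd (.nd (.nd (.lf 0x0) (.lf 0x716c)) (.nd (.lf 0x117c) (.lf 0))) (.nd (.nd (.lf 0x8328) (.lf 0x2731)) (.nd (.lf 0x5bab) (.lf 0))))) (.nd (.nd (.nd (.nd (.lf 0x0) (.lf 0x6851)) (.nd (.lf 0x0) (.lf 0))) (.nd (.nd (.lf 0x1471) (.lf 0x2b4b)) (.nd (.lf 0x0) (.lf 0)))) (.nd (.nd (.nd (.lf 0x0) (.lf 0x6c2f)) (.nd (.lf 0x0) (.lf 0))) (.nd (.nd (.lf 0x3921) (.lf 0x515e)) (.nd (.lf 0x6453) (.lf 0))))))))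
def witA_nabbbab : Tr := (.nd (.nd (.nd (.nd (.nd (.nd (.nd (.lf 0x0) (.lf 0x7505)) (.nd (.lf 0x0) (.lf 0))) (.nd (.nd (.lf 0x0) (.lf 0x3509)) (.nd (.lf 0x0) (.lf 0)))) (.nd (.nd (.nd (.lf 0x0) (.lf 0x580a)) (.nd (.lf 0x0) (.lf 0))) (.nd (.nd (.lf 0x0) (.lf 0x7e10)) (.nd (.lf 0x232b) (.lf 0))))) (.nd (.nd (.nd (.nd (.lf 0x0) (.lf 0x0)) (.nd (.lf 0x0) (.lf 0))) (.nd (.nd (.lf 0x218d) (.lf 0xa2b)) (.nd (.lf 0x0) (.lf 0)))) (.nd (.nd (.nd (.lf 0x0) (.lf 0x0)) (.nd (.lf 0x660c) (.lf 0))) (.nd (.nd (.lf 0x0) (.lf 0x4f12)) (.nd (.lf 0x0) (.lf 0)))))) (.nd (.nd (.nd (.nd (.nd (.lf 0x0) (.lf 0x658b)) (.nd (.lf 0x4512) (.lf 0))) (.nd (.nd (.lf 0x0) (.lf 0xf18)) (.nd (.lf 0x0) (.lf 0)))) (.nd (.nd (.nd (.lf 0x2b6a) (.lf 0x0)) (.nd (.lf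 0x0) (.lf 0))) (.nd (.nd (.lf 0x0) (.lf 0x8243)) (.nd (.lf 0x0) (.lf 0))))) (.nd (.nd (.nd (.nd (.lf 0x0) (.lf 0x47e)) (.nd (.lf 0x0) (.lf 0))) (.nd (.nd (.lf 0x0) (.lf 0x751b)) (.nd (.lf 0x4064) (.lf 0)))) (.nd (.nd (.nd (.lf 0x0) (.lf 0x0)) (.nd (.lf 0x0) (.lf 0))) (.nd (.nd (.lf 0x7336) (.lf 0x395e)) (.nd (.lf 0x0) (.lf 0))))))) (.nd (.nd (.nd (.nd (.nd (.nd (.lf 0x0) (.lf 0x0)) (.nd (.lf 0x0) (.lf 0))) (.nd (.nd (.lf 0x0) (.lf 0x3579)) (.nd (.lf 0x409c) (.lf 0)))) (.nd (.nd (.nd (.lf 0x0) (.lf 0x0)) (.nd (.lf 0x0) (.lf 0))) (.nd (.nd (.lf 0x3d50) (.lf 0x598e)) (.nd (.lf 0x0) (.lf 0))))) (.nd (.nd (.nd (.nd (.lf 0x0) (.lf 0x58b1)) (.nd (.lf 0x568d) (.lf 0))) (.nd (.nd (.lf 0x0) (.lf 0x4107)) (.nd (.lf 0x1309) (.lf 0))))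 (.nd (.nd (.nd (.lf 0x0) (.lf 0x0)) (.nd (.lf 0x0) (.lf 0))) (.nd (.nd (.lf 0x0) (.lf 0x4871)) (.nd (.lf 0x8089) (.lf 0)))))) (.nd (.nd (.nd (.nd (.nd (.lf 0x0) (.lf 0x0)) (.nd (.lf 0x0) (.lf 0))) (.nd (.nd (.lf 0x0) (.lf 0x1080)) (.nd (.lf 0x1658) (.lf 0)))) (.nd (.nd (.nd (.lf 0x0) (.lf 0x0)) (.nd (.lf 0x0) (.lf 0))) (.nd (.nd (.lf 0x5928) (.lf 0x16f)) (.nd (.lf 0x1e9e) (.lf 0))))) (.nd (.nd (.nd (.nd (.lf 0x0) (.lf 0x0)) (.nd (.lf 0x0) (.lf 0))) (.nd (.nd (.lf 0x0) (.lf 0x5e18)) (.nd (.lf 0x0) (.lf 0)))) (.nd (.nd (.nd (.lf 0x5c5f) (.lf 0x1a33)) (.nd (.lf 0x0) (.lf 0))) (.nd (.nd (.lf 0x1e39) (.lf 0x7f12)) (.nd (.lf 0x3f63) (.lf 0))))))))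
def witA_nabbbba : Tr := (.nd (.nd (.nd (.nd (.nd (.nd (.nd (.lf 0x0) (.lf 0x7200)) (.nd (.lf 0x0) (.lf 0))) (.nd (.nd (.lf 0x6264) (.lf 0x0)) (.nd (.lf 0x0) (.lf 0)))) (.nd (.nd (.nd (.lf 0x0) (.lf 0x0)) (.nd (.lf 0x0) (.lf 0))) (.nd (.nd (.lf 0x1580) (.lf 0x0)) (.nd (.lf 0x0) (.lf 0))))) (.nd (.nd (.nd (.nd (.lf 0x0) (.lf 0x0)) (.nd (.lf 0x0) (.lf 0))) (.nd (.nd (.lf 0x0) (.lf 0x0)) (.nd (.lf 0x0) (.lf 0)))) (.nd (.nd (.nd (.lf 0x0) (.lf 0x5e48)) (.nd (.lf 0x324b) (.lf 0))) (.nd (.nd (.lf 0x0) (.lf 0x2525)) (.nd (.lf 0x0) (.lf 0)))))) (.nd (.nd (.nd (.nd (.nd (.lf 0x0) (.lf 0x3c47)) (.nd (.lf 0x0) (.lf 0))) (.nd (.nd (.lf 0x0) (.lf 0x5a5e)) (.nd (.lf 0x0) (.lf 0)))) (.nd (.nd (.nd (.lf 0x0) (.lf 0x423)) (.nd (.lf 0x3fae)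 (.lf 0))) (.nd (.nd (.lf 0x0) (.lf 0x631f)) (.nd (.lf 0x790f) (.lf 0))))) (.nd (.nd (.nd (.nd (.lf 0x0) (.lf 0x6e5b)) (.nd (.lf 0x0) (.lf 0))) (.nd (.nd (.lf 0x761b) (.lf 0x3739)) (.nd (.lf 0x0) (.lf 0)))) (.nd (.nd (.nd (.lf 0x0) (.lf 0x0)) (.nd (.lf 0x5a6b) (.lf 0))) (.nd (.nd (.lf 0xb21) (.lf 0x6386)) (.nd (.lf 0x0) (.lf 0))))))) (.nd (.nd (.nd (.nd (.nd (.nd (.lf 0x0) (.lf 0x3a11)) (.nd (.lf 0x0) (.lf 0))) (.nd (.nd (.lf 0x0) (.lf 0x593e)) (.nd (.lf 0x0) (.lf 0)))) (.nd (.nd (.nd (.lf 0x3555) (.lf 0x46ad)) (.nd (.lf 0x0) (.lf 0))) (.nd (.nd (.lf 0x0) (.lf 0x0)) (.nd (.lf 0x408c) (.lf 0))))) (.nd (.nd (.nd (.nd (.lf 0x0) (.lf 0x3543)) (.nd (.lf 0x0) (.lf 0))) (.nd (.nd (.lf 0x0) (.lf 0x5e4e)) (.nd (.lf 0x6876) (.lf 0))))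 (.nd (.nd (.nd (.lf 0x0) (.lf 0x0)) (.nd (.lf 0x732d) (.lf 0))) (.nd (.nd (.lf 0x0) (.lf 0x3892)) (.nd (.lf 0x8154) (.lf 0)))))) (.nd (.nd (.nd (.nd (.nd (.lf 0x0) (.lf 0x73a7)) (.nd (.lf 0x3aaf) (.lf 0))) (.nd (.nd (.lf 0x0) (.lf 0x0)) (.nd (.lf 0x72ae) (.lf 0)))) (.nd (.nd (.nd (.lf 0x0) (.lf 0x40a1)) (.nd (.lf 0x0) (.lf 0))) (.nd (.nd (.lf 0x0) (.lf 0x6d46)) (.nd (.lf 0x0) (.lf 0))))) (.nd (.nd (.nd (.nd (.lf 0x0) (.lf 0x6621)) (.nd (.lf 0x3130) (.lf 0))) (.nd (.nd (.lf 0x0) (.lf 0x1358)) (.nd (.lf 0x0) (.lf 0)))) (.nd (.nd (.nd (.lf 0x0) (.lf 0x5b48)) (.nd (.lf 0x0) (.lf 0))) (.nd (.nd (.lf 0x0) (.lf 0x3c53)) (.nd (.lf 0x7b1c) (.lf 0))))))))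
def witA_nabbbbb : Tr := (.nd (.nd (.nd (.nd (.nd (.nd (.nd (.lf 0x0) (.lf 0x0)) (.nd (.lf 0x0) (.lf 0))) (.nd (.nd (.lf 0x0) (.lf 0x4475)) (.nd (.lf 0x0) (.lf 0)))) (.nd (.nd (.nd (.lf 0x0) (.lf 0x0)) (.nd (.lf 0x0) (.lf 0))) (.nd (.nd (.lf 0x0) (.lf 0x2778)) (.nd (.lf 0x0) (.lf 0))))) (.nd (.nd (.nd (.nd (.lf 0x0) (.lf 0x0)) (.nd (.lf 0x343a) (.lf 0))) (.nd (.nd (.lf 0x0) (.lf 0x0)) (.nd (.lf 0x0) (.lf 0)))) (.nd (.nd (.nd (.lf 0x0) (.lf 0x5894)) (.nd (.lf 0x234c) (.lf 0))) (.nd (.nd (.lf 0x0) (.lf 0x3f9d)) (.nd (.lf 0x6492) (.lf 0)))))) (.nd (.nd (.nd (.nd (.nd (.lf 0x0) (.lf 0x0)) (.nd (.lf 0x553a) (.lf 0))) (.nd (.nd (.lf 0x0) (.lf 0x277f)) (.nd (.lf 0x0) (.lf 0)))) (.nd (.nd (.nd (.lf 0x0) (.lf 0x7b35)) (.nd (.lf 0x0)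 (.lf 0))) (.nd (.nd (.lf 0x0) (.lf 0x352f)) (.nd (.lf 0x0) (.lf 0))))) (.nd (.nd (.nd (.nd (.lf 0x0) (.lf 0x6710)) (.nd (.lf 0x1c29) (.lf 0))) (.nd (.nd (.lf 0x0) (.lf 0x4854)) (.nd (.lf 0x0) (.lf 0)))) (.nd (.nd (.nd (.lf 0x1626) (.lf 0x0)) (.nd (.lf 0x0) (.lf 0))) (.nd (.nd (.lf 0x0) (.lf 0x4d0d)) (.nd (.lf 0x4787) (.lf 0))))))) (.nd (.nd (.nd (.nd (.nd (.nd (.lf 0x0) (.lf 0x0)) (.nd (.lf 0x52ad) (.lf 0))) (.nd (.nd (.lf 0x0) (.lf 0x0)) (.nd (.lf 0xe67) (.lf 0)))) (.nd (.nd (.nd (.lf 0x0) (.lf 0x3926)) (.nd (.lf 0x0) (.lf 0))) (.nd (.nd (.lf 0x0) (.lf 0x7717)) (.nd (.lf 0x0) (.lf 0))))) (.nd (.nd (.nd (.nd (.lf 0x0) (.lf 0x0)) (.nd (.lf 0x0) (.lf 0))) (.nd (.nd (.lf 0x0) (.lf 0x58a9)) (.nd (.lf 0x0) (.lf 0)))) (.nd (.nd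 (.nd (.lf 0x0) (.lf 0x6b8d)) (.nd (.lf 0x3d94) (.lf 0))) (.nd (.nd (.lf 0x0) (.lf 0x768a)) (.nd (.lf 0x0) (.lf 0)))))) (.nd (.nd (.nd (.nd (.nd (.lf 0x0) (.lf 0x24af)) (.nd (.lf 0x0) (.lf 0))) (.nd (.nd (.lf 0x0) (.lf 0x0)) (.nd (.lf 0x0) (.lf 0)))) (.nd (.nd (.nd (.lf 0x0) (.lf 0x7976)) (.nd (.lf 0x0) (.lf 0))) (.nd (.nd (.lf 0x6438) (.lf 0x84)) (.nd (.lf 0x4d48) (.lf 0))))) (.nd (.nd (.nd (.nd (.lf 0x0) (.lf 0x0)) (.nd (.lf 0x1489) (.lf 0))) (.nd (.nd (.lf 0x0) (.lf 0x7335)) (.nd (.lf 0x0) (.lf 0)))) (.nd (.nd (.nd (.lf 0x0) (.lf 0x0)) (.nd (.lf 0x0) (.lf 0))) (.nd (.nd (.lf 0x4826) (.lf 0x834e)) (.nd (.lf 0x0) (.lf 0))))))))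
def witA_nbaaaaa : Tr := (.nd (.nd (.nd (.nd (.nd (.nd (.nd (.lf 0x0) (.lf 0x17af)) (.nd (.lf 0x0) (.lf 0x27a2))) (.nd (.nd (.lf 0x0) (.lf 0x0)) (.nd (.lf 0x0) (.lf 0)))) (.nd (.nd (.nd (.lf 0x158d) (.lf 0x0)) (.nd (.lf 0x26a5) (.lf 0))) (.nd (.nd (.lf 0x0) (.lf 0x3b0a)) (.nd (.lf 0x0) (.lf 0))))) (.nd (.nd (.nd (.nd (.lf 0x0) (.lf 0x0)) (.nd (.lf 0x0) (.lf 0))) (.nd (.nd (.lf 0x0) (.lf 0x4b0e)) (.nd (.lf 0x3f09) (.lf 0)))) (.nd (.nd (.nd (.lf 0x0) (.lf 0x479)) (.nd (.lf 0x39ae) (.lf 0))) (.nd (.nd (.lf 0x0) (.lf 0x1c13)) (.nd (.lf 0x546d) (.lf 0)))))) (.nd (.nd (.nd (.nd (.nd (.lf 0x0) (.lf 0x1274)) (.nd (.lf 0x0) (.lf 0))) (.nd (.nd (.lf 0x0) (.lf 0x0)) (.nd (.lf 0x0) (.lf 0)))) (.nd (.nd (.nd (.lf 0x0) (.lf 0x6fa5)) (.nd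 (.lf 0x5304) (.lf 0))) (.nd (.nd (.lf 0x0) (.lf 0x60a)) (.nd (.lf 0x6646) (.lf 0))))) (.nd (.nd (.nd (.nd (.lf 0x0) (.lf 0x1926)) (.nd (.lf 0x0) (.lf 0))) (.nd (.nd (.lf 0x0) (.lf 0x0)) (.nd (.lf 0x0) (.lf 0)))) (.nd (.nd (.nd (.lf 0x5085) (.lf 0x5429)) (.nd (.lf 0x761) (.lf 0))) (.nd (.nd (.lf 0x0) (.lf 0xbad)) (.nd (.lf 0x7458) (.lf 0))))))) (.nd (.nd (.nd (.nd (.nd (.nd (.lf 0x0) (.lf 0x0)) (.nd (.lf 0x0) (.lf 0))) (.nd (.nd (.lf 0x0) (.lf 0x0)) (.nd (.lf 0x0) (.lf 0)))) (.nd (.nd (.nd (.lf 0x0) (.lf 0x2806)) (.nd (.lf 0x0) (.lf 0))) (.nd (.nd (.lf 0x0) (.lf 0x515b)) (.nd (.lf 0x0) (.lf 0))))) (.nd (.nd (.nd (.nd (.lf 0x0) (.lf 0x0)) (.nd (.lf 0x0) (.lf 0))) (.nd (.nd (.lf 0x0) (.lf 0x3f9a)) (.nd (.lf 0x0) (.lf 0)))) (.nd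 (.nd (.nd (.lf 0x0) (.lf 0x162f)) (.nd (.lf 0x0) (.lf 0))) (.nd (.nd (.lf 0x0) (.lf 0x2050)) (.nd (.lf 0x6aa9) (.lf 0)))))) (.nd (.nd (.nd (.nd (.nd (.lf 0x0) (.lf 0x2e1c)) (.nd (.lf 0x0) (.lf 0))) (.nd (.nd (.lf 0x0) (.lf 0x7aad)) (.nd (.lf 0x0) (.lf 0)))) (.nd (.nd (.nd (.lf 0x0) (.lf 0x2f61)) (.nd (.lf 0x0) (.lf 0))) (.nd (.nd (.lf 0x7b7a) (.lf 0x5470)) (.nd (.lf 0x270) (.lf 0))))) (.nd (.nd (.nd (.nd (.lf 0x0) (.lf 0x0)) (.nd (.lf 0x0) (.lf 0))) (.nd (.nd (.lf 0x0) (.lf 0x5e29)) (.nd (.lf 0x0) (.lf 0)))) (.nd (.nd (.nd (.lf 0x0) (.lf 0x6692)) (.nd (.lf 0x2c16) (.lf 0))) (.nd (.nd (.lf 0x3415) (.lf 0x0)) (.nd (.lf 0x0) (.lf 0))))))))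
def witA_nbaaaab : Tr := (.nd (.nd (.nd (.nd (.nd (.nd (.nd (.lf 0x0) (.lf 0x0)) (.nd (.lf 0x5b24) (.lf 0))) (.nd (.nd (.lf 0x0) (.lf 0x0)) (.nd (.lf 0x0) (.lf 0)))) (.nd (.nd (.nd (.lf 0x0) (.lf 0x0)) (.nd (.lf 0x0) (.lf 0))) (.nd (.nd (.lf 0x0) (.lf 0x0)) (.nd (.lf 0x0) (.lf 0))))) (.nd (.nd (.nd (.nd (.lf 0x0) (.lf 0x0)) (.nd (.lf 0x0) (.lf 0))) (.nd (.nd (.lf 0x0) (.lf 0x7ca5)) (.nd (.lf 0x3e93) (.lf 0)))) (.nd (.nd (.nd (.lf 0x0) (.lf 0x695b)) (.nd (.lf 0x0) (.lf 0))) (.nd (.nd (.lf 0x0) (.lf 0x1836)) (.nd (.lf 0x0) (.lf 0)))))) (.nd (.nd (.nd (.nd (.nd (.lf 0x0) (.lf 0x0)) (.nd (.lf 0x0) (.lf 0))) (.nd (.nd (.lf 0x811b) (.lf 0x0)) (.nd (.lf 0x0) (.lf 0)))) (.nd (.nd (.nd (.lf 0x0) (.lf 0x0)) (.nd (.lf 0x2c13) (.lf 0)))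 (.nd (.nd (.lf 0x218d) (.lf 0x3e2c)) (.nd (.lf 0x6bad) (.lf 0))))) (.nd (.nd (.nd (.nd (.lf 0x0) (.lf 0x355b)) (.nd (.lf 0x0) (.lf 0))) (.nd (.nd (.lf 0x0) (.lf 0x80a5)) (.nd (.lf 0x627c) (.lf 0)))) (.nd (.nd (.nd (.lf 0x0) (.lf 0x0)) (.nd (.lf 0x7d8f) (.lf 0))) (.nd (.nd (.lf 0x0) (.lf 0x0)) (.nd (.lf 0x0) (.lf 0))))))) (.nd (.nd (.nd (.nd (.nd (.nd (.lf 0x0) (.lf 0x0)) (.nd (.lf 0x0) (.lf 0))) (.nd (.nd (.lf 0x0) (.lf 0x0)) (.nd (.lf 0x0) (.lf 0)))) (.nd (.nd (.nd (.lf 0x0) (.lf 0x7539)) (.nd (.lf 0x0) (.lf 0))) (.nd (.nd (.lf 0x4255) (.lf 0x5b51)) (.nd (.lf 0x8ab) (.lf 0))))) (.nd (.nd (.nd (.nd (.lf 0x0) (.lf 0x436e)) (.nd (.lf 0x0) (.lf 0))) (.nd (.nd (.lf 0x0) (.lf 0x0)) (.nd (.lf 0x7fad) (.lf 0)))) (.nd (.nd (.nd (.lf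 0x0) (.lf 0x0)) (.nd (.lf 0x0) (.lf 0))) (.nd (.nd (.lf 0x0) (.lf 0x0)) (.nd (.lf 0x0) (.lf 0)))))) (.nd (.nd (.nd (.nd (.nd (.lf 0x0) (.lf 0x0)) (.nd (.lf 0x4a25) (.lf 0))) (.nd (.nd (.lf 0x0) (.lf 0x220e)) (.nd (.lf 0x0) (.lf 0)))) (.nd (.nd (.nd (.lf 0x0) (.lf 0x0)) (.nd (.lf 0x0) (.lf 0))) (.nd (.nd (.lf 0x5d3d) (.lf 0x539b)) (.nd (.lf 0x0) (.lf 0))))) (.nd (.nd (.nd (.nd (.lf 0x6260) (.lf 0x4896)) (.nd (.lf 0x0) (.lf 0))) (.nd (.nd (.lf 0x0) (.lf 0x42a2)) (.nd (.lf 0x0) (.lf 0)))) (.nd (.nd (.nd (.lf 0x0) (.lf 0x556)) (.nd (.lf 0x0) (.lf 0))) (.nd (.nd (.lf 0x431f) (.lf 0x4653)) (.nd (.lf 0x0) (.lf 0))))))))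
def witA_nbaaaba : Tr := (.nd (.nd (.nd (.nd (.nd (.nd (.nd (.lf 0x0) (.lf 0x3e5d)) (.nd (.lf 0x6a) (.lf 0))) (.nd (.nd (.lf 0x0) (.lf 0xc0a)) (.nd (.lf 0x24a1) (.lf 0)))) (.nd (.nd (.nd (.lf 0x0) (.lf 0x0)) (.nd (.lf 0x3945) (.lf 0))) (.nd (.nd (.lf 0x0) (.lf 0x545)) (.nd (.lf 0x6414) (.lf 0))))) (.nd (.nd (.nd (.nd (.lf 0x0) (.lf 0x4ba3)) (.nd (.lf 0x0) (.lf 0))) (.nd (.nd (.lf 0x0) (.lf 0x181)) (.nd (.lf 0x4c66) (.lf 0)))) (.nd (.nd (.nd (.lf 0x0) (.lf 0x578f)) (.nd (.lf 0x382) (.lf 0))) (.nd (.nd (.lf 0x7350) (.lf 0x686c)) (.nd (.lf 0x0) (.lf 0)))))) (.nd (.nd (.nd (.nd (.nd (.lf 0x0) (.lf 0x0)) (.nd (.lf 0x0) (.lf 0))) (.nd (.nd (.lf 0x0) (.lf 0x0)) (.nd (.lf 0x0) (.lf 0)))) (.nd (.nd (.nd (.lf 0x0) (.lf 0x0)) (.nd (.lf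 0x353a) (.lf 0))) (.nd (.nd (.lf 0x0) (.lf 0x6207)) (.nd (.lf 0x820f) (.lf 0))))) (.nd (.nd (.nd (.nd (.lf 0x0) (.lf 0x14a2)) (.nd (.lf 0x4219) (.lf 0))) (.nd (.nd (.lf 0x0) (.lf 0x2c99)) (.nd (.lf 0x0) (.lf 0)))) (.nd (.nd (.nd (.lf 0x0) (.lf 0x0)) (.nd (.lf 0x0) (.lf 0))) (.nd (.nd (.lf 0x0) (.lf 0x6c8b)) (.nd (.lf 0x0) (.lf 0))))))) (.nd (.nd (.nd (.nd (.nd (.nd (.lf 0x0) (.lf 0x0)) (.nd (.lf 0x0) (.lf 0))) (.nd (.nd (.lf 0x0) (.lf 0x0)) (.nd (.lf 0x0) (.lf 0)))) (.nd (.nd (.nd (.lf 0x0) (.lf 0x2416)) (.nd (.lf 0x0) (.lf 0))) (.nd (.nd (.lf 0x0) (.lf 0x3f38)) (.nd (.lf 0x81a4) (.lf 0))))) (.nd (.nd (.nd (.nd (.lf 0x0) (.lf 0x2e00)) (.nd (.lf 0x1a42) (.lf 0))) (.nd (.nd (.lf 0x0) (.lf 0x2bac)) (.nd (.lf 0x1d77) (.lf 0))))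 (.nd (.nd (.nd (.lf 0x0) (.lf 0x58a7)) (.nd (.lf 0x0) (.lf 0))) (.nd (.nd (.lf 0x0) (.lf 0x5da0)) (.nd (.lf 0x0) (.lf 0)))))) (.nd (.nd (.nd (.nd (.nd (.lf 0x0) (.lf 0x0)) (.nd (.lf 0x0) (.lf 0))) (.nd (.nd (.lf 0x0) (.lf 0xa7b)) (.nd (.lf 0x0) (.lf 0)))) (.nd (.nd (.nd (.lf 0x0) (.lf 0x5196)) (.nd (.lf 0x4937) (.lf 0))) (.nd (.nd (.lf 0x0) (.lf 0x0)) (.nd (.lf 0x0) (.lf 0))))) (.nd (.nd (.nd (.nd (.lf 0x0) (.lf 0x2b93)) (.nd (.lf 0x0) (.lf 0))) (.nd (.nd (.lf 0x0) (.lf 0x0)) (.nd (.lf 0x0) (.lf 0)))) (.nd (.nd (.nd (.lf 0x0) (.lf 0x0)) (.nd (.lf 0x0) (.lf 0))) (.nd (.nd (.lf 0x0) (.lf 0x1790)) (.nd (.lf 0x0) (.lf 0))))))))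
def witA_nbaaabb : Tr := (.nd (.nd (.nd (.nd (.nd (.nd (.nd (.lf 0x0) (.lf 0x0)) (.nd (.lf 0x0) (.lf 0))) (.nd (.nd (.lf 0x0) (.lf 0x4789)) (.nd (.lf 0x0) (.lf 0)))) (.nd (.nd (.nd (.lf 0x0) (.lf 0x1e53)) (.nd (.lf 0x0) (.lf 0))) (.nd (.nd (.lf 0x7613) (.lf 0x0)) (.nd (.lf 0x4492) (.lf 0))))) (.nd (.nd (.nd (.nd (.lf 0x0) (.lf 0x4b38)) (.nd (.lf 0x3d31) (.lf 0))) (.nd (.nd (.lf 0x5b55) (.lf 0x3f98)) (.nd (.lf 0x6e3f) (.lf 0)))) (.nd (.nd (.nd (.lf 0x0) (.lf 0x544a)) (.nd (.lf 0x0) (.lf 0))) (.nd (.nd (.lf 0x0) (.lf 0x2a2e)) (.nd (.lf 0x0) (.lf 0)))))) (.nd (.nd (.nd (.nd (.nd (.lf 0x0) (.lf 0x0)) (.nd (.lf 0x0) (.lf 0))) (.nd (.nd (.lf 0x0) (.lf 0x0)) (.nd (.lf 0x3b72) (.lf 0)))) (.nd (.nd (.nd (.lf 0x0) (.lf 0x3c94)) (.nd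 (.lf 0x0) (.lf 0))) (.nd (.nd (.lf 0x0) (.lf 0x417)) (.nd (.lf 0x0) (.lf 0))))) (.nd (.nd (.nd (.nd (.lf 0x0) (.lf 0x5017)) (.nd (.lf 0x0) (.lf 0))) (.nd (.nd (.lf 0x0) (.lf 0x0)) (.nd (.lf 0x251d) (.lf 0)))) (.nd (.nd (.nd (.lf 0x0) (.lf 0x437)) (.nd (.lf 0x424d) (.lf 0))) (.nd (.nd (.lf 0x0) (.lf 0x56ab)) (.nd (.lf 0x0) (.lf 0))))))) (.nd (.nd (.nd (.nd (.nd (.nd (.lf 0x0) (.lf 0x203)) (.nd (.lf 0x7581) (.lf 0))) (.nd (.nd (.lf 0x0) (.lf 0x0)) (.nd (.lf 0x4498) (.lf 0)))) (.nd (.nd (.nd (.lf 0x0) (.lf 0x0)) (.nd (.lf 0x0) (.lf 0))) (.nd (.nd (.lf 0x0) (.lf 0x8738)) (.nd (.lf 0x0) (.lf 0))))) (.nd (.nd (.nd (.nd (.lf 0x0) (.lf 0x4980)) (.nd (.lf 0x0) (.lf 0))) (.nd (.nd (.lf 0x0) (.lf 0x0)) (.nd (.lf 0x1f43) (.lf 0)))) (.nd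 (.nd (.nd (.lf 0x0) (.lf 0x0)) (.nd (.lf 0x84a1) (.lf 0))) (.nd (.nd (.lf 0x0) (.lf 0x7a4a)) (.nd (.lf 0x0) (.lf 0)))))) (.nd (.nd (.nd (.nd (.nd (.lf 0x0) (.lf 0x0)) (.nd (.lf 0x0) (.lf 0))) (.nd (.nd (.lf 0x0) (.lf 0x6a88)) (.nd (.lf 0x0) (.lf 0)))) (.nd (.nd (.nd (.lf 0x0) (.lf 0x5028)) (.nd (.lf 0x0) (.lf 0))) (.nd (.nd (.lf 0x0) (.lf 0x0)) (.nd (.lf 0x4b2a) (.lf 0))))) (.nd (.nd (.nd (.nd (.lf 0x0) (.lf 0x0)) (.nd (.lf 0x0) (.lf 0))) (.nd (.nd (.lf 0x2233) (.lf 0x0)) (.nd (.lf 0x66aa) (.lf 0)))) (.nd (.nd (.nd (.lf 0x0) (.lf 0x59ac)) (.nd (.lf 0x0) (.lf 0))) (.nd (.nd (.lf 0x0) (.lf 0x0)) (.nd (.lf 0xba6) (.lf 0))))))))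
def witA_nbaabaa : Tr := (.nd (.nd (.nd (.nd (.nd (.nd (.nd (.lf 0x0) (.lf 0x0)) (.nd (.lf 0x749) (.lf 0xc33))) (.nd (.nd (.lf 0x0) (.lf 0x25a5)) (.nd (.lf 0x2799) (.lf 0)))) (.nd (.nd (.nd (.lf 0x748f) (.lf 0x7607)) (.nd (.lf 0x616e) (.lf 0))) (.nd (.nd (.lf 0x0) (.lf 0x3696)) (.nd (.lf 0x8285) (.lf 0))))) (.nd (.nd (.nd (.nd (.lf 0x0) (.lf 0x0)) (.nd (.lf 0x0) (.lf 0))) (.nd (.nd (.lf 0x0) (.lf 0x1f7d)) (.nd (.lf 0x2958) (.lf 0)))) (.nd (.nd (.nd (.lf 0x0) (.lf 0x5815)) (.nd (.lf 0x0) (.lf 0))) (.nd (.nd (.lf 0x12b1) (.lf 0x0)) (.nd (.lf 0x7b17) (.lf 0)))))) (.nd (.nd (.nd (.nd (.nd (.lf 0x0) (.lf 0x0)) (.nd (.lf 0x0) (.lf 0))) (.nd (.nd (.lf 0x0) (.lf 0x2d80)) (.nd (.lf 0x0) (.lf 0)))) (.nd (.nd (.nd (.lf 0x0) (.lf 0x5544))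 (.nd (.lf 0x3ba9) (.lf 0))) (.nd (.nd (.lf 0x0) (.lf 0x0)) (.nd (.lf 0x0) (.lf 0))))) (.nd (.nd (.nd (.nd (.lf 0x0) (.lf 0x7f3b)) (.nd (.lf 0x0) (.lf 0))) (.nd (.nd (.lf 0x0) (.lf 0x0)) (.nd (.lf 0x6053) (.lf 0)))) (.nd (.nd (.nd (.lf 0x0) (.lf 0x4d41)) (.nd (.lf 0x0) (.lf 0))) (.nd (.nd (.lf 0x0) (.lf 0x239a)) (.nd (.lf 0x0) (.lf 0))))))) (.nd (.nd (.nd (.nd (.nd (.nd (.lf 0x0) (.lf 0x0)) (.nd (.lf 0x0) (.lf 0))) (.nd (.nd (.lf 0x0) (.lf 0x0)) (.nd (.lf 0x0) (.lf 0)))) (.nd (.nd (.nd (.lf 0x0) (.lf 0x0)) (.nd (.lf 0x0) (.lf 0))) (.nd (.nd (.lf 0x0) (.lf 0x6002)) (.nd (.lf 0x0) (.lf 0))))) (.nd (.nd (.nd (.nd (.lf 0x0) (.lf 0x540c)) (.nd (.lf 0x0) (.lf 0))) (.nd (.nd (.lf 0x0) (.lf 0x5245)) (.nd (.lf 0x7a87) (.lf 0)))) (.nd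 (.nd (.nd (.lf 0x0) (.lf 0x38b3)) (.nd (.lf 0x0) (.lf 0))) (.nd (.nd (.lf 0x0) (.lf 0xb06)) (.nd (.lf 0x0) (.lf 0)))))) (.nd (.nd (.nd (.nd (.nd (.lf 0x0) (.lf 0x61f)) (.nd (.lf 0x0) (.lf 0))) (.nd (.nd (.lf 0x3a6c) (.lf 0x0)) (.nd (.lf 0x0) (.lf 0)))) (.nd (.nd (.nd (.lf 0x0) (.lf 0x343c)) (.nd (.lf 0x0) (.lf 0))) (.nd (.nd (.lf 0x0) (.lf 0x4290)) (.nd (.lf 0x346f) (.lf 0))))) (.nd (.nd (.nd (.nd (.lf 0x0) (.lf 0x0)) (.nd (.lf 0x0) (.lf 0))) (.nd (.nd (.lf 0x3e2a) (.lf 0x7364)) (.nd (.lf 0x0) (.lf 0)))) (.nd (.nd (.nd (.lf 0x0) (.lf 0x0)) (.nd (.lf 0x2426) (.lf 0))) (.nd (.nd (.lf 0x0) (.lf 0x3fb1)) (.nd (.lf 0x5805) (.lf 0))))))))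
def witA_nbaabab : Tr := (.nd (.nd (.nd (.nd (.nd (.nd (.nd (.lf 0x0) (.lf 0x402f)) (.nd (.lf 0xc8b) (.lf 0))) (.nd (.nd (.lf 0x0) (.lf 0x0)) (.nd (.lf 0x0) (.lf 0)))) (.nd (.nd (.nd (.lf 0x0) (.lf 0x7d2d)) (.nd (.lf 0x8662) (.lf 0))) (.nd (.nd (.lf 0x0) (.lf 0x6a47)) (.nd (.lf 0x5003) (.lf 0))))) (.nd (.nd (.nd (.nd (.lf 0x0) (.lf 0x1298)) (.nd (.lf 0x0) (.lf 0))) (.nd (.nd (.lf 0x0) (.lf 0x5d9d)) (.nd (.lf 0x0) (.lf 0)))) (.nd (.nd (.nd (.lf 0x0) (.lf 0x2705)) (.nd (.lf 0x0) (.lf 0))) (.nd (.nd (.lf 0x0) (.lf 0x0)) (.nd (.lf 0x6549) (.lf 0)))))) (.nd (.nd (.nd (.nd (.nd (.lf 0x0) (.lf 0x0)) (.nd (.lf 0x0) (.lf 0))) (.nd (.nd (.lf 0x0) (.lf 0x0)) (.nd (.lf 0x0) (.lf 0)))) (.nd (.nd (.nd (.lf 0x0) (.lf 0x8423)) (.nd (.lf 0x0)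 (.lf 0))) (.nd (.nd (.lf 0x0) (.lf 0x89)) (.nd (.lf 0x0) (.lf 0))))) (.nd (.nd (.nd (.nd (.lf 0x0) (.lf 0x0)) (.nd (.lf 0xc2d) (.lf 0))) (.nd (.nd (.lf 0x0) (.lf 0x7b01)) (.nd (.lf 0x0) (.lf 0)))) (.nd (.nd (.nd (.lf 0x0) (.lf 0x6b35)) (.nd (.lf 0x0) (.lf 0))) (.nd (.nd (.lf 0x0) (.lf 0xe05)) (.nd (.lf 0x6a58) (.lf 0))))))) (.nd (.nd (.nd (.nd (.nd (.nd (.lf 0x0) (.lf 0x0)) (.nd (.lf 0x0) (.lf 0))) (.nd (.nd (.lf 0x0) (.lf 0x518)) (.nd (.lf 0x2b69) (.lf 0)))) (.nd (.nd (.nd (.lf 0x0) (.lf 0x0)) (.nd (.lf 0xb20) (.lf 0))) (.nd (.nd (.lf 0x0) (.lf 0x7a4c)) (.nd (.lf 0x0) (.lf 0))))) (.nd (.nd (.nd (.nd (.lf 0x0) (.lf 0x1000)) (.nd (.lf 0x7631) (.lf 0))) (.nd (.nd (.lf 0x658a) (.lf 0x357e)) (.nd (.lf 0x0) (.lf 0)))) (.nd (.nd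 (.nd (.lf 0x0) (.lf 0x0)) (.nd (.lf 0x0) (.lf 0))) (.nd (.nd (.lf 0x0) (.lf 0x0)) (.nd (.lf 0x0) (.lf 0)))))) (.nd (.nd (.nd (.nd (.nd (.lf 0x0) (.lf 0x0)) (.nd (.lf 0x667f) (.lf 0))) (.nd (.nd (.lf 0x0) (.lf 0x0)) (.nd (.lf 0x667f) (.lf 0)))) (.nd (.nd (.nd (.lf 0x0) (.lf 0x5d07)) (.nd (.lf 0x6832) (.lf 0))) (.nd (.nd (.lf 0x0) (.lf 0x0)) (.nd (.lf 0x0) (.lf 0))))) (.nd (.nd (.nd (.nd (.lf 0x0) (.lf 0x879)) (.nd (.lf 0x0) (.lf 0))) (.nd (.nd (.lf 0x0) (.lf 0x0)) (.nd (.lf 0x0) (.lf 0)))) (.nd (.nd (.nd (.lf 0x0) (.lf 0x2b79)) (.nd (.lf 0x80ad) (.lf 0))) (.nd (.nd (.lf 0x0) (.lf 0x390c)) (.nd (.lf 0x0) (.lf 0))))))))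
def witA_nbaabba : Tr := (.nd (.nd (.nd (.nd (.nd (.nd (.nd (.lf 0x0) (.lf 0x0)) (.nd (.lf 0x0) (.lf 0))) (.nd (.nd (.lf 0x0) (.lf 0x3799)) (.nd (.lf 0x0) (.lf 0)))) (.nd (.nd (.nd (.lf 0x0) (.lf 0x611d)) (.nd (.lf 0xc23) (.lf 0))) (.nd (.nd (.lf 0x0) (.lf 0x221f)) (.nd (.lf 0x0) (.lf 0))))) (.nd (.nd (.nd (.nd (.lf 0x0) (.lf 0x3271)) (.nd (.lf 0x7b42) (.lf 0))) (.nd (.nd (.lf 0x0) (.lf 0x0)) (.nd (.lf 0x868f) (.lf 0)))) (.nd (.nd (.nd (.lf 0x0) (.lf 0x0)) (.nd (.lf 0x0) (.lf 0))) (.nd (.nd (.lf 0x0) (.lf 0x4d28)) (.nd (.lf 0x0) (.lf 0)))))) (.nd (.nd (.nd (.nd (.nd (.lf 0x0) (.lf 0x0)) (.nd (.lf 0x0) (.lf 0))) (.nd (.nd (.lf 0x3e95) (.lf 0x79a9)) (.nd (.lf 0x0) (.lf 0)))) (.nd (.nd (.nd (.lf 0x0) (.lf 0x593c)) (.nd (.lf 0x0)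 (.lf 0))) (.nd (.nd (.lf 0x0) (.lf 0x2f37)) (.nd (.lf 0x5807) (.lf 0))))) (.nd (.nd (.nd (.nd (.lf 0x0) (.lf 0x2396)) (.nd (.lf 0x0) (.lf 0))) (.nd (.nd (.lf 0x0) (.lf 0x16ab)) (.nd (.lf 0x0) (.lf 0)))) (.nd (.nd (.nd (.lf 0x0) (.lf 0x54b2)) (.nd (.lf 0xb0f) (.lf 0))) (.nd (.nd (.lf 0x0) (.lf 0x0)) (.nd (.lf 0x0) (.lf 0))))))) (.nd (.nd (.nd (.nd (.nd (.nd (.lf 0x0) (.lf 0x0)) (.nd (.lf 0x0) (.lf 0))) (.nd (.nd (.lf 0x0) (.lf 0x2104)) (.nd (.lf 0x552d) (.lf 0)))) (.nd (.nd (.nd (.lf 0x0) (.lf 0x0)) (.nd (.lf 0x0) (.lf 0))) (.nd (.nd (.lf 0x8202) (.lf 0x0)) (.nd (.lf 0x0) (.lf 0))))) (.nd (.nd (.nd (.nd (.lf 0x0) (.lf 0x0)) (.nd (.lf 0x6d60) (.lf 0))) (.nd (.nd (.lf 0x0) (.lf 0x4f18)) (.nd (.lf 0x0) (.lf 0)))) (.nd (.nd (.nd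 (.lf 0x0) (.lf 0x0)) (.nd (.lf 0x0) (.lf 0))) (.nd (.nd (.lf 0x0) (.lf 0x313e)) (.nd (.lf 0x0) (.lf 0)))))) (.nd (.nd (.nd (.nd (.nd (.lf 0x0) (.lf 0x572d)) (.nd (.lf 0x3a12) (.lf 0))) (.nd (.nd (.lf 0x0) (.lf 0x0)) (.nd (.lf 0x1878) (.lf 0)))) (.nd (.nd (.nd (.lf 0x0) (.lf 0x0)) (.nd (.lf 0x2b1d) (.lf 0))) (.nd (.nd (.lf 0x0) (.lf 0x0)) (.nd (.lf 0x0) (.lf 0))))) (.nd (.nd (.nd (.nd (.lf 0x0) (.lf 0x0)) (.nd (.lf 0x1660) (.lf 0))) (.nd (.nd (.lf 0x0) (.lf 0x7aa5)) (.nd (.lf 0x0) (.lf 0)))) (.nd (.nd (.nd (.lf 0x0) (.lf 0x0)) (.nd (.lf 0x0) (.lf 0))) (.nd (.nd (.lf 0x92a) (.lf 0x0)) (.nd (.lf 0x0) (.lf 0))))))))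
def witA_nbaabbb : Tr := (.nd (.nd (.nd (.nd (.nd (.nd (.nd (.lf 0x0) (.lf 0x0)) (.nd (.lf 0x1010) (.lf 0))) (.nd (.nd (.lf 0x0) (.lf 0x7865)) (.nd (.lf 0x0) (.lf 0)))) (.nd (.nd (.nd (.lf 0x0) (.lf 0x5502)) (.nd (.lf 0x0) (.lf 0))) (.nd (.nd (.lf 0x0) (.lf 0x787f)) (.nd (.lf 0x3413) (.lf 0))))) (.nd (.nd (.nd (.nd (.lf 0x0) (.lf 0x3618)) (.nd (.lf 0x0) (.lf 0))) (.nd (.nd (.lf 0x0) (.lf 0x2b97)) (.nd (.lf 0x0) (.lf 0)))) (.nd (.nd (.nd (.lf 0x0) (.lf 0x402)) (.nd (.lf 0x0) (.lf 0))) (.nd (.nd (.lf 0x3606) (.lf 0x4166)) (.nd (.lf 0x1a16) (.lf 0)))))) (.nd (.nd (.nd (.nd (.nd (.lf 0x0) (.lf 0x0)) (.nd (.lf 0x0) (.lf 0))) (.nd (.nd (.lf 0x0) (.lf 0x6333)) (.nd (.lf 0x30a8) (.lf 0)))) (.nd (.nd (.nd (.lf 0x0) (.lf 0x3f41)) (.nd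 (.lf 0x0) (.lf 0))) (.nd (.nd (.lf 0x0) (.lf 0x1321)) (.nd (.lf 0x0) (.lf 0))))) (.nd (.nd (.nd (.nd (.lf 0x0) (.lf 0x0)) (.nd (.lf 0x0) (.lf 0))) (.nd (.nd (.lf 0x0) (.lf 0x77b)) (.nd (.lf 0x5aaf) (.lf 0)))) (.nd (.nd (.nd (.lf 0x0) (.lf 0x6b9f)) (.nd (.lf 0x0) (.lf 0))) (.nd (.nd (.lf 0x0) (.lf 0x7e87)) (.nd (.lf 0x0) (.lf 0))))))) (.nd (.nd (.nd (.nd (.nd (.nd (.lf 0x0) (.lf 0x0)) (.nd (.lf 0x0) (.lf 0))) (.nd (.nd (.lf 0x0) (.lf 0x0)) (.nd (.lf 0x0) (.lf 0)))) (.nd (.nd (.nd (.lf 0x0) (.lf 0x6ba0)) (.nd (.lf 0x0) (.lf 0))) (.nd (.nd (.lf 0x0) (.lf 0x270d)) (.nd (.lf 0x0) (.lf 0))))) (.nd (.nd (.nd (.nd (.lf 0x0) (.lf 0x0)) (.nd (.lf 0x95d) (.lf 0))) (.nd (.nd (.lf 0x0) (.lf 0x168)) (.nd (.lf 0x0) (.lf 0)))) (.nd (.nd (.nd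 (.lf 0x0) (.lf 0x3799)) (.nd (.lf 0x0) (.lf 0))) (.nd (.nd (.lf 0x0) (.lf 0x6411)) (.nd (.lf 0x0) (.lf 0)))))) (.nd (.nd (.nd (.nd (.nd (.lf 0x0) (.lf 0x211c)) (.nd (.lf 0x6639) (.lf 0))) (.nd (.nd (.lf 0x0) (.lf 0x1739)) (.nd (.lf 0x0) (.lf 0)))) (.nd (.nd (.nd (.lf 0x0) (.lf 0x3f1d)) (.nd (.lf 0x65a8) (.lf 0))) (.nd (.nd (.lf 0x0) (.lf 0x1162)) (.nd (.lf 0x673a) (.lf 0))))) (.nd (.nd (.nd (.nd (.lf 0x0) (.lf 0x0)) (.nd (.lf 0x596b) (.lf 0))) (.nd (.nd (.lf 0x6e13) (.lf 0x490e)) (.nd (.lf 0x0) (.lf 0)))) (.nd (.nd (.nd (.lf 0x0) (.lf 0x567)) (.nd (.lf 0x0) (.lf 0))) (.nd (.nd (.lf 0x0) (.lf 0x84a6)) (.nd (.lf 0x0) (.lf 0))))))))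
def witA_nbabaaa : Tr := (.nd (.nd (.nd (.nd (.nd (.nd (.nd (.lf 0x0) (.lf 0x6f9d)) (.nd (.lf 0x0) (.lf 0xd52))) (.nd (.nd (.lf 0x0) (.lf 0x6c29)) (.nd (.lf 0x1748) (.lf 0)))) (.nd (.nd (.nd (.lf 0x0) (.lf 0x21a)) (.nd (.lf 0x7aa5) (.lf 0))) (.nd (.nd (.lf 0x770) (.lf 0x77d)) (.nd (.lf 0x5539) (.lf 0))))) (.nd (.nd (.nd (.nd (.lf 0x0) (.lf 0x4642)) (.nd (.lf 0x157e) (.lf 0))) (.nd (.nd (.lf 0x5b49) (.lf 0x5f08)) (.nd (.lf 0x0) (.lf 0)))) (.nd (.nd (.nd (.lf 0x0) (.lf 0x6b45)) (.nd (.lf 0x576) (.lf 0))) (.nd (.nd (.lf 0x1f17) (.lf 0x2c39)) (.nd (.lf 0x0) (.lf 0)))))) (.nd (.nd (.nd (.nd (.nd (.lf 0x0) (.lf 0x0)) (.nd (.lf 0x0) (.lf 0))) (.nd (.nd (.lf 0x5600) (.lf 0x2e01)) (.nd (.lf 0x0) (.lf 0)))) (.nd (.nd (.nd (.lf 0x0)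 (.lf 0x0)) (.nd (.lf 0xf4a) (.lf 0))) (.nd (.nd (.lf 0x0) (.lf 0x0)) (.nd (.lf 0x0) (.lf 0))))) (.nd (.nd (.nd (.nd (.lf 0x0) (.lf 0x0)) (.nd (.lf 0x0) (.lf 0))) (.nd (.nd (.lf 0x0) (.lf 0x0)) (.nd (.lf 0x0) (.lf 0)))) (.nd (.nd (.nd (.lf 0x0) (.lf 0x0)) (.nd (.lf 0x0) (.lf 0))) (.nd (.nd (.lf 0x0) (.lf 0x6589)) (.nd (.lf 0x0) (.lf 0))))))) (.nd (.nd (.nd (.nd (.nd (.nd (.lf 0x472e) (.lf 0x66a1)) (.nd (.lf 0x6229) (.lf 0))) (.nd (.nd (.lf 0x3213) (.lf 0x0)) (.nd (.lf 0x0) (.lf 0)))) (.nd (.nd (.nd (.lf 0x0) (.lf 0x0)) (.nd (.lf 0x0) (.lf 0))) (.nd (.nd (.lf 0x0) (.lf 0x293d)) (.nd (.lf 0x0) (.lf 0))))) (.nd (.nd (.nd (.nd (.lf 0x0) (.lf 0x0)) (.nd (.lf 0x0) (.lf 0))) (.nd (.nd (.lf 0x0) (.lf 0x25a3)) (.nd (.lf 0x0) (.lf 0))))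 (.nd (.nd (.nd (.lf 0x0) (.lf 0x7252)) (.nd (.lf 0x0) (.lf 0))) (.nd (.nd (.lf 0x0) (.lf 0x0)) (.nd (.lf 0x0) (.lf 0)))))) (.nd (.nd (.nd (.nd (.nd (.lf 0x0) (.lf 0x0)) (.nd (.lf 0x0) (.lf 0))) (.nd (.nd (.lf 0x0) (.lf 0x201e)) (.nd (.lf 0x0) (.lf 0)))) (.nd (.nd (.nd (.lf 0x0) (.lf 0x5e2f)) (.nd (.lf 0x0) (.lf 0))) (.nd (.nd (.lf 0x0) (.lf 0xf47)) (.nd (.lf 0x2a8a) (.lf 0))))) (.nd (.nd (.nd (.nd (.lf 0x0) (.lf 0x0)) (.nd (.lf 0x0) (.lf 0))) (.nd (.nd (.lf 0x0) (.lf 0x3523)) (.nd (.lf 0x0) (.lf 0)))) (.nd (.nd (.nd (.lf 0x0) (.lf 0x498d)) (.nd (.lf 0x209d) (.lf 0))) (.nd (.nd (.lf 0x0) (.lf 0x5c6c)) (.nd (.lf 0x0) (.lf 0))))))))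
def witA_nbabaab : Tr := (.nd (.nd (.nd (.nd (.nd (.nd (.nd (.lf 0x0) (.lf 0x0)) (.nd (.lf 0x0) (.lf 0))) (.nd (.nd (.lf 0x0) (.lf 0x0)) (.nd (.lf 0x0) (.lf 0)))) (.nd (.nd (.nd (.lf 0x0) (.lf 0x0)) (.nd (.lf 0x0) (.lf 0))) (.nd (.nd (.lf 0x0) (.lf 0x3064)) (.nd (.lf 0x203d) (.lf 0))))) (.nd (.nd (.nd (.nd (.lf 0x0) (.lf 0x1555)) (.nd (.lf 0x7134) (.lf 0))) (.nd (.nd (.lf 0x0) (.lf 0x2040)) (.nd (.lf 0x4706) (.lf 0)))) (.nd (.nd (.nd (.lf 0x0) (.lf 0x0)) (.nd (.lf 0x0) (.lf 0))) (.nd (.nd (.lf 0x3a54) (.lf 0x784)) (.nd (.lf 0x3288) (.lf 0)))))) (.nd (.nd (.nd (.nd (.nd (.lf 0x0) (.lf 0x2619)) (.nd (.lf 0x0) (.lf 0))) (.nd (.nd (.lf 0x0) (.lf 0x68f)) (.nd (.lf 0x0) (.lf 0)))) (.nd (.nd (.nd (.lf 0x0) (.lf 0x0)) (.nd (.lf 0x1f37)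 (.lf 0))) (.nd (.nd (.lf 0x0) (.lf 0x0)) (.nd (.lf 0x5b95) (.lf 0))))) (.nd (.nd (.nd (.nd (.lf 0x0) (.lf 0x0)) (.nd (.lf 0x0) (.lf 0))) (.nd (.nd (.lf 0x0) (.lf 0x251a)) (.nd (.lf 0x5595) (.lf 0)))) (.nd (.nd (.nd (.lf 0x0) (.lf 0x0)) (.nd (.lf 0x6838) (.lf 0))) (.nd (.nd (.lf 0x6c7a) (.lf 0x19ac)) (.nd (.lf 0x6771) (.lf 0))))))) (.nd (.nd (.nd (.nd (.nd (.nd (.lf 0x0) (.lf 0x0)) (.nd (.lf 0x0) (.lf 0))) (.nd (.nd (.lf 0x0) (.lf 0x0)) (.nd (.lf 0x0) (.lf 0)))) (.nd (.nd (.nd (.lf 0x0) (.lf 0x0)) (.nd (.lf 0x0) (.lf 0))) (.nd (.nd (.lf 0x0) (.lf 0x1359)) (.nd (.lf 0x0) (.lf 0))))) (.nd (.nd (.nd (.nd (.lf 0x0) (.lf 0x0)) (.nd (.lf 0x0) (.lf 0))) (.nd (.nd (.lf 0x0) (.lf 0x690f)) (.nd (.lf 0x0) (.lf 0)))) (.nd (.nd (.nd (.lf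 0x0) (.lf 0x0)) (.nd (.lf 0x0) (.lf 0))) (.nd (.nd (.lf 0x0) (.lf 0x5255)) (.nd (.lf 0x0) (.lf 0)))))) (.nd (.nd (.nd (.nd (.nd (.lf 0x0) (.lf 0x0)) (.nd (.lf 0x0) (.lf 0))) (.nd (.nd (.lf 0x0) (.lf 0x6f88)) (.nd (.lf 0x629a) (.lf 0)))) (.nd (.nd (.nd (.lf 0x0) (.lf 0x4350)) (.nd (.lf 0x0) (.lf 0))) (.nd (.nd (.lf 0x0) (.lf 0x6a26)) (.nd (.lf 0x0) (.lf 0))))) (.nd (.nd (.nd (.nd (.lf 0x0) (.lf 0x6b4d)) (.nd (.lf 0x0) (.lf 0))) (.nd (.nd (.lf 0x0) (.lf 0x233d)) (.nd (.lf 0x0) (.lf 0)))) (.nd (.nd (.nd (.lf 0x0) (.lf 0x2466)) (.nd (.lf 0x32d) (.lf 0))) (.nd (.nd (.lf 0x0) (.lf 0x6e6f)) (.nd (.lf 0x0) (.lf 0))))))))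
def witA_nbababa : Tr := (.nd (.nd (.nd (.nd (.nd (.nd (.nd (.lf 0x0) (.lf 0x0)) (.nd (.lf 0x0) (.lf 0))) (.nd (.nd (.lf 0x0) (.lf 0x1c0f)) (.nd (.lf 0x0) (.lf 0)))) (.nd (.nd (.nd (.lf 0x0) (.lf 0x4946)) (.nd (.lf 0x491c) (.lf 0))) (.nd (.nd (.lf 0x0) (.lf 0x610)) (.nd (.lf 0x0) (.lf 0))))) (.nd (.nd (.nd (.nd (.lf 0x0) (.lf 0x0)) (.nd (.lf 0x0) (.lf 0))) (.nd (.nd (.lf 0x0) (.lf 0x864e)) (.nd (.lf 0x0) (.lf 0)))) (.nd (.nd (.nd (.lf 0x0) (.lf 0x2483)) (.nd (.lf 0x0) (.lf 0))) (.nd (.nd (.lf 0x0) (.lf 0x6dab)) (.nd (.lf 0x392d) (.lf 0)))))) (.nd (.nd (.nd (.nd (.nd (.lf 0x0) (.lf 0x76b2)) (.nd (.lf 0x0) (.lf 0))) (.nd (.nd (.lf 0x0) (.lf 0x140f)) (.nd (.lf 0x0) (.lf 0)))) (.nd (.nd (.nd (.lf 0x0) (.lf 0x0)) (.nd (.lf 0x0)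 (.lf 0))) (.nd (.nd (.lf 0x0) (.lf 0x0)) (.nd (.lf 0x0) (.lf 0))))) (.nd (.nd (.nd (.nd (.lf 0x0) (.lf 0x6e83)) (.nd (.lf 0x0) (.lf 0))) (.nd (.nd (.lf 0x0) (.lf 0x5e8b)) (.nd (.lf 0x0) (.lf 0)))) (.nd (.nd (.nd (.lf 0x0) (.lf 0x0)) (.nd (.lf 0x0) (.lf 0))) (.nd (.nd (.lf 0x0) (.lf 0x7984)) (.nd (.lf 0x0) (.lf 0))))))) (.nd (.nd (.nd (.nd (.nd (.nd (.lf 0x0) (.lf 0x0)) (.nd (.lf 0x0) (.lf 0))) (.nd (.nd (.lf 0x0) (.lf 0x0)) (.nd (.lf 0x0) (.lf 0)))) (.nd (.nd (.nd (.lf 0x0) (.lf 0x1441)) (.nd (.lf 0x3664) (.lf 0))) (.nd (.nd (.lf 0x0) (.lf 0x0)) (.nd (.lf 0x767f) (.lf 0))))) (.nd (.nd (.nd (.nd (.lf 0x0) (.lf 0x0)) (.nd (.lf 0x0) (.lf 0))) (.nd (.nd (.lf 0x0) (.lf 0x5a81)) (.nd (.lf 0x1452) (.lf 0)))) (.nd (.nd (.nd (.lf 0x0)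 (.lf 0x0)) (.nd (.lf 0x7751) (.lf 0))) (.nd (.nd (.lf 0x0) (.lf 0x820)) (.nd (.lf 0x6f06) (.lf 0)))))) (.nd (.nd (.nd (.nd (.nd (.lf 0x0) (.lf 0x2432)) (.nd (.lf 0x0) (.lf 0))) (.nd (.nd (.lf 0x0) (.lf 0x577d)) (.nd (.lf 0x0) (.lf 0)))) (.nd (.nd (.nd (.lf 0x0) (.lf 0x0)) (.nd (.lf 0x25b1) (.lf 0))) (.nd (.nd (.lf 0x0) (.lf 0x628c)) (.nd (.lf 0x0) (.lf 0))))) (.nd (.nd (.nd (.nd (.lf 0x0) (.lf 0x305b)) (.nd (.lf 0x327) (.lf 0))) (.nd (.nd (.lf 0x0) (.lf 0x2372)) (.nd (.lf 0x1f1c) (.lf 0)))) (.nd (.nd (.nd (.lf 0x0) (.lf 0x7b36)) (.nd (.lf 0x4d81) (.lf 0))) (.nd (.nd (.lf 0x2a4e) (.lf 0x4d9c)) (.nd (.lf 0x0) (.lf 0))))))))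
def witA_nbababb : Tr := (.nd (.nd (.nd (.nd (.nd (.nd (.nd (.lf 0x0) (.lf 0x0)) (.nd (.lf 0x0) (.lf 0))) (.nd (.nd (.lf 0x0) (.lf 0x0)) (.nd (.lf 0x0) (.lf 0)))) (.nd (.nd (.nd (.lf 0x0) (.lf 0x5b8e)) (.nd (.lf 0x0) (.lf 0))) (.nd (.nd (.lf 0x0) (.lf 0x0)) (.nd (.lf 0x0) (.lf 0))))) (.nd (.nd (.nd (.nd (.lf 0x0) (.lf 0x0)) (.nd (.lf 0x0) (.lf 0))) (.nd (.nd (.lf 0x0) (.lf 0x84a9)) (.nd (.lf 0xaa0) (.lf 0)))) (.nd (.nd (.nd (.lf 0x0) (.lf 0x0)) (.nd (.lf 0x0) (.lf 0))) (.nd (.nd (.lf 0x0) (.lf 0x2151)) (.nd (.lf 0x527e) (.lf 0)))))) (.nd (.nd (.nd (.nd (.nd (.lf 0x0) (.lf 0x4240)) (.nd (.lf 0x0) (.lf 0))) (.nd (.nd (.lf 0x0) (.lf 0x355e)) (.nd (.lf 0x5e9f) (.lf 0)))) (.nd (.nd (.nd (.lf 0x0) (.lf 0x5c90)) (.nd (.lf 0x0) (.lf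 0))) (.nd (.nd (.lf 0x3038) (.lf 0x2a07)) (.nd (.lf 0x1428) (.lf 0))))) (.nd (.nd (.nd (.nd (.lf 0x0) (.lf 0x0)) (.nd (.lf 0x0) (.lf 0))) (.nd (.nd (.lf 0x0) (.lf 0x0)) (.nd (.lf 0x4747) (.lf 0)))) (.nd (.nd (.nd (.lf 0x0) (.lf 0x479b)) (.nd (.lf 0x3b24) (.lf 0))) (.nd (.nd (.lf 0x1085) (.lf 0x5295)) (.nd (.lf 0x0) (.lf 0))))))) (.nd (.nd (.nd (.nd (.nd (.nd (.lf 0x0) (.lf 0x212f)) (.nd (.lf 0xd90) (.lf 0))) (.nd (.nd (.lf 0x0) (.lf 0x4400)) (.nd (.lf 0x0) (.lf 0)))) (.nd (.nd (.nd (.lf 0x3c19) (.lf 0x5316)) (.nd (.lf 0x0) (.lf 0))) (.nd (.nd (.lf 0x0) (.lf 0x2f45)) (.nd (.lf 0x0) (.lf 0))))) (.nd (.nd (.nd (.nd (.lf 0x0) (.lf 0x0)) (.nd (.lf 0x0) (.lf 0))) (.nd (.nd (.lf 0x0) (.lf 0x266a)) (.nd (.lf 0x0) (.lf 0)))) (.nd (.nd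 (.nd (.lf 0x0) (.lf 0x0)) (.nd (.lf 0x0) (.lf 0))) (.nd (.nd (.lf 0x0) (.lf 0x4883)) (.nd (.lf 0x3a18) (.lf 0)))))) (.nd (.nd (.nd (.nd (.nd (.lf 0x0) (.lf 0x0)) (.nd (.lf 0x0) (.lf 0))) (.nd (.nd (.lf 0x0) (.lf 0x282a)) (.nd (.lf 0x7841) (.lf 0)))) (.nd (.nd (.nd (.lf 0x248) (.lf 0x762d)) (.nd (.lf 0x0) (.lf 0))) (.nd (.nd (.lf 0x6e67) (.lf 0x0)) (.nd (.lf 0x0) (.lf 0))))) (.nd (.nd (.nd (.nd (.lf 0x0) (.lf 0x186e)) (.nd (.lf 0x0) (.lf 0))) (.nd (.nd (.lf 0x0) (.lf 0x60b2)) (.nd (.lf 0x0) (.lf 0)))) (.nd (.nd (.nd (.lf 0x0) (.lf 0x4276)) (.nd (.lf 0x72b1) (.lf 0))) (.nd (.nd (.lf 0x131a) (.lf 0x4124)) (.nd (.lf 0x0) (.lf 0))))))))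
def witA_nbabbaa : Tr := (.nd (.nd (.nd (.nd (.nd (.nd (.nd (.lf 0x0) (.lf 0x7365)) (.nd (.lf 0x0) (.lf 0))) (.nd (.nd (.lf 0x0) (.lf 0x0)) (.nd (.lf 0x0) (.lf 0)))) (.nd (.nd (.nd (.lf 0x0) (.lf 0x19ae)) (.nd (.lf 0x1e3d) (.lf 0))) (.nd (.nd (.lf 0x0) (.lf 0x7127)) (.nd (.lf 0x0) (.lf 0))))) (.nd (.nd (.nd (.nd (.lf 0x0) (.lf 0x3351)) (.nd (.lf 0x0) (.lf 0))) (.nd (.nd (.lf 0x0) (.lf 0x1e0f)) (.nd (.lf 0x5e21) (.lf 0)))) (.nd (.nd (.nd (.lf 0x0) (.lf 0x332)) (.nd (.lf 0x0) (.lf 0))) (.nd (.nd (.lf 0x0) (.lf 0x832a)) (.nd (.lf 0x0) (.lf 0)))))) (.nd (.nd (.nd (.nd (.nd (.lf 0x0) (.lf 0x0)) (.nd (.lf 0x0) (.lf 0))) (.nd (.nd (.lf 0x0) (.lf 0x0)) (.nd (.lf 0x0) (.lf 0)))) (.nd (.nd (.nd (.lf 0x0) (.lf 0x1126)) (.nd (.lf 0x6668)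 (.lf 0))) (.nd (.nd (.lf 0x0) (.lf 0x1d2c)) (.nd (.lf 0x0) (.lf 0))))) (.nd (.nd (.nd (.nd (.lf 0x0) (.lf 0x0)) (.nd (.lf 0x0) (.lf 0))) (.nd (.nd (.lf 0x0) (.lf 0x0)) (.nd (.lf 0x6620) (.lf 0)))) (.nd (.nd (.nd (.lf 0x0) (.lf 0xa2c)) (.nd (.lf 0x0) (.lf 0))) (.nd (.nd (.lf 0x0) (.lf 0x795)) (.nd (.lf 0x0) (.lf 0))))))) (.nd (.nd (.nd (.nd (.nd (.nd (.lf 0x0) (.lf 0x0)) (.nd (.lf 0x0) (.lf 0))) (.nd (.nd (.lf 0x0) (.lf 0x34a9)) (.nd (.lf 0x0) (.lf 0)))) (.nd (.nd (.nd (.lf 0x0) (.lf 0x59b1)) (.nd (.lf 0x0) (.lf 0))) (.nd (.nd (.lf 0x0) (.lf 0x149c)) (.nd (.lf 0x5a5) (.lf 0))))) (.nd (.nd (.nd (.nd (.lf 0x0) (.lf 0x0)) (.nd (.lf 0x0) (.lf 0))) (.nd (.nd (.lf 0x0) (.lf 0x874e)) (.nd (.lf 0x0) (.lf 0)))) (.nd (.nd (.nd (.lf 0x0)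 (.lf 0x1959)) (.nd (.lf 0xd1c) (.lf 0))) (.nd (.nd (.lf 0xb4c) (.lf 0x351a)) (.nd (.lf 0x0) (.lf 0)))))) (.nd (.nd (.nd (.nd (.nd (.lf 0x0) (.lf 0xd10)) (.nd (.lf 0x0) (.lf 0))) (.nd (.nd (.lf 0x5e7b) (.lf 0x0)) (.nd (.lf 0x0) (.lf 0)))) (.nd (.nd (.nd (.lf 0x0) (.lf 0x6760)) (.nd (.lf 0x0) (.lf 0))) (.nd (.nd (.lf 0x65ad) (.lf 0x3204)) (.nd (.lf 0x0) (.lf 0))))) (.nd (.nd (.nd (.nd (.lf 0x0) (.lf 0x2409)) (.nd (.lf 0x0) (.lf 0))) (.nd (.nd (.lf 0x0) (.lf 0x4823)) (.nd (.lf 0x0) (.lf 0)))) (.nd (.nd (.nd (.lf 0x0) (.lf 0x0)) (.nd (.lf 0x0) (.lf 0))) (.nd (.nd (.lf 0x0) (.lf 0x336d)) (.nd (.lf 0x268d) (.lf 0))))))))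
def witA_nbabbab : Tr := (.nd (.nd (.nd (.nd (.nd (.nd (.nd (.lf 0x0) (.lf 0x0)) (.nd (.lf 0x0) (.lf 0))) (.nd (.nd (.lf 0x0) (.lf 0x1d83)) (.nd (.lf 0x0) (.lf 0)))) (.nd (.nd (.nd (.lf 0x0) (.lf 0x0)) (.nd (.lf 0x0) (.lf 0))) (.nd (.nd (.lf 0x0) (.lf 0x2805)) (.nd (.lf 0x0) (.lf 0))))) (.nd (.nd (.nd (.nd (.lf 0x0) (.lf 0x0)) (.nd (.lf 0x0) (.lf 0))) (.nd (.nd (.lf 0x0) (.lf 0x0)) (.nd (.lf 0x6e12) (.lf 0)))) (.nd (.nd (.nd (.lf 0x0) (.lf 0x17b0)) (.nd (.lf 0x0) (.lf 0))) (.nd (.nd (.lf 0x623a) (.lf 0x69a)) (.nd (.lf 0x3e0a) (.lf 0)))))) (.nd (.nd (.nd (.nd (.nd (.lf 0x0) (.lf 0x0)) (.nd (.lf 0x160e) (.lf 0))) (.nd (.nd (.lf 0x0) (.lf 0x0)) (.nd (.lf 0x2ca5) (.lf 0)))) (.nd (.nd (.nd (.lf 0x0) (.lf 0x839b)) (.nd (.lf 0x0)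 (.lf 0))) (.nd (.nd (.lf 0x0) (.lf 0x21b)) (.nd (.lf 0x0) (.lf 0))))) (.nd (.nd (.nd (.nd (.lf 0x0) (.lf 0x0)) (.nd (.lf 0x0) (.lf 0))) (.nd (.nd (.lf 0x742a) (.lf 0x299f)) (.nd (.lf 0x5a88) (.lf 0)))) (.nd (.nd (.nd (.lf 0x0) (.lf 0xe86)) (.nd (.lf 0x0) (.lf 0))) (.nd (.nd (.lf 0x0) (.lf 0x1371)) (.nd (.lf 0x0) (.lf 0))))))) (.nd (.nd (.nd (.nd (.nd (.nd (.lf 0x0) (.lf 0x4e92)) (.nd (.lf 0x5639) (.lf 0))) (.nd (.nd (.lf 0x0) (.lf 0x4c83)) (.nd (.lf 0x0) (.lf 0)))) (.nd (.nd (.nd (.lf 0x0) (.lf 0x8207)) (.nd (.lf 0x0) (.lf 0))) (.nd (.nd (.lf 0x0) (.lf 0x0)) (.nd (.lf 0x0) (.lf 0))))) (.nd (.nd (.nd (.nd (.lf 0x0) (.lf 0x0)) (.nd (.lf 0x0) (.lf 0))) (.nd (.nd (.lf 0x0) (.lf 0x73f)) (.nd (.lf 0x0) (.lf 0)))) (.nd (.nd (.nd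 (.lf 0x4491) (.lf 0x313f)) (.nd (.lf 0xbb0) (.lf 0))) (.nd (.nd (.lf 0x0) (.lf 0xc3f)) (.nd (.lf 0x0) (.lf 0)))))) (.nd (.nd (.nd (.nd (.nd (.lf 0x4240) (.lf 0x0)) (.nd (.lf 0x0) (.lf 0))) (.nd (.nd (.lf 0x0) (.lf 0x8242)) (.nd (.lf 0x5f34) (.lf 0)))) (.nd (.nd (.nd (.lf 0x0) (.lf 0x4710)) (.nd (.lf 0x4b3b) (.lf 0))) (.nd (.nd (.lf 0x0) (.lf 0x588f)) (.nd (.lf 0x0) (.lf 0))))) (.nd (.nd (.nd (.nd (.lf 0x697d) (.lf 0x0)) (.nd (.lf 0x4960) (.lf 0))) (.nd (.nd (.lf 0x0) (.lf 0x362f)) (.nd (.lf 0x0) (.lf 0)))) (.nd (.nd (.nd (.lf 0x0) (.lf 0x85ac)) (.nd (.lf 0x0) (.lf 0))) (.nd (.nd (.lf 0x4e56) (.lf 0x7f23)) (.nd (.lf 0x0) (.lf 0))))))))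
def witA_nbabbba : Tr := (.nd (.nd (.nd (.nd (.nd (.nd (.nd (.lf 0x0) (.lf 0x13ab)) (.nd (.lf 0x0) (.lf 0))) (.nd (.nd (.lf 0x7062) (.lf 0x42)) (.nd (.lf 0x0) (.lf 0)))) (.nd (.nd (.nd (.lf 0x0) (.lf 0x2b02)) (.nd (.lf 0x0) (.lf 0))) (.nd (.nd (.lf 0x0) (.lf 0x0)) (.nd (.lf 0x0) (.lf 0))))) (.nd (.nd (.nd (.nd (.lf 0x0) (.lf 0x5c57)) (.nd (.lf 0x0) (.lf 0))) (.nd (.nd (.lf 0x0) (.lf 0x0)) (.nd (.lf 0x0) (.lf 0)))) (.nd (.nd (.nd (.lf 0x0) (.lf 0x0)) (.nd (.lf 0x7105) (.lf 0))) (.nd (.nd (.lf 0x0) (.lf 0x737c)) (.nd (.lf 0x0) (.lf 0)))))) (.nd (.nd (.nd (.nd (.nd (.lf 0x0) (.lf 0x0)) (.nd (.lf 0x4a7c) (.lf 0))) (.nd (.nd (.lf 0x0) (.lf 0x0)) (.nd (.lf 0x0) (.lf 0)))) (.nd (.nd (.nd (.lf 0x0) (.lf 0x0)) (.nd (.lf 0x0) (.lf 0)))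 (.nd (.nd (.lf 0x0) (.lf 0x1d4d)) (.nd (.lf 0x5111) (.lf 0))))) (.nd (.nd (.nd (.nd (.lf 0x0) (.lf 0x50b2)) (.nd (.lf 0x87af) (.lf 0))) (.nd (.nd (.lf 0x0) (.lf 0x6699)) (.nd (.lf 0x0) (.lf 0)))) (.nd (.nd (.nd (.lf 0x0) (.lf 0x83e)) (.nd (.lf 0x0) (.lf 0))) (.nd (.nd (.lf 0x0) (.lf 0x87a9)) (.nd (.lf 0x0) (.lf 0))))))) (.nd (.nd (.nd (.nd (.nd (.nd (.lf 0x0) (.lf 0x0)) (.nd (.lf 0x2379) (.lf 0))) (.nd (.nd (.lf 0x0) (.lf 0x492f)) (.nd (.lf 0x0) (.lf 0)))) (.nd (.nd (.nd (.lf 0x0) (.lf 0x0)) (.nd (.lf 0x0) (.lf 0))) (.nd (.nd (.lf 0x0) (.lf 0xbaa)) (.nd (.lf 0x0) (.lf 0))))) (.nd (.nd (.nd (.nd (.lf 0x0) (.lf 0x8797)) (.nd (.lf 0x0) (.lf 0))) (.nd (.nd (.lf 0xa3e) (.lf 0x716f)) (.nd (.lf 0x4210) (.lf 0)))) (.nd (.nd (.nd (.lf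 0x0) (.lf 0x4c79)) (.nd (.lf 0x8405) (.lf 0))) (.nd (.nd (.lf 0x0) (.lf 0xd48)) (.nd (.lf 0x0) (.lf 0)))))) (.nd (.nd (.nd (.nd (.nd (.lf 0x0) (.lf 0x0)) (.nd (.lf 0x0) (.lf 0))) (.nd (.nd (.lf 0x0) (.lf 0x0)) (.nd (.lf 0x167c) (.lf 0)))) (.nd (.nd (.nd (.lf 0x0) (.lf 0x0)) (.nd (.lf 0x0) (.lf 0))) (.nd (.nd (.lf 0x0) (.lf 0x8041)) (.nd (.lf 0x0) (.lf 0))))) (.nd (.nd (.nd (.nd (.lf 0x0) (.lf 0x0)) (.nd (.lf 0x0) (.lf 0))) (.nd (.nd (.lf 0x0) (.lf 0x48a2)) (.nd (.lf 0x1282) (.lf 0)))) (.nd (.nd (.nd (.lf 0x0) (.lf 0x7818)) (.nd (.lf 0x0) (.lf 0))) (.nd (.nd (.lf 0x0) (.lf 0x0)) (.nd (.lf 0x3295) (.lf 0))))))))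
def witA_nbabbbb : Tr := (.nd (.nd (.nd (.nd (.nd (.nd (.nd (.lf 0x0) (.lf 0x0)) (.nd (.lf 0x0) (.lf 0))) (.nd (.nd (.lf 0x0) (.lf 0x1a94)) (.nd (.lf 0x25aa) (.lf 0)))) (.nd (.nd (.nd (.lf 0x0) (.lf 0x855c)) (.nd (.lf 0x0) (.lf 0))) (.nd (.nd (.lf 0x0) (.lf 0x609b)) (.nd (.lf 0x2baf) (.lf 0))))) (.nd (.nd (.nd (.nd (.lf 0x0) (.lf 0x5b23)) (.nd (.lf 0x4da2) (.lf 0))) (.nd (.nd (.lf 0x0) (.lf 0x934)) (.nd (.lf 0x0) (.lf 0)))) (.nd (.nd (.nd (.lf 0x0) (.lf 0x0)) (.nd (.lf 0x0) (.lf 0))) (.nd (.nd (.lf 0x0) (.lf 0x20d)) (.nd (.lf 0x3b53) (.lf 0)))))) (.nd (.nd (.nd (.nd (.nd (.lf 0x0) (.lf 0x1a0e)) (.nd (.lf 0x0) (.lf 0))) (.nd (.nd (.lf 0x0) (.lf 0x729a)) (.nd (.lf 0x0) (.lf 0)))) (.nd (.nd (.nd (.lf 0x0) (.lf 0x0)) (.nd (.lf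 0x6a45) (.lf 0))) (.nd (.nd (.lf 0x0) (.lf 0x4828)) (.nd (.lf 0x7d2f) (.lf 0))))) (.nd (.nd (.nd (.nd (.lf 0x0) (.lf 0x721b)) (.nd (.lf 0x0) (.lf 0))) (.nd (.nd (.lf 0x0) (.lf 0x1907)) (.nd (.lf 0x0) (.lf 0)))) (.nd (.nd (.nd (.lf 0x0) (.lf 0x2998)) (.nd (.lf 0x0) (.lf 0))) (.nd (.nd (.lf 0x0) (.lf 0x334a)) (.nd (.lf 0x0) (.lf 0))))))) (.nd (.nd (.nd (.nd (.nd (.nd (.lf 0x0) (.lf 0x0)) (.nd (.lf 0x7640) (.lf 0))) (.nd (.nd (.lf 0x0) (.lf 0x0)) (.nd (.lf 0x5d6b) (.lf 0)))) (.nd (.nd (.nd (.lf 0x0) (.lf 0x3059)) (.nd (.lf 0x0) (.lf 0))) (.nd (.nd (.lf 0x0) (.lf 0x3065)) (.nd (.lf 0x0) (.lf 0))))) (.nd (.nd (.nd (.nd (.lf 0x0) (.lf 0x0)) (.nd (.lf 0x0) (.lf 0))) (.nd (.nd (.lf 0x0) (.lf 0x3cb3)) (.nd (.lf 0x0) (.lf 0)))) (.nd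 (.nd (.nd (.lf 0x0) (.lf 0x141d)) (.nd (.lf 0x0) (.lf 0))) (.nd (.nd (.lf 0x0) (.lf 0x0)) (.nd (.lf 0x837) (.lf 0)))))) (.nd (.nd (.nd (.nd (.nd (.lf 0x0) (.lf 0x6205)) (.nd (.lf 0x0) (.lf 0))) (.nd (.nd (.lf 0x0) (.lf 0x3314)) (.nd (.lf 0x0) (.lf 0)))) (.nd (.nd (.nd (.lf 0x0) (.lf 0x639b)) (.nd (.lf 0x0) (.lf 0))) (.nd (.nd (.lf 0x0) (.lf 0x1224)) (.nd (.lf 0x0) (.lf 0))))) (.nd (.nd (.nd (.nd (.lf 0x0) (.lf 0x0)) (.nd (.lf 0x0) (.lf 0))) (.nd (.nd (.lf 0x0) (.lf 0x1b49)) (.nd (.lf 0x174) (.lf 0)))) (.nd (.nd (.nd (.lf 0x0) (.lf 0x1baf)) (.nd (.lf 0x0) (.lf 0))) (.nd (.nd (.lf 0x0) (.lf 0x112c)) (.nd (.lf 0x4820) (.lf 0))))))))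
def witA_nbbaaaa : Tr := (.nd (.nd (.nd (.nd (.nd (.nd (.nd (.lf 0x0) (.lf 0x0)) (.nd (.lf 0x0) (.lf 0x3824))) (.nd (.nd (.lf 0x0) (.lf 0x673e)) (.nd (.lf 0x0) (.lf 0)))) (.nd (.nd (.nd (.lf 0x0) (.lf 0x0)) (.nd (.lf 0x0) (.lf 0))) (.nd (.nd (.lf 0x0) (.lf 0x5911)) (.nd (.lf 0x48a6) (.lf 0))))) (.nd (.nd (.nd (.nd (.lf 0x0) (.lf 0x0)) (.nd (.lf 0x4304) (.lf 0))) (.nd (.nd (.lf 0x1c55) (.lf 0x0)) (.nd (.lf 0x0) (.lf 0)))) (.nd (.nd (.nd (.lf 0x0) (.lf 0x0)) (.nd (.lf 0x792b) (.lf 0))) (.nd (.nd (.lf 0x0) (.lf 0x0)) (.nd (.lf 0x67a8) (.lf 0)))))) (.nd (.nd (.nd (.nd (.nd (.lf 0x0) (.lf 0x0)) (.nd (.lf 0x0) (.lf 0))) (.nd (.nd (.lf 0x0) (.lf 0x779b)) (.nd (.lf 0x0) (.lf 0)))) (.nd (.nd (.nd (.lf 0x0) (.lf 0x21ab)) (.nd (.lf 0x0)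 (.lf 0))) (.nd (.nd (.lf 0x0) (.lf 0x2982)) (.nd (.lf 0x0) (.lf 0))))) (.nd (.nd (.nd (.nd (.lf 0x0) (.lf 0x7857)) (.nd (.lf 0x0) (.lf 0))) (.nd (.nd (.lf 0x0) (.lf 0x0)) (.nd (.lf 0x45b1) (.lf 0)))) (.nd (.nd (.nd (.lf 0x0) (.lf 0x5548)) (.nd (.lf 0x0) (.lf 0))) (.nd (.nd (.lf 0x0) (.lf 0x1136)) (.nd (.lf 0x0) (.lf 0))))))) (.nd (.nd (.nd (.nd (.nd (.nd (.lf 0x0) (.lf 0x0)) (.nd (.lf 0x0) (.lf 0))) (.nd (.nd (.lf 0x0) (.lf 0x0)) (.nd (.lf 0x0) (.lf 0)))) (.nd (.nd (.nd (.lf 0x0) (.lf 0x6232)) (.nd (.lf 0x0) (.lf 0))) (.nd (.nd (.lf 0x0) (.lf 0x1b19)) (.nd (.lf 0x0) (.lf 0))))) (.nd (.nd (.nd (.nd (.lf 0x0) (.lf 0x0)) (.nd (.lf 0x3f63) (.lf 0))) (.nd (.nd (.lf 0x0) (.lf 0x3227)) (.nd (.lf 0x0) (.lf 0)))) (.nd (.nd (.nd (.lf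 0x0) (.lf 0x0)) (.nd (.lf 0xf87) (.lf 0))) (.nd (.nd (.lf 0x6359) (.lf 0x674b)) (.nd (.lf 0x59b1) (.lf 0)))))) (.nd (.nd (.nd (.nd (.nd (.lf 0x0) (.lf 0x2f03)) (.nd (.lf 0x0) (.lf 0))) (.nd (.nd (.lf 0x0) (.lf 0x7c6a)) (.nd (.lf 0x6a6b) (.lf 0)))) (.nd (.nd (.nd (.lf 0x0) (.lf 0x0)) (.nd (.lf 0x0) (.lf 0))) (.nd (.nd (.lf 0xd69) (.lf 0x5b91)) (.nd (.lf 0x7345) (.lf 0))))) (.nd (.nd (.nd (.nd (.lf 0x0) (.lf 0x0)) (.nd (.lf 0x0) (.lf 0))) (.nd (.nd (.lf 0x0) (.lf 0x0)) (.nd (.lf 0x5e29) (.lf 0)))) (.nd (.nd (.nd (.lf 0x6311) (.lf 0xd66)) (.nd (.lf 0x0) (.lf 0))) (.nd (.nd (.lf 0x0) (.lf 0x7c85)) (.nd (.lf 0xb57) (.lf 0))))))))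
def witA_nbbaaab : Tr := (.nd (.nd (.nd (.nd (.nd (.nd (.nd (.lf 0x0) (.lf 0x0)) (.nd (.lf 0x7e35) (.lf 0))) (.nd (.nd (.lf 0x0) (.lf 0x0)) (.nd (.lf 0x0) (.lf 0)))) (.nd (.nd (.nd (.lf 0x6d29) (.lf 0x5e4b)) (.nd (.lf 0x0) (.lf 0))) (.nd (.nd (.lf 0x0) (.lf 0x0)) (.nd (.lf 0x2a76) (.lf 0))))) (.nd (.nd (.nd (.nd (.lf 0x0) (.lf 0x64ac)) (.nd (.lf 0x7795) (.lf 0))) (.nd (.nd (.lf 0x0) (.lf 0x2371)) (.nd (.lf 0x95e) (.lf 0)))) (.nd (.nd (.nd (.lf 0x0) (.lf 0x7b31)) (.nd (.lf 0x14e) (.lf 0))) (.nd (.nd (.lf 0x0) (.lf 0x0)) (.nd (.lf 0x822e) (.lf 0)))))) (.nd (.nd (.nd (.nd (.nd (.lf 0x0) (.lf 0x0)) (.nd (.lf 0x0) (.lf 0))) (.nd (.nd (.lf 0x0) (.lf 0x808f)) (.nd (.lf 0x0) (.lf 0)))) (.nd (.nd (.nd (.lf 0x0) (.lf 0x0)) (.nd (.lf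 0x0) (.lf 0))) (.nd (.nd (.lf 0x0) (.lf 0x3699)) (.nd (.lf 0x3f05) (.lf 0))))) (.nd (.nd (.nd (.nd (.lf 0x0) (.lf 0x0)) (.nd (.lf 0x0) (.lf 0))) (.nd (.nd (.lf 0x0) (.lf 0x4631)) (.nd (.lf 0x0) (.lf 0)))) (.nd (.nd (.nd (.lf 0x0) (.lf 0x3647)) (.nd (.lf 0x0) (.lf 0))) (.nd (.nd (.lf 0x0) (.lf 0x813a)) (.nd (.lf 0x0) (.lf 0))))))) (.nd (.nd (.nd (.nd (.nd (.nd (.lf 0x0) (.lf 0x0)) (.nd (.lf 0x0) (.lf 0))) (.nd (.nd (.lf 0x0) (.lf 0x50a4)) (.nd (.lf 0x4035) (.lf 0)))) (.nd (.nd (.nd (.lf 0x0) (.lf 0x5066)) (.nd (.lf 0x5d6b) (.lf 0))) (.nd (.nd (.lf 0x2065) (.lf 0x0)) (.nd (.lf 0x0) (.lf 0))))) (.nd (.nd (.nd (.nd (.lf 0x0) (.lf 0x0)) (.nd (.lf 0x4819) (.lf 0))) (.nd (.nd (.lf 0x0) (.lf 0x6859)) (.nd (.lf 0x67f) (.lf 0)))) (.nd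 (.nd (.nd (.lf 0x0) (.lf 0x420)) (.nd (.lf 0x0) (.lf 0))) (.nd (.nd (.lf 0x0) (.lf 0x1322)) (.nd (.lf 0x131d) (.lf 0)))))) (.nd (.nd (.nd (.nd (.nd (.lf 0x0) (.lf 0x0)) (.nd (.lf 0x0) (.lf 0))) (.nd (.nd (.lf 0x7779) (.lf 0x7296)) (.nd (.lf 0x1a5d) (.lf 0)))) (.nd (.nd (.nd (.lf 0x0) (.lf 0x7298)) (.nd (.lf 0x0) (.lf 0))) (.nd (.nd (.lf 0x0) (.lf 0x850f)) (.nd (.lf 0x0) (.lf 0))))) (.nd (.nd (.nd (.nd (.lf 0x0) (.lf 0x0)) (.nd (.lf 0x3f54) (.lf 0))) (.nd (.nd (.lf 0x2f92) (.lf 0x3a53)) (.nd (.lf 0x7d4d) (.lf 0)))) (.nd (.nd (.nd (.lf 0x0) (.lf 0x0)) (.nd (.lf 0x0) (.lf 0))) (.nd (.nd (.lf 0x7459) (.lf 0x2d79)) (.nd (.lf 0x2c5c) (.lf 0))))))))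
def witA_nbbaaba : Tr := (.nd (.nd (.nd (.nd (.nd (.nd (.nd (.lf 0x0) (.lf 0x0)) (.nd (.lf 0x0) (.lf 0))) (.nd (.nd (.lf 0x0) (.lf 0x7d07)) (.nd (.lf 0x0) (.lf 0)))) (.nd (.nd (.nd (.lf 0x0) (.lf 0x0)) (.nd (.lf 0x7b5c) (.lf 0))) (.nd (.nd (.lf 0x0) (.lf 0x7d09)) (.nd (.lf 0x2a83) (.lf 0))))) (.nd (.nd (.nd (.nd (.lf 0x0) (.lf 0x0)) (.nd (.lf 0x6879) (.lf 0))) (.nd (.nd (.lf 0x0) (.lf 0x8233)) (.nd (.lf 0x0) (.lf 0)))) (.nd (.nd (.nd (.lf 0x0) (.lf 0x3a36)) (.nd (.lf 0x6806) (.lf 0))) (.nd (.nd (.lf 0x7725) (.lf 0x8596)) (.nd (.lf 0x2e89) (.lf 0)))))) (.nd (.nd (.nd (.nd (.nd (.lf 0x0) (.lf 0x0)) (.nd (.lf 0x6c4f) (.lf 0))) (.nd (.nd (.lf 0x4859) (.lf 0x3151)) (.nd (.lf 0x0) (.lf 0)))) (.nd (.nd (.nd (.lf 0x0) (.lf 0x2881))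 (.nd (.lf 0x0) (.lf 0))) (.nd (.nd (.lf 0x0) (.lf 0x742e)) (.nd (.lf 0x7c0c) (.lf 0))))) (.nd (.nd (.nd (.nd (.lf 0x0) (.lf 0x0)) (.nd (.lf 0x0) (.lf 0))) (.nd (.nd (.lf 0x0) (.lf 0x0)) (.nd (.lf 0x0) (.lf 0)))) (.nd (.nd (.nd (.lf 0x0) (.lf 0x7c31)) (.nd (.lf 0x0) (.lf 0))) (.nd (.nd (.lf 0x0) (.lf 0x7909)) (.nd (.lf 0x0) (.lf 0))))))) (.nd (.nd (.nd (.nd (.nd (.nd (.lf 0x0) (.lf 0x451a)) (.nd (.lf 0x23aa) (.lf 0))) (.nd (.nd (.lf 0x0) (.lf 0x31e)) (.nd (.lf 0xe45) (.lf 0)))) (.nd (.nd (.nd (.lf 0x176e) (.lf 0x0)) (.nd (.lf 0xf26) (.lf 0))) (.nd (.nd (.lf 0x3511) (.lf 0x7a68)) (.nd (.lf 0x0) (.lf 0))))) (.nd (.nd (.nd (.nd (.lf 0x0) (.lf 0x6b59)) (.nd (.lf 0x0) (.lf 0))) (.nd (.nd (.lf 0x216) (.lf 0x3e40)) (.nd (.lf 0x64aa)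 (.lf 0)))) (.nd (.nd (.nd (.lf 0x0) (.lf 0x0)) (.nd (.lf 0x4833) (.lf 0))) (.nd (.nd (.lf 0x0) (.lf 0x2749)) (.nd (.lf 0x0) (.lf 0)))))) (.nd (.nd (.nd (.nd (.nd (.lf 0x0) (.lf 0x0)) (.nd (.lf 0x0) (.lf 0))) (.nd (.nd (.lf 0x0) (.lf 0x4720)) (.nd (.lf 0x6576) (.lf 0)))) (.nd (.nd (.nd (.lf 0x0) (.lf 0x48d)) (.nd (.lf 0x0) (.lf 0))) (.nd (.nd (.lf 0x0) (.lf 0x0)) (.nd (.lf 0x619f) (.lf 0))))) (.nd (.nd (.nd (.nd (.lf 0x0) (.lf 0x0)) (.nd (.lf 0x0) (.lf 0))) (.nd (.nd (.lf 0x0) (.lf 0x8640)) (.nd (.lf 0x0) (.lf 0)))) (.nd (.nd (.nd (.lf 0x2f97) (.lf 0x0)) (.nd (.lf 0x0) (.lf 0))) (.nd (.nd (.lf 0x0) (.lf 0x42ab)) (.nd (.lf 0x0) (.lf 0))))))))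
def witA_nbbaabb : Tr := (.nd (.nd (.nd (.nd (.nd (.nd (.nd (.lf 0x0) (.lf 0x4278)) (.nd (.lf 0x0) (.lf 0))) (.nd (.nd (.lf 0x0) (.lf 0x2b95)) (.nd (.lf 0xc75) (.lf 0)))) (.nd (.nd (.nd (.lf 0x502a) (.lf 0x1b6f)) (.nd (.lf 0xf3d) (.lf 0))) (.nd (.nd (.lf 0x6393) (.lf 0x5a1f)) (.nd (.lf 0x0) (.lf 0))))) (.nd (.nd (.nd (.nd (.lf 0x0) (.lf 0x7c16)) (.nd (.lf 0x2bb0) (.lf 0))) (.nd (.nd (.lf 0x0) (.lf 0x38a4)) (.nd (.lf 0x5341) (.lf 0)))) (.nd (.nd (.nd (.lf 0x0) (.lf 0x0)) (.nd (.lf 0x0) (.lf 0))) (.nd (.nd (.lf 0x0) (.lf 0x92c)) (.nd (.lf 0x0) (.lf 0)))))) (.nd (.nd (.nd (.nd (.nd (.lf 0x0) (.lf 0x0)) (.nd (.lf 0x0) (.lf 0))) (.nd (.nd (.lf 0x0) (.lf 0x0)) (.nd (.lf 0x0) (.lf 0)))) (.nd (.nd (.nd (.lf 0x0) (.lf 0x0)) (.nd (.lf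 0x331a) (.lf 0))) (.nd (.nd (.lf 0x0) (.lf 0x81ab)) (.nd (.lf 0x6114) (.lf 0))))) (.nd (.nd (.nd (.nd (.lf 0x0) (.lf 0x1565)) (.nd (.lf 0x0) (.lf 0))) (.nd (.nd (.lf 0x0) (.lf 0x6d0e)) (.nd (.lf 0x0) (.lf 0)))) (.nd (.nd (.nd (.lf 0x0) (.lf 0x0)) (.nd (.lf 0x0) (.lf 0))) (.nd (.nd (.lf 0x0) (.lf 0x815b)) (.nd (.lf 0x0) (.lf 0))))))) (.nd (.nd (.nd (.nd (.nd (.nd (.lf 0x0) (.lf 0x4860)) (.nd (.lf 0x0) (.lf 0))) (.nd (.nd (.lf 0x0) (.lf 0x253)) (.nd (.lf 0x0) (.lf 0)))) (.nd (.nd (.nd (.lf 0x0) (.lf 0x7c96)) (.nd (.lf 0x0) (.lf 0))) (.nd (.nd (.lf 0x0) (.lf 0x0)) (.nd (.lf 0xa2e) (.lf 0))))) (.nd (.nd (.nd (.nd (.lf 0x0) (.lf 0x0)) (.nd (.lf 0x0) (.lf 0))) (.nd (.nd (.lf 0x0) (.lf 0x0)) (.nd (.lf 0x0) (.lf 0)))) (.nd (.nd (.nd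 (.lf 0x2f2d) (.lf 0x0)) (.nd (.lf 0x0) (.lf 0))) (.nd (.nd (.lf 0x0) (.lf 0x6e1e)) (.nd (.lf 0x4a4d) (.lf 0)))))) (.nd (.nd (.nd (.nd (.nd (.lf 0x0) (.lf 0x0)) (.nd (.lf 0x0) (.lf 0))) (.nd (.nd (.lf 0x0) (.lf 0x9)) (.nd (.lf 0x0) (.lf 0)))) (.nd (.nd (.nd (.lf 0x0) (.lf 0x8304)) (.nd (.lf 0x0) (.lf 0))) (.nd (.nd (.lf 0x0) (.lf 0x500a)) (.nd (.lf 0x2610) (.lf 0))))) (.nd (.nd (.nd (.nd (.lf 0x0) (.lf 0x0)) (.nd (.lf 0xd71) (.lf 0))) (.nd (.nd (.lf 0x0) (.lf 0x683f)) (.nd (.lf 0x0) (.lf 0)))) (.nd (.nd (.nd (.lf 0x0) (.lf 0x29a3)) (.nd (.lf 0x0) (.lf 0))) (.nd (.nd (.lf 0x0) (.lf 0x6e54)) (.nd (.lf 0x0) (.lf 0))))))))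
def witA_nbbabaa : Tr := (.nd (.nd (.nd (.nd (.nd (.nd (.nd (.lf 0x0) (.lf 0x0)) (.nd (.lf 0x56c) (.lf 0x4444))) (.nd (.nd (.lf 0x0) (.lf 0x3b3d)) (.nd (.lf 0x0) (.lf 0)))) (.nd (.nd (.nd (.lf 0x0) (.lf 0x3f24)) (.nd (.lf 0x0) (.lf 0))) (.nd (.nd (.lf 0x0) (.lf 0x0)) (.nd (.lf 0x5814) (.lf 0))))) (.nd (.nd (.nd (.nd (.lf 0x0) (.lf 0x0)) (.nd (.lf 0x0) (.lf 0))) (.nd (.nd (.lf 0x0) (.lf 0x6902)) (.nd (.lf 0x0) (.lf 0)))) (.nd (.nd (.nd (.lf 0x0) (.lf 0x0)) (.nd (.lf 0x0) (.lf 0))) (.nd (.nd (.lf 0x0) (.lf 0x1a25)) (.nd (.lf 0x865d) (.lf 0)))))) (.nd (.nd (.nd (.nd (.nd (.lf 0x0) (.lf 0x1e51)) (.nd (.lf 0x0) (.lf 0))) (.nd (.nd (.lf 0x7071) (.lf 0xf19)) (.nd (.lf 0x0) (.lf 0)))) (.nd (.nd (.nd (.lf 0x0) (.lf 0x6c6a)) (.nd (.lf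 0x519d) (.lf 0))) (.nd (.nd (.lf 0x0) (.lf 0x0)) (.nd (.lf 0x0) (.lf 0))))) (.nd (.nd (.nd (.nd (.lf 0x0) (.lf 0x0)) (.nd (.lf 0x0) (.lf 0))) (.nd (.nd (.lf 0x87f) (.lf 0x0)) (.nd (.lf 0x3740) (.lf 0)))) (.nd (.nd (.nd (.lf 0x0) (.lf 0x0)) (.nd (.lf 0x1e2f) (.lf 0))) (.nd (.nd (.lf 0x0) (.lf 0x530f)) (.nd (.lf 0x1934) (.lf 0))))))) (.nd (.nd (.nd (.nd (.nd (.nd (.lf 0x0) (.lf 0x0)) (.nd (.lf 0x0) (.lf 0))) (.nd (.nd (.lf 0x0) (.lf 0x4ab2)) (.nd (.lf 0x0) (.lf 0)))) (.nd (.nd (.nd (.lf 0x0) (.lf 0x0)) (.nd (.lf 0x0) (.lf 0))) (.nd (.nd (.lf 0x0) (.lf 0x1f67)) (.nd (.lf 0x7c23) (.lf 0))))) (.nd (.nd (.nd (.nd (.lf 0x0) (.lf 0x7706)) (.nd (.lf 0x0) (.lf 0))) (.nd (.nd (.lf 0x0) (.lf 0x3016)) (.nd (.lf 0x0) (.lf 0)))) (.nd (.nd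 (.nd (.lf 0x0) (.lf 0x0)) (.nd (.lf 0xd48) (.lf 0))) (.nd (.nd (.lf 0x0) (.lf 0x0)) (.nd (.lf 0x3426) (.lf 0)))))) (.nd (.nd (.nd (.nd (.nd (.lf 0x0) (.lf 0x2f63)) (.nd (.lf 0x0) (.lf 0))) (.nd (.nd (.lf 0x0) (.lf 0x0)) (.nd (.lf 0x0) (.lf 0)))) (.nd (.nd (.nd (.lf 0x0) (.lf 0x0)) (.nd (.lf 0x0) (.lf 0))) (.nd (.nd (.lf 0x0) (.lf 0x60a1)) (.nd (.lf 0x6a1a) (.lf 0))))) (.nd (.nd (.nd (.nd (.lf 0x0) (.lf 0x768a)) (.nd (.lf 0x759c) (.lf 0))) (.nd (.nd (.lf 0x0) (.lf 0xf3c)) (.nd (.lf 0x0) (.lf 0)))) (.nd (.nd (.nd (.lf 0x0) (.lf 0x1d6e)) (.nd (.lf 0x0) (.lf 0))) (.nd (.nd (.lf 0x0) (.lf 0x63a0)) (.nd (.lf 0x5d04) (.lf 0))))))))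
def witA_nbbabab : Tr := (.nd (.nd (.nd (.nd (.nd (.nd (.nd (.lf 0x0) (.lf 0x0)) (.nd (.lf 0x0) (.lf 0))) (.nd (.nd (.lf 0x0) (.lf 0x0)) (.nd (.lf 0x5869) (.lf 0)))) (.nd (.nd (.nd (.lf 0x0) (.lf 0x7947)) (.nd (.lf 0x3178) (.lf 0))) (.nd (.nd (.lf 0x0) (.lf 0x695a)) (.nd (.lf 0x0) (.lf 0))))) (.nd (.nd (.nd (.nd (.lf 0x0) (.lf 0x0)) (.nd (.lf 0x0) (.lf 0))) (.nd (.nd (.lf 0x294f) (.lf 0x0)) (.nd (.lf 0x6445) (.lf 0)))) (.nd (.nd (.nd (.lf 0x0) (.lf 0x5955)) (.nd (.lf 0x0) (.lf 0))) (.nd (.nd (.lf 0x0) (.lf 0x1435)) (.nd (.lf 0x0) (.lf 0)))))) (.nd (.nd (.nd (.nd (.nd (.lf 0x0) (.lf 0xead)) (.nd (.lf 0x0) (.lf 0))) (.nd (.nd (.lf 0x0) (.lf 0x0)) (.nd (.lf 0x188d) (.lf 0)))) (.nd (.nd (.nd (.lf 0x0) (.lf 0x3b68)) (.nd (.lf 0x0)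 (.lf 0))) (.nd (.nd (.lf 0x0) (.lf 0x1a4f)) (.nd (.lf 0x0) (.lf 0))))) (.nd (.nd (.nd (.nd (.lf 0x0) (.lf 0x731)) (.nd (.lf 0x0) (.lf 0))) (.nd (.nd (.lf 0x0) (.lf 0x7376)) (.nd (.lf 0x0) (.lf 0)))) (.nd (.nd (.nd (.lf 0x0) (.lf 0x0)) (.nd (.lf 0x1866) (.lf 0))) (.nd (.nd (.lf 0x0) (.lf 0x566e)) (.nd (.lf 0x102d) (.lf 0))))))) (.nd (.nd (.nd (.nd (.nd (.nd (.lf 0x0) (.lf 0x683c)) (.nd (.lf 0x0) (.lf 0))) (.nd (.nd (.lf 0x0) (.lf 0xeb2)) (.nd (.lf 0x1a25) (.lf 0)))) (.nd (.nd (.nd (.lf 0x0) (.lf 0x465c)) (.nd (.lf 0x656c) (.lf 0))) (.nd (.nd (.lf 0x6c90) (.lf 0x2827)) (.nd (.lf 0x0) (.lf 0))))) (.nd (.nd (.nd (.nd (.lf 0x0) (.lf 0x879a)) (.nd (.lf 0x244b) (.lf 0))) (.nd (.nd (.lf 0x0) (.lf 0x4e3e)) (.nd (.lf 0x715d) (.lf 0))))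 (.nd (.nd (.nd (.lf 0x0) (.lf 0x0)) (.nd (.lf 0x0) (.lf 0))) (.nd (.nd (.lf 0x0) (.lf 0x5965)) (.nd (.lf 0x0) (.lf 0)))))) (.nd (.nd (.nd (.nd (.nd (.lf 0x0) (.lf 0x0)) (.nd (.lf 0x0) (.lf 0))) (.nd (.nd (.lf 0x0) (.lf 0x0)) (.nd (.lf 0x6629) (.lf 0)))) (.nd (.nd (.nd (.lf 0x0) (.lf 0x0)) (.nd (.lf 0x0) (.lf 0))) (.nd (.nd (.lf 0x0) (.lf 0x612f)) (.nd (.lf 0x2e31) (.lf 0))))) (.nd (.nd (.nd (.nd (.lf 0x0) (.lf 0x8639)) (.nd (.lf 0x0) (.lf 0))) (.nd (.nd (.lf 0x0) (.lf 0x0)) (.nd (.lf 0x0) (.lf 0)))) (.nd (.nd (.nd (.lf 0x0) (.lf 0x1e21)) (.nd (.lf 0x4e25) (.lf 0))) (.nd (.nd (.lf 0x731) (.lf 0x8683)) (.nd (.lf 0x0) (.lf 0))))))))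
def witA_nbbabba : Tr := (.nd (.nd (.nd (.nd (.nd (.nd (.nd (.lf 0x0) (.lf 0x5e4d)) (.nd (.lf 0x0) (.lf 0))) (.nd (.nd (.lf 0x7b4d) (.lf 0x6973)) (.nd (.lf 0x0) (.lf 0)))) (.nd (.nd (.nd (.lf 0x0) (.lf 0x0)) (.nd (.lf 0x0) (.lf 0))) (.nd (.nd (.lf 0x0) (.lf 0x0)) (.nd (.lf 0x7ea7) (.lf 0))))) (.nd (.nd (.nd (.nd (.lf 0x0) (.lf 0x0)) (.nd (.lf 0x0) (.lf 0))) (.nd (.nd (.lf 0x4f08) (.lf 0x5e6e)) (.nd (.lf 0x0) (.lf 0)))) (.nd (.nd (.nd (.lf 0x0) (.lf 0x4e9e)) (.nd (.lf 0x0) (.lf 0))) (.nd (.nd (.lf 0x0) (.lf 0x0)) (.nd (.lf 0x3da0) (.lf 0)))))) (.nd (.nd (.nd (.nd (.nd (.lf 0x0) (.lf 0x0)) (.nd (.lf 0x0) (.lf 0))) (.nd (.nd (.lf 0x0) (.lf 0x0)) (.nd (.lf 0x0) (.lf 0)))) (.nd (.nd (.nd (.lf 0x590f) (.lf 0x0)) (.nd (.lf 0x2f26)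 (.lf 0))) (.nd (.nd (.lf 0x0) (.lf 0x299)) (.nd (.lf 0x4c42) (.lf 0))))) (.nd (.nd (.nd (.nd (.lf 0x0) (.lf 0x552f)) (.nd (.lf 0x0) (.lf 0))) (.nd (.nd (.lf 0x0) (.lf 0x0)) (.nd (.lf 0x0) (.lf 0)))) (.nd (.nd (.nd (.lf 0x0) (.lf 0x0)) (.nd (.lf 0x0) (.lf 0))) (.nd (.nd (.lf 0x0) (.lf 0x8412)) (.nd (.lf 0x39b0) (.lf 0))))))) (.nd (.nd (.nd (.nd (.nd (.nd (.lf 0x0) (.lf 0x0)) (.nd (.lf 0x0) (.lf 0))) (.nd (.nd (.lf 0x0) (.lf 0x795d)) (.nd (.lf 0x0) (.lf 0)))) (.nd (.nd (.nd (.lf 0x0) (.lf 0x72)) (.nd (.lf 0x0) (.lf 0))) (.nd (.nd (.lf 0x0) (.lf 0x2209)) (.nd (.lf 0x397) (.lf 0))))) (.nd (.nd (.nd (.nd (.lf 0x0) (.lf 0x7c7d)) (.nd (.lf 0x0) (.lf 0))) (.nd (.nd (.lf 0x0) (.lf 0x520d)) (.nd (.lf 0x0) (.lf 0)))) (.nd (.nd (.nd (.lf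 0x0) (.lf 0x0)) (.nd (.lf 0x0) (.lf 0))) (.nd (.nd (.lf 0xf33) (.lf 0xe1f)) (.nd (.lf 0x0) (.lf 0)))))) (.nd (.nd (.nd (.nd (.nd (.lf 0x0) (.lf 0x0)) (.nd (.lf 0x0) (.lf 0))) (.nd (.nd (.lf 0x0) (.lf 0x0)) (.nd (.lf 0x0) (.lf 0)))) (.nd (.nd (.nd (.lf 0x0) (.lf 0x0)) (.nd (.lf 0x632f) (.lf 0))) (.nd (.nd (.lf 0x0) (.lf 0x3f10)) (.nd (.lf 0x0) (.lf 0))))) (.nd (.nd (.nd (.nd (.lf 0x0) (.lf 0x0)) (.nd (.lf 0x0) (.lf 0))) (.nd (.nd (.lf 0x0) (.lf 0x7831)) (.nd (.lf 0x0) (.lf 0)))) (.nd (.nd (.nd (.lf 0x0) (.lf 0x0)) (.nd (.lf 0x509d) (.lf 0))) (.nd (.nd (.lf 0x0) (.lf 0xe15)) (.nd (.lf 0x0) (.lf 0))))))))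
def witA_nbbabbb : Tr := (.nd (.nd (.nd (.nd (.nd (.nd (.nd (.lf 0x0) (.lf 0x4425)) (.nd (.lf 0x5da2) (.lf 0))) (.nd (.nd (.lf 0x2515) (.lf 0x5a7)) (.nd (.lf 0x0) (.lf 0)))) (.nd (.nd (.nd (.lf 0x0) (.lf 0x82ad)) (.nd (.lf 0x0) (.lf 0))) (.nd (.nd (.lf 0x0) (.lf 0x0)) (.nd (.lf 0x0) (.lf 0))))) (.nd (.nd (.nd (.nd (.lf 0x0) (.lf 0x0)) (.nd (.lf 0x826b) (.lf 0))) (.nd (.nd (.lf 0x0) (.lf 0x2d1c)) (.nd (.lf 0x3955) (.lf 0)))) (.nd (.nd (.nd (.lf 0x0) (.lf 0x5126)) (.nd (.lf 0x0) (.lf 0))) (.nd (.nd (.lf 0x0) (.lf 0x41a6)) (.nd (.lf 0x0) (.lf 0)))))) (.nd (.nd (.nd (.nd (.nd (.lf 0x0) (.lf 0x2c58)) (.nd (.lf 0x0) (.lf 0))) (.nd (.nd (.lf 0x0) (.lf 0x0)) (.nd (.lf 0x0) (.lf 0)))) (.nd (.nd (.nd (.lf 0x0) (.lf 0x2a94)) (.nd (.lf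 0x0) (.lf 0))) (.nd (.nd (.lf 0x0) (.lf 0x433f)) (.nd (.lf 0x0) (.lf 0))))) (.nd (.nd (.nd (.nd (.lf 0x0) (.lf 0x4571)) (.nd (.lf 0x50a5) (.lf 0))) (.nd (.nd (.lf 0x0) (.lf 0x0)) (.nd (.lf 0x795b) (.lf 0)))) (.nd (.nd (.nd (.lf 0x0) (.lf 0x248f)) (.nd (.lf 0x0) (.lf 0))) (.nd (.nd (.lf 0x0) (.lf 0x302d)) (.nd (.lf 0x2556) (.lf 0))))))) (.nd (.nd (.nd (.nd (.nd (.nd (.lf 0x0) (.lf 0x2d90)) (.nd (.lf 0x6887) (.lf 0))) (.nd (.nd (.lf 0x0) (.lf 0x329)) (.nd (.lf 0x0) (.lf 0)))) (.nd (.nd (.nd (.lf 0x0) (.lf 0x724b)) (.nd (.lf 0x0) (.lf 0))) (.nd (.nd (.lf 0x0) (.lf 0x4747)) (.nd (.lf 0x4f33) (.lf 0))))) (.nd (.nd (.nd (.nd (.lf 0x0) (.lf 0x0)) (.nd (.lf 0x58a4) (.lf 0))) (.nd (.nd (.lf 0x0) (.lf 0x7f7a)) (.nd (.lf 0x0) (.lf 0))))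 (.nd (.nd (.nd (.lf 0x0) (.lf 0x51c)) (.nd (.lf 0x0) (.lf 0))) (.nd (.nd (.lf 0x2b73) (.lf 0xb2b)) (.nd (.lf 0x3457) (.lf 0)))))) (.nd (.nd (.nd (.nd (.nd (.lf 0x0) (.lf 0x0)) (.nd (.lf 0x0) (.lf 0))) (.nd (.nd (.lf 0x0) (.lf 0x837b)) (.nd (.lf 0x0) (.lf 0)))) (.nd (.nd (.nd (.lf 0x0) (.lf 0x82ab)) (.nd (.lf 0x777e) (.lf 0))) (.nd (.nd (.lf 0x198) (.lf 0x254)) (.nd (.lf 0x0) (.lf 0))))) (.nd (.nd (.nd (.nd (.lf 0x0) (.lf 0x7892)) (.nd (.lf 0x0) (.lf 0))) (.nd (.nd (.lf 0x0) (.lf 0x0)) (.nd (.lf 0x0) (.lf 0)))) (.nd (.nd (.nd (.lf 0x0) (.lf 0x3b20)) (.nd (.lf 0x0) (.lf 0))) (.nd (.nd (.lf 0x0) (.lf 0x7090)) (.nd (.lf 0x4c8f) (.lf 0))))))))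
def witA_nbbbaaa : Tr := (.nd (.nd (.nd (.nd (.nd (.nd (.nd (.lf 0x0) (.lf 0x0)) (.nd (.lf 0x1ab3) (.lf 0x0))) (.nd (.nd (.lf 0x76b) (.lf 0x698d)) (.nd (.lf 0x30a8) (.lf 0)))) (.nd (.nd (.nd (.lf 0x0) (.lf 0x0)) (.nd (.lf 0x0) (.lf 0))) (.nd (.nd (.lf 0x0) (.lf 0x8413)) (.nd (.lf 0x489a) (.lf 0))))) (.nd (.nd (.nd (.nd (.lf 0x0) (.lf 0x2c36)) (.nd (.lf 0x0) (.lf 0))) (.nd (.nd (.lf 0x3b0f) (.lf 0x0)) (.nd (.lf 0x1341) (.lf 0)))) (.nd (.nd (.nd (.lf 0x0) (.lf 0x4a9)) (.nd (.lf 0x0) (.lf 0))) (.nd (.nd (.lf 0x395e) (.lf 0x0)) (.nd (.lf 0x0) (.lf 0)))))) (.nd (.nd (.nd (.nd (.nd (.lf 0x0) (.lf 0x6133)) (.nd (.lf 0x0) (.lf 0))) (.nd (.nd (.lf 0x0) (.lf 0x0)) (.nd (.lf 0x0) (.lf 0)))) (.nd (.nd (.nd (.lf 0x0) (.lf 0x0)) (.nd (.lf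 0x296f) (.lf 0))) (.nd (.nd (.lf 0x0) (.lf 0x282d)) (.nd (.lf 0x0) (.lf 0))))) (.nd (.nd (.nd (.nd (.lf 0x0) (.lf 0x0)) (.nd (.lf 0x0) (.lf 0))) (.nd (.nd (.lf 0x0) (.lf 0x200f)) (.nd (.lf 0x0) (.lf 0)))) (.nd (.nd (.nd (.lf 0x0) (.lf 0x6d6c)) (.nd (.lf 0x0) (.lf 0))) (.nd (.nd (.lf 0x0) (.lf 0x29a2)) (.nd (.lf 0x508d) (.lf 0))))))) (.nd (.nd (.nd (.nd (.nd (.nd (.lf 0x0) (.lf 0x0)) (.nd (.lf 0x0) (.lf 0))) (.nd (.nd (.lf 0x0) (.lf 0x781d)) (.nd (.lf 0x0) (.lf 0)))) (.nd (.nd (.nd (.lf 0x0) (.lf 0x0)) (.nd (.lf 0x857a) (.lf 0))) (.nd (.nd (.lf 0x0) (.lf 0x1f11)) (.nd (.lf 0x0) (.lf 0))))) (.nd (.nd (.nd (.nd (.lf 0x0) (.lf 0x7e1d)) (.nd (.lf 0x0) (.lf 0))) (.nd (.nd (.lf 0x0) (.lf 0x3eaf)) (.nd (.lf 0x0) (.lf 0)))) (.nd (.nd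 (.nd (.lf 0x3626) (.lf 0x8553)) (.nd (.lf 0x0) (.lf 0))) (.nd (.nd (.lf 0x0) (.lf 0x4c64)) (.nd (.lf 0x8487) (.lf 0)))))) (.nd (.nd (.nd (.nd (.nd (.lf 0x0) (.lf 0x0)) (.nd (.lf 0x0) (.lf 0))) (.nd (.nd (.lf 0x0) (.lf 0x0)) (.nd (.lf 0x38a5) (.lf 0)))) (.nd (.nd (.nd (.lf 0x0) (.lf 0x395e)) (.nd (.lf 0x0) (.lf 0))) (.nd (.nd (.lf 0x0) (.lf 0x4775)) (.nd (.lf 0x0) (.lf 0))))) (.nd (.nd (.nd (.nd (.lf 0x0) (.lf 0x4140)) (.nd (.lf 0x0) (.lf 0))) (.nd (.nd (.lf 0x0) (.lf 0x0)) (.nd (.lf 0x2c8e) (.lf 0)))) (.nd (.nd (.nd (.lf 0x0) (.lf 0x0)) (.nd (.lf 0x0) (.lf 0))) (.nd (.nd (.lf 0x3601) (.lf 0x449a)) (.nd (.lf 0x5e4b) (.lf 0))))))))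
def witA_nbbbaab : Tr := (.nd (.nd (.nd (.nd (.nd (.nd (.nd (.lf 0x0) (.lf 0x0)) (.nd (.lf 0x0) (.lf 0))) (.nd (.nd (.lf 0x0) (.lf 0x5908)) (.nd (.lf 0x1484) (.lf 0)))) (.nd (.nd (.nd (.lf 0x0) (.lf 0x4c0f)) (.nd (.lf 0x0) (.lf 0))) (.nd (.nd (.lf 0x0) (.lf 0x2e05)) (.nd (.lf 0x0) (.lf 0))))) (.nd (.nd (.nd (.nd (.lf 0x0) (.lf 0x0)) (.nd (.lf 0x0) (.lf 0))) (.nd (.nd (.lf 0x0) (.lf 0x0)) (.nd (.lf 0x7054) (.lf 0)))) (.nd (.nd (.nd (.lf 0x0) (.lf 0x4380)) (.nd (.lf 0x0) (.lf 0))) (.nd (.nd (.lf 0x0) (.lf 0x0)) (.nd (.lf 0x325e) (.lf 0)))))) (.nd (.nd (.nd (.nd (.nd (.lf 0x0) (.lf 0x3fa2)) (.nd (.lf 0xb6c) (.lf 0))) (.nd (.nd (.lf 0x0) (.lf 0x7484)) (.nd (.lf 0x1443) (.lf 0)))) (.nd (.nd (.nd (.lf 0x0) (.lf 0xe60)) (.nd (.lf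 0x0) (.lf 0))) (.nd (.nd (.lf 0x0) (.lf 0x60)) (.nd (.lf 0x4832) (.lf 0))))) (.nd (.nd (.nd (.nd (.lf 0x0) (.lf 0x4485)) (.nd (.lf 0x6e7e) (.lf 0))) (.nd (.nd (.lf 0x3472) (.lf 0x520a)) (.nd (.lf 0x6051) (.lf 0)))) (.nd (.nd (.nd (.lf 0x0) (.lf 0x0)) (.nd (.lf 0x7c0b) (.lf 0))) (.nd (.nd (.lf 0x120b) (.lf 0x814c)) (.nd (.lf 0x0) (.lf 0))))))) (.nd (.nd (.nd (.nd (.nd (.nd (.lf 0x0) (.lf 0x0)) (.nd (.lf 0x0) (.lf 0))) (.nd (.nd (.lf 0x0) (.lf 0x5931)) (.nd (.lf 0x0) (.lf 0)))) (.nd (.nd (.nd (.lf 0x0) (.lf 0x3784)) (.nd (.lf 0x3174) (.lf 0))) (.nd (.nd (.lf 0x0) (.lf 0x0)) (.nd (.lf 0x0) (.lf 0))))) (.nd (.nd (.nd (.nd (.lf 0x0) (.lf 0x0)) (.nd (.lf 0x0) (.lf 0))) (.nd (.nd (.lf 0x0) (.lf 0xd9a)) (.nd (.lf 0x0) (.lf 0)))) (.nd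 (.nd (.nd (.lf 0x0) (.lf 0x0)) (.nd (.lf 0x0) (.lf 0))) (.nd (.nd (.lf 0x0) (.lf 0x1470)) (.nd (.lf 0x7c75) (.lf 0)))))) (.nd (.nd (.nd (.nd (.nd (.lf 0x0) (.lf 0x6c5b)) (.nd (.lf 0x0) (.lf 0))) (.nd (.nd (.lf 0x0) (.lf 0x0)) (.nd (.lf 0x0) (.lf 0)))) (.nd (.nd (.nd (.lf 0x0) (.lf 0x3867)) (.nd (.lf 0x0) (.lf 0))) (.nd (.nd (.lf 0x0) (.lf 0x2f7c)) (.nd (.lf 0x8540) (.lf 0))))) (.nd (.nd (.nd (.nd (.lf 0x0) (.lf 0x5505)) (.nd (.lf 0x0) (.lf 0))) (.nd (.nd (.lf 0x7307) (.lf 0x244e)) (.nd (.lf 0x739f) (.lf 0)))) (.nd (.nd (.nd (.lf 0x0) (.lf 0x0)) (.nd (.lf 0x0) (.lf 0))) (.nd (.nd (.lf 0x0) (.lf 0x6e36)) (.nd (.lf 0x0) (.lf 0))))))))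
def witA_nbbbaba : Tr := (.nd (.nd (.nd (.nd (.nd (.nd (.nd (.lf 0x0) (.lf 0x6929)) (.nd (.lf 0x0) (.lf 0))) (.nd (.nd (.lf 0x0) (.lf 0x0)) (.nd (.lf 0x0) (.lf 0)))) (.nd (.nd (.nd (.lf 0x0) (.lf 0x5905)) (.nd (.lf 0x677c) (.lf 0))) (.nd (.nd (.lf 0x0) (.lf 0x6a45)) (.nd (.lf 0x5b5c) (.lf 0))))) (.nd (.nd (.nd (.nd (.lf 0x0) (.lf 0x0)) (.nd (.lf 0x0) (.lf 0))) (.nd (.nd (.lf 0x3ca7) (.lf 0x716e)) (.nd (.lf 0x0) (.lf 0)))) (.nd (.nd (.nd (.lf 0x0) (.lf 0x3e36)) (.nd (.lf 0x0) (.lf 0))) (.nd (.nd (.lf 0x0) (.lf 0x6156)) (.nd (.lf 0x500b) (.lf 0)))))) (.nd (.nd (.nd (.nd (.nd (.lf 0x0) (.lf 0x0)) (.nd (.lf 0x0) (.lf 0))) (.nd (.nd (.lf 0x0) (.lf 0x0)) (.nd (.lf 0x578d) (.lf 0)))) (.nd (.nd (.nd (.lf 0x0) (.lf 0x0)) (.nd (.lf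 0x0) (.lf 0))) (.nd (.nd (.lf 0x0) (.lf 0x658)) (.nd (.lf 0x0) (.lf 0))))) (.nd (.nd (.nd (.nd (.lf 0x0) (.lf 0x0)) (.nd (.lf 0x0) (.lf 0))) (.nd (.nd (.lf 0x0) (.lf 0x239f)) (.nd (.lf 0x14b2) (.lf 0)))) (.nd (.nd (.nd (.lf 0x0) (.lf 0x0)) (.nd (.lf 0x0) (.lf 0))) (.nd (.nd (.lf 0x0) (.lf 0x6561)) (.nd (.lf 0x1665) (.lf 0))))))) (.nd (.nd (.nd (.nd (.nd (.nd (.lf 0x0) (.lf 0x4678)) (.nd (.lf 0x0) (.lf 0))) (.nd (.nd (.lf 0x0) (.lf 0x144c)) (.nd (.lf 0x737c) (.lf 0)))) (.nd (.nd (.nd (.lf 0x0) (.lf 0x2c2d)) (.nd (.lf 0x0) (.lf 0))) (.nd (.nd (.lf 0x0) (.lf 0x43a1)) (.nd (.lf 0x0) (.lf 0))))) (.nd (.nd (.nd (.nd (.lf 0x0) (.lf 0x0)) (.nd (.lf 0x7c2a) (.lf 0))) (.nd (.nd (.lf 0x376f) (.lf 0x0)) (.nd (.lf 0x0) (.lf 0)))) (.nd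 (.nd (.nd (.lf 0x0) (.lf 0x785a)) (.nd (.lf 0x0) (.lf 0))) (.nd (.nd (.lf 0x0) (.lf 0x3c66)) (.nd (.lf 0x0) (.lf 0)))))) (.nd (.nd (.nd (.nd (.nd (.lf 0x0) (.lf 0x0)) (.nd (.lf 0x0) (.lf 0))) (.nd (.nd (.lf 0x0) (.lf 0x545d)) (.nd (.lf 0x4c07) (.lf 0)))) (.nd (.nd (.nd (.lf 0x0) (.lf 0x8121)) (.nd (.lf 0x0) (.lf 0))) (.nd (.nd (.lf 0x0) (.lf 0x3a22)) (.nd (.lf 0x0) (.lf 0))))) (.nd (.nd (.nd (.nd (.lf 0x0) (.lf 0x0)) (.nd (.lf 0x0) (.lf 0))) (.nd (.nd (.lf 0x0) (.lf 0x6521)) (.nd (.lf 0xb77) (.lf 0)))) (.nd (.nd (.nd (.lf 0x0) (.lf 0x142f)) (.nd (.lf 0x0) (.lf 0))) (.nd (.nd (.lf 0x5e9f) (.lf 0x680f)) (.nd (.lf 0x0) (.lf 0))))))))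
def witA_nbbbabb : Tr := (.nd (.nd (.nd (.nd (.nd (.nd (.nd (.lf 0x0) (.lf 0x287a)) (.nd (.lf 0x0) (.lf 0))) (.nd (.nd (.lf 0x0) (.lf 0x731)) (.nd (.lf 0x4d86) (.lf 0)))) (.nd (.nd (.nd (.lf 0x4626) (.lf 0x2b0a)) (.nd (.lf 0x0) (.lf 0))) (.nd (.nd (.lf 0x0) (.lf 0x206e)) (.nd (.lf 0x0) (.lf 0))))) (.nd (.nd (.nd (.nd (.lf 0x0) (.lf 0x0)) (.nd (.lf 0x1562) (.lf 0))) (.nd (.nd (.lf 0xf76) (.lf 0x2c81)) (.nd (.lf 0x0) (.lf 0)))) (.nd (.nd (.nd (.lf 0x0) (.lf 0x7080)) (.nd (.lf 0x469f) (.lf 0))) (.nd (.nd (.lf 0x0) (.lf 0x1fb2)) (.nd (.lf 0x0) (.lf 0)))))) (.nd (.nd (.nd (.nd (.nd (.lf 0x0) (.lf 0x0)) (.nd (.lf 0x0) (.lf 0))) (.nd (.nd (.lf 0x0) (.lf 0x0)) (.nd (.lf 0x53ab) (.lf 0)))) (.nd (.nd (.nd (.lf 0x0) (.lf 0x599f)) (.nd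 (.lf 0x4f47) (.lf 0))) (.nd (.nd (.lf 0x0) (.lf 0x11a)) (.nd (.lf 0x2c6b) (.lf 0))))) (.nd (.nd (.nd (.nd (.lf 0x4f59) (.lf 0x1539)) (.nd (.lf 0x0) (.lf 0))) (.nd (.nd (.lf 0x4b3e) (.lf 0x6308)) (.nd (.lf 0x0) (.lf 0)))) (.nd (.nd (.nd (.lf 0x0) (.lf 0x3a74)) (.nd (.lf 0x0) (.lf 0))) (.nd (.nd (.lf 0x0) (.lf 0x17e)) (.nd (.lf 0x5c5a) (.lf 0))))))) (.nd (.nd (.nd (.nd (.nd (.nd (.lf 0x0) (.lf 0x6695)) (.nd (.lf 0x0) (.lf 0))) (.nd (.nd (.lf 0x0) (.lf 0x1695)) (.nd (.lf 0x1e22) (.lf 0)))) (.nd (.nd (.nd (.lf 0x0) (.lf 0x0)) (.nd (.lf 0x0) (.lf 0))) (.nd (.nd (.lf 0x0) (.lf 0x7349)) (.nd (.lf 0x0) (.lf 0))))) (.nd (.nd (.nd (.nd (.lf 0x0) (.lf 0x2708)) (.nd (.lf 0x0) (.lf 0))) (.nd (.nd (.lf 0xe67) (.lf 0x83a8)) (.nd (.lf 0x7a40)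 (.lf 0)))) (.nd (.nd (.nd (.lf 0x0) (.lf 0x0)) (.nd (.lf 0x6505) (.lf 0))) (.nd (.nd (.lf 0x0) (.lf 0x7874)) (.nd (.lf 0x0) (.lf 0)))))) (.nd (.nd (.nd (.nd (.nd (.lf 0x0) (.lf 0x5794)) (.nd (.lf 0x0) (.lf 0))) (.nd (.nd (.lf 0x0) (.lf 0x6568)) (.nd (.lf 0x0) (.lf 0)))) (.nd (.nd (.nd (.lf 0x0) (.lf 0x4c85)) (.nd (.lf 0x0) (.lf 0))) (.nd (.nd (.lf 0x0) (.lf 0x0)) (.nd (.lf 0x0) (.lf 0))))) (.nd (.nd (.nd (.nd (.lf 0x0) (.lf 0x0)) (.nd (.lf 0x6591) (.lf 0))) (.nd (.nd (.lf 0x0) (.lf 0x839d)) (.nd (.lf 0x0) (.lf 0)))) (.nd (.nd (.nd (.lf 0x0) (.lf 0x4208)) (.nd (.lf 0x836f) (.lf 0))) (.nd (.nd (.lf 0x79a7) (.lf 0x2957)) (.nd (.lf 0x7463) (.lf 0))))))))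
def witA_nbbbbaa : Tr := (.nd (.nd (.nd (.nd (.nd (.nd (.nd (.lf 0x0) (.lf 0x6b7a)) (.nd (.lf 0x0) (.lf 0))) (.nd (.nd (.lf 0x7942) (.lf 0x4086)) (.nd (.lf 0x442e) (.lf 0)))) (.nd (.nd (.nd (.lf 0x0) (.lf 0x0)) (.nd (.lf 0x0) (.lf 0))) (.nd (.nd (.lf 0x0) (.lf 0x548f)) (.nd (.lf 0x0) (.lf 0))))) (.nd (.nd (.nd (.nd (.lf 0x0) (.lf 0x522e)) (.nd (.lf 0x0) (.lf 0))) (.nd (.nd (.lf 0x0) (.lf 0x0)) (.nd (.lf 0x0) (.lf 0)))) (.nd (.nd (.nd (.lf 0x0) (.lf 0x3107)) (.nd (.lf 0x0) (.lf 0))) (.nd (.nd (.lf 0x0) (.lf 0x8255)) (.nd (.lf 0x0) (.lf 0)))))) (.nd (.nd (.nd (.nd (.nd (.lf 0x0) (.lf 0x0)) (.nd (.lf 0x0) (.lf 0))) (.nd (.nd (.lf 0x0) (.lf 0x0)) (.nd (.lf 0x0) (.lf 0)))) (.nd (.nd (.nd (.lf 0x0) (.lf 0x0)) (.nd (.lf 0x0) (.lf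 0))) (.nd (.nd (.lf 0x1c1a) (.lf 0x6571)) (.nd (.lf 0x7582) (.lf 0))))) (.nd (.nd (.nd (.nd (.lf 0x0) (.lf 0x0)) (.nd (.lf 0x0) (.lf 0))) (.nd (.nd (.lf 0x0) (.lf 0x7d08)) (.nd (.lf 0x6ba8) (.lf 0)))) (.nd (.nd (.nd (.lf 0x0) (.lf 0x2784)) (.nd (.lf 0x0) (.lf 0))) (.nd (.nd (.lf 0x0) (.lf 0x2d40)) (.nd (.lf 0x2c43) (.lf 0))))))) (.nd (.nd (.nd (.nd (.nd (.nd (.lf 0x0) (.lf 0x1c2d)) (.nd (.lf 0x0) (.lf 0))) (.nd (.nd (.lf 0x0) (.lf 0x960)) (.nd (.lf 0x0) (.lf 0)))) (.nd (.nd (.nd (.lf 0x7f0c) (.lf 0x1d11)) (.nd (.lf 0xcb2) (.lf 0))) (.nd (.nd (.lf 0x396e) (.lf 0x456f)) (.nd (.lf 0x66a6) (.lf 0))))) (.nd (.nd (.nd (.nd (.lf 0x0) (.lf 0x606e)) (.nd (.lf 0x0) (.lf 0))) (.nd (.nd (.lf 0x0) (.lf 0x45b1)) (.nd (.lf 0x0) (.lf 0))))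 (.nd (.nd (.nd (.lf 0x1f51) (.lf 0x0)) (.nd (.lf 0x2e45) (.lf 0))) (.nd (.nd (.lf 0x0) (.lf 0x87b2)) (.nd (.lf 0x0) (.lf 0)))))) (.nd (.nd (.nd (.nd (.nd (.lf 0x0) (.lf 0x6f19)) (.nd (.lf 0x8679) (.lf 0))) (.nd (.nd (.lf 0x0) (.lf 0x0)) (.nd (.lf 0x68a4) (.lf 0)))) (.nd (.nd (.nd (.lf 0x0) (.lf 0x0)) (.nd (.lf 0x215) (.lf 0))) (.nd (.nd (.lf 0x0) (.lf 0x2a8)) (.nd (.lf 0x0) (.lf 0))))) (.nd (.nd (.nd (.nd (.lf 0x0) (.lf 0x3c91)) (.nd (.lf 0x0) (.lf 0))) (.nd (.nd (.lf 0x0) (.lf 0x1412)) (.nd (.lf 0x0) (.lf 0)))) (.nd (.nd (.nd (.lf 0x0) (.lf 0x327a)) (.nd (.lf 0x0) (.lf 0))) (.nd (.nd (.lf 0x0) (.lf 0x6947)) (.nd (.lf 0x5c33) (.lf 0))))))))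
def witA_nbbbbab : Tr := (.nd (.nd (.nd (.nd (.nd (.nd (.nd (.lf 0x0) (.lf 0x0)) (.nd (.lf 0x416a) (.lf 0))) (.nd (.nd (.lf 0x0) (.lf 0x7e2b)) (.nd (.lf 0x2448) (.lf 0)))) (.nd (.nd (.nd (.lf 0x0) (.lf 0x0)) (.nd (.lf 0x0) (.lf 0))) (.nd (.nd (.lf 0x0) (.lf 0x0)) (.nd (.lf 0x4092) (.lf 0))))) (.nd (.nd (.nd (.nd (.lf 0x0) (.lf 0x2f7b)) (.nd (.lf 0x0) (.lf 0))) (.nd (.nd (.lf 0xe31) (.lf 0x0)) (.nd (.lf 0x0) (.lf 0)))) (.nd (.nd (.nd (.lf 0x0) (.lf 0x1e0b)) (.nd (.lf 0x0) (.lf 0))) (.nd (.nd (.lf 0x0) (.lf 0x1b7b)) (.nd (.lf 0x6e71) (.lf 0)))))) (.nd (.nd (.nd (.nd (.nd (.lf 0x7093) (.lf 0x335d)) (.nd (.lf 0x0) (.lf 0))) (.nd (.nd (.lf 0x0) (.lf 0x0)) (.nd (.lf 0x0) (.lf 0)))) (.nd (.nd (.nd (.lf 0x0) (.lf 0x0)) (.nd (.lf 0x6a28)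 (.lf 0))) (.nd (.nd (.lf 0x637d) (.lf 0x0)) (.nd (.lf 0x2355) (.lf 0))))) (.nd (.nd (.nd (.nd (.lf 0x0) (.lf 0x0)) (.nd (.lf 0x7aae) (.lf 0))) (.nd (.nd (.lf 0x0) (.lf 0x7b7c)) (.nd (.lf 0x0) (.lf 0)))) (.nd (.nd (.nd (.lf 0x0) (.lf 0x3417)) (.nd (.lf 0x5662) (.lf 0))) (.nd (.nd (.lf 0x7c54) (.lf 0x0)) (.nd (.lf 0x6321) (.lf 0))))))) (.nd (.nd (.nd (.nd (.nd (.nd (.lf 0x0) (.lf 0x0)) (.nd (.lf 0x0) (.lf 0))) (.nd (.nd (.lf 0x0) (.lf 0x4f9e)) (.nd (.lf 0x0) (.lf 0)))) (.nd (.nd (.nd (.lf 0x0) (.lf 0x0)) (.nd (.lf 0x6281) (.lf 0))) (.nd (.nd (.lf 0x0) (.lf 0x5110)) (.nd (.lf 0x0) (.lf 0))))) (.nd (.nd (.nd (.nd (.lf 0x0) (.lf 0x0)) (.nd (.lf 0x0) (.lf 0))) (.nd (.nd (.lf 0x0) (.lf 0x3358)) (.nd (.lf 0x0) (.lf 0)))) (.nd (.nd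 (.nd (.lf 0x0) (.lf 0x0)) (.nd (.lf 0x31a3) (.lf 0))) (.nd (.nd (.lf 0x0) (.lf 0x385b)) (.nd (.lf 0x0) (.lf 0)))))) (.nd (.nd (.nd (.nd (.nd (.lf 0x0) (.lf 0x274f)) (.nd (.lf 0x0) (.lf 0))) (.nd (.nd (.lf 0x0) (.lf 0x2190)) (.nd (.lf 0x0) (.lf 0)))) (.nd (.nd (.nd (.lf 0x0) (.lf 0x5803)) (.nd (.lf 0x605) (.lf 0))) (.nd (.nd (.lf 0x0) (.lf 0x0)) (.nd (.lf 0x0) (.lf 0))))) (.nd (.nd (.nd (.nd (.lf 0x0) (.lf 0x0)) (.nd (.lf 0x0) (.lf 0))) (.nd (.nd (.lf 0x0) (.lf 0x58b1)) (.nd (.lf 0x4095) (.lf 0)))) (.nd (.nd (.nd (.lf 0x0) (.lf 0x0)) (.nd (.lf 0x0) (.lf 0))) (.nd (.nd (.lf 0x0) (.lf 0x723f)) (.nd (.lf 0x0) (.lf 0))))))))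
def witA_nbbbbba : Tr := (.nd (.nd (.nd (.nd (.nd (.nd (.nd (.lf 0x0) (.lf 0x786d)) (.nd (.lf 0x0) (.lf 0))) (.nd (.nd (.lf 0x0) (.lf 0x2c4b)) (.nd (.lf 0x371f) (.lf 0)))) (.nd (.nd (.nd (.lf 0x0) (.lf 0x0)) (.nd (.lf 0x531c) (.lf 0))) (.nd (.nd (.lf 0x0) (.lf 0x7a4e)) (.nd (.lf 0x64e) (.lf 0))))) (.nd (.nd (.nd (.nd (.lf 0x0) (.lf 0x215b)) (.nd (.lf 0x0) (.lf 0))) (.nd (.nd (.lf 0x0) (.lf 0x6274)) (.nd (.lf 0x0) (.lf 0)))) (.nd (.nd (.nd (.lf 0x0) (.lf 0x2c61)) (.nd (.lf 0x0) (.lf 0))) (.nd (.nd (.lf 0x0) (.lf 0x5a3c)) (.nd (.lf 0x2d99) (.lf 0)))))) (.nd (.nd (.nd (.nd (.nd (.lf 0x0) (.lf 0x421c)) (.nd (.lf 0x5d5a) (.lf 0))) (.nd (.nd (.lf 0x75ab) (.lf 0x8185)) (.nd (.lf 0x0) (.lf 0)))) (.nd (.nd (.nd (.lf 0x0) (.lf 0x2682))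 (.nd (.lf 0x0) (.lf 0))) (.nd (.nd (.lf 0x0) (.lf 0x0)) (.nd (.lf 0x0) (.lf 0))))) (.nd (.nd (.nd (.nd (.lf 0x0) (.lf 0x8774)) (.nd (.lf 0x0) (.lf 0))) (.nd (.nd (.lf 0x4ba6) (.lf 0x5f44)) (.nd (.lf 0x0) (.lf 0)))) (.nd (.nd (.nd (.lf 0x0) (.lf 0x0)) (.nd (.lf 0x0) (.lf 0))) (.nd (.nd (.lf 0x0) (.lf 0x7aae)) (.nd (.lf 0x7ea0) (.lf 0))))))) (.nd (.nd (.nd (.nd (.nd (.nd (.lf 0x0) (.lf 0x4064)) (.nd (.lf 0x0) (.lf 0))) (.nd (.nd (.lf 0x0) (.lf 0xe86)) (.nd (.lf 0x3866) (.lf 0)))) (.nd (.nd (.nd (.lf 0x0) (.lf 0x55ad)) (.nd (.lf 0x1812) (.lf 0))) (.nd (.nd (.lf 0x0) (.lf 0x469d)) (.nd (.lf 0x2f51) (.lf 0))))) (.nd (.nd (.nd (.nd (.lf 0x0) (.lf 0x0)) (.nd (.lf 0x0) (.lf 0))) (.nd (.nd (.lf 0x0) (.lf 0x7225)) (.nd (.lf 0x0) (.lf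 0)))) (.nd (.nd (.nd (.lf 0x0) (.lf 0x125b)) (.nd (.lf 0x0) (.lf 0))) (.nd (.nd (.lf 0x0) (.lf 0x3729)) (.nd (.lf 0x0) (.lf 0)))))) (.nd (.nd (.nd (.nd (.nd (.lf 0x0) (.lf 0x8679)) (.nd (.lf 0x0) (.lf 0))) (.nd (.nd (.lf 0x0) (.lf 0xe90)) (.nd (.lf 0x0) (.lf 0)))) (.nd (.nd (.nd (.lf 0x0) (.lf 0x0)) (.nd (.lf 0x0) (.lf 0))) (.nd (.nd (.lf 0x0) (.lf 0x5f95)) (.nd (.lf 0x0) (.lf 0))))) (.nd (.nd (.nd (.nd (.lf 0x0) (.lf 0x0)) (.nd (.lf 0x0) (.lf 0))) (.nd (.nd (.lf 0x0) (.lf 0x0)) (.nd (.lf 0x0) (.lf 0)))) (.nd (.nd (.nd (.lf 0x0) (.lf 0x0)) (.nd (.lf 0x777f) (.lf 0))) (.nd (.nd (.lf 0x0) (.lf 0x3d4e)) (.nd (.lf 0x290f) (.lf 0))))))))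
def witA_nbbbbbb : Tr := (.nd (.nd (.nd (.nd (.nd (.nd (.nd (.lf 0x0) (.lf 0x25aa)) (.nd (.lf 0x0) (.lf 0))) (.nd (.nd (.lf 0x0) (.lf 0x3d48)) (.nd (.lf 0x675b) (.lf 0)))) (.nd (.nd (.nd (.lf 0x0) (.lf 0x555d)) (.nd (.lf 0x0) (.lf 0))) (.nd (.nd (.lf 0x0) (.lf 0xe19)) (.nd (.lf 0x0) (.lf 0))))) (.nd (.nd (.nd (.nd (.lf 0x0) (.lf 0x3176)) (.nd (.lf 0x5101) (.lf 0))) (.nd (.nd (.lf 0x0) (.lf 0x7414)) (.nd (.lf 0x416f) (.lf 0)))) (.nd (.nd (.nd (.lf 0x0) (.lf 0xb78)) (.nd (.lf 0x1399) (.lf 0))) (.nd (.nd (.lf 0x0) (.lf 0x344e)) (.nd (.lf 0x7983) (.lf 0)))))) (.nd (.nd (.nd (.nd (.nd (.lf 0x0) (.lf 0x0)) (.nd (.lf 0x0) (.lf 0))) (.nd (.nd (.lf 0x0) (.lf 0x1a1d)) (.nd (.lf 0x4f61) (.lf 0)))) (.nd (.nd (.nd (.lf 0x0) (.lf 0x2b06))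 (.nd (.lf 0x0) (.lf 0))) (.nd (.nd (.lf 0x0) (.lf 0x7a45)) (.nd (.lf 0x5575) (.lf 0))))) (.nd (.nd (.nd (.nd (.lf 0x0) (.lf 0x457f)) (.nd (.lf 0x0) (.lf 0))) (.nd (.nd (.lf 0x7260) (.lf 0x15af)) (.nd (.lf 0x0) (.lf 0)))) (.nd (.nd (.nd (.lf 0x0) (.lf 0x798b)) (.nd (.lf 0x0) (.lf 0))) (.nd (.nd (.lf 0x0) (.lf 0x0)) (.nd (.lf 0x3b95) (.lf 0))))))) (.nd (.nd (.nd (.nd (.nd (.nd (.lf 0x0) (.lf 0x7b4f)) (.nd (.lf 0x0) (.lf 0))) (.nd (.nd (.lf 0x0) (.lf 0x18a2)) (.nd (.lf 0x0) (.lf 0)))) (.nd (.nd (.nd (.lf 0x0) (.lf 0x7113)) (.nd (.lf 0x0) (.lf 0))) (.nd (.nd (.lf 0x0) (.lf 0x6d2a)) (.nd (.lf 0x0) (.lf 0))))) (.nd (.nd (.nd (.nd (.lf 0x0) (.lf 0x75d)) (.nd (.lf 0x545c) (.lf 0))) (.nd (.nd (.lf 0x0) (.lf 0x1e8e)) (.nd (.lf 0x0)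 (.lf 0)))) (.nd (.nd (.nd (.lf 0x0) (.lf 0x5e56)) (.nd (.lf 0x0) (.lf 0))) (.nd (.nd (.lf 0x504d) (.lf 0x0)) (.nd (.lf 0x5931) (.lf 0)))))) (.nd (.nd (.nd (.nd (.nd (.lf 0x0) (.lf 0x0)) (.nd (.lf 0x7656) (.lf 0))) (.nd (.nd (.lf 0x0) (.lf 0x682)) (.nd (.lf 0x0) (.lf 0)))) (.nd (.nd (.nd (.lf 0x0) (.lf 0x0)) (.nd (.lf 0x0) (.lf 0))) (.nd (.nd (.lf 0x518b) (.lf 0x5082)) (.nd (.lf 0x0) (.lf 0))))) (.nd (.nd (.nd (.nd (.lf 0x0) (.lf 0x0)) (.nd (.lf 0x2189) (.lf 0))) (.nd (.nd (.lf 0x0) (.lf 0x0)) (.nd (.lf 0x0) (.lf 0)))) (.nd (.nd (.nd (.lf 0x0) (.lf 0x0)) (.nd (.lf 0x0) (.lf 0))) (.nd (.nd (.lf 0x4d9b) (.lf 0x2a93)) (.nd (.lf 0x1b7c) (.lf 0))))))))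
def witA : Tr := (.nd (.nd (.nd (.nd (.nd (.nd witA_naaaaaa witA_naaaaab) (.nd witA_naaaaba witA_naaaabb)) (.nd (.nd witA_naaabaa witA_naaabab) (.nd witA_naaabba witA_naaabbb))) (.nd (.nd (.nd witA_naabaaa witA_naabaab) (.nd witA_naababa witA_naababb)) (.nd (.nd witA_naabbaa witA_naabbab) (.nd witA_naabbba witA_naabbbb)))) (.nd (.nd (.nd (.nd witA_nabaaaa witA_nabaaab) (.nd witA_nabaaba witA_nabaabb)) (.nd (.nd witA_nababaa witA_nababab) (.nd witA_nababba witA_nababbb))) (.nd (.nd (.nd witA_nabbaaa witA_nabbaab) (.nd witA_nabbaba witA_nabbabb)) (.nd (.nd witA_nabbbaa witA_nabbbab) (.nd witA_nabbbba witA_nabbbbb))))) (.nd (.nd (.nd (.nd (.nd witA_nbaaaaa witA_nbaaaab) (.nd witA_nbaaaba witA_nbaaabb)) (.nd (.nd witA_nbaabaa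 witA_nbaabab) (.nd witA_nbaabba witA_nbaabbb))) (.nd (.nd (.nd witA_nbabaaa witA_nbabaab) (.nd witA_nbababa witA_nbababb)) (.nd (.nd witA_nbabbaa witA_nbabbab) (.nd witA_nbabbba witA_nbabbbb)))) (.nd (.nd (.nd (.nd witA_nbbaaaa witA_nbbaaab) (.nd witA_nbbaaba witA_nbbaabb)) (.nd (.nd witA_nbbabaa witA_nbbabab) (.nd witA_nbbabba witA_nbbabbb))) (.nd (.nd (.nd witA_nbbbaaa witA_nbbbaab) (.nd witA_nbbbaba witA_nbbbabb)) (.nd (.nd witA_nbbbbaa witA_nbbbbab) (.nd witA_nbbbbba witA_nbbbbbb))))))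
def witB_naaaaaa : Tr := (.nd (.nd (.nd (.nd (.nd (.nd (.nd (.lf 0x0) (.lf 0x861c)) (.nd (.lf 0x826) (.lf 0x538a))) (.nd (.nd (.lf 0x0) (.lf 0x0)) (.nd (.lf 0x4b1f) (.lf 0)))) (.nd (.nd (.nd (.lf 0x0) (.lf 0x0)) (.nd (.lf 0x0) (.lf 0))) (.nd (.nd (.lf 0x0) (.lf 0x0)) (.nd (.lf 0x69ae) (.lf 0))))) (.nd (.nd (.nd (.nd (.lf 0x0) (.lf 0x0)) (.nd (.lf 0x0) (.lf 0))) (.nd (.nd (.lf 0x0) (.lf 0x0)) (.nd (.lf 0x0) (.lf 0)))) (.nd (.nd (.nd (.lf 0x0) (.lf 0x0)) (.nd (.lf 0x0) (.lf 0))) (.nd (.nd (.lf 0x0) (.lf 0x42ad)) (.nd (.lf 0x10a0) (.lf 0)))))) (.nd (.nd (.nd (.nd (.nd (.lf 0x0) (.lf 0x0)) (.nd (.lf 0x0) (.lf 0))) (.nd (.nd (.lf 0x0) (.lf 0x0)) (.nd (.lf 0x656f) (.lf 0)))) (.nd (.nd (.nd (.lf 0x0) (.lf 0x0)) (.nd (.lf 0x0) (.lf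 0))) (.nd (.nd (.lf 0x0) (.lf 0x4728)) (.nd (.lf 0x570f) (.lf 0))))) (.nd (.nd (.nd (.nd (.lf 0x0) (.lf 0x8b)) (.nd (.lf 0x0) (.lf 0))) (.nd (.nd (.lf 0x0) (.lf 0x2153)) (.nd (.lf 0x0) (.lf 0)))) (.nd (.nd (.nd (.lf 0x0) (.lf 0x0)) (.nd (.lf 0x0) (.lf 0))) (.nd (.nd (.lf 0x0) (.lf 0x0)) (.nd (.lf 0x0) (.lf 0))))))) (.nd (.nd (.nd (.nd (.nd (.nd (.lf 0x0) (.lf 0x4253)) (.nd (.lf 0x0) (.lf 0))) (.nd (.nd (.lf 0x0) (.lf 0x0)) (.nd (.lf 0x0) (.lf 0)))) (.nd (.nd (.nd (.lf 0x0) (.lf 0x0)) (.nd (.lf 0x0) (.lf 0))) (.nd (.nd (.lf 0x0) (.lf 0x7e9b)) (.nd (.lf 0x200) (.lf 0))))) (.nd (.nd (.nd (.nd (.lf 0x0) (.lf 0x0)) (.nd (.lf 0x0) (.lf 0))) (.nd (.nd (.lf 0x0) (.lf 0x519e)) (.nd (.lf 0x0) (.lf 0)))) (.nd (.nd (.nd (.lf 0x0) (.lf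 0x0)) (.nd (.lf 0x0) (.lf 0))) (.nd (.nd (.lf 0x0) (.lf 0x0)) (.nd (.lf 0x5aae) (.lf 0)))))) (.nd (.nd (.nd (.nd (.nd (.lf 0x0) (.lf 0x2d44)) (.nd (.lf 0x0) (.lf 0))) (.nd (.nd (.lf 0x4946) (.lf 0x127b)) (.nd (.lf 0x0) (.lf 0)))) (.nd (.nd (.nd (.lf 0x3a95) (.lf 0x0)) (.nd (.lf 0x488e) (.lf 0))) (.nd (.nd (.lf 0x0) (.lf 0x0)) (.nd (.lf 0x0) (.lf 0))))) (.nd (.nd (.nd (.nd (.lf 0x0) (.lf 0x747e)) (.nd (.lf 0x0) (.lf 0))) (.nd (.nd (.lf 0x0) (.lf 0x4b44)) (.nd (.lf 0x0) (.lf 0)))) (.nd (.nd (.nd (.lf 0x0) (.lf 0x0)) (.nd (.lf 0x617b) (.lf 0))) (.nd (.nd (.lf 0x0) (.lf 0x0)) (.nd (.lf 0x0) (.lf 0))))))))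
def witB_naaaaab : Tr := (.nd (.nd (.nd (.nd (.nd (.nd (.nd (.lf 0x0) (.lf 0x4496)) (.nd (.lf 0x0) (.lf 0))) (.nd (.nd (.lf 0x0) (.lf 0x330b)) (.nd (.lf 0x0) (.lf 0)))) (.nd (.nd (.nd (.lf 0x0) (.lf 0x0)) (.nd (.lf 0x0) (.lf 0))) (.nd (.nd (.lf 0x0) (.lf 0x2718)) (.nd (.lf 0x0) (.lf 0))))) (.nd (.nd (.nd (.nd (.lf 0x0) (.lf 0x0)) (.nd (.lf 0x0) (.lf 0))) (.nd (.nd (.lf 0x0) (.lf 0x0)) (.nd (.lf 0x0) (.lf 0)))) (.nd (.nd (.nd (.lf 0x0) (.lf 0x0)) (.nd (.lf 0x745f) (.lf 0))) (.nd (.nd (.lf 0x0) (.lf 0x0)) (.nd (.lf 0x0) (.lf 0)))))) (.nd (.nd (.nd (.nd (.nd (.lf 0x0) (.lf 0xf66)) (.nd (.lf 0x3e13) (.lf 0))) (.nd (.nd (.lf 0x0) (.lf 0x2f63)) (.nd (.lf 0x677b) (.lf 0)))) (.nd (.nd (.nd (.lf 0x0) (.lf 0x0)) (.nd (.lf 0x6bac) (.lf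 0))) (.nd (.nd (.lf 0x0) (.lf 0x0)) (.nd (.lf 0x0) (.lf 0))))) (.nd (.nd (.nd (.nd (.lf 0x0) (.lf 0x121b)) (.nd (.lf 0x0) (.lf 0))) (.nd (.nd (.lf 0x0) (.lf 0x6c09)) (.nd (.lf 0x0) (.lf 0)))) (.nd (.nd (.nd (.lf 0x0) (.lf 0x0)) (.nd (.lf 0x0) (.lf 0))) (.nd (.nd (.lf 0x0) (.lf 0x0)) (.nd (.lf 0x0) (.lf 0))))))) (.nd (.nd (.nd (.nd (.nd (.nd (.lf 0x0) (.lf 0x2050)) (.nd (.lf 0x0) (.lf 0))) (.nd (.nd (.lf 0x0) (.lf 0x6475)) (.nd (.lf 0x0) (.lf 0)))) (.nd (.nd (.nd (.lf 0x0) (.lf 0x283d)) (.nd (.lf 0x0) (.lf 0))) (.nd (.nd (.lf 0x0) (.lf 0x0)) (.nd (.lf 0x0) (.lf 0))))) (.nd (.nd (.nd (.nd (.lf 0x0) (.lf 0x0)) (.nd (.lf 0x0) (.lf 0))) (.nd (.nd (.lf 0x0) (.lf 0x55aa)) (.nd (.lf 0x0) (.lf 0)))) (.nd (.nd (.nd (.lf 0x0) (.lf 0x0))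 (.nd (.lf 0x0) (.lf 0))) (.nd (.nd (.lf 0x0) (.lf 0x0)) (.nd (.lf 0x6277) (.lf 0)))))) (.nd (.nd (.nd (.nd (.nd (.lf 0x0) (.lf 0x0)) (.nd (.lf 0x0) (.lf 0))) (.nd (.nd (.lf 0x0) (.lf 0x0)) (.nd (.lf 0x0) (.lf 0)))) (.nd (.nd (.nd (.lf 0x0) (.lf 0x7366)) (.nd (.lf 0x0) (.lf 0))) (.nd (.nd (.lf 0x0) (.lf 0x0)) (.nd (.lf 0x0) (.lf 0))))) (.nd (.nd (.nd (.nd (.lf 0x0) (.lf 0x0)) (.nd (.lf 0x0) (.lf 0))) (.nd (.nd (.lf 0x0) (.lf 0x3577)) (.nd (.lf 0x0) (.lf 0)))) (.nd (.nd (.nd (.lf 0x0) (.lf 0x1f58)) (.nd (.lf 0x0) (.lf 0))) (.nd (.nd (.lf 0x0) (.lf 0x121e)) (.nd (.lf 0x767b) (.lf 0))))))))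
def witB_naaaaba : Tr := (.nd (.nd (.nd (.nd (.nd (.nd (.nd (.lf 0x0) (.lf 0x0)) (.nd (.lf 0x0) (.lf 0))) (.nd (.nd (.lf 0x0) (.lf 0x21a7)) (.nd (.lf 0x53a6) (.lf 0)))) (.nd (.nd (.nd (.lf 0x0) (.lf 0x0)) (.nd (.lf 0x3e8b) (.lf 0))) (.nd (.nd (.lf 0x0) (.lf 0x0)) (.nd (.lf 0x4945) (.lf 0))))) (.nd (.nd (.nd (.nd (.lf 0x0) (.lf 0x0)) (.nd (.lf 0xa11) (.lf 0))) (.nd (.nd (.lf 0x0) (.lf 0x7210)) (.nd (.lf 0x1412) (.lf 0)))) (.nd (.nd (.nd (.lf 0x0) (.lf 0x0)) (.nd (.lf 0x0) (.lf 0))) (.nd (.nd (.lf 0x0) (.lf 0x129)) (.nd (.lf 0x0) (.lf 0)))))) (.nd (.nd (.nd (.nd (.nd (.lf 0x0) (.lf 0x1003)) (.nd (.lf 0x0) (.lf 0))) (.nd (.nd (.lf 0x0) (.lf 0x289b)) (.nd (.lf 0x0) (.lf 0)))) (.nd (.nd (.nd (.lf 0x0) (.lf 0x564e)) (.nd (.lf 0x0)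 (.lf 0))) (.nd (.nd (.lf 0x0) (.lf 0x0)) (.nd (.lf 0x0) (.lf 0))))) (.nd (.nd (.nd (.nd (.lf 0x1516) (.lf 0x7410)) (.nd (.lf 0x0) (.lf 0))) (.nd (.nd (.lf 0x0) (.lf 0x3b2e)) (.nd (.lf 0x195d) (.lf 0)))) (.nd (.nd (.nd (.lf 0x0) (.lf 0x0)) (.nd (.lf 0x0) (.lf 0))) (.nd (.nd (.lf 0x0) (.lf 0x0)) (.nd (.lf 0x0) (.lf 0))))))) (.nd (.nd (.nd (.nd (.nd (.nd (.lf 0x0) (.lf 0x0)) (.nd (.lf 0x0) (.lf 0))) (.nd (.nd (.lf 0x0) (.lf 0x0)) (.nd (.lf 0x6425) (.lf 0)))) (.nd (.nd (.nd (.lf 0x0) (.lf 0x0)) (.nd (.lf 0x1a12) (.lf 0))) (.nd (.nd (.lf 0x3887) (.lf 0x0)) (.nd (.lf 0x0) (.lf 0))))) (.nd (.nd (.nd (.nd (.lf 0x0) (.lf 0x0)) (.nd (.lf 0x0) (.lf 0))) (.nd (.nd (.lf 0x0) (.lf 0x0)) (.nd (.lf 0x0) (.lf 0)))) (.nd (.nd (.nd (.lf 0x0)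 (.lf 0x0)) (.nd (.lf 0x0) (.lf 0))) (.nd (.nd (.lf 0x0) (.lf 0x2c81)) (.nd (.lf 0x0) (.lf 0)))))) (.nd (.nd (.nd (.nd (.nd (.lf 0x2330) (.lf 0x0)) (.nd (.lf 0x0) (.lf 0))) (.nd (.nd (.lf 0x0) (.lf 0x0)) (.nd (.lf 0x291f) (.lf 0)))) (.nd (.nd (.nd (.lf 0x0) (.lf 0x0)) (.nd (.lf 0x0) (.lf 0))) (.nd (.nd (.lf 0x0) (.lf 0x683)) (.nd (.lf 0x0) (.lf 0))))) (.nd (.nd (.nd (.nd (.lf 0x0) (.lf 0x0)) (.nd (.lf 0x0) (.lf 0))) (.nd (.nd (.lf 0x0) (.lf 0x686d)) (.nd (.lf 0x0) (.lf 0)))) (.nd (.nd (.nd (.lf 0x709c) (.lf 0x0)) (.nd (.lf 0x0) (.lf 0))) (.nd (.nd (.lf 0x295b) (.lf 0x799a)) (.nd (.lf 0x0) (.lf 0))))))))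
def witB_naaaabb : Tr := (.nd (.nd (.nd (.nd (.nd (.nd (.nd (.lf 0x0) (.lf 0x0)) (.nd (.lf 0x0) (.lf 0))) (.nd (.nd (.lf 0x0) (.lf 0x0)) (.nd (.lf 0x0) (.lf 0)))) (.nd (.nd (.nd (.lf 0x0) (.lf 0x2106)) (.nd (.lf 0x0) (.lf 0))) (.nd (.nd (.lf 0x3b80) (.lf 0x0)) (.nd (.lf 0x0) (.lf 0))))) (.nd (.nd (.nd (.nd (.lf 0x0) (.lf 0x0)) (.nd (.lf 0x0) (.lf 0))) (.nd (.nd (.lf 0x0) (.lf 0x0)) (.nd (.lf 0x0) (.lf 0)))) (.nd (.nd (.nd (.lf 0x0) (.lf 0x5070)) (.nd (.lf 0x4f5b) (.lf 0))) (.nd (.nd (.lf 0x0) (.lf 0x369d)) (.nd (.lf 0x108c) (.lf 0)))))) (.nd (.nd (.nd (.nd (.nd (.lf 0x0) (.lf 0x741)) (.nd (.lf 0x0) (.lf 0))) (.nd (.nd (.lf 0x0) (.lf 0x0)) (.nd (.lf 0x0) (.lf 0)))) (.nd (.nd (.nd (.lf 0x0) (.lf 0x0)) (.nd (.lf 0x0) (.lf 0)))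 (.nd (.nd (.lf 0x0) (.lf 0x0)) (.nd (.lf 0x0) (.lf 0))))) (.nd (.nd (.nd (.nd (.lf 0x0) (.lf 0x0)) (.nd (.lf 0x0) (.lf 0))) (.nd (.nd (.lf 0x914) (.lf 0x0)) (.nd (.lf 0x0) (.lf 0)))) (.nd (.nd (.nd (.lf 0x0) (.lf 0x0)) (.nd (.lf 0x0) (.lf 0))) (.nd (.nd (.lf 0x0) (.lf 0x0)) (.nd (.lf 0x0) (.lf 0))))))) (.nd (.nd (.nd (.nd (.nd (.nd (.lf 0x0) (.lf 0x2fa8)) (.nd (.lf 0x0) (.lf 0))) (.nd (.nd (.lf 0x0) (.lf 0x0)) (.nd (.lf 0x0) (.lf 0)))) (.nd (.nd (.nd (.lf 0x0) (.lf 0x489e)) (.nd (.lf 0x3343) (.lf 0))) (.nd (.nd (.lf 0x0) (.lf 0x4347)) (.nd (.lf 0x0) (.lf 0))))) (.nd (.nd (.nd (.nd (.lf 0x0) (.lf 0x0)) (.nd (.lf 0x0) (.lf 0))) (.nd (.nd (.lf 0x0) (.lf 0x0)) (.nd (.lf 0x3328) (.lf 0)))) (.nd (.nd (.nd (.lf 0x1c1a) (.lf 0x0))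 (.nd (.lf 0x3958) (.lf 0))) (.nd (.nd (.lf 0x0) (.lf 0x4e83)) (.nd (.lf 0x0) (.lf 0)))))) (.nd (.nd (.nd (.nd (.nd (.lf 0x0) (.lf 0x7606)) (.nd (.lf 0x0) (.lf 0))) (.nd (.nd (.lf 0x2ab1) (.lf 0x0)) (.nd (.lf 0x0) (.lf 0)))) (.nd (.nd (.nd (.lf 0x0) (.lf 0x0)) (.nd (.lf 0x0) (.lf 0))) (.nd (.nd (.lf 0x0) (.lf 0x2d18)) (.nd (.lf 0x0) (.lf 0))))) (.nd (.nd (.nd (.nd (.lf 0x0) (.lf 0x0)) (.nd (.lf 0x0) (.lf 0))) (.nd (.nd (.lf 0x0) (.lf 0x0)) (.nd (.lf 0x0) (.lf 0)))) (.nd (.nd (.nd (.lf 0x3d02) (.lf 0x3e54)) (.nd (.lf 0x0) (.lf 0))) (.nd (.nd (.lf 0x0) (.lf 0x0)) (.nd (.lf 0x0) (.lf 0))))))))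
def witB_naaabaa : Tr := (.nd (.nd (.nd (.nd (.nd (.nd (.nd (.lf 0x0) (.lf 0x0)) (.nd (.lf 0x0) (.lf 0x526f))) (.nd (.nd (.lf 0x0) (.lf 0x0)) (.nd (.lf 0x0) (.lf 0)))) (.nd (.nd (.nd (.lf 0x0) (.lf 0x0)) (.nd (.lf 0x0) (.lf 0))) (.nd (.nd (.lf 0x0) (.lf 0x0)) (.nd (.lf 0x0) (.lf 0))))) (.nd (.nd (.nd (.nd (.lf 0x0) (.lf 0x43b3)) (.nd (.lf 0x0) (.lf 0))) (.nd (.nd (.lf 0x0) (.lf 0x2)) (.nd (.lf 0x0) (.lf 0)))) (.nd (.nd (.nd (.lf 0x0) (.lf 0x0)) (.nd (.lf 0x0) (.lf 0))) (.nd (.nd (.lf 0x0) (.lf 0x3e02)) (.nd (.lf 0x0) (.lf 0)))))) (.nd (.nd (.nd (.nd (.nd (.lf 0x0) (.lf 0x4a3f)) (.nd (.lf 0x0) (.lf 0))) (.nd (.nd (.lf 0x0) (.lf 0x0)) (.nd (.lf 0x764c) (.lf 0)))) (.nd (.nd (.nd (.lf 0x0) (.lf 0x0)) (.nd (.lf 0x0) (.lf 0))) (.nd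 (.nd (.lf 0x0) (.lf 0x0)) (.nd (.lf 0x0) (.lf 0))))) (.nd (.nd (.nd (.nd (.lf 0x0) (.lf 0x0)) (.nd (.lf 0x0) (.lf 0))) (.nd (.nd (.lf 0x0) (.lf 0x743d)) (.nd (.lf 0x0) (.lf 0)))) (.nd (.nd (.nd (.lf 0x0) (.lf 0x0)) (.nd (.lf 0x0) (.lf 0))) (.nd (.nd (.lf 0x637d) (.lf 0x0)) (.nd (.lf 0x4379) (.lf 0))))))) (.nd (.nd (.nd (.nd (.nd (.nd (.lf 0x0) (.lf 0x631a)) (.nd (.lf 0x0) (.lf 0))) (.nd (.nd (.lf 0x0) (.lf 0x7c12)) (.nd (.lf 0x0) (.lf 0)))) (.nd (.nd (.nd (.lf 0x137d) (.lf 0x0)) (.nd (.lf 0x0) (.lf 0))) (.nd (.nd (.lf 0x221a) (.lf 0x0)) (.nd (.lf 0x0) (.lf 0))))) (.nd (.nd (.nd (.nd (.lf 0x0) (.lf 0x0)) (.nd (.lf 0x0) (.lf 0))) (.nd (.nd (.lf 0x0) (.lf 0x0)) (.nd (.lf 0x2323) (.lf 0)))) (.nd (.nd (.nd (.lf 0x0) (.lf 0x1967))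 (.nd (.lf 0x0) (.lf 0))) (.nd (.nd (.lf 0x0) (.lf 0x0)) (.nd (.lf 0x0) (.lf 0)))))) (.nd (.nd (.nd (.nd (.nd (.lf 0x0) (.lf 0x0)) (.nd (.lf 0x0) (.lf 0))) (.nd (.nd (.lf 0x0) (.lf 0x89f)) (.nd (.lf 0x0) (.lf 0)))) (.nd (.nd (.nd (.lf 0x0) (.lf 0x0)) (.nd (.lf 0x8372) (.lf 0))) (.nd (.nd (.lf 0x0) (.lf 0xf4f)) (.nd (.lf 0x0) (.lf 0))))) (.nd (.nd (.nd (.nd (.lf 0x0) (.lf 0x3f24)) (.nd (.lf 0x0) (.lf 0))) (.nd (.nd (.lf 0x0) (.lf 0x0)) (.nd (.lf 0x35a) (.lf 0)))) (.nd (.nd (.nd (.lf 0x0) (.lf 0x0)) (.nd (.lf 0x0) (.lf 0))) (.nd (.nd (.lf 0x0) (.lf 0x1f72)) (.nd (.lf 0x0) (.lf 0))))))))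
def witB_naaabab : Tr := (.nd (.nd (.nd (.nd (.nd (.nd (.nd (.lf 0x0) (.lf 0x45aa)) (.nd (.lf 0x0) (.lf 0))) (.nd (.nd (.lf 0x0) (.lf 0x3111)) (.nd (.lf 0x0) (.lf 0)))) (.nd (.nd (.nd (.lf 0x0) (.lf 0x0)) (.nd (.lf 0x282f) (.lf 0))) (.nd (.nd (.lf 0x0) (.lf 0x6066)) (.nd (.lf 0x0) (.lf 0))))) (.nd (.nd (.nd (.nd (.lf 0x0) (.lf 0x0)) (.nd (.lf 0x0) (.lf 0))) (.nd (.nd (.lf 0x0) (.lf 0x0)) (.nd (.lf 0x0) (.lf 0)))) (.nd (.nd (.nd (.lf 0x0) (.lf 0x0)) (.nd (.lf 0x0) (.lf 0))) (.nd (.nd (.lf 0x0) (.lf 0x0)) (.nd (.lf 0x0) (.lf 0)))))) (.nd (.nd (.nd (.nd (.nd (.lf 0x0) (.lf 0x7b72)) (.nd (.lf 0x423a) (.lf 0))) (.nd (.nd (.lf 0x0) (.lf 0x0)) (.nd (.lf 0x0) (.lf 0)))) (.nd (.nd (.nd (.lf 0x0) (.lf 0x0)) (.nd (.lf 0x0) (.lf 0)))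 (.nd (.nd (.lf 0x525) (.lf 0x3945)) (.nd (.lf 0x0) (.lf 0))))) (.nd (.nd (.nd (.nd (.lf 0x0) (.lf 0x0)) (.nd (.lf 0x0) (.lf 0))) (.nd (.nd (.lf 0x0) (.lf 0x871e)) (.nd (.lf 0x0) (.lf 0)))) (.nd (.nd (.nd (.lf 0x0) (.lf 0x0)) (.nd (.lf 0x0) (.lf 0))) (.nd (.nd (.lf 0x0) (.lf 0x0)) (.nd (.lf 0x0) (.lf 0))))))) (.nd (.nd (.nd (.nd (.nd (.nd (.lf 0x0) (.lf 0x0)) (.nd (.lf 0x0) (.lf 0))) (.nd (.nd (.lf 0x343e) (.lf 0x0)) (.nd (.lf 0x0) (.lf 0)))) (.nd (.nd (.nd (.lf 0x0) (.lf 0x0)) (.nd (.lf 0x0) (.lf 0))) (.nd (.nd (.lf 0x0) (.lf 0x0)) (.nd (.lf 0x0) (.lf 0))))) (.nd (.nd (.nd (.nd (.lf 0x0) (.lf 0x267)) (.nd (.lf 0x0) (.lf 0))) (.nd (.nd (.lf 0x0) (.lf 0x8180)) (.nd (.lf 0x0) (.lf 0)))) (.nd (.nd (.nd (.lf 0x0) (.lf 0x453e))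 (.nd (.lf 0x0) (.lf 0))) (.nd (.nd (.lf 0x0) (.lf 0x7903)) (.nd (.lf 0x166c) (.lf 0)))))) (.nd (.nd (.nd (.nd (.nd (.lf 0x0) (.lf 0xe61)) (.nd (.lf 0x0) (.lf 0))) (.nd (.nd (.lf 0x0) (.lf 0x0)) (.nd (.lf 0x0) (.lf 0)))) (.nd (.nd (.nd (.lf 0x0) (.lf 0x5856)) (.nd (.lf 0x0) (.lf 0))) (.nd (.nd (.lf 0x0) (.lf 0xb47)) (.nd (.lf 0x0) (.lf 0))))) (.nd (.nd (.nd (.nd (.lf 0x0) (.lf 0x0)) (.nd (.lf 0x0) (.lf 0))) (.nd (.nd (.lf 0x0) (.lf 0x0)) (.nd (.lf 0x0) (.lf 0)))) (.nd (.nd (.nd (.lf 0x0) (.lf 0x0)) (.nd (.lf 0x0) (.lf 0))) (.nd (.nd (.lf 0x0) (.lf 0x1d5a)) (.nd (.lf 0x277f) (.lf 0))))))))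
def witB_naaabba : Tr := (.nd (.nd (.nd (.nd (.nd (.nd (.nd (.lf 0x0) (.lf 0x0)) (.nd (.lf 0xe5b) (.lf 0))) (.nd (.nd (.lf 0x0) (.lf 0x759e)) (.nd (.lf 0x0) (.lf 0)))) (.nd (.nd (.nd (.lf 0x0) (.lf 0x0)) (.nd (.lf 0x0) (.lf 0))) (.nd (.nd (.lf 0x0) (.lf 0x0)) (.nd (.lf 0x0) (.lf 0))))) (.nd (.nd (.nd (.nd (.lf 0x0) (.lf 0x0)) (.nd (.lf 0x0) (.lf 0))) (.nd (.nd (.lf 0x0) (.lf 0x0)) (.nd (.lf 0x0) (.lf 0)))) (.nd (.nd (.nd (.lf 0x0) (.lf 0x0)) (.nd (.lf 0x4204) (.lf 0))) (.nd (.nd (.lf 0x0) (.lf 0x7ba6)) (.nd (.lf 0x0) (.lf 0)))))) (.nd (.nd (.nd (.nd (.nd (.lf 0x0) (.lf 0x0)) (.nd (.lf 0x0) (.lf 0))) (.nd (.nd (.lf 0x0) (.lf 0x0)) (.nd (.lf 0x0) (.lf 0)))) (.nd (.nd (.nd (.lf 0x0) (.lf 0x254e)) (.nd (.lf 0x0) (.lf 0))) (.nd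 (.nd (.lf 0x0) (.lf 0x1c40)) (.nd (.lf 0x0) (.lf 0))))) (.nd (.nd (.nd (.nd (.lf 0x0) (.lf 0x0)) (.nd (.lf 0x2b05) (.lf 0))) (.nd (.nd (.lf 0x0) (.lf 0x0)) (.nd (.lf 0x0) (.lf 0)))) (.nd (.nd (.nd (.lf 0xf96) (.lf 0x24b2)) (.nd (.lf 0x0) (.lf 0))) (.nd (.nd (.lf 0x0) (.lf 0x0)) (.nd (.lf 0x0) (.lf 0))))))) (.nd (.nd (.nd (.nd (.nd (.nd (.lf 0x0) (.lf 0x0)) (.nd (.lf 0x5d10) (.lf 0))) (.nd (.nd (.lf 0x0) (.lf 0x5470)) (.nd (.lf 0x0) (.lf 0)))) (.nd (.nd (.nd (.lf 0x0) (.lf 0x0)) (.nd (.lf 0x0) (.lf 0))) (.nd (.nd (.lf 0x0) (.lf 0x0)) (.nd (.lf 0x0) (.lf 0))))) (.nd (.nd (.nd (.nd (.lf 0x0) (.lf 0x0)) (.nd (.lf 0x7b8c) (.lf 0))) (.nd (.nd (.lf 0x0) (.lf 0x0)) (.nd (.lf 0x0) (.lf 0)))) (.nd (.nd (.nd (.lf 0x0) (.lf 0x2d7f)) (.nd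 (.lf 0x0) (.lf 0))) (.nd (.nd (.lf 0x0) (.lf 0x0)) (.nd (.lf 0x0) (.lf 0)))))) (.nd (.nd (.nd (.nd (.nd (.lf 0x0) (.lf 0x5787)) (.nd (.lf 0x0) (.lf 0))) (.nd (.nd (.lf 0x0) (.lf 0x81a0)) (.nd (.lf 0x0) (.lf 0)))) (.nd (.nd (.nd (.lf 0x0) (.lf 0x0)) (.nd (.lf 0x3b5d) (.lf 0))) (.nd (.nd (.lf 0x0) (.lf 0x0)) (.nd (.lf 0x0) (.lf 0))))) (.nd (.nd (.nd (.nd (.lf 0x0) (.lf 0x8331)) (.nd (.lf 0x0) (.lf 0))) (.nd (.nd (.lf 0x0) (.lf 0x0)) (.nd (.lf 0x0) (.lf 0)))) (.nd (.nd (.nd (.lf 0x0) (.lf 0x0)) (.nd (.lf 0x0) (.lf 0))) (.nd (.nd (.lf 0x0) (.lf 0x792e)) (.nd (.lf 0x0) (.lf 0))))))))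
def witB_naaabbb : Tr := (.nd (.nd (.nd (.nd (.nd (.nd (.nd (.lf 0x384e) (.lf 0x3946)) (.nd (.lf 0x0) (.lf 0))) (.nd (.nd (.lf 0x0) (.lf 0x0)) (.nd (.lf 0x4985) (.lf 0)))) (.nd (.nd (.nd (.lf 0x0) (.lf 0x4e66)) (.nd (.lf 0x0) (.lf 0))) (.nd (.nd (.lf 0x0) (.lf 0x154a)) (.nd (.lf 0x7255) (.lf 0))))) (.nd (.nd (.nd (.nd (.lf 0x0) (.lf 0x0)) (.nd (.lf 0x0) (.lf 0))) (.nd (.nd (.lf 0x0) (.lf 0x0)) (.nd (.lf 0x0) (.lf 0)))) (.nd (.nd (.nd (.lf 0x0) (.lf 0x0)) (.nd (.lf 0x2003) (.lf 0))) (.nd (.nd (.lf 0x0) (.lf 0x55aa)) (.nd (.lf 0x4339) (.lf 0)))))) (.nd (.nd (.nd (.nd (.nd (.lf 0x0) (.lf 0x0)) (.nd (.lf 0x0) (.lf 0))) (.nd (.nd (.lf 0x3326) (.lf 0x0)) (.nd (.lf 0x0) (.lf 0)))) (.nd (.nd (.nd (.lf 0x0) (.lf 0x0)) (.nd (.lf 0x0)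 (.lf 0))) (.nd (.nd (.lf 0x0) (.lf 0x8700)) (.nd (.lf 0x0) (.lf 0))))) (.nd (.nd (.nd (.nd (.lf 0x0) (.lf 0x2697)) (.nd (.lf 0x0) (.lf 0))) (.nd (.nd (.lf 0x0) (.lf 0xe5e)) (.nd (.lf 0x0) (.lf 0)))) (.nd (.nd (.nd (.lf 0x3c35) (.lf 0x0)) (.nd (.lf 0x0) (.lf 0))) (.nd (.nd (.lf 0x0) (.lf 0x7f30)) (.nd (.lf 0x0) (.lf 0))))))) (.nd (.nd (.nd (.nd (.nd (.nd (.lf 0x0) (.lf 0x2e45)) (.nd (.lf 0x0) (.lf 0))) (.nd (.nd (.lf 0x0) (.lf 0x760e)) (.nd (.lf 0x0) (.lf 0)))) (.nd (.nd (.nd (.lf 0x0) (.lf 0xf53)) (.nd (.lf 0x0) (.lf 0))) (.nd (.nd (.lf 0x0) (.lf 0x1115)) (.nd (.lf 0x0) (.lf 0))))) (.nd (.nd (.nd (.nd (.lf 0x0) (.lf 0x0)) (.nd (.lf 0x0) (.lf 0))) (.nd (.nd (.lf 0x0) (.lf 0x0)) (.nd (.lf 0x0) (.lf 0)))) (.nd (.nd (.nd (.lf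 0x0) (.lf 0x0)) (.nd (.lf 0x0) (.lf 0))) (.nd (.nd (.lf 0x0) (.lf 0x0)) (.nd (.lf 0x0) (.lf 0)))))) (.nd (.nd (.nd (.nd (.nd (.lf 0x0) (.lf 0x1e90)) (.nd (.lf 0x4710) (.lf 0))) (.nd (.nd (.lf 0x0) (.lf 0x0)) (.nd (.lf 0x8475) (.lf 0)))) (.nd (.nd (.nd (.lf 0x0) (.lf 0x0)) (.nd (.lf 0x0) (.lf 0))) (.nd (.nd (.lf 0x58b1) (.lf 0x0)) (.nd (.lf 0x0) (.lf 0))))) (.nd (.nd (.nd (.nd (.lf 0x0) (.lf 0x0)) (.nd (.lf 0x0) (.lf 0))) (.nd (.nd (.lf 0x0) (.lf 0x0)) (.nd (.lf 0x0) (.lf 0)))) (.nd (.nd (.nd (.lf 0x0) (.lf 0x20a9)) (.nd (.lf 0x0) (.lf 0))) (.nd (.nd (.lf 0x0) (.lf 0x7aa6)) (.nd (.lf 0x0) (.lf 0))))))))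
def witB_naabaaa : Tr := (.nd (.nd (.nd (.nd (.nd (.nd (.nd (.lf 0x0) (.lf 0x0)) (.nd (.lf 0x0) (.lf 0x0))) (.nd (.nd (.lf 0x0) (.lf 0x7c06)) (.nd (.lf 0x323e) (.lf 0)))) (.nd (.nd (.nd (.lf 0x0) (.lf 0x0)) (.nd (.lf 0x0) (.lf 0))) (.nd (.nd (.lf 0x0) (.lf 0x18af)) (.nd (.lf 0x0) (.lf 0))))) (.nd (.nd (.nd (.nd (.lf 0x0) (.lf 0x0)) (.nd (.lf 0x0) (.lf 0))) (.nd (.nd (.lf 0x85aa) (.lf 0x0)) (.nd (.lf 0x0) (.lf 0)))) (.nd (.nd (.nd (.lf 0x0) (.lf 0x0)) (.nd (.lf 0x3f1b) (.lf 0))) (.nd (.nd (.lf 0x0) (.lf 0x0)) (.nd (.lf 0x0) (.lf 0)))))) (.nd (.nd (.nd (.nd (.nd (.lf 0x0) (.lf 0x7d40)) (.nd (.lf 0x0) (.lf 0))) (.nd (.nd (.lf 0x0) (.lf 0x7e47)) (.nd (.lf 0x0) (.lf 0)))) (.nd (.nd (.nd (.lf 0x0) (.lf 0x0)) (.nd (.lf 0x0) (.lf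 0))) (.nd (.nd (.lf 0x0) (.lf 0x0)) (.nd (.lf 0x0) (.lf 0))))) (.nd (.nd (.nd (.nd (.lf 0x0) (.lf 0x0)) (.nd (.lf 0x0) (.lf 0))) (.nd (.nd (.lf 0x0) (.lf 0x0)) (.nd (.lf 0x0) (.lf 0)))) (.nd (.nd (.nd (.lf 0x0) (.lf 0x6d6e)) (.nd (.lf 0x0) (.lf 0))) (.nd (.nd (.lf 0x0) (.lf 0x0)) (.nd (.lf 0x0) (.lf 0))))))) (.nd (.nd (.nd (.nd (.nd (.nd (.lf 0x0) (.lf 0x0)) (.nd (.lf 0x2c5f) (.lf 0))) (.nd (.nd (.lf 0x0) (.lf 0x0)) (.nd (.lf 0x0) (.lf 0)))) (.nd (.nd (.nd (.lf 0x0) (.lf 0x0)) (.nd (.lf 0x0) (.lf 0))) (.nd (.nd (.lf 0x0) (.lf 0x0)) (.nd (.lf 0x0) (.lf 0))))) (.nd (.nd (.nd (.nd (.lf 0x0) (.lf 0x28ae)) (.nd (.lf 0x0) (.lf 0))) (.nd (.nd (.lf 0x0) (.lf 0x0)) (.nd (.lf 0x0) (.lf 0)))) (.nd (.nd (.nd (.lf 0x0) (.lf 0x193f)) (.nd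 (.lf 0x0) (.lf 0))) (.nd (.nd (.lf 0x0) (.lf 0x0)) (.nd (.lf 0x0) (.lf 0)))))) (.nd (.nd (.nd (.nd (.nd (.lf 0x0) (.lf 0x0)) (.nd (.lf 0x3e8e) (.lf 0))) (.nd (.nd (.lf 0x0) (.lf 0x0)) (.nd (.lf 0x0) (.lf 0)))) (.nd (.nd (.nd (.lf 0x0) (.lf 0x0)) (.nd (.lf 0x0) (.lf 0))) (.nd (.nd (.lf 0x0) (.lf 0x7d84)) (.nd (.lf 0x0) (.lf 0))))) (.nd (.nd (.nd (.nd (.lf 0x0) (.lf 0x2582)) (.nd (.lf 0x494d) (.lf 0))) (.nd (.nd (.lf 0x0) (.lf 0x2a9e)) (.nd (.lf 0x0) (.lf 0)))) (.nd (.nd (.nd (.lf 0x0) (.lf 0x0)) (.nd (.lf 0x0) (.lf 0))) (.nd (.nd (.lf 0x0) (.lf 0x0)) (.nd (.lf 0x0) (.lf 0))))))))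
def witB_naabaab : Tr := (.nd (.nd (.nd (.nd (.nd (.nd (.nd (.lf 0x0) (.lf 0x0)) (.nd (.lf 0x0) (.lf 0))) (.nd (.nd (.lf 0x4e3c) (.lf 0x0)) (.nd (.lf 0x0) (.lf 0)))) (.nd (.nd (.nd (.lf 0x0) (.lf 0x0)) (.nd (.lf 0x0) (.lf 0))) (.nd (.nd (.lf 0x2890) (.lf 0x690e)) (.nd (.lf 0x0) (.lf 0))))) (.nd (.nd (.nd (.nd (.lf 0x0) (.lf 0x84a3)) (.nd (.lf 0x0) (.lf 0))) (.nd (.nd (.lf 0x0) (.lf 0x526e)) (.nd (.lf 0x0) (.lf 0)))) (.nd (.nd (.nd (.lf 0x0) (.lf 0x0)) (.nd (.lf 0x3d1e) (.lf 0))) (.nd (.nd (.lf 0x0) (.lf 0x4ab2)) (.nd (.lf 0x0) (.lf 0)))))) (.nd (.nd (.nd (.nd (.nd (.lf 0x0) (.lf 0x0)) (.nd (.lf 0x0) (.lf 0))) (.nd (.nd (.lf 0x0) (.lf 0x0)) (.nd (.lf 0x999) (.lf 0)))) (.nd (.nd (.nd (.lf 0x0) (.lf 0x169b)) (.nd (.lf 0x0) (.lf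 0))) (.nd (.nd (.lf 0x7a19) (.lf 0x478e)) (.nd (.lf 0x0) (.lf 0))))) (.nd (.nd (.nd (.nd (.lf 0x0) (.lf 0x0)) (.nd (.lf 0x0) (.lf 0))) (.nd (.nd (.lf 0x0) (.lf 0x0)) (.nd (.lf 0x5604) (.lf 0)))) (.nd (.nd (.nd (.lf 0x0) (.lf 0x8720)) (.nd (.lf 0x0) (.lf 0))) (.nd (.nd (.lf 0x0) (.lf 0x1264)) (.nd (.lf 0x0) (.lf 0))))))) (.nd (.nd (.nd (.nd (.nd (.nd (.lf 0x1769) (.lf 0x0)) (.nd (.lf 0x0) (.lf 0))) (.nd (.nd (.lf 0x0) (.lf 0x0)) (.nd (.lf 0x0) (.lf 0)))) (.nd (.nd (.nd (.lf 0x0) (.lf 0x0)) (.nd (.lf 0x0) (.lf 0))) (.nd (.nd (.lf 0x0) (.lf 0x0)) (.nd (.lf 0x0) (.lf 0))))) (.nd (.nd (.nd (.nd (.lf 0x0) (.lf 0x0)) (.nd (.lf 0x0) (.lf 0))) (.nd (.nd (.lf 0x0) (.lf 0x0)) (.nd (.lf 0x0) (.lf 0)))) (.nd (.nd (.nd (.lf 0x0) (.lf 0x0))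 (.nd (.lf 0x594e) (.lf 0))) (.nd (.nd (.lf 0x0) (.lf 0x1805)) (.nd (.lf 0x0) (.lf 0)))))) (.nd (.nd (.nd (.nd (.nd (.lf 0x0) (.lf 0x0)) (.nd (.lf 0x3a0c) (.lf 0))) (.nd (.nd (.lf 0x0) (.lf 0x0)) (.nd (.lf 0x0) (.lf 0)))) (.nd (.nd (.nd (.lf 0x0) (.lf 0x541)) (.nd (.lf 0x0) (.lf 0))) (.nd (.nd (.lf 0x0) (.lf 0x6cab)) (.nd (.lf 0x0) (.lf 0))))) (.nd (.nd (.nd (.nd (.lf 0x0) (.lf 0x7031)) (.nd (.lf 0x0) (.lf 0))) (.nd (.nd (.lf 0x0) (.lf 0x6179)) (.nd (.lf 0x5a9) (.lf 0)))) (.nd (.nd (.nd (.lf 0x0) (.lf 0x0)) (.nd (.lf 0x5aab) (.lf 0))) (.nd (.nd (.lf 0x0) (.lf 0x4228)) (.nd (.lf 0x8370) (.lf 0))))))))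
def witB_naababa : Tr := (.nd (.nd (.nd (.nd (.nd (.nd (.nd (.lf 0x0) (.lf 0x0)) (.nd (.lf 0x0) (.lf 0))) (.nd (.nd (.lf 0x0) (.lf 0x0)) (.nd (.lf 0x409e) (.lf 0)))) (.nd (.nd (.nd (.lf 0x0) (.lf 0x0)) (.nd (.lf 0xd8e) (.lf 0))) (.nd (.nd (.lf 0x0) (.lf 0x0)) (.nd (.lf 0x0) (.lf 0))))) (.nd (.nd (.nd (.nd (.lf 0x0) (.lf 0x5d3c)) (.nd (.lf 0x0) (.lf 0))) (.nd (.nd (.lf 0x0) (.lf 0x33f)) (.nd (.lf 0x0) (.lf 0)))) (.nd (.nd (.nd (.lf 0x0) (.lf 0x0)) (.nd (.lf 0x6a0a) (.lf 0))) (.nd (.nd (.lf 0x0) (.lf 0x274d)) (.nd (.lf 0x0) (.lf 0)))))) (.nd (.nd (.nd (.nd (.nd (.lf 0x0) (.lf 0x0)) (.nd (.lf 0x0) (.lf 0))) (.nd (.nd (.lf 0x0) (.lf 0x23a2)) (.nd (.lf 0x0) (.lf 0)))) (.nd (.nd (.nd (.lf 0x0) (.lf 0x0)) (.nd (.lf 0x0) (.lf 0)))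 (.nd (.nd (.lf 0x0) (.lf 0x3eae)) (.nd (.lf 0x0) (.lf 0))))) (.nd (.nd (.nd (.nd (.lf 0x0) (.lf 0x780)) (.nd (.lf 0x0) (.lf 0))) (.nd (.nd (.lf 0x0) (.lf 0x1739)) (.nd (.lf 0x0) (.lf 0)))) (.nd (.nd (.nd (.lf 0x0) (.lf 0x6ca0)) (.nd (.lf 0x0) (.lf 0))) (.nd (.nd (.lf 0x0) (.lf 0x0)) (.nd (.lf 0x7a7a) (.lf 0))))))) (.nd (.nd (.nd (.nd (.nd (.nd (.lf 0x0) (.lf 0x0)) (.nd (.lf 0x0) (.lf 0))) (.nd (.nd (.lf 0x5d29) (.lf 0x0)) (.nd (.lf 0x0) (.lf 0)))) (.nd (.nd (.nd (.lf 0x0) (.lf 0x0)) (.nd (.lf 0x0) (.lf 0))) (.nd (.nd (.lf 0x0) (.lf 0xe00)) (.nd (.lf 0x0) (.lf 0))))) (.nd (.nd (.nd (.nd (.lf 0x0) (.lf 0x5549)) (.nd (.lf 0x0) (.lf 0))) (.nd (.nd (.lf 0x0) (.lf 0x664d)) (.nd (.lf 0x605a) (.lf 0)))) (.nd (.nd (.nd (.lf 0x0) (.lf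 0x7d30)) (.nd (.lf 0x0) (.lf 0))) (.nd (.nd (.lf 0x0) (.lf 0x0)) (.nd (.lf 0x0) (.lf 0)))))) (.nd (.nd (.nd (.nd (.nd (.lf 0x0) (.lf 0x0)) (.nd (.lf 0x0) (.lf 0))) (.nd (.nd (.lf 0x5065) (.lf 0x0)) (.nd (.lf 0x0) (.lf 0)))) (.nd (.nd (.nd (.lf 0x0) (.lf 0x2f44)) (.nd (.lf 0x0) (.lf 0))) (.nd (.nd (.lf 0x0) (.lf 0x5293)) (.nd (.lf 0x0) (.lf 0))))) (.nd (.nd (.nd (.nd (.lf 0x0) (.lf 0x0)) (.nd (.lf 0x0) (.lf 0))) (.nd (.nd (.lf 0x0) (.lf 0x471b)) (.nd (.lf 0x0) (.lf 0)))) (.nd (.nd (.nd (.lf 0x0) (.lf 0xc50)) (.nd (.lf 0x0) (.lf 0))) (.nd (.nd (.lf 0x0) (.lf 0x0)) (.nd (.lf 0x0) (.lf 0))))))))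
def witB_naababb : Tr := (.nd (.nd (.nd (.nd (.nd (.nd (.nd (.lf 0x0) (.lf 0x440)) (.nd (.lf 0x6d4f) (.lf 0))) (.nd (.nd (.lf 0x0) (.lf 0x0)) (.nd (.lf 0xf5c) (.lf 0)))) (.nd (.nd (.nd (.lf 0x0) (.lf 0x0)) (.nd (.lf 0x0) (.lf 0))) (.nd (.nd (.lf 0x0) (.lf 0x377f)) (.nd (.lf 0x0) (.lf 0))))) (.nd (.nd (.nd (.nd (.lf 0x0) (.lf 0x609a)) (.nd (.lf 0x0) (.lf 0))) (.nd (.nd (.lf 0x0) (.lf 0x0)) (.nd (.lf 0x4401) (.lf 0)))) (.nd (.nd (.nd (.lf 0x585e) (.lf 0x0)) (.nd (.lf 0x3d5f) (.lf 0))) (.nd (.nd (.lf 0x2a1) (.lf 0x3902)) (.nd (.lf 0x2f24) (.lf 0)))))) (.nd (.nd (.nd (.nd (.nd (.lf 0x0) (.lf 0x0)) (.nd (.lf 0x6c7a) (.lf 0))) (.nd (.nd (.lf 0x0) (.lf 0x0)) (.nd (.lf 0x0) (.lf 0)))) (.nd (.nd (.nd (.lf 0x0) (.lf 0x6e07)) (.nd (.lf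 0x0) (.lf 0))) (.nd (.nd (.lf 0x0) (.lf 0x1263)) (.nd (.lf 0x0) (.lf 0))))) (.nd (.nd (.nd (.nd (.lf 0x0) (.lf 0x0)) (.nd (.lf 0x0) (.lf 0))) (.nd (.nd (.lf 0x0) (.lf 0x0)) (.nd (.lf 0x0) (.lf 0)))) (.nd (.nd (.nd (.lf 0x0) (.lf 0x402c)) (.nd (.lf 0x0) (.lf 0))) (.nd (.nd (.lf 0x0) (.lf 0x5f47)) (.nd (.lf 0x4ab) (.lf 0))))))) (.nd (.nd (.nd (.nd (.nd (.nd (.lf 0x0) (.lf 0x0)) (.nd (.lf 0x0) (.lf 0))) (.nd (.nd (.lf 0x0) (.lf 0x1083)) (.nd (.lf 0x0) (.lf 0)))) (.nd (.nd (.nd (.lf 0x0) (.lf 0x0)) (.nd (.lf 0x0) (.lf 0))) (.nd (.nd (.lf 0x0) (.lf 0x2d10)) (.nd (.lf 0x0) (.lf 0))))) (.nd (.nd (.nd (.nd (.lf 0x0) (.lf 0x862a)) (.nd (.lf 0xa5e) (.lf 0))) (.nd (.nd (.lf 0x0) (.lf 0x0)) (.nd (.lf 0x0) (.lf 0)))) (.nd (.nd (.nd (.lf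 0x0) (.lf 0x4046)) (.nd (.lf 0x0) (.lf 0))) (.nd (.nd (.lf 0x0) (.lf 0x2613)) (.nd (.lf 0x0) (.lf 0)))))) (.nd (.nd (.nd (.nd (.nd (.lf 0x0) (.lf 0x0)) (.nd (.lf 0x0) (.lf 0))) (.nd (.nd (.lf 0x0) (.lf 0x27b)) (.nd (.lf 0x0) (.lf 0)))) (.nd (.nd (.nd (.lf 0x0) (.lf 0x0)) (.nd (.lf 0x0) (.lf 0))) (.nd (.nd (.lf 0x0) (.lf 0x2872)) (.nd (.lf 0x462f) (.lf 0))))) (.nd (.nd (.nd (.nd (.lf 0x0) (.lf 0x0)) (.nd (.lf 0x0) (.lf 0))) (.nd (.nd (.lf 0x0) (.lf 0x0)) (.nd (.lf 0x16c) (.lf 0)))) (.nd (.nd (.nd (.lf 0x0) (.lf 0x0)) (.nd (.lf 0x7406) (.lf 0))) (.nd (.nd (.lf 0x0) (.lf 0x0)) (.nd (.lf 0x0) (.lf 0))))))))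
def witB_naabbaa : Tr := (.nd (.nd (.nd (.nd (.nd (.nd (.nd (.lf 0x0) (.lf 0x0)) (.nd (.lf 0x0) (.lf 0))) (.nd (.nd (.lf 0x0) (.lf 0x98f)) (.nd (.lf 0x4906) (.lf 0)))) (.nd (.nd (.nd (.lf 0x0) (.lf 0x0)) (.nd (.lf 0x0) (.lf 0))) (.nd (.nd (.lf 0x0) (.lf 0x0)) (.nd (.lf 0x0) (.lf 0))))) (.nd (.nd (.nd (.nd (.lf 0x0) (.lf 0x1e03)) (.nd (.lf 0x0) (.lf 0))) (.nd (.nd (.lf 0x0) (.lf 0x5482)) (.nd (.lf 0x0) (.lf 0)))) (.nd (.nd (.nd (.lf 0x0) (.lf 0x124e)) (.nd (.lf 0x2766) (.lf 0))) (.nd (.nd (.lf 0x0) (.lf 0x0)) (.nd (.lf 0x52ac) (.lf 0)))))) (.nd (.nd (.nd (.nd (.nd (.lf 0x0) (.lf 0x0)) (.nd (.lf 0x0) (.lf 0))) (.nd (.nd (.lf 0x0) (.lf 0x0)) (.nd (.lf 0x0) (.lf 0)))) (.nd (.nd (.nd (.lf 0x0) (.lf 0x0)) (.nd (.lf 0x0) (.lf 0)))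 (.nd (.nd (.lf 0x0) (.lf 0x177d)) (.nd (.lf 0x96e) (.lf 0))))) (.nd (.nd (.nd (.nd (.lf 0x0) (.lf 0x0)) (.nd (.lf 0x6153) (.lf 0))) (.nd (.nd (.lf 0x0) (.lf 0x0)) (.nd (.lf 0x0) (.lf 0)))) (.nd (.nd (.nd (.lf 0x0) (.lf 0x0)) (.nd (.lf 0x197a) (.lf 0))) (.nd (.nd (.lf 0x0) (.lf 0x0)) (.nd (.lf 0x0) (.lf 0))))))) (.nd (.nd (.nd (.nd (.nd (.nd (.lf 0x0) (.lf 0x0)) (.nd (.lf 0x0) (.lf 0))) (.nd (.nd (.lf 0x0) (.lf 0x4ca6)) (.nd (.lf 0x0) (.lf 0)))) (.nd (.nd (.nd (.lf 0x0) (.lf 0x0)) (.nd (.lf 0x0) (.lf 0))) (.nd (.nd (.lf 0x0) (.lf 0x0)) (.nd (.lf 0x0) (.lf 0))))) (.nd (.nd (.nd (.nd (.lf 0x0) (.lf 0xf63)) (.nd (.lf 0x0) (.lf 0))) (.nd (.nd (.lf 0x0) (.lf 0x0)) (.nd (.lf 0x0) (.lf 0)))) (.nd (.nd (.nd (.lf 0x0) (.lf 0x0)) (.nd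 (.lf 0x0) (.lf 0))) (.nd (.nd (.lf 0x0) (.lf 0x0)) (.nd (.lf 0x42a8) (.lf 0)))))) (.nd (.nd (.nd (.nd (.nd (.lf 0x0) (.lf 0x0)) (.nd (.lf 0x0) (.lf 0))) (.nd (.nd (.lf 0x0) (.lf 0x0)) (.nd (.lf 0x0) (.lf 0)))) (.nd (.nd (.nd (.lf 0x0) (.lf 0x6268)) (.nd (.lf 0x0) (.lf 0))) (.nd (.nd (.lf 0x0) (.lf 0x0)) (.nd (.lf 0x0) (.lf 0))))) (.nd (.nd (.nd (.nd (.lf 0x0) (.lf 0x0)) (.nd (.lf 0x0) (.lf 0))) (.nd (.nd (.lf 0x6e46) (.lf 0x0)) (.nd (.lf 0x0) (.lf 0)))) (.nd (.nd (.nd (.lf 0x0) (.lf 0x7957)) (.nd (.lf 0x3e2d) (.lf 0))) (.nd (.nd (.lf 0x0) (.lf 0x643c)) (.nd (.lf 0x0) (.lf 0))))))))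
def witB_naabbab : Tr := (.nd (.nd (.nd (.nd (.nd (.nd (.nd (.lf 0x0) (.lf 0x0)) (.nd (.lf 0x0) (.lf 0))) (.nd (.nd (.lf 0x0) (.lf 0x184)) (.nd (.lf 0x0) (.lf 0)))) (.nd (.nd (.nd (.lf 0x0) (.lf 0x7a8f)) (.nd (.lf 0x0) (.lf 0))) (.nd (.nd (.lf 0x0) (.lf 0x0)) (.nd (.lf 0x0) (.lf 0))))) (.nd (.nd (.nd (.nd (.lf 0x0) (.lf 0x3a41)) (.nd (.lf 0x0) (.lf 0))) (.nd (.nd (.lf 0x0) (.lf 0x753e)) (.nd (.lf 0x61ab) (.lf 0)))) (.nd (.nd (.nd (.lf 0x0) (.lf 0xc31)) (.nd (.lf 0x0) (.lf 0))) (.nd (.nd (.lf 0x0) (.lf 0x0)) (.nd (.lf 0x5636) (.lf 0)))))) (.nd (.nd (.nd (.nd (.nd (.lf 0x0) (.lf 0x0)) (.nd (.lf 0x0) (.lf 0))) (.nd (.nd (.lf 0x2824) (.lf 0x0)) (.nd (.lf 0x0) (.lf 0)))) (.nd (.nd (.nd (.lf 0x0) (.lf 0x0)) (.nd (.lf 0x0) (.lf 0)))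 (.nd (.nd (.lf 0x0) (.lf 0x1a87)) (.nd (.lf 0x0) (.lf 0))))) (.nd (.nd (.nd (.nd (.lf 0x0) (.lf 0x0)) (.nd (.lf 0x0) (.lf 0))) (.nd (.nd (.lf 0x0) (.lf 0x0)) (.nd (.lf 0x0) (.lf 0)))) (.nd (.nd (.nd (.lf 0x0) (.lf 0x90)) (.nd (.lf 0x0) (.lf 0))) (.nd (.nd (.lf 0x0) (.lf 0x0)) (.nd (.lf 0x0) (.lf 0))))))) (.nd (.nd (.nd (.nd (.nd (.nd (.lf 0x0) (.lf 0x0)) (.nd (.lf 0x0) (.lf 0))) (.nd (.nd (.lf 0x0) (.lf 0x0)) (.nd (.lf 0x0) (.lf 0)))) (.nd (.nd (.nd (.lf 0x0) (.lf 0x6d1a)) (.nd (.lf 0x0) (.lf 0))) (.nd (.nd (.lf 0x0) (.lf 0x0)) (.nd (.lf 0x0) (.lf 0))))) (.nd (.nd (.nd (.nd (.lf 0x0) (.lf 0x0)) (.nd (.lf 0x0) (.lf 0))) (.nd (.nd (.lf 0x0) (.lf 0x0)) (.nd (.lf 0x0) (.lf 0)))) (.nd (.nd (.nd (.lf 0x0) (.lf 0x0)) (.nd (.lf 0x0)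 (.lf 0))) (.nd (.nd (.lf 0x0) (.lf 0x5342)) (.nd (.lf 0x0) (.lf 0)))))) (.nd (.nd (.nd (.nd (.nd (.lf 0x0) (.lf 0x0)) (.nd (.lf 0x6e9f) (.lf 0))) (.nd (.nd (.lf 0x0) (.lf 0x0)) (.nd (.lf 0x0) (.lf 0)))) (.nd (.nd (.nd (.lf 0x0) (.lf 0x0)) (.nd (.lf 0x0) (.lf 0))) (.nd (.nd (.lf 0x0) (.lf 0x5119)) (.nd (.lf 0x0) (.lf 0))))) (.nd (.nd (.nd (.nd (.lf 0x0) (.lf 0x2184)) (.nd (.lf 0x0) (.lf 0))) (.nd (.nd (.lf 0x0) (.lf 0x0)) (.nd (.lf 0x450c) (.lf 0)))) (.nd (.nd (.nd (.lf 0x0) (.lf 0x0)) (.nd (.lf 0x5252) (.lf 0))) (.nd (.nd (.lf 0x0) (.lf 0x0)) (.nd (.lf 0x0) (.lf 0))))))))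
def witB_naabbba : Tr := (.nd (.nd (.nd (.nd (.nd (.nd (.nd (.lf 0x0) (.lf 0x0)) (.nd (.lf 0x458) (.lf 0))) (.nd (.nd (.lf 0x0) (.lf 0x3f8d)) (.nd (.lf 0x4c29) (.lf 0)))) (.nd (.nd (.nd (.lf 0x0) (.lf 0x0)) (.nd (.lf 0x0) (.lf 0))) (.nd (.nd (.lf 0x0) (.lf 0x0)) (.nd (.lf 0x0) (.lf 0))))) (.nd (.nd (.nd (.nd (.lf 0x0) (.lf 0x0)) (.nd (.lf 0x0) (.lf 0))) (.nd (.nd (.lf 0x16b) (.lf 0x1601)) (.nd (.lf 0x0) (.lf 0)))) (.nd (.nd (.nd (.lf 0x0) (.lf 0x3f3a)) (.nd (.lf 0x0) (.lf 0))) (.nd (.nd (.lf 0x0) (.lf 0x0)) (.nd (.lf 0x276b) (.lf 0)))))) (.nd (.nd (.nd (.nd (.nd (.lf 0x658e) (.lf 0x2864)) (.nd (.lf 0x0) (.lf 0))) (.nd (.nd (.lf 0x0) (.lf 0x0)) (.nd (.lf 0x3115) (.lf 0)))) (.nd (.nd (.nd (.lf 0x0) (.lf 0x0)) (.nd (.lf 0x0)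 (.lf 0))) (.nd (.nd (.lf 0x0) (.lf 0x4f89)) (.nd (.lf 0x0) (.lf 0))))) (.nd (.nd (.nd (.nd (.lf 0x0) (.lf 0x0)) (.nd (.lf 0x0) (.lf 0))) (.nd (.nd (.lf 0x0) (.lf 0x0)) (.nd (.lf 0x1513) (.lf 0)))) (.nd (.nd (.nd (.lf 0x0) (.lf 0x811e)) (.nd (.lf 0x0) (.lf 0))) (.nd (.nd (.lf 0x0) (.lf 0x0)) (.nd (.lf 0x5340) (.lf 0))))))) (.nd (.nd (.nd (.nd (.nd (.nd (.lf 0x0) (.lf 0x7c97)) (.nd (.lf 0x2d16) (.lf 0))) (.nd (.nd (.lf 0x0) (.lf 0x0)) (.nd (.lf 0x0) (.lf 0)))) (.nd (.nd (.nd (.lf 0x0) (.lf 0x47b3)) (.nd (.lf 0x0) (.lf 0))) (.nd (.nd (.lf 0x0) (.lf 0x0)) (.nd (.lf 0x0) (.lf 0))))) (.nd (.nd (.nd (.nd (.lf 0x0) (.lf 0x0)) (.nd (.lf 0x0) (.lf 0))) (.nd (.nd (.lf 0x0) (.lf 0x0)) (.nd (.lf 0x0) (.lf 0)))) (.nd (.nd (.nd (.lf 0x0)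 (.lf 0x6d3e)) (.nd (.lf 0x0) (.lf 0))) (.nd (.nd (.lf 0x541e) (.lf 0x1628)) (.nd (.lf 0x0) (.lf 0)))))) (.nd (.nd (.nd (.nd (.nd (.lf 0x0) (.lf 0x8144)) (.nd (.lf 0x0) (.lf 0))) (.nd (.nd (.lf 0x854d) (.lf 0x0)) (.nd (.lf 0x0) (.lf 0)))) (.nd (.nd (.nd (.lf 0x0) (.lf 0x848d)) (.nd (.lf 0x0) (.lf 0))) (.nd (.nd (.lf 0x8672) (.lf 0x6316)) (.nd (.lf 0x0) (.lf 0))))) (.nd (.nd (.nd (.nd (.lf 0x0) (.lf 0x5aa7)) (.nd (.lf 0x3e42) (.lf 0))) (.nd (.nd (.lf 0x0) (.lf 0x0)) (.nd (.lf 0x0) (.lf 0)))) (.nd (.nd (.nd (.lf 0x0) (.lf 0x0)) (.nd (.lf 0x0) (.lf 0))) (.nd (.nd (.lf 0x0) (.lf 0x13af)) (.nd (.lf 0x0) (.lf 0))))))))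
def witB_naabbbb : Tr := (.nd (.nd (.nd (.nd (.nd (.nd (.nd (.lf 0x0) (.lf 0x0)) (.nd (.lf 0x0) (.lf 0))) (.nd (.nd (.lf 0x0) (.lf 0x2798)) (.nd (.lf 0x0) (.lf 0)))) (.nd (.nd (.nd (.lf 0x0) (.lf 0x0)) (.nd (.lf 0x0) (.lf 0))) (.nd (.nd (.lf 0x0) (.lf 0x0)) (.nd (.lf 0x0) (.lf 0))))) (.nd (.nd (.nd (.nd (.lf 0x0) (.lf 0x4f13)) (.nd (.lf 0x0) (.lf 0))) (.nd (.nd (.lf 0x0) (.lf 0x0)) (.nd (.lf 0x637b) (.lf 0)))) (.nd (.nd (.nd (.lf 0x0) (.lf 0x2440)) (.nd (.lf 0x0) (.lf 0))) (.nd (.nd (.lf 0x0) (.lf 0x0)) (.nd (.lf 0x0) (.lf 0)))))) (.nd (.nd (.nd (.nd (.nd (.lf 0x0) (.lf 0x37f)) (.nd (.lf 0x0) (.lf 0))) (.nd (.nd (.lf 0x0) (.lf 0x6c45)) (.nd (.lf 0x0) (.lf 0)))) (.nd (.nd (.nd (.lf 0x0) (.lf 0x0)) (.nd (.lf 0x0) (.lf 0))) (.nd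 (.nd (.lf 0x0) (.lf 0x2595)) (.nd (.lf 0x7416) (.lf 0))))) (.nd (.nd (.nd (.nd (.lf 0x0) (.lf 0x0)) (.nd (.lf 0x0) (.lf 0))) (.nd (.nd (.lf 0x0) (.lf 0x0)) (.nd (.lf 0x0) (.lf 0)))) (.nd (.nd (.nd (.lf 0x0) (.lf 0x0)) (.nd (.lf 0x5b27) (.lf 0))) (.nd (.nd (.lf 0x5d6c) (.lf 0x1644)) (.nd (.lf 0x0) (.lf 0))))))) (.nd (.nd (.nd (.nd (.nd (.nd (.lf 0x0) (.lf 0x0)) (.nd (.lf 0x0) (.lf 0))) (.nd (.nd (.lf 0x0) (.lf 0x0)) (.nd (.lf 0x0) (.lf 0)))) (.nd (.nd (.nd (.lf 0x1f64) (.lf 0x0)) (.nd (.lf 0x0) (.lf 0))) (.nd (.nd (.lf 0x0) (.lf 0x0)) (.nd (.lf 0x0) (.lf 0))))) (.nd (.nd (.nd (.nd (.lf 0x0) (.lf 0x474c)) (.nd (.lf 0x0) (.lf 0))) (.nd (.nd (.lf 0x0) (.lf 0x580b)) (.nd (.lf 0x0) (.lf 0)))) (.nd (.nd (.nd (.lf 0x0) (.lf 0x0))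 (.nd (.lf 0x0) (.lf 0))) (.nd (.nd (.lf 0x0) (.lf 0x0)) (.nd (.lf 0x0) (.lf 0)))))) (.nd (.nd (.nd (.nd (.nd (.lf 0x0) (.lf 0x0)) (.nd (.lf 0x0) (.lf 0))) (.nd (.nd (.lf 0x0) (.lf 0x0)) (.nd (.lf 0x77ac) (.lf 0)))) (.nd (.nd (.nd (.lf 0x0) (.lf 0x0)) (.nd (.lf 0x1560) (.lf 0))) (.nd (.nd (.lf 0x0) (.lf 0x0)) (.nd (.lf 0x4a76) (.lf 0))))) (.nd (.nd (.nd (.nd (.lf 0x0) (.lf 0x0)) (.nd (.lf 0x0) (.lf 0))) (.nd (.nd (.lf 0x0) (.lf 0x6525)) (.nd (.lf 0x0) (.lf 0)))) (.nd (.nd (.nd (.lf 0x0) (.lf 0x0)) (.nd (.lf 0x0) (.lf 0))) (.nd (.nd (.lf 0x0) (.lf 0x0)) (.nd (.lf 0x0) (.lf 0))))))))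
def witB_nabaaaa : Tr := (.nd (.nd (.nd (.nd (.nd (.nd (.nd (.lf 0x0) (.lf 0x8779)) (.nd (.lf 0x0) (.lf 0x2ea3))) (.nd (.nd (.lf 0x0) (.lf 0x0)) (.nd (.lf 0x0) (.lf 0)))) (.nd (.nd (.nd (.lf 0x0) (.lf 0x0)) (.nd (.lf 0x0) (.lf 0))) (.nd (.nd (.lf 0x0) (.lf 0x1a62)) (.nd (.lf 0x0) (.lf 0))))) (.nd (.nd (.nd (.nd (.lf 0x0) (.lf 0x0)) (.nd (.lf 0x0) (.lf 0))) (.nd (.nd (.lf 0x0) (.lf 0x7128)) (.nd (.lf 0x0) (.lf 0)))) (.nd (.nd (.nd (.lf 0x0) (.lf 0x7aa8)) (.nd (.lf 0x0) (.lf 0))) (.nd (.nd (.lf 0x0) (.lf 0x101d)) (.nd (.lf 0x0) (.lf 0)))))) (.nd (.nd (.nd (.nd (.nd (.lf 0x0) (.lf 0x3d6e)) (.nd (.lf 0x0) (.lf 0))) (.nd (.nd (.lf 0x0) (.lf 0x0)) (.nd (.lf 0x6d9c) (.lf 0)))) (.nd (.nd (.nd (.lf 0x0) (.lf 0x53a6)) (.nd (.lf 0x0)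 (.lf 0))) (.nd (.nd (.lf 0x0) (.lf 0x0)) (.nd (.lf 0x0) (.lf 0))))) (.nd (.nd (.nd (.nd (.lf 0x0) (.lf 0x0)) (.nd (.lf 0x0) (.lf 0))) (.nd (.nd (.lf 0x0) (.lf 0x0)) (.nd (.lf 0x4892) (.lf 0)))) (.nd (.nd (.nd (.lf 0x0) (.lf 0x0)) (.nd (.lf 0x261e) (.lf 0))) (.nd (.nd (.lf 0x0) (.lf 0x0)) (.nd (.lf 0x0) (.lf 0))))))) (.nd (.nd (.nd (.nd (.nd (.nd (.lf 0x0) (.lf 0x0)) (.nd (.lf 0x0) (.lf 0))) (.nd (.nd (.lf 0x0) (.lf 0x1527)) (.nd (.lf 0x0) (.lf 0)))) (.nd (.nd (.nd (.lf 0x0) (.lf 0x850b)) (.nd (.lf 0x7b9d) (.lf 0))) (.nd (.nd (.lf 0x0) (.lf 0x7475)) (.nd (.lf 0x0) (.lf 0))))) (.nd (.nd (.nd (.nd (.lf 0x0) (.lf 0x2c1e)) (.nd (.lf 0x0) (.lf 0))) (.nd (.nd (.lf 0x0) (.lf 0x1d47)) (.nd (.lf 0x0) (.lf 0)))) (.nd (.nd (.nd (.lf 0x0)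 (.lf 0x54a8)) (.nd (.lf 0xa8e) (.lf 0))) (.nd (.nd (.lf 0x0) (.lf 0x0)) (.nd (.lf 0x0) (.lf 0)))))) (.nd (.nd (.nd (.nd (.nd (.lf 0x0) (.lf 0x0)) (.nd (.lf 0x0) (.lf 0))) (.nd (.nd (.lf 0x0) (.lf 0x5c33)) (.nd (.lf 0x0) (.lf 0)))) (.nd (.nd (.nd (.lf 0x0) (.lf 0x0)) (.nd (.lf 0x0) (.lf 0))) (.nd (.nd (.lf 0x0) (.lf 0x766f)) (.nd (.lf 0x0) (.lf 0))))) (.nd (.nd (.nd (.nd (.lf 0x0) (.lf 0x0)) (.nd (.lf 0x0) (.lf 0))) (.nd (.nd (.lf 0x0) (.lf 0x0)) (.nd (.lf 0x0) (.lf 0)))) (.nd (.nd (.nd (.lf 0x0) (.lf 0x3095)) (.nd (.lf 0x2c8b) (.lf 0))) (.nd (.nd (.lf 0x0) (.lf 0x0)) (.nd (.lf 0x0) (.lf 0))))))))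
def witB_nabaaab : Tr := (.nd (.nd (.nd (.nd (.nd (.nd (.nd (.lf 0x0) (.lf 0x0)) (.nd (.lf 0x0) (.lf 0))) (.nd (.nd (.lf 0x0) (.lf 0x0)) (.nd (.lf 0x0) (.lf 0)))) (.nd (.nd (.nd (.lf 0x0) (.lf 0x0)) (.nd (.lf 0x0) (.lf 0))) (.nd (.nd (.lf 0x0) (.lf 0x2b92)) (.nd (.lf 0x11a4) (.lf 0))))) (.nd (.nd (.nd (.nd (.lf 0x0) (.lf 0x0)) (.nd (.lf 0x0) (.lf 0))) (.nd (.nd (.lf 0x0) (.lf 0x0)) (.nd (.lf 0x259d) (.lf 0)))) (.nd (.nd (.nd (.lf 0x0) (.lf 0x0)) (.nd (.lf 0x0) (.lf 0))) (.nd (.nd (.lf 0x0) (.lf 0x0)) (.nd (.lf 0x0) (.lf 0)))))) (.nd (.nd (.nd (.nd (.nd (.lf 0x0) (.lf 0x0)) (.nd (.lf 0x0) (.lf 0))) (.nd (.nd (.lf 0x0) (.lf 0x4b7b)) (.nd (.lf 0x0) (.lf 0)))) (.nd (.nd (.nd (.lf 0x0) (.lf 0x0)) (.nd (.lf 0x0) (.lf 0))) (.nd (.nd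 (.lf 0x0) (.lf 0x3e7d)) (.nd (.lf 0x0) (.lf 0))))) (.nd (.nd (.nd (.nd (.lf 0x0) (.lf 0x0)) (.nd (.lf 0x0) (.lf 0))) (.nd (.nd (.lf 0x0) (.lf 0x707e)) (.nd (.lf 0x0) (.lf 0)))) (.nd (.nd (.nd (.lf 0x0) (.lf 0x0)) (.nd (.lf 0x0) (.lf 0))) (.nd (.nd (.lf 0x0) (.lf 0x79c)) (.nd (.lf 0x307e) (.lf 0))))))) (.nd (.nd (.nd (.nd (.nd (.nd (.lf 0x0) (.lf 0x0)) (.nd (.lf 0x0) (.lf 0))) (.nd (.nd (.lf 0x0) (.lf 0x0)) (.nd (.lf 0x0) (.lf 0)))) (.nd (.nd (.nd (.lf 0x0) (.lf 0x1885)) (.nd (.lf 0x0) (.lf 0))) (.nd (.nd (.lf 0x4962) (.lf 0x0)) (.nd (.lf 0x0) (.lf 0))))) (.nd (.nd (.nd (.nd (.lf 0x0) (.lf 0x0)) (.nd (.lf 0x0) (.lf 0))) (.nd (.nd (.lf 0x0) (.lf 0x0)) (.nd (.lf 0x0) (.lf 0)))) (.nd (.nd (.nd (.lf 0x0) (.lf 0x382b)) (.nd (.lf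 0x0) (.lf 0))) (.nd (.nd (.lf 0x0) (.lf 0x5035)) (.nd (.lf 0x0) (.lf 0)))))) (.nd (.nd (.nd (.nd (.nd (.lf 0x0) (.lf 0x7b91)) (.nd (.lf 0x0) (.lf 0))) (.nd (.nd (.lf 0x0) (.lf 0x0)) (.nd (.lf 0x0) (.lf 0)))) (.nd (.nd (.nd (.lf 0x0) (.lf 0x199e)) (.nd (.lf 0x0) (.lf 0))) (.nd (.nd (.lf 0x0) (.lf 0x0)) (.nd (.lf 0x782e) (.lf 0))))) (.nd (.nd (.nd (.nd (.lf 0x0) (.lf 0x4657)) (.nd (.lf 0x0) (.lf 0))) (.nd (.nd (.lf 0x0) (.lf 0x7287)) (.nd (.lf 0x4d2c) (.lf 0)))) (.nd (.nd (.nd (.lf 0x0) (.lf 0x0)) (.nd (.lf 0x4d95) (.lf 0))) (.nd (.nd (.lf 0x0) (.lf 0x646d)) (.nd (.lf 0x0) (.lf 0))))))))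
def witB_nabaaba : Tr := (.nd (.nd (.nd (.nd (.nd (.nd (.nd (.lf 0x0) (.lf 0x51a6)) (.nd (.lf 0x0) (.lf 0))) (.nd (.nd (.lf 0x0) (.lf 0x7d09)) (.nd (.lf 0x0) (.lf 0)))) (.nd (.nd (.nd (.lf 0x0) (.lf 0x5045)) (.nd (.lf 0x0) (.lf 0))) (.nd (.nd (.lf 0x0) (.lf 0x0)) (.nd (.lf 0x0) (.lf 0))))) (.nd (.nd (.nd (.nd (.lf 0x0) (.lf 0x0)) (.nd (.lf 0x0) (.lf 0))) (.nd (.nd (.lf 0x0) (.lf 0x0)) (.nd (.lf 0x5e8a) (.lf 0)))) (.nd (.nd (.nd (.lf 0x0) (.lf 0x0)) (.nd (.lf 0x0) (.lf 0))) (.nd (.nd (.lf 0x0) (.lf 0x0)) (.nd (.lf 0x0) (.lf 0)))))) (.nd (.nd (.nd (.nd (.nd (.lf 0x0) (.lf 0x7a47)) (.nd (.lf 0x0) (.lf 0))) (.nd (.nd (.lf 0x0) (.lf 0x0)) (.nd (.lf 0x0) (.lf 0)))) (.nd (.nd (.nd (.lf 0x0) (.lf 0x0)) (.nd (.lf 0x0) (.lf 0))) (.nd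 (.nd (.lf 0x0) (.lf 0x0)) (.nd (.lf 0x795a) (.lf 0))))) (.nd (.nd (.nd (.nd (.lf 0x0) (.lf 0x807d)) (.nd (.lf 0x0) (.lf 0))) (.nd (.nd (.lf 0x0) (.lf 0x0)) (.nd (.lf 0x0) (.lf 0)))) (.nd (.nd (.nd (.lf 0x0) (.lf 0x0)) (.nd (.lf 0x0) (.lf 0))) (.nd (.nd (.lf 0x0) (.lf 0x0)) (.nd (.lf 0x0) (.lf 0))))))) (.nd (.nd (.nd (.nd (.nd (.nd (.lf 0x0) (.lf 0x0)) (.nd (.lf 0x0) (.lf 0))) (.nd (.nd (.lf 0x0) (.lf 0x4c57)) (.nd (.lf 0x0) (.lf 0)))) (.nd (.nd (.nd (.lf 0x0) (.lf 0x1b16)) (.nd (.lf 0x0) (.lf 0))) (.nd (.nd (.lf 0x0) (.lf 0x0)) (.nd (.lf 0x6fa1) (.lf 0))))) (.nd (.nd (.nd (.nd (.lf 0x0) (.lf 0x0)) (.nd (.lf 0x0) (.lf 0))) (.nd (.nd (.lf 0x0) (.lf 0x0)) (.nd (.lf 0x0) (.lf 0)))) (.nd (.nd (.nd (.lf 0x0) (.lf 0x0)) (.nd (.lf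 0x4011) (.lf 0))) (.nd (.nd (.lf 0x0) (.lf 0x2c5f)) (.nd (.lf 0x0) (.lf 0)))))) (.nd (.nd (.nd (.nd (.nd (.lf 0x0) (.lf 0x0)) (.nd (.lf 0x0) (.lf 0))) (.nd (.nd (.lf 0x0) (.lf 0x1022)) (.nd (.lf 0x0) (.lf 0)))) (.nd (.nd (.nd (.lf 0x0) (.lf 0x0)) (.nd (.lf 0x0) (.lf 0))) (.nd (.nd (.lf 0x0) (.lf 0x0)) (.nd (.lf 0x3356) (.lf 0))))) (.nd (.nd (.nd (.nd (.lf 0x0) (.lf 0x0)) (.nd (.lf 0x0) (.lf 0))) (.nd (.nd (.lf 0x111d) (.lf 0xb32)) (.nd (.lf 0x2a98) (.lf 0)))) (.nd (.nd (.nd (.lf 0x0) (.lf 0x0)) (.nd (.lf 0x0) (.lf 0))) (.nd (.nd (.lf 0x0) (.lf 0x0)) (.nd (.lf 0x466b) (.lf 0))))))))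
def witB_nabaabb : Tr := (.nd (.nd (.nd (.nd (.nd (.nd (.nd (.lf 0x0) (.lf 0x0)) (.nd (.lf 0x0) (.lf 0))) (.nd (.nd (.lf 0x0) (.lf 0x0)) (.nd (.lf 0x0) (.lf 0)))) (.nd (.nd (.nd (.lf 0x0) (.lf 0x0)) (.nd (.lf 0x0) (.lf 0))) (.nd (.nd (.lf 0x0) (.lf 0x0)) (.nd (.lf 0x0) (.lf 0))))) (.nd (.nd (.nd (.nd (.lf 0x0) (.lf 0x1e0f)) (.nd (.lf 0x747e) (.lf 0))) (.nd (.nd (.lf 0x0) (.lf 0x0)) (.nd (.lf 0x0) (.lf 0)))) (.nd (.nd (.nd (.lf 0x0) (.lf 0x732f)) (.nd (.lf 0x0) (.lf 0))) (.nd (.nd (.lf 0x0) (.lf 0x689a)) (.nd (.lf 0x7fae) (.lf 0)))))) (.nd (.nd (.nd (.nd (.nd (.lf 0x0) (.lf 0x0)) (.nd (.lf 0x0) (.lf 0))) (.nd (.nd (.lf 0x0) (.lf 0x2c54)) (.nd (.lf 0x6b9c) (.lf 0)))) (.nd (.nd (.nd (.lf 0x0) (.lf 0x0)) (.nd (.lf 0x6243) (.lf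 0))) (.nd (.nd (.lf 0x0) (.lf 0x7e8d)) (.nd (.lf 0x0) (.lf 0))))) (.nd (.nd (.nd (.nd (.lf 0x0) (.lf 0x0)) (.nd (.lf 0x0) (.lf 0))) (.nd (.nd (.lf 0x0) (.lf 0x6b15)) (.nd (.lf 0x0) (.lf 0)))) (.nd (.nd (.nd (.lf 0x0) (.lf 0x0)) (.nd (.lf 0x0) (.lf 0))) (.nd (.nd (.lf 0x0) (.lf 0x1609)) (.nd (.lf 0x831e) (.lf 0))))))) (.nd (.nd (.nd (.nd (.nd (.nd (.lf 0x0) (.lf 0x8395)) (.nd (.lf 0x1410) (.lf 0))) (.nd (.nd (.lf 0x0) (.lf 0x156d)) (.nd (.lf 0x0) (.lf 0)))) (.nd (.nd (.nd (.lf 0x0) (.lf 0x0)) (.nd (.lf 0x0) (.lf 0))) (.nd (.nd (.lf 0x0) (.lf 0x0)) (.nd (.lf 0x0) (.lf 0))))) (.nd (.nd (.nd (.nd (.lf 0x0) (.lf 0x1ca3)) (.nd (.lf 0x0) (.lf 0))) (.nd (.nd (.lf 0x0) (.lf 0x0)) (.nd (.lf 0x0) (.lf 0)))) (.nd (.nd (.nd (.lf 0x0) (.lf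 0x0)) (.nd (.lf 0x0) (.lf 0))) (.nd (.nd (.lf 0x0) (.lf 0x0)) (.nd (.lf 0x0) (.lf 0)))))) (.nd (.nd (.nd (.nd (.nd (.lf 0x0) (.lf 0x0)) (.nd (.lf 0x167c) (.lf 0))) (.nd (.nd (.lf 0x0) (.lf 0x0)) (.nd (.lf 0x0) (.lf 0)))) (.nd (.nd (.nd (.lf 0x0) (.lf 0x4362)) (.nd (.lf 0x238a) (.lf 0))) (.nd (.nd (.lf 0x0) (.lf 0x0)) (.nd (.lf 0x2f83) (.lf 0))))) (.nd (.nd (.nd (.nd (.lf 0x0) (.lf 0x656d)) (.nd (.lf 0x0) (.lf 0))) (.nd (.nd (.lf 0x0) (.lf 0x0)) (.nd (.lf 0x0) (.lf 0)))) (.nd (.nd (.nd (.lf 0x0) (.lf 0x196e)) (.nd (.lf 0x0) (.lf 0))) (.nd (.nd (.lf 0x513) (.lf 0x6356)) (.nd (.lf 0x0) (.lf 0))))))))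
def witB_nababaa : Tr := (.nd (.nd (.nd (.nd (.nd (.nd (.nd (.lf 0x0) (.lf 0x0)) (.nd (.lf 0x0) (.lf 0x5316))) (.nd (.nd (.lf 0x0) (.lf 0x0)) (.nd (.lf 0x0) (.lf 0)))) (.nd (.nd (.nd (.lf 0x0) (.lf 0x4e49)) (.nd (.lf 0x0) (.lf 0))) (.nd (.nd (.lf 0x0) (.lf 0x7536)) (.nd (.lf 0x0) (.lf 0))))) (.nd (.nd (.nd (.nd (.lf 0x0) (.lf 0x0)) (.nd (.lf 0x0) (.lf 0))) (.nd (.nd (.lf 0x0) (.lf 0x0)) (.nd (.lf 0x0) (.lf 0)))) (.nd (.nd (.nd (.lf 0x0) (.lf 0x0)) (.nd (.lf 0x0) (.lf 0))) (.nd (.nd (.lf 0x0) (.lf 0x0)) (.nd (.lf 0x240d) (.lf 0)))))) (.nd (.nd (.nd (.nd (.nd (.lf 0x0) (.lf 0x0)) (.nd (.lf 0x0) (.lf 0))) (.nd (.nd (.lf 0x0) (.lf 0x0)) (.nd (.lf 0x1f7a) (.lf 0)))) (.nd (.nd (.nd (.lf 0x0) (.lf 0x0)) (.nd (.lf 0x0) (.lf 0))) (.nd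 (.nd (.lf 0x0) (.lf 0x0)) (.nd (.lf 0x0) (.lf 0))))) (.nd (.nd (.nd (.nd (.lf 0x0) (.lf 0x0)) (.nd (.lf 0x0) (.lf 0))) (.nd (.nd (.lf 0x0) (.lf 0x0)) (.nd (.lf 0x0) (.lf 0)))) (.nd (.nd (.nd (.lf 0x0) (.lf 0x0)) (.nd (.lf 0x0) (.lf 0))) (.nd (.nd (.lf 0x0) (.lf 0x19a)) (.nd (.lf 0x0) (.lf 0))))))) (.nd (.nd (.nd (.nd (.nd (.nd (.lf 0x0) (.lf 0x0)) (.nd (.lf 0x0) (.lf 0))) (.nd (.nd (.lf 0x0) (.lf 0x0)) (.nd (.lf 0x0) (.lf 0)))) (.nd (.nd (.nd (.lf 0x0) (.lf 0x0)) (.nd (.lf 0x0) (.lf 0))) (.nd (.nd (.lf 0x0) (.lf 0x7122)) (.nd (.lf 0x0) (.lf 0))))) (.nd (.nd (.nd (.nd (.lf 0x435b) (.lf 0x0)) (.nd (.lf 0x7665) (.lf 0))) (.nd (.nd (.lf 0x0) (.lf 0x0)) (.nd (.lf 0x0) (.lf 0)))) (.nd (.nd (.nd (.lf 0x0) (.lf 0x0)) (.nd (.lf 0x0)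 (.lf 0))) (.nd (.nd (.lf 0x0) (.lf 0x0)) (.nd (.lf 0x2d1c) (.lf 0)))))) (.nd (.nd (.nd (.nd (.nd (.lf 0x0) (.lf 0x258d)) (.nd (.lf 0x0) (.lf 0))) (.nd (.nd (.lf 0x0) (.lf 0x0)) (.nd (.lf 0x0) (.lf 0)))) (.nd (.nd (.nd (.lf 0x0) (.lf 0x0)) (.nd (.lf 0x0) (.lf 0))) (.nd (.nd (.lf 0x0) (.lf 0x0)) (.nd (.lf 0x3a0c) (.lf 0))))) (.nd (.nd (.nd (.nd (.lf 0x0) (.lf 0x0)) (.nd (.lf 0x0) (.lf 0))) (.nd (.nd (.lf 0x0) (.lf 0x0)) (.nd (.lf 0x0) (.lf 0)))) (.nd (.nd (.nd (.lf 0x0) (.lf 0x0)) (.nd (.lf 0x0) (.lf 0))) (.nd (.nd (.lf 0x0) (.lf 0x5c9e)) (.nd (.lf 0x6a20) (.lf 0))))))))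
def witB_nababab : Tr := (.nd (.nd (.nd (.nd (.nd (.nd (.nd (.lf 0x0) (.lf 0x66c)) (.nd (.lf 0x355e) (.lf 0))) (.nd (.nd (.lf 0x0) (.lf 0x0)) (.nd (.lf 0x0) (.lf 0)))) (.nd (.nd (.nd (.lf 0x0) (.lf 0x0)) (.nd (.lf 0x0) (.lf 0))) (.nd (.nd (.lf 0x0) (.lf 0x0)) (.nd (.lf 0x1105) (.lf 0))))) (.nd (.nd (.nd (.nd (.lf 0x5907) (.lf 0x0)) (.nd (.lf 0x0) (.lf 0))) (.nd (.nd (.lf 0x0) (.lf 0x0)) (.nd (.lf 0x0) (.lf 0)))) (.nd (.nd (.nd (.lf 0x0) (.lf 0x0)) (.nd (.lf 0x0) (.lf 0))) (.nd (.nd (.lf 0x0) (.lf 0x0)) (.nd (.lf 0x0) (.lf 0)))))) (.nd (.nd (.nd (.nd (.nd (.lf 0x0) (.lf 0x0)) (.nd (.lf 0x0) (.lf 0))) (.nd (.nd (.lf 0x0) (.lf 0x0)) (.nd (.lf 0x0) (.lf 0)))) (.nd (.nd (.nd (.lf 0x0) (.lf 0x0)) (.nd (.lf 0x0) (.lf 0))) (.nd (.nd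 (.lf 0x0) (.lf 0x1a61)) (.nd (.lf 0x0) (.lf 0))))) (.nd (.nd (.nd (.nd (.lf 0x0) (.lf 0x0)) (.nd (.lf 0x0) (.lf 0))) (.nd (.nd (.lf 0x0) (.lf 0x843f)) (.nd (.lf 0x0) (.lf 0)))) (.nd (.nd (.nd (.lf 0x0) (.lf 0x0)) (.nd (.lf 0x0) (.lf 0))) (.nd (.nd (.lf 0x0) (.lf 0x0)) (.nd (.lf 0x0) (.lf 0))))))) (.nd (.nd (.nd (.nd (.nd (.nd (.lf 0x0) (.lf 0x0)) (.nd (.lf 0x0) (.lf 0))) (.nd (.nd (.lf 0x0) (.lf 0x0)) (.nd (.lf 0x0) (.lf 0)))) (.nd (.nd (.nd (.lf 0x0) (.lf 0x0)) (.nd (.lf 0x0) (.lf 0))) (.nd (.nd (.lf 0x0) (.lf 0x0)) (.nd (.lf 0x0) (.lf 0))))) (.nd (.nd (.nd (.nd (.lf 0x0) (.lf 0x0)) (.nd (.lf 0x0) (.lf 0))) (.nd (.nd (.lf 0x0) (.lf 0x0)) (.nd (.lf 0x0) (.lf 0)))) (.nd (.nd (.nd (.lf 0x0) (.lf 0x0)) (.nd (.lf 0x0) (.lf 0)))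 (.nd (.nd (.lf 0x0) (.lf 0x0)) (.nd (.lf 0x0) (.lf 0)))))) (.nd (.nd (.nd (.nd (.nd (.lf 0x0) (.lf 0x0)) (.nd (.lf 0x0) (.lf 0))) (.nd (.nd (.lf 0x0) (.lf 0x0)) (.nd (.lf 0x0) (.lf 0)))) (.nd (.nd (.nd (.lf 0x0) (.lf 0x5524)) (.nd (.lf 0x0) (.lf 0))) (.nd (.nd (.lf 0x750a) (.lf 0x4847)) (.nd (.lf 0x0) (.lf 0))))) (.nd (.nd (.nd (.nd (.lf 0x0) (.lf 0x8072)) (.nd (.lf 0x0) (.lf 0))) (.nd (.nd (.lf 0x0) (.lf 0x0)) (.nd (.lf 0x5e41) (.lf 0)))) (.nd (.nd (.nd (.lf 0x0) (.lf 0x0)) (.nd (.lf 0x0) (.lf 0))) (.nd (.nd (.lf 0x0) (.lf 0x2386)) (.nd (.lf 0x0) (.lf 0))))))))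
def witB_nababba : Tr := (.nd (.nd (.nd (.nd (.nd (.nd (.nd (.lf 0x0) (.lf 0x5c61)) (.nd (.lf 0x6795) (.lf 0))) (.nd (.nd (.lf 0x0) (.lf 0x7265)) (.nd (.lf 0x5729) (.lf 0)))) (.nd (.nd (.nd (.lf 0x0) (.lf 0x1a9a)) (.nd (.lf 0x3d7d) (.lf 0))) (.nd (.nd (.lf 0x0) (.lf 0x0)) (.nd (.lf 0x3327) (.lf 0))))) (.nd (.nd (.nd (.nd (.lf 0x0) (.lf 0x6bb1)) (.nd (.lf 0x0) (.lf 0))) (.nd (.nd (.lf 0x5755) (.lf 0x0)) (.nd (.lf 0x0) (.lf 0)))) (.nd (.nd (.nd (.lf 0x0) (.lf 0x0)) (.nd (.lf 0x0) (.lf 0))) (.nd (.nd (.lf 0x3016) (.lf 0x5046)) (.nd (.lf 0x868e) (.lf 0)))))) (.nd (.nd (.nd (.nd (.nd (.lf 0x0) (.lf 0x0)) (.nd (.lf 0x1a35) (.lf 0))) (.nd (.nd (.lf 0x0) (.lf 0x0)) (.nd (.lf 0x0) (.lf 0)))) (.nd (.nd (.nd (.lf 0x0) (.lf 0x0)) (.nd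 (.lf 0x0) (.lf 0))) (.nd (.nd (.lf 0x0) (.lf 0x523d)) (.nd (.lf 0x0) (.lf 0))))) (.nd (.nd (.nd (.nd (.lf 0x0) (.lf 0x2236)) (.nd (.lf 0x0) (.lf 0))) (.nd (.nd (.lf 0x2662) (.lf 0x1565)) (.nd (.lf 0x0) (.lf 0)))) (.nd (.nd (.nd (.lf 0x0) (.lf 0x0)) (.nd (.lf 0x0) (.lf 0))) (.nd (.nd (.lf 0x0) (.lf 0x0)) (.nd (.lf 0x603a) (.lf 0))))))) (.nd (.nd (.nd (.nd (.nd (.nd (.lf 0x0) (.lf 0x7ab0)) (.nd (.lf 0x0) (.lf 0))) (.nd (.nd (.lf 0x0) (.lf 0x0)) (.nd (.lf 0x0) (.lf 0)))) (.nd (.nd (.nd (.lf 0x0) (.lf 0x0)) (.nd (.lf 0x0) (.lf 0))) (.nd (.nd (.lf 0x0) (.lf 0x639f)) (.nd (.lf 0x0) (.lf 0))))) (.nd (.nd (.nd (.nd (.lf 0x0) (.lf 0x0)) (.nd (.lf 0x0) (.lf 0))) (.nd (.nd (.lf 0x0) (.lf 0x5673)) (.nd (.lf 0x219b) (.lf 0)))) (.nd (.nd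 (.nd (.lf 0x0) (.lf 0x0)) (.nd (.lf 0x0) (.lf 0))) (.nd (.nd (.lf 0x0) (.lf 0x2963)) (.nd (.lf 0x0) (.lf 0)))))) (.nd (.nd (.nd (.nd (.nd (.lf 0x0) (.lf 0x846e)) (.nd (.lf 0x0) (.lf 0))) (.nd (.nd (.lf 0x0) (.lf 0x3dac)) (.nd (.lf 0x0) (.lf 0)))) (.nd (.nd (.nd (.lf 0x0) (.lf 0x8552)) (.nd (.lf 0x0) (.lf 0))) (.nd (.nd (.lf 0x142b) (.lf 0x0)) (.nd (.lf 0x6164) (.lf 0))))) (.nd (.nd (.nd (.nd (.lf 0x0) (.lf 0x0)) (.nd (.lf 0x0) (.lf 0))) (.nd (.nd (.lf 0x0) (.lf 0x0)) (.nd (.lf 0x0) (.lf 0)))) (.nd (.nd (.nd (.lf 0x0) (.lf 0x0)) (.nd (.lf 0x0) (.lf 0))) (.nd (.nd (.lf 0x0) (.lf 0x3170)) (.nd (.lf 0x256c) (.lf 0))))))))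
def witB_nababbb : Tr := (.nd (.nd (.nd (.nd (.nd (.nd (.nd (.lf 0x0) (.lf 0x1d7f)) (.nd (.lf 0x0) (.lf 0))) (.nd (.nd (.lf 0x0) (.lf 0x0)) (.nd (.lf 0x5c01) (.lf 0)))) (.nd (.nd (.nd (.lf 0x0) (.lf 0x625c)) (.nd (.lf 0x0) (.lf 0))) (.nd (.nd (.lf 0x0) (.lf 0x1f77)) (.nd (.lf 0x0) (.lf 0))))) (.nd (.nd (.nd (.nd (.lf 0x0) (.lf 0x3f58)) (.nd (.lf 0x0) (.lf 0))) (.nd (.nd (.lf 0x0) (.lf 0x0)) (.nd (.lf 0x0) (.lf 0)))) (.nd (.nd (.nd (.lf 0x0) (.lf 0x577a)) (.nd (.lf 0x0) (.lf 0))) (.nd (.nd (.lf 0x0) (.lf 0x5c9f)) (.nd (.lf 0x846) (.lf 0)))))) (.nd (.nd (.nd (.nd (.nd (.lf 0x0) (.lf 0x305d)) (.nd (.lf 0x0) (.lf 0))) (.nd (.nd (.lf 0x0) (.lf 0x0)) (.nd (.lf 0x0) (.lf 0)))) (.nd (.nd (.nd (.lf 0x0) (.lf 0x0)) (.nd (.lf 0x0) (.lf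 0))) (.nd (.nd (.lf 0x0) (.lf 0x8630)) (.nd (.lf 0x0) (.lf 0))))) (.nd (.nd (.nd (.nd (.lf 0x7c7b) (.lf 0x0)) (.nd (.lf 0x10af) (.lf 0))) (.nd (.nd (.lf 0x0) (.lf 0x0)) (.nd (.lf 0x0) (.lf 0)))) (.nd (.nd (.nd (.lf 0x0) (.lf 0x0)) (.nd (.lf 0x28a8) (.lf 0))) (.nd (.nd (.lf 0x0) (.lf 0xd5e)) (.nd (.lf 0x0) (.lf 0))))))) (.nd (.nd (.nd (.nd (.nd (.nd (.lf 0x0) (.lf 0x0)) (.nd (.lf 0x0) (.lf 0))) (.nd (.nd (.lf 0x0) (.lf 0x0)) (.nd (.lf 0x939) (.lf 0)))) (.nd (.nd (.nd (.lf 0x7b7b) (.lf 0x0)) (.nd (.lf 0x0) (.lf 0))) (.nd (.nd (.lf 0x3517) (.lf 0x6551)) (.nd (.lf 0x0) (.lf 0))))) (.nd (.nd (.nd (.nd (.lf 0x0) (.lf 0x0)) (.nd (.lf 0x0) (.lf 0))) (.nd (.nd (.lf 0x0) (.lf 0x0)) (.nd (.lf 0x0) (.lf 0)))) (.nd (.nd (.nd (.lf 0x0)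 (.lf 0x0)) (.nd (.lf 0x0) (.lf 0))) (.nd (.nd (.lf 0x0) (.lf 0xd52)) (.nd (.lf 0x0) (.lf 0)))))) (.nd (.nd (.nd (.nd (.nd (.lf 0x0) (.lf 0x2f56)) (.nd (.lf 0x0) (.lf 0))) (.nd (.nd (.lf 0x0) (.lf 0x292)) (.nd (.lf 0x0) (.lf 0)))) (.nd (.nd (.nd (.lf 0x0) (.lf 0x0)) (.nd (.lf 0x0) (.lf 0))) (.nd (.nd (.lf 0x0) (.lf 0x2a76)) (.nd (.lf 0x0) (.lf 0))))) (.nd (.nd (.nd (.nd (.lf 0x0) (.lf 0x0)) (.nd (.lf 0x0) (.lf 0))) (.nd (.nd (.lf 0x0) (.lf 0xfac)) (.nd (.lf 0x0) (.lf 0)))) (.nd (.nd (.nd (.lf 0x0) (.lf 0x0)) (.nd (.lf 0x0) (.lf 0))) (.nd (.nd (.lf 0x0) (.lf 0x4745)) (.nd (.lf 0x0) (.lf 0))))))))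
def witB_nabbaaa : Tr := (.nd (.nd (.nd (.nd (.nd (.nd (.nd (.lf 0x0) (.lf 0x5a4f)) (.nd (.lf 0x5ba3) (.lf 0x3f83))) (.nd (.nd (.lf 0x0) (.lf 0x0)) (.nd (.lf 0x0) (.lf 0)))) (.nd (.nd (.nd (.lf 0x0) (.lf 0x0)) (.nd (.lf 0x0) (.lf 0))) (.nd (.nd (.lf 0x0) (.lf 0x0)) (.nd (.lf 0x0) (.lf 0))))) (.nd (.nd (.nd (.nd (.lf 0x0) (.lf 0x0)) (.nd (.lf 0x0) (.lf 0))) (.nd (.nd (.lf 0x0) (.lf 0x6959)) (.nd (.lf 0x0) (.lf 0)))) (.nd (.nd (.nd (.lf 0x0) (.lf 0x0)) (.nd (.lf 0x0) (.lf 0))) (.nd (.nd (.lf 0x0) (.lf 0x740)) (.nd (.lf 0x0) (.lf 0)))))) (.nd (.nd (.nd (.nd (.nd (.lf 0x0) (.lf 0x0)) (.nd (.lf 0x0) (.lf 0))) (.nd (.nd (.lf 0x0) (.lf 0x6753)) (.nd (.lf 0x5065) (.lf 0)))) (.nd (.nd (.nd (.lf 0x0) (.lf 0x0)) (.nd (.lf 0x0) (.lf 0)))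 (.nd (.nd (.lf 0x0) (.lf 0x589)) (.nd (.lf 0x0) (.lf 0))))) (.nd (.nd (.nd (.nd (.lf 0x0) (.lf 0x0)) (.nd (.lf 0x0) (.lf 0))) (.nd (.nd (.lf 0x0) (.lf 0x0)) (.nd (.lf 0x0) (.lf 0)))) (.nd (.nd (.nd (.lf 0x0) (.lf 0x51b)) (.nd (.lf 0x0) (.lf 0))) (.nd (.nd (.lf 0x0) (.lf 0x3f22)) (.nd (.lf 0x336a) (.lf 0))))))) (.nd (.nd (.nd (.nd (.nd (.nd (.lf 0x0) (.lf 0x0)) (.nd (.lf 0x0) (.lf 0))) (.nd (.nd (.lf 0x0) (.lf 0x7c2c)) (.nd (.lf 0x0) (.lf 0)))) (.nd (.nd (.nd (.lf 0x0) (.lf 0x102f)) (.nd (.lf 0x0) (.lf 0))) (.nd (.nd (.lf 0x0) (.lf 0x8026)) (.nd (.lf 0x1c87) (.lf 0))))) (.nd (.nd (.nd (.nd (.lf 0x0) (.lf 0x0)) (.nd (.lf 0x0) (.lf 0))) (.nd (.nd (.lf 0x0) (.lf 0x0)) (.nd (.lf 0x0) (.lf 0)))) (.nd (.nd (.nd (.lf 0x0) (.lf 0x0))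 (.nd (.lf 0x7e04) (.lf 0))) (.nd (.nd (.lf 0x0) (.lf 0x0)) (.nd (.lf 0x0) (.lf 0)))))) (.nd (.nd (.nd (.nd (.nd (.lf 0x0) (.lf 0x0)) (.nd (.lf 0x4a7a) (.lf 0))) (.nd (.nd (.lf 0x0) (.lf 0x0)) (.nd (.lf 0x0) (.lf 0)))) (.nd (.nd (.nd (.lf 0x1d5a) (.lf 0x0)) (.nd (.lf 0x0) (.lf 0))) (.nd (.nd (.lf 0x0) (.lf 0x65a1)) (.nd (.lf 0x0) (.lf 0))))) (.nd (.nd (.nd (.nd (.lf 0x0) (.lf 0x0)) (.nd (.lf 0x0) (.lf 0))) (.nd (.nd (.lf 0x0) (.lf 0x0)) (.nd (.lf 0x0) (.lf 0)))) (.nd (.nd (.nd (.lf 0x0) (.lf 0x0)) (.nd (.lf 0x0) (.lf 0))) (.nd (.nd (.lf 0x0) (.lf 0x0)) (.nd (.lf 0x0) (.lf 0))))))))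
def witB_nabbaab : Tr := (.nd (.nd (.nd (.nd (.nd (.nd (.nd (.lf 0x0) (.lf 0x0)) (.nd (.lf 0x0) (.lf 0))) (.nd (.nd (.lf 0x0) (.lf 0x0)) (.nd (.lf 0x0) (.lf 0)))) (.nd (.nd (.nd (.lf 0x0) (.lf 0x0)) (.nd (.lf 0x0) (.lf 0))) (.nd (.nd (.lf 0x0) (.lf 0x3283)) (.nd (.lf 0x560f) (.lf 0))))) (.nd (.nd (.nd (.nd (.lf 0x0) (.lf 0x0)) (.nd (.lf 0x0) (.lf 0))) (.nd (.nd (.lf 0x0) (.lf 0x4a1a)) (.nd (.lf 0x0) (.lf 0)))) (.nd (.nd (.nd (.lf 0x0) (.lf 0x437a)) (.nd (.lf 0x1d54) (.lf 0))) (.nd (.nd (.lf 0xe66) (.lf 0x5095)) (.nd (.lf 0x0) (.lf 0)))))) (.nd (.nd (.nd (.nd (.nd (.lf 0x0) (.lf 0x4809)) (.nd (.lf 0x0) (.lf 0))) (.nd (.nd (.lf 0x0) (.lf 0x0)) (.nd (.lf 0x0) (.lf 0)))) (.nd (.nd (.nd (.lf 0x0) (.lf 0x0)) (.nd (.lf 0x0) (.lf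 0))) (.nd (.nd (.lf 0x0) (.lf 0x388d)) (.nd (.lf 0x0) (.lf 0))))) (.nd (.nd (.nd (.nd (.lf 0x0) (.lf 0x1a73)) (.nd (.lf 0x0) (.lf 0))) (.nd (.nd (.lf 0x0) (.lf 0x4757)) (.nd (.lf 0x0) (.lf 0)))) (.nd (.nd (.nd (.lf 0x0) (.lf 0x130f)) (.nd (.lf 0x488b) (.lf 0))) (.nd (.nd (.lf 0x4b3a) (.lf 0x3019)) (.nd (.lf 0x0) (.lf 0))))))) (.nd (.nd (.nd (.nd (.nd (.nd (.lf 0x0) (.lf 0x0)) (.nd (.lf 0x0) (.lf 0))) (.nd (.nd (.lf 0x0) (.lf 0x0)) (.nd (.lf 0x0) (.lf 0)))) (.nd (.nd (.nd (.lf 0x0) (.lf 0x0)) (.nd (.lf 0x4266) (.lf 0))) (.nd (.nd (.lf 0x0) (.lf 0x0)) (.nd (.lf 0x0) (.lf 0))))) (.nd (.nd (.nd (.nd (.lf 0x2ac) (.lf 0x2b48)) (.nd (.lf 0x0) (.lf 0))) (.nd (.nd (.lf 0x0) (.lf 0x6b4d)) (.nd (.lf 0x0) (.lf 0)))) (.nd (.nd (.nd (.lf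 0x0) (.lf 0x0)) (.nd (.lf 0x0) (.lf 0))) (.nd (.nd (.lf 0x0) (.lf 0x0)) (.nd (.lf 0x0) (.lf 0)))))) (.nd (.nd (.nd (.nd (.nd (.lf 0x0) (.lf 0x8117)) (.nd (.lf 0x0) (.lf 0))) (.nd (.nd (.lf 0x0) (.lf 0x5a7b)) (.nd (.lf 0x0) (.lf 0)))) (.nd (.nd (.nd (.lf 0x0) (.lf 0x636f)) (.nd (.lf 0x0) (.lf 0))) (.nd (.nd (.lf 0x0) (.lf 0x2937)) (.nd (.lf 0x0) (.lf 0))))) (.nd (.nd (.nd (.nd (.lf 0x0) (.lf 0x8306)) (.nd (.lf 0x659e) (.lf 0))) (.nd (.nd (.lf 0x0) (.lf 0x0)) (.nd (.lf 0x0) (.lf 0)))) (.nd (.nd (.nd (.lf 0x0) (.lf 0x2a94)) (.nd (.lf 0x0) (.lf 0))) (.nd (.nd (.lf 0x0) (.lf 0x2538)) (.nd (.lf 0x7b7b) (.lf 0))))))))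
def witB_nabbaba : Tr := (.nd (.nd (.nd (.nd (.nd (.nd (.nd (.lf 0x0) (.lf 0x0)) (.nd (.lf 0x248) (.lf 0))) (.nd (.nd (.lf 0x0) (.lf 0x0)) (.nd (.lf 0x3927) (.lf 0)))) (.nd (.nd (.nd (.lf 0x0) (.lf 0x0)) (.nd (.lf 0x0) (.lf 0))) (.nd (.nd (.lf 0x0) (.lf 0x0)) (.nd (.lf 0x0) (.lf 0))))) (.nd (.nd (.nd (.nd (.lf 0x0) (.lf 0x0)) (.nd (.lf 0x0) (.lf 0))) (.nd (.nd (.lf 0x0) (.lf 0x0)) (.nd (.lf 0x0) (.lf 0)))) (.nd (.nd (.nd (.lf 0x0) (.lf 0x1578)) (.nd (.lf 0x0) (.lf 0))) (.nd (.nd (.lf 0x0) (.lf 0x129a)) (.nd (.lf 0x0) (.lf 0)))))) (.nd (.nd (.nd (.nd (.nd (.lf 0x0) (.lf 0x0)) (.nd (.lf 0x0) (.lf 0))) (.nd (.nd (.lf 0x0) (.lf 0x0)) (.nd (.lf 0x0) (.lf 0)))) (.nd (.nd (.nd (.lf 0x0) (.lf 0x2c22)) (.nd (.lf 0x0) (.lf 0))) (.nd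 (.nd (.lf 0x0) (.lf 0x3465)) (.nd (.lf 0x0) (.lf 0))))) (.nd (.nd (.nd (.nd (.lf 0x0) (.lf 0x0)) (.nd (.lf 0x0) (.lf 0))) (.nd (.nd (.lf 0x0) (.lf 0x0)) (.nd (.lf 0x0) (.lf 0)))) (.nd (.nd (.nd (.lf 0x0) (.lf 0x0)) (.nd (.lf 0x0) (.lf 0))) (.nd (.nd (.lf 0x0) (.lf 0x6284)) (.nd (.lf 0x0) (.lf 0))))))) (.nd (.nd (.nd (.nd (.nd (.nd (.lf 0x0) (.lf 0x0)) (.nd (.lf 0x0) (.lf 0))) (.nd (.nd (.lf 0x0) (.lf 0x0)) (.nd (.lf 0x0) (.lf 0)))) (.nd (.nd (.nd (.lf 0x0) (.lf 0x229e)) (.nd (.lf 0x0) (.lf 0))) (.nd (.nd (.lf 0x0) (.lf 0x1249)) (.nd (.lf 0x7756) (.lf 0))))) (.nd (.nd (.nd (.nd (.lf 0x0) (.lf 0x0)) (.nd (.lf 0x0) (.lf 0))) (.nd (.nd (.lf 0x0) (.lf 0x0)) (.nd (.lf 0x0) (.lf 0)))) (.nd (.nd (.nd (.lf 0x0) (.lf 0x0)) (.nd (.lf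 0x0) (.lf 0))) (.nd (.nd (.lf 0x0) (.lf 0x0)) (.nd (.lf 0x0) (.lf 0)))))) (.nd (.nd (.nd (.nd (.nd (.lf 0x0) (.lf 0x0)) (.nd (.lf 0x0) (.lf 0))) (.nd (.nd (.lf 0x0) (.lf 0x6e91)) (.nd (.lf 0x0) (.lf 0)))) (.nd (.nd (.nd (.lf 0x0) (.lf 0x0)) (.nd (.lf 0x0) (.lf 0))) (.nd (.nd (.lf 0x0) (.lf 0x0)) (.nd (.lf 0x8630) (.lf 0))))) (.nd (.nd (.nd (.nd (.lf 0x0) (.lf 0x0)) (.nd (.lf 0x0) (.lf 0))) (.nd (.nd (.lf 0x5e1e) (.lf 0x2462)) (.nd (.lf 0x0) (.lf 0)))) (.nd (.nd (.nd (.lf 0x0) (.lf 0x0)) (.nd (.lf 0x0) (.lf 0))) (.nd (.nd (.lf 0x0) (.lf 0x0)) (.nd (.lf 0x4e17) (.lf 0))))))))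
def witB_nabbabb : Tr := (.nd (.nd (.nd (.nd (.nd (.nd (.nd (.lf 0x0) (.lf 0x857f)) (.nd (.lf 0x0) (.lf 0))) (.nd (.nd (.lf 0x0) (.lf 0x6288)) (.nd (.lf 0x0) (.lf 0)))) (.nd (.nd (.nd (.lf 0x0) (.lf 0x1786)) (.nd (.lf 0x0) (.lf 0))) (.nd (.nd (.lf 0x0) (.lf 0x0)) (.nd (.lf 0x0) (.lf 0))))) (.nd (.nd (.nd (.nd (.lf 0x0) (.lf 0x0)) (.nd (.lf 0x0) (.lf 0))) (.nd (.nd (.lf 0x0) (.lf 0x398c)) (.nd (.lf 0x0) (.lf 0)))) (.nd (.nd (.nd (.lf 0x0) (.lf 0x5e2e)) (.nd (.lf 0x462a) (.lf 0))) (.nd (.nd (.lf 0x0) (.lf 0x8446)) (.nd (.lf 0x0) (.lf 0)))))) (.nd (.nd (.nd (.nd (.nd (.lf 0x0) (.lf 0x0)) (.nd (.lf 0x5564) (.lf 0))) (.nd (.nd (.lf 0x0) (.lf 0x0)) (.nd (.lf 0x0) (.lf 0)))) (.nd (.nd (.nd (.lf 0x0) (.lf 0x4b81)) (.nd (.lf 0x0) (.lf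 0))) (.nd (.nd (.lf 0x0) (.lf 0x7653)) (.nd (.lf 0xa69) (.lf 0))))) (.nd (.nd (.nd (.nd (.lf 0x0) (.lf 0x0)) (.nd (.lf 0x0) (.lf 0))) (.nd (.nd (.lf 0x0) (.lf 0x0)) (.nd (.lf 0x0) (.lf 0)))) (.nd (.nd (.nd (.lf 0x0) (.lf 0x0)) (.nd (.lf 0x0) (.lf 0))) (.nd (.nd (.lf 0x0) (.lf 0x1f08)) (.nd (.lf 0x0) (.lf 0))))))) (.nd (.nd (.nd (.nd (.nd (.nd (.lf 0x0) (.lf 0x0)) (.nd (.lf 0x0) (.lf 0))) (.nd (.nd (.lf 0x0) (.lf 0x1e2b)) (.nd (.lf 0x5234) (.lf 0)))) (.nd (.nd (.nd (.lf 0x0) (.lf 0x3e72)) (.nd (.lf 0x391c) (.lf 0))) (.nd (.nd (.lf 0x0) (.lf 0x1c1a)) (.nd (.lf 0x0) (.lf 0))))) (.nd (.nd (.nd (.nd (.lf 0x0) (.lf 0x0)) (.nd (.lf 0x2a2b) (.lf 0))) (.nd (.nd (.lf 0x0) (.lf 0x4e73)) (.nd (.lf 0x0) (.lf 0)))) (.nd (.nd (.nd (.lf 0x0)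 (.lf 0x0)) (.nd (.lf 0x0) (.lf 0))) (.nd (.nd (.lf 0x0) (.lf 0x0)) (.nd (.lf 0x0) (.lf 0)))))) (.nd (.nd (.nd (.nd (.nd (.lf 0x0) (.lf 0xd0e)) (.nd (.lf 0x8632) (.lf 0))) (.nd (.nd (.lf 0x0) (.lf 0x0)) (.nd (.lf 0x0) (.lf 0)))) (.nd (.nd (.nd (.lf 0x0) (.lf 0x0)) (.nd (.lf 0x0) (.lf 0))) (.nd (.nd (.lf 0x5e98) (.lf 0x0)) (.nd (.lf 0x0) (.lf 0))))) (.nd (.nd (.nd (.nd (.lf 0x0) (.lf 0x0)) (.nd (.lf 0x0) (.lf 0))) (.nd (.nd (.lf 0x0) (.lf 0x0)) (.nd (.lf 0x0) (.lf 0)))) (.nd (.nd (.nd (.lf 0x0) (.lf 0x0)) (.nd (.lf 0x0) (.lf 0))) (.nd (.nd (.lf 0x0) (.lf 0x5862)) (.nd (.lf 0x0) (.lf 0))))))))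
def witB_nabbbaa : Tr := (.nd (.nd (.nd (.nd (.nd (.nd (.nd (.lf 0x0) (.lf 0x6a76)) (.nd (.lf 0x0) (.lf 0))) (.nd (.nd (.lf 0x0) (.lf 0x0)) (.nd (.lf 0x1067) (.lf 0)))) (.nd (.nd (.nd (.lf 0x0) (.lf 0x0)) (.nd (.lf 0x2d15) (.lf 0))) (.nd (.nd (.lf 0x0) (.lf 0x0)) (.nd (.lf 0x0) (.lf 0))))) (.nd (.nd (.nd (.nd (.lf 0x0) (.lf 0x4b9b)) (.nd (.lf 0x0) (.lf 0))) (.nd (.nd (.lf 0x0) (.lf 0x5478)) (.nd (.lf 0x0) (.lf 0)))) (.nd (.nd (.nd (.lf 0x0) (.lf 0x3cad)) (.nd (.lf 0x0) (.lf 0))) (.nd (.nd (.lf 0x0) (.lf 0x0)) (.nd (.lf 0x0) (.lf 0)))))) (.nd (.nd (.nd (.nd (.nd (.lf 0x0) (.lf 0x3d0b)) (.nd (.lf 0x0) (.lf 0))) (.nd (.nd (.lf 0x0) (.lf 0x0)) (.nd (.lf 0x0) (.lf 0)))) (.nd (.nd (.nd (.lf 0x0) (.lf 0x0)) (.nd (.lf 0x0) (.lf 0)))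 (.nd (.nd (.lf 0x0) (.lf 0x2f4f)) (.nd (.lf 0x0) (.lf 0))))) (.nd (.nd (.nd (.nd (.lf 0x0) (.lf 0x6c1c)) (.nd (.lf 0x0) (.lf 0))) (.nd (.nd (.lf 0x0) (.lf 0x6919)) (.nd (.lf 0x0) (.lf 0)))) (.nd (.nd (.nd (.lf 0x0) (.lf 0x0)) (.nd (.lf 0x6ab0) (.lf 0))) (.nd (.nd (.lf 0x0) (.lf 0x5a5b)) (.nd (.lf 0x0) (.lf 0))))))) (.nd (.nd (.nd (.nd (.nd (.nd (.lf 0x0) (.lf 0x2502)) (.nd (.lf 0x0) (.lf 0))) (.nd (.nd (.lf 0x0) (.lf 0x2319)) (.nd (.lf 0x0) (.lf 0)))) (.nd (.nd (.nd (.lf 0x0) (.lf 0x0)) (.nd (.lf 0x0) (.lf 0))) (.nd (.nd (.lf 0x0) (.lf 0x0)) (.nd (.lf 0x0) (.lf 0))))) (.nd (.nd (.nd (.nd (.lf 0x0) (.lf 0x0)) (.nd (.lf 0x0) (.lf 0))) (.nd (.nd (.lf 0x2c) (.lf 0x5c34)) (.nd (.lf 0x0) (.lf 0)))) (.nd (.nd (.nd (.lf 0x0) (.lf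 0x0)) (.nd (.lf 0x0) (.lf 0))) (.nd (.nd (.lf 0x0) (.lf 0x7a43)) (.nd (.lf 0x0) (.lf 0)))))) (.nd (.nd (.nd (.nd (.nd (.lf 0x0) (.lf 0x0)) (.nd (.lf 0x0) (.lf 0))) (.nd (.nd (.lf 0x0) (.lf 0x0)) (.nd (.lf 0x0) (.lf 0)))) (.nd (.nd (.nd (.lf 0x0) (.lf 0x0)) (.nd (.lf 0x0) (.lf 0))) (.nd (.nd (.lf 0x0) (.lf 0x0)) (.nd (.lf 0x0) (.lf 0))))) (.nd (.nd (.nd (.nd (.lf 0x0) (.lf 0x0)) (.nd (.lf 0x0) (.lf 0))) (.nd (.nd (.lf 0x0) (.lf 0x3709)) (.nd (.lf 0x0) (.lf 0)))) (.nd (.nd (.nd (.lf 0x0) (.lf 0x0)) (.nd (.lf 0x0) (.lf 0))) (.nd (.nd (.lf 0x0) (.lf 0x3126)) (.nd (.lf 0x0) (.lf 0))))))))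
def witB_nabbbab : Tr := (.nd (.nd (.nd (.nd (.nd (.nd (.nd (.lf 0x0) (.lf 0x0)) (.nd (.lf 0x841d) (.lf 0))) (.nd (.nd (.lf 0x0) (.lf 0x0)) (.nd (.lf 0x7434) (.lf 0)))) (.nd (.nd (.nd (.lf 0x0) (.lf 0x0)) (.nd (.lf 0x0) (.lf 0))) (.nd (.nd (.lf 0x789) (.lf 0x3942)) (.nd (.lf 0x0) (.lf 0))))) (.nd (.nd (.nd (.nd (.lf 0x0) (.lf 0x0)) (.nd (.lf 0x0) (.lf 0))) (.nd (.nd (.lf 0x0) (.lf 0x0)) (.nd (.lf 0xb8c) (.lf 0)))) (.nd (.nd (.nd (.lf 0x0) (.lf 0x0)) (.nd (.lf 0x0) (.lf 0))) (.nd (.nd (.lf 0x0) (.lf 0x0)) (.nd (.lf 0x0) (.lf 0)))))) (.nd (.nd (.nd (.nd (.nd (.lf 0x0) (.lf 0x0)) (.nd (.lf 0x0) (.lf 0))) (.nd (.nd (.lf 0x0) (.lf 0x0)) (.nd (.lf 0x3232) (.lf 0)))) (.nd (.nd (.nd (.lf 0x0) (.lf 0x0)) (.nd (.lf 0x0) (.lf 0))) (.nd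 (.nd (.lf 0x0) (.lf 0xe37)) (.nd (.lf 0x0) (.lf 0))))) (.nd (.nd (.nd (.nd (.lf 0x0) (.lf 0x868f)) (.nd (.lf 0x0) (.lf 0))) (.nd (.nd (.lf 0x0) (.lf 0x0)) (.nd (.lf 0x3db2) (.lf 0)))) (.nd (.nd (.nd (.lf 0x0) (.lf 0x0)) (.nd (.lf 0x2370) (.lf 0))) (.nd (.nd (.lf 0x0) (.lf 0x0)) (.nd (.lf 0x0) (.lf 0))))))) (.nd (.nd (.nd (.nd (.nd (.nd (.lf 0x0) (.lf 0x0)) (.nd (.lf 0x0) (.lf 0))) (.nd (.nd (.lf 0x0) (.lf 0x0)) (.nd (.lf 0x0) (.lf 0)))) (.nd (.nd (.nd (.lf 0x0) (.lf 0xb0f)) (.nd (.lf 0x0) (.lf 0))) (.nd (.nd (.lf 0x0) (.lf 0x0)) (.nd (.lf 0x0) (.lf 0))))) (.nd (.nd (.nd (.nd (.lf 0x61a2) (.lf 0x0)) (.nd (.lf 0x0) (.lf 0))) (.nd (.nd (.lf 0x0) (.lf 0x438e)) (.nd (.lf 0x0) (.lf 0)))) (.nd (.nd (.nd (.lf 0x0) (.lf 0x0)) (.nd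 (.lf 0x0) (.lf 0))) (.nd (.nd (.lf 0x0) (.lf 0x0)) (.nd (.lf 0x2c4b) (.lf 0)))))) (.nd (.nd (.nd (.nd (.nd (.lf 0x0) (.lf 0x0)) (.nd (.lf 0x0) (.lf 0))) (.nd (.nd (.lf 0x0) (.lf 0x1186)) (.nd (.lf 0x87b3) (.lf 0)))) (.nd (.nd (.nd (.lf 0x0) (.lf 0x0)) (.nd (.lf 0x0) (.lf 0))) (.nd (.nd (.lf 0x25a6) (.lf 0x0)) (.nd (.lf 0x0) (.lf 0))))) (.nd (.nd (.nd (.nd (.lf 0x0) (.lf 0x0)) (.nd (.lf 0x0) (.lf 0))) (.nd (.nd (.lf 0x0) (.lf 0x336e)) (.nd (.lf 0x3906) (.lf 0)))) (.nd (.nd (.nd (.lf 0x0) (.lf 0x189b)) (.nd (.lf 0x0) (.lf 0))) (.nd (.nd (.lf 0x0) (.lf 0x0)) (.nd (.lf 0x0) (.lf 0))))))))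
def witB_nabbbba : Tr := (.nd (.nd (.nd (.nd (.nd (.nd (.nd (.lf 0x0) (.lf 0x4d7e)) (.nd (.lf 0x0) (.lf 0))) (.nd (.nd (.lf 0x0) (.lf 0x2f7c)) (.nd (.lf 0x2097) (.lf 0)))) (.nd (.nd (.nd (.lf 0x0) (.lf 0x0)) (.nd (.lf 0x851c) (.lf 0))) (.nd (.nd (.lf 0x0) (.lf 0x3e59)) (.nd (.lf 0x0) (.lf 0))))) (.nd (.nd (.nd (.nd (.lf 0x0) (.lf 0x101e)) (.nd (.lf 0x0) (.lf 0))) (.nd (.nd (.lf 0x0) (.lf 0xa23)) (.nd (.lf 0x2862) (.lf 0)))) (.nd (.nd (.nd (.lf 0x0) (.lf 0x5186)) (.nd (.lf 0x0) (.lf 0))) (.nd (.nd (.lf 0x448) (.lf 0x0)) (.nd (.lf 0x8145) (.lf 0)))))) (.nd (.nd (.nd (.nd (.nd (.lf 0x0) (.lf 0x0)) (.nd (.lf 0x0) (.lf 0))) (.nd (.nd (.lf 0x4f19) (.lf 0x3871)) (.nd (.lf 0x0) (.lf 0)))) (.nd (.nd (.nd (.lf 0x0) (.lf 0x0)) (.nd (.lf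 0x0) (.lf 0))) (.nd (.nd (.lf 0x0) (.lf 0x751f)) (.nd (.lf 0x0) (.lf 0))))) (.nd (.nd (.nd (.nd (.lf 0x0) (.lf 0x311a)) (.nd (.lf 0x0) (.lf 0))) (.nd (.nd (.lf 0x0) (.lf 0x6d9d)) (.nd (.lf 0x25b0) (.lf 0)))) (.nd (.nd (.nd (.lf 0x0) (.lf 0x0)) (.nd (.lf 0x6027) (.lf 0))) (.nd (.nd (.lf 0x0) (.lf 0x87a9)) (.nd (.lf 0x0) (.lf 0))))))) (.nd (.nd (.nd (.nd (.nd (.nd (.lf 0x0) (.lf 0x0)) (.nd (.lf 0x0) (.lf 0))) (.nd (.nd (.lf 0x0) (.lf 0x0)) (.nd (.lf 0x5c5e) (.lf 0)))) (.nd (.nd (.nd (.lf 0x0) (.lf 0x7378)) (.nd (.lf 0x0) (.lf 0))) (.nd (.nd (.lf 0x0) (.lf 0x623d)) (.nd (.lf 0x4784) (.lf 0))))) (.nd (.nd (.nd (.nd (.lf 0x0) (.lf 0xf4d)) (.nd (.lf 0x0) (.lf 0))) (.nd (.nd (.lf 0x0) (.lf 0x31f)) (.nd (.lf 0x0) (.lf 0)))) (.nd (.nd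 (.nd (.lf 0x0) (.lf 0x4d07)) (.nd (.lf 0x0) (.lf 0))) (.nd (.nd (.lf 0x0) (.lf 0x6634)) (.nd (.lf 0x827b) (.lf 0)))))) (.nd (.nd (.nd (.nd (.nd (.lf 0x0) (.lf 0x0)) (.nd (.lf 0x0) (.lf 0))) (.nd (.nd (.lf 0x0) (.lf 0x3030)) (.nd (.lf 0x7da9) (.lf 0)))) (.nd (.nd (.nd (.lf 0x0) (.lf 0x4b03)) (.nd (.lf 0x0) (.lf 0))) (.nd (.nd (.lf 0x0) (.lf 0x0)) (.nd (.lf 0x0) (.lf 0))))) (.nd (.nd (.nd (.nd (.lf 0x0) (.lf 0x3860)) (.nd (.lf 0x0) (.lf 0))) (.nd (.nd (.lf 0x0) (.lf 0x0)) (.nd (.lf 0x3507) (.lf 0)))) (.nd (.nd (.nd (.lf 0x0) (.lf 0x3812)) (.nd (.lf 0x0) (.lf 0))) (.nd (.nd (.lf 0x0) (.lf 0x83b2)) (.nd (.lf 0x4b51) (.lf 0))))))))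
def witB_nabbbbb : Tr := (.nd (.nd (.nd (.nd (.nd (.nd (.nd (.lf 0x0) (.lf 0xa8f)) (.nd (.lf 0x0) (.lf 0))) (.nd (.nd (.lf 0x0) (.lf 0x1f0a)) (.nd (.lf 0x1690) (.lf 0)))) (.nd (.nd (.nd (.lf 0x0) (.lf 0x0)) (.nd (.lf 0x0) (.lf 0))) (.nd (.nd (.lf 0x0) (.lf 0x5b03)) (.nd (.lf 0x0) (.lf 0))))) (.nd (.nd (.nd (.nd (.lf 0x0) (.lf 0x7c03)) (.nd (.lf 0x1610) (.lf 0))) (.nd (.nd (.lf 0x0) (.lf 0xf8c)) (.nd (.lf 0x0) (.lf 0)))) (.nd (.nd (.nd (.lf 0x0) (.lf 0x0)) (.nd (.lf 0x0) (.lf 0))) (.nd (.nd (.lf 0x0) (.lf 0x0)) (.nd (.lf 0x0) (.lf 0)))))) (.nd (.nd (.nd (.nd (.nd (.lf 0x0) (.lf 0x7669)) (.nd (.lf 0x0) (.lf 0))) (.nd (.nd (.lf 0x0) (.lf 0x3a5c)) (.nd (.lf 0x0) (.lf 0)))) (.nd (.nd (.nd (.lf 0x0) (.lf 0x6e5e)) (.nd (.lf 0x0)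 (.lf 0))) (.nd (.nd (.lf 0x1b3d) (.lf 0x1842)) (.nd (.lf 0x0) (.lf 0))))) (.nd (.nd (.nd (.nd (.lf 0x0) (.lf 0x0)) (.nd (.lf 0x0) (.lf 0))) (.nd (.nd (.lf 0x5129) (.lf 0x0)) (.nd (.lf 0x0) (.lf 0)))) (.nd (.nd (.nd (.lf 0x0) (.lf 0x0)) (.nd (.lf 0x0) (.lf 0))) (.nd (.nd (.lf 0x6212) (.lf 0x752a)) (.nd (.lf 0x0) (.lf 0))))))) (.nd (.nd (.nd (.nd (.nd (.nd (.lf 0x0) (.lf 0x18b2)) (.nd (.lf 0x0) (.lf 0))) (.nd (.nd (.lf 0x0) (.lf 0x0)) (.nd (.lf 0x0) (.lf 0)))) (.nd (.nd (.nd (.lf 0x0) (.lf 0x0)) (.nd (.lf 0x0) (.lf 0))) (.nd (.nd (.lf 0x0) (.lf 0x0)) (.nd (.lf 0x406f) (.lf 0))))) (.nd (.nd (.nd (.nd (.lf 0x0) (.lf 0x0)) (.nd (.lf 0x0) (.lf 0))) (.nd (.nd (.lf 0x0) (.lf 0x0)) (.nd (.lf 0x0) (.lf 0)))) (.nd (.nd (.nd (.lf 0x0)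 (.lf 0x423f)) (.nd (.lf 0x0) (.lf 0))) (.nd (.nd (.lf 0x0) (.lf 0x876)) (.nd (.lf 0x0) (.lf 0)))))) (.nd (.nd (.nd (.nd (.nd (.lf 0x0) (.lf 0x0)) (.nd (.lf 0x0) (.lf 0))) (.nd (.nd (.lf 0x0) (.lf 0x0)) (.nd (.lf 0x0) (.lf 0)))) (.nd (.nd (.nd (.lf 0x0) (.lf 0x0)) (.nd (.lf 0x0) (.lf 0))) (.nd (.nd (.lf 0x0) (.lf 0x6348)) (.nd (.lf 0x0) (.lf 0))))) (.nd (.nd (.nd (.nd (.lf 0x0) (.lf 0x0)) (.nd (.lf 0x0) (.lf 0))) (.nd (.nd (.lf 0x0) (.lf 0x0)) (.nd (.lf 0x0) (.lf 0)))) (.nd (.nd (.nd (.lf 0x0) (.lf 0x3879)) (.nd (.lf 0x0) (.lf 0))) (.nd (.nd (.lf 0x777d) (.lf 0x7a4e)) (.nd (.lf 0x0) (.lf 0))))))))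
def witB_nbaaaaa : Tr := (.nd (.nd (.nd (.nd (.nd (.nd (.nd (.lf 0x0) (.lf 0x0)) (.nd (.lf 0x0) (.lf 0x4559))) (.nd (.nd (.lf 0x0) (.lf 0x0)) (.nd (.lf 0x0) (.lf 0)))) (.nd (.nd (.nd (.lf 0x0) (.lf 0x245c)) (.nd (.lf 0x0) (.lf 0))) (.nd (.nd (.lf 0x0) (.lf 0x0)) (.nd (.lf 0x0) (.lf 0))))) (.nd (.nd (.nd (.nd (.lf 0x0) (.lf 0x0)) (.nd (.lf 0x0) (.lf 0))) (.nd (.nd (.lf 0x0) (.lf 0x861b)) (.nd (.lf 0x0) (.lf 0)))) (.nd (.nd (.nd (.lf 0x0) (.lf 0x582c)) (.nd (.lf 0x0) (.lf 0))) (.nd (.nd (.lf 0x0) (.lf 0x1d09)) (.nd (.lf 0x0) (.lf 0)))))) (.nd (.nd (.nd (.nd (.nd (.lf 0x0) (.lf 0x0)) (.nd (.lf 0x0) (.lf 0))) (.nd (.nd (.lf 0x2807) (.lf 0x1590)) (.nd (.lf 0x0) (.lf 0)))) (.nd (.nd (.nd (.lf 0x0) (.lf 0x0)) (.nd (.lf 0x0) (.lf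 0))) (.nd (.nd (.lf 0x0) (.lf 0x79f)) (.nd (.lf 0x0) (.lf 0))))) (.nd (.nd (.nd (.nd (.lf 0x0) (.lf 0x0)) (.nd (.lf 0x0) (.lf 0))) (.nd (.nd (.lf 0x424c) (.lf 0x0)) (.nd (.lf 0x0) (.lf 0)))) (.nd (.nd (.nd (.lf 0x0) (.lf 0x4d1b)) (.nd (.lf 0x0) (.lf 0))) (.nd (.nd (.lf 0x0) (.lf 0x2b6f)) (.nd (.lf 0x826e) (.lf 0))))))) (.nd (.nd (.nd (.nd (.nd (.nd (.lf 0x0) (.lf 0x0)) (.nd (.lf 0x5c62) (.lf 0))) (.nd (.nd (.lf 0x0) (.lf 0x0)) (.nd (.lf 0x186b) (.lf 0)))) (.nd (.nd (.nd (.lf 0x0) (.lf 0x6e00)) (.nd (.lf 0x2496) (.lf 0))) (.nd (.nd (.lf 0x0) (.lf 0x2862)) (.nd (.lf 0x6f1c) (.lf 0))))) (.nd (.nd (.nd (.nd (.lf 0x0) (.lf 0x0)) (.nd (.lf 0x1414) (.lf 0))) (.nd (.nd (.lf 0x0) (.lf 0x0)) (.nd (.lf 0x0) (.lf 0)))) (.nd (.nd (.nd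 (.lf 0x0) (.lf 0x0)) (.nd (.lf 0x0) (.lf 0))) (.nd (.nd (.lf 0x0) (.lf 0x0)) (.nd (.lf 0x0) (.lf 0)))))) (.nd (.nd (.nd (.nd (.nd (.lf 0x0) (.lf 0x469a)) (.nd (.lf 0x0) (.lf 0))) (.nd (.nd (.lf 0x4c34) (.lf 0x0)) (.nd (.lf 0x7e8d) (.lf 0)))) (.nd (.nd (.nd (.lf 0x0) (.lf 0x224a)) (.nd (.lf 0x0) (.lf 0))) (.nd (.nd (.lf 0x0) (.lf 0x4ba5)) (.nd (.lf 0x0) (.lf 0))))) (.nd (.nd (.nd (.nd (.lf 0x0) (.lf 0x0)) (.nd (.lf 0x0) (.lf 0))) (.nd (.nd (.lf 0x0) (.lf 0x34ad)) (.nd (.lf 0x0) (.lf 0)))) (.nd (.nd (.nd (.lf 0x0) (.lf 0x0)) (.nd (.lf 0x0) (.lf 0))) (.nd (.nd (.lf 0x0) (.lf 0x0)) (.nd (.lf 0x0) (.lf 0))))))))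
def witB_nbaaaab : Tr := (.nd (.nd (.nd (.nd (.nd (.nd (.nd (.lf 0x0) (.lf 0x0)) (.nd (.lf 0x0) (.lf 0))) (.nd (.nd (.lf 0x254b) (.lf 0x0)) (.nd (.lf 0x0) (.lf 0)))) (.nd (.nd (.nd (.lf 0x0) (.lf 0x0)) (.nd (.lf 0x0) (.lf 0))) (.nd (.nd (.lf 0x0) (.lf 0x0)) (.nd (.lf 0x0) (.lf 0))))) (.nd (.nd (.nd (.nd (.lf 0x0) (.lf 0x707c)) (.nd (.lf 0x0) (.lf 0))) (.nd (.nd (.lf 0x0) (.lf 0x0)) (.nd (.lf 0x0) (.lf 0)))) (.nd (.nd (.nd (.lf 0x0) (.lf 0x635a)) (.nd (.lf 0x0) (.lf 0))) (.nd (.nd (.lf 0x0) (.lf 0x0)) (.nd (.lf 0x1651) (.lf 0)))))) (.nd (.nd (.nd (.nd (.nd (.lf 0x0) (.lf 0x0)) (.nd (.lf 0x0) (.lf 0))) (.nd (.nd (.lf 0x0) (.lf 0x0)) (.nd (.lf 0x0) (.lf 0)))) (.nd (.nd (.nd (.lf 0x0) (.lf 0x0)) (.nd (.lf 0x0) (.lf 0))) (.nd (.nd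 (.lf 0x0) (.lf 0x8634)) (.nd (.lf 0x0) (.lf 0))))) (.nd (.nd (.nd (.nd (.lf 0x0) (.lf 0x8117)) (.nd (.lf 0x0) (.lf 0))) (.nd (.nd (.lf 0x0) (.lf 0x0)) (.nd (.lf 0x0) (.lf 0)))) (.nd (.nd (.nd (.lf 0x0) (.lf 0x5751)) (.nd (.lf 0x85a4) (.lf 0))) (.nd (.nd (.lf 0x0) (.lf 0xc8f)) (.nd (.lf 0x0) (.lf 0))))))) (.nd (.nd (.nd (.nd (.nd (.nd (.lf 0x0) (.lf 0x0)) (.nd (.lf 0x0) (.lf 0))) (.nd (.nd (.lf 0x0) (.lf 0x0)) (.nd (.lf 0x6d42) (.lf 0)))) (.nd (.nd (.nd (.lf 0x0) (.lf 0x0)) (.nd (.lf 0x0) (.lf 0))) (.nd (.nd (.lf 0x0) (.lf 0x99e)) (.nd (.lf 0x0) (.lf 0))))) (.nd (.nd (.nd (.nd (.lf 0x0) (.lf 0x0)) (.nd (.lf 0x0) (.lf 0))) (.nd (.nd (.lf 0x0) (.lf 0x0)) (.nd (.lf 0x0) (.lf 0)))) (.nd (.nd (.nd (.lf 0x0) (.lf 0x0)) (.nd (.lf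 0x31a6) (.lf 0))) (.nd (.nd (.lf 0x0) (.lf 0x4e8a)) (.nd (.lf 0x1e37) (.lf 0)))))) (.nd (.nd (.nd (.nd (.nd (.lf 0x0) (.lf 0x3f95)) (.nd (.lf 0x0) (.lf 0))) (.nd (.nd (.lf 0x0) (.lf 0x67a3)) (.nd (.lf 0x0) (.lf 0)))) (.nd (.nd (.nd (.lf 0x0) (.lf 0x0)) (.nd (.lf 0x0) (.lf 0))) (.nd (.nd (.lf 0x0) (.lf 0x7e7d)) (.nd (.lf 0x0) (.lf 0))))) (.nd (.nd (.nd (.nd (.lf 0x0) (.lf 0x8727)) (.nd (.lf 0x0) (.lf 0))) (.nd (.nd (.lf 0x0) (.lf 0x0)) (.nd (.lf 0x0) (.lf 0)))) (.nd (.nd (.nd (.lf 0x0) (.lf 0x0)) (.nd (.lf 0x0) (.lf 0))) (.nd (.nd (.lf 0x0) (.lf 0x0)) (.nd (.lf 0x188b) (.lf 0))))))))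
def witB_nbaaaba : Tr := (.nd (.nd (.nd (.nd (.nd (.nd (.nd (.lf 0x0) (.lf 0x96d)) (.nd (.lf 0xa64) (.lf 0))) (.nd (.nd (.lf 0x0) (.lf 0x1422)) (.nd (.lf 0x0) (.lf 0)))) (.nd (.nd (.nd (.lf 0x0) (.lf 0x0)) (.nd (.lf 0x0) (.lf 0))) (.nd (.nd (.lf 0x0) (.lf 0x83c)) (.nd (.lf 0x7a47) (.lf 0))))) (.nd (.nd (.nd (.nd (.lf 0x0) (.lf 0x0)) (.nd (.lf 0x0) (.lf 0))) (.nd (.nd (.lf 0x0) (.lf 0x0)) (.nd (.lf 0x0) (.lf 0)))) (.nd (.nd (.nd (.lf 0x0) (.lf 0x0)) (.nd (.lf 0x0) (.lf 0))) (.nd (.nd (.lf 0x0) (.lf 0x70a1)) (.nd (.lf 0x0) (.lf 0)))))) (.nd (.nd (.nd (.nd (.nd (.lf 0x0) (.lf 0x0)) (.nd (.lf 0x0) (.lf 0))) (.nd (.nd (.lf 0x6948) (.lf 0x0)) (.nd (.lf 0x245f) (.lf 0)))) (.nd (.nd (.nd (.lf 0x0) (.lf 0x0)) (.nd (.lf 0x0) (.lf 0)))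 (.nd (.nd (.lf 0x0) (.lf 0x0)) (.nd (.lf 0x6e84) (.lf 0))))) (.nd (.nd (.nd (.nd (.lf 0x0) (.lf 0x0)) (.nd (.lf 0x174c) (.lf 0))) (.nd (.nd (.lf 0x0) (.lf 0x0)) (.nd (.lf 0x0) (.lf 0)))) (.nd (.nd (.nd (.lf 0x0) (.lf 0x408d)) (.nd (.lf 0x0) (.lf 0))) (.nd (.nd (.lf 0x0) (.lf 0x3b04)) (.nd (.lf 0x43a7) (.lf 0))))))) (.nd (.nd (.nd (.nd (.nd (.nd (.lf 0x0) (.lf 0x0)) (.nd (.lf 0x6199) (.lf 0))) (.nd (.nd (.lf 0x0) (.lf 0x6266)) (.nd (.lf 0xa11) (.lf 0)))) (.nd (.nd (.nd (.lf 0x0) (.lf 0x384c)) (.nd (.lf 0x0) (.lf 0))) (.nd (.nd (.lf 0x0) (.lf 0x0)) (.nd (.lf 0xd25) (.lf 0))))) (.nd (.nd (.nd (.nd (.lf 0x0) (.lf 0x0)) (.nd (.lf 0x0) (.lf 0))) (.nd (.nd (.lf 0x5a8b) (.lf 0x3b4b)) (.nd (.lf 0x0) (.lf 0)))) (.nd (.nd (.nd (.lf 0x0)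 (.lf 0x0)) (.nd (.lf 0x0) (.lf 0))) (.nd (.nd (.lf 0x0) (.lf 0x0)) (.nd (.lf 0x66a3) (.lf 0)))))) (.nd (.nd (.nd (.nd (.nd (.lf 0x0) (.lf 0x0)) (.nd (.lf 0x0) (.lf 0))) (.nd (.nd (.lf 0x0) (.lf 0x0)) (.nd (.lf 0x0) (.lf 0)))) (.nd (.nd (.nd (.lf 0x0) (.lf 0x81af)) (.nd (.lf 0x0) (.lf 0))) (.nd (.nd (.lf 0x0) (.lf 0x0)) (.nd (.lf 0x0) (.lf 0))))) (.nd (.nd (.nd (.nd (.lf 0x0) (.lf 0x0)) (.nd (.lf 0x0) (.lf 0))) (.nd (.nd (.lf 0x0) (.lf 0x2934)) (.nd (.lf 0x0) (.lf 0)))) (.nd (.nd (.nd (.lf 0x0) (.lf 0x774b)) (.nd (.lf 0x692b) (.lf 0))) (.nd (.nd (.lf 0x0) (.lf 0x0)) (.nd (.lf 0x0) (.lf 0))))))))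
def witB_nbaaabb : Tr := (.nd (.nd (.nd (.nd (.nd (.nd (.nd (.lf 0x0) (.lf 0x0)) (.nd (.lf 0x0) (.lf 0))) (.nd (.nd (.lf 0x0) (.lf 0x4e4f)) (.nd (.lf 0x7c94) (.lf 0)))) (.nd (.nd (.nd (.lf 0x0) (.lf 0x0)) (.nd (.lf 0x0) (.lf 0))) (.nd (.nd (.lf 0x0) (.lf 0x650)) (.nd (.lf 0x0) (.lf 0))))) (.nd (.nd (.nd (.nd (.lf 0x0) (.lf 0x0)) (.nd (.lf 0x0) (.lf 0))) (.nd (.nd (.lf 0x0) (.lf 0x0)) (.nd (.lf 0x0) (.lf 0)))) (.nd (.nd (.nd (.lf 0x0) (.lf 0x0)) (.nd (.lf 0x0) (.lf 0))) (.nd (.nd (.lf 0x0) (.lf 0x0)) (.nd (.lf 0x0) (.lf 0)))))) (.nd (.nd (.nd (.nd (.nd (.lf 0x0) (.lf 0x0)) (.nd (.lf 0x0) (.lf 0))) (.nd (.nd (.lf 0x0) (.lf 0x0)) (.nd (.lf 0x0) (.lf 0)))) (.nd (.nd (.nd (.lf 0x0) (.lf 0x4786)) (.nd (.lf 0x0) (.lf 0))) (.nd (.nd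 (.lf 0x0) (.lf 0x0)) (.nd (.lf 0x0) (.lf 0))))) (.nd (.nd (.nd (.nd (.lf 0x0) (.lf 0x6561)) (.nd (.lf 0x0) (.lf 0))) (.nd (.nd (.lf 0x0) (.lf 0x4a51)) (.nd (.lf 0x5390) (.lf 0)))) (.nd (.nd (.nd (.lf 0xa99) (.lf 0x4a2b)) (.nd (.lf 0x0) (.lf 0))) (.nd (.nd (.lf 0x2951) (.lf 0x0)) (.nd (.lf 0x0) (.lf 0))))))) (.nd (.nd (.nd (.nd (.nd (.nd (.lf 0x0) (.lf 0x8432)) (.nd (.lf 0x0) (.lf 0))) (.nd (.nd (.lf 0x0) (.lf 0x0)) (.nd (.lf 0x0) (.lf 0)))) (.nd (.nd (.nd (.lf 0x0) (.lf 0x0)) (.nd (.lf 0x0) (.lf 0))) (.nd (.nd (.lf 0x0) (.lf 0x5116)) (.nd (.lf 0x0) (.lf 0))))) (.nd (.nd (.nd (.nd (.lf 0x0) (.lf 0x0)) (.nd (.lf 0x1688) (.lf 0))) (.nd (.nd (.lf 0x0) (.lf 0x7247)) (.nd (.lf 0xe50) (.lf 0)))) (.nd (.nd (.nd (.lf 0x133a) (.lf 0x589c))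 (.nd (.lf 0x0) (.lf 0))) (.nd (.nd (.lf 0x0) (.lf 0x107f)) (.nd (.lf 0x1675) (.lf 0)))))) (.nd (.nd (.nd (.nd (.nd (.lf 0x0) (.lf 0x4a40)) (.nd (.lf 0x0) (.lf 0))) (.nd (.nd (.lf 0x0) (.lf 0x6d5d)) (.nd (.lf 0x0) (.lf 0)))) (.nd (.nd (.nd (.lf 0x0) (.lf 0x0)) (.nd (.lf 0x0) (.lf 0))) (.nd (.nd (.lf 0x0) (.lf 0x3e68)) (.nd (.lf 0x0) (.lf 0))))) (.nd (.nd (.nd (.nd (.lf 0x0) (.lf 0x0)) (.nd (.lf 0x2808) (.lf 0))) (.nd (.nd (.lf 0x0) (.lf 0x46e)) (.nd (.lf 0x0) (.lf 0)))) (.nd (.nd (.nd (.lf 0x0) (.lf 0x8279)) (.nd (.lf 0x0) (.lf 0))) (.nd (.nd (.lf 0x0) (.lf 0x63a3)) (.nd (.lf 0x1a21) (.lf 0))))))))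
def witB_nbaabaa : Tr := (.nd (.nd (.nd (.nd (.nd (.nd (.nd (.lf 0x0) (.lf 0x6b39)) (.nd (.lf 0x5c88) (.lf 0x0))) (.nd (.nd (.lf 0x0) (.lf 0x1f73)) (.nd (.lf 0xc64) (.lf 0)))) (.nd (.nd (.nd (.lf 0x0) (.lf 0x0)) (.nd (.lf 0x0) (.lf 0))) (.nd (.nd (.lf 0x0) (.lf 0x0)) (.nd (.lf 0x0) (.lf 0))))) (.nd (.nd (.nd (.nd (.lf 0x0) (.lf 0x87a5)) (.nd (.lf 0x0) (.lf 0))) (.nd (.nd (.lf 0x0) (.lf 0x0)) (.nd (.lf 0x1424) (.lf 0)))) (.nd (.nd (.nd (.lf 0x0) (.lf 0x0)) (.nd (.lf 0x0) (.lf 0))) (.nd (.nd (.lf 0x0) (.lf 0x0)) (.nd (.lf 0x0) (.lf 0)))))) (.nd (.nd (.nd (.nd (.nd (.lf 0x0) (.lf 0x0)) (.nd (.lf 0x0) (.lf 0))) (.nd (.nd (.lf 0x0) (.lf 0xdaa)) (.nd (.lf 0x3aab) (.lf 0)))) (.nd (.nd (.nd (.lf 0x6c0d) (.lf 0x2e56)) (.nd (.lf 0x0)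 (.lf 0))) (.nd (.nd (.lf 0x0) (.lf 0x0)) (.nd (.lf 0x0) (.lf 0))))) (.nd (.nd (.nd (.nd (.lf 0x0) (.lf 0x0)) (.nd (.lf 0x0) (.lf 0))) (.nd (.nd (.lf 0x0) (.lf 0x0)) (.nd (.lf 0x0) (.lf 0)))) (.nd (.nd (.nd (.lf 0x0) (.lf 0x0)) (.nd (.lf 0x2f83) (.lf 0))) (.nd (.nd (.lf 0x0) (.lf 0x636c)) (.nd (.lf 0x0) (.lf 0))))))) (.nd (.nd (.nd (.nd (.nd (.nd (.lf 0x0) (.lf 0x0)) (.nd (.lf 0x0) (.lf 0))) (.nd (.nd (.lf 0x0) (.lf 0x0)) (.nd (.lf 0x4f9f) (.lf 0)))) (.nd (.nd (.nd (.lf 0x0) (.lf 0x7530)) (.nd (.lf 0x0) (.lf 0))) (.nd (.nd (.lf 0x475b) (.lf 0x0)) (.nd (.lf 0x0) (.lf 0))))) (.nd (.nd (.nd (.nd (.lf 0x0) (.lf 0x6507)) (.nd (.lf 0x0) (.lf 0))) (.nd (.nd (.lf 0x0) (.lf 0x0)) (.nd (.lf 0x0) (.lf 0)))) (.nd (.nd (.nd (.lf 0x0) (.lf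 0x0)) (.nd (.lf 0xc2d) (.lf 0))) (.nd (.nd (.lf 0x0) (.lf 0x1973)) (.nd (.lf 0x0) (.lf 0)))))) (.nd (.nd (.nd (.nd (.nd (.lf 0x0) (.lf 0x0)) (.nd (.lf 0x0) (.lf 0))) (.nd (.nd (.lf 0x0) (.lf 0x239d)) (.nd (.lf 0x0) (.lf 0)))) (.nd (.nd (.nd (.lf 0x0) (.lf 0x7537)) (.nd (.lf 0x0) (.lf 0))) (.nd (.nd (.lf 0x0) (.lf 0x0)) (.nd (.lf 0x571d) (.lf 0))))) (.nd (.nd (.nd (.nd (.lf 0x0) (.lf 0x0)) (.nd (.lf 0x0) (.lf 0))) (.nd (.nd (.lf 0x0) (.lf 0x7213)) (.nd (.lf 0x0) (.lf 0)))) (.nd (.nd (.nd (.lf 0x0) (.lf 0x0)) (.nd (.lf 0x0) (.lf 0))) (.nd (.nd (.lf 0x0) (.lf 0x0)) (.nd (.lf 0x2d35) (.lf 0))))))))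
def witB_nbaabab : Tr := (.nd (.nd (.nd (.nd (.nd (.nd (.nd (.lf 0x0) (.lf 0x0)) (.nd (.lf 0x0) (.lf 0))) (.nd (.nd (.lf 0x0) (.lf 0x5f08)) (.nd (.lf 0x4f6c) (.lf 0)))) (.nd (.nd (.nd (.lf 0x0) (.lf 0x0)) (.nd (.lf 0x0) (.lf 0))) (.nd (.nd (.lf 0x0) (.lf 0x0)) (.nd (.lf 0x0) (.lf 0))))) (.nd (.nd (.nd (.nd (.lf 0x0) (.lf 0x0)) (.nd (.lf 0x0) (.lf 0))) (.nd (.nd (.lf 0x0) (.lf 0x0)) (.nd (.lf 0x0) (.lf 0)))) (.nd (.nd (.nd (.lf 0x0) (.lf 0x0)) (.nd (.lf 0x0) (.lf 0))) (.nd (.nd (.lf 0x0) (.lf 0x653b)) (.nd (.lf 0x7426) (.lf 0)))))) (.nd (.nd (.nd (.nd (.nd (.lf 0x0) (.lf 0x0)) (.nd (.lf 0x0) (.lf 0))) (.nd (.nd (.lf 0x0) (.lf 0x5d41)) (.nd (.lf 0x0) (.lf 0)))) (.nd (.nd (.nd (.lf 0x0) (.lf 0x0)) (.nd (.lf 0x4c6a) (.lf 0)))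 (.nd (.nd (.lf 0x0) (.lf 0x0)) (.nd (.lf 0x0) (.lf 0))))) (.nd (.nd (.nd (.nd (.lf 0x0) (.lf 0x0)) (.nd (.lf 0x0) (.lf 0))) (.nd (.nd (.lf 0x0) (.lf 0x0)) (.nd (.lf 0x0) (.lf 0)))) (.nd (.nd (.nd (.lf 0x0) (.lf 0x0)) (.nd (.lf 0x0) (.lf 0))) (.nd (.nd (.lf 0x0) (.lf 0x0)) (.nd (.lf 0x5059) (.lf 0))))))) (.nd (.nd (.nd (.nd (.nd (.nd (.lf 0x0) (.lf 0x0)) (.nd (.lf 0x0) (.lf 0))) (.nd (.nd (.lf 0x0) (.lf 0x0)) (.nd (.lf 0x0) (.lf 0)))) (.nd (.nd (.nd (.lf 0x0) (.lf 0x0)) (.nd (.lf 0x0) (.lf 0))) (.nd (.nd (.lf 0x6611) (.lf 0x176c)) (.nd (.lf 0x0) (.lf 0))))) (.nd (.nd (.nd (.nd (.lf 0x0) (.lf 0x424a)) (.nd (.lf 0x0) (.lf 0))) (.nd (.nd (.lf 0x0) (.lf 0x0)) (.nd (.lf 0x5d06) (.lf 0)))) (.nd (.nd (.nd (.lf 0x0) (.lf 0x5482)) (.nd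 (.lf 0x0) (.lf 0))) (.nd (.nd (.lf 0x0) (.lf 0x5f6b)) (.nd (.lf 0x0) (.lf 0)))))) (.nd (.nd (.nd (.nd (.nd (.lf 0x0) (.lf 0x0)) (.nd (.lf 0x0) (.lf 0))) (.nd (.nd (.lf 0x0) (.lf 0x2087)) (.nd (.lf 0x0) (.lf 0)))) (.nd (.nd (.nd (.lf 0x0) (.lf 0x0)) (.nd (.lf 0x0) (.lf 0))) (.nd (.nd (.lf 0x0) (.lf 0xf5e)) (.nd (.lf 0x5a37) (.lf 0))))) (.nd (.nd (.nd (.nd (.lf 0x0) (.lf 0x6e47)) (.nd (.lf 0x0) (.lf 0))) (.nd (.nd (.lf 0x0) (.lf 0x2099)) (.nd (.lf 0x4842) (.lf 0)))) (.nd (.nd (.nd (.lf 0x0) (.lf 0x0)) (.nd (.lf 0x554a) (.lf 0))) (.nd (.nd (.lf 0x0) (.lf 0x0)) (.nd (.lf 0x0) (.lf 0))))))))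
def witB_nbaabba : Tr := (.nd (.nd (.nd (.nd (.nd (.nd (.nd (.lf 0x0) (.lf 0x0)) (.nd (.lf 0x5997) (.lf 0))) (.nd (.nd (.lf 0x0) (.lf 0x0)) (.nd (.lf 0x0) (.lf 0)))) (.nd (.nd (.nd (.lf 0x6cae) (.lf 0x629b)) (.nd (.lf 0x0) (.lf 0))) (.nd (.nd (.lf 0x0) (.lf 0x2601)) (.nd (.lf 0x0) (.lf 0))))) (.nd (.nd (.nd (.nd (.lf 0x0) (.lf 0x43b0)) (.nd (.lf 0x0) (.lf 0))) (.nd (.nd (.lf 0x0) (.lf 0x308)) (.nd (.lf 0x6615) (.lf 0)))) (.nd (.nd (.nd (.lf 0x0) (.lf 0x0)) (.nd (.lf 0x5e6b) (.lf 0))) (.nd (.nd (.lf 0x0) (.lf 0x6f30)) (.nd (.lf 0x0) (.lf 0)))))) (.nd (.nd (.nd (.nd (.nd (.lf 0x0) (.lf 0x0)) (.nd (.lf 0x0) (.lf 0))) (.nd (.nd (.lf 0x0) (.lf 0x0)) (.nd (.lf 0x0) (.lf 0)))) (.nd (.nd (.nd (.lf 0x0) (.lf 0x0)) (.nd (.lf 0x0) (.lf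 0))) (.nd (.nd (.lf 0x0) (.lf 0x0)) (.nd (.lf 0x0) (.lf 0))))) (.nd (.nd (.nd (.nd (.lf 0x0) (.lf 0x0)) (.nd (.lf 0x0) (.lf 0))) (.nd (.nd (.lf 0x0) (.lf 0x2c5f)) (.nd (.lf 0x0) (.lf 0)))) (.nd (.nd (.nd (.lf 0x0) (.lf 0x0)) (.nd (.lf 0x4787) (.lf 0))) (.nd (.nd (.lf 0x0) (.lf 0x0)) (.nd (.lf 0x0) (.lf 0))))))) (.nd (.nd (.nd (.nd (.nd (.nd (.lf 0x0) (.lf 0x7c0d)) (.nd (.lf 0x0) (.lf 0))) (.nd (.nd (.lf 0x0) (.lf 0x0)) (.nd (.lf 0x0) (.lf 0)))) (.nd (.nd (.nd (.lf 0x0) (.lf 0x0)) (.nd (.lf 0x0) (.lf 0))) (.nd (.nd (.lf 0x0) (.lf 0x0)) (.nd (.lf 0x0) (.lf 0))))) (.nd (.nd (.nd (.nd (.lf 0x0) (.lf 0x5058)) (.nd (.lf 0x0) (.lf 0))) (.nd (.nd (.lf 0x83a8) (.lf 0x0)) (.nd (.lf 0x0) (.lf 0)))) (.nd (.nd (.nd (.lf 0x0) (.lf 0x0))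 (.nd (.lf 0x0) (.lf 0))) (.nd (.nd (.lf 0x0) (.lf 0x0)) (.nd (.lf 0x0) (.lf 0)))))) (.nd (.nd (.nd (.nd (.nd (.lf 0x0) (.lf 0x0)) (.nd (.lf 0x0) (.lf 0))) (.nd (.nd (.lf 0x0) (.lf 0x0)) (.nd (.lf 0x0) (.lf 0)))) (.nd (.nd (.nd (.lf 0x0) (.lf 0x4841)) (.nd (.lf 0x0) (.lf 0))) (.nd (.nd (.lf 0x0) (.lf 0x6107)) (.nd (.lf 0x0) (.lf 0))))) (.nd (.nd (.nd (.nd (.lf 0x0) (.lf 0x0)) (.nd (.lf 0x0) (.lf 0))) (.nd (.nd (.lf 0x7832) (.lf 0x3771)) (.nd (.lf 0x0) (.lf 0)))) (.nd (.nd (.nd (.lf 0x0) (.lf 0x1245)) (.nd (.lf 0x0) (.lf 0))) (.nd (.nd (.lf 0x0) (.lf 0x8297)) (.nd (.lf 0x0) (.lf 0))))))))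
def witB_nbaabbb : Tr := (.nd (.nd (.nd (.nd (.nd (.nd (.nd (.lf 0x0) (.lf 0x0)) (.nd (.lf 0x0) (.lf 0))) (.nd (.nd (.lf 0x0) (.lf 0x0)) (.nd (.lf 0x0) (.lf 0)))) (.nd (.nd (.nd (.lf 0x0) (.lf 0x0)) (.nd (.lf 0x0) (.lf 0))) (.nd (.nd (.lf 0x0) (.lf 0x0)) (.nd (.lf 0x0) (.lf 0))))) (.nd (.nd (.nd (.nd (.lf 0x0) (.lf 0x5c05)) (.nd (.lf 0x0) (.lf 0))) (.nd (.nd (.lf 0x0) (.lf 0x4748)) (.nd (.lf 0x0) (.lf 0)))) (.nd (.nd (.nd (.lf 0x0) (.lf 0x0)) (.nd (.lf 0x6d83) (.lf 0))) (.nd (.nd (.lf 0x0) (.lf 0x0)) (.nd (.lf 0x0) (.lf 0)))))) (.nd (.nd (.nd (.nd (.nd (.lf 0x0) (.lf 0x0)) (.nd (.lf 0x0) (.lf 0))) (.nd (.nd (.lf 0x0) (.lf 0x7872)) (.nd (.lf 0x0) (.lf 0)))) (.nd (.nd (.nd (.lf 0x0) (.lf 0x1e43)) (.nd (.lf 0x0) (.lf 0))) (.nd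 (.nd (.lf 0x7094) (.lf 0x0)) (.nd (.lf 0x0) (.lf 0))))) (.nd (.nd (.nd (.nd (.lf 0x0) (.lf 0x0)) (.nd (.lf 0x0) (.lf 0))) (.nd (.nd (.lf 0x0) (.lf 0x0)) (.nd (.lf 0x0) (.lf 0)))) (.nd (.nd (.nd (.lf 0x0) (.lf 0x0)) (.nd (.lf 0x2904) (.lf 0))) (.nd (.nd (.lf 0x0) (.lf 0x0)) (.nd (.lf 0x1a8b) (.lf 0))))))) (.nd (.nd (.nd (.nd (.nd (.nd (.lf 0x0) (.lf 0x0)) (.nd (.lf 0x0) (.lf 0))) (.nd (.nd (.lf 0x0) (.lf 0x0)) (.nd (.lf 0x180b) (.lf 0)))) (.nd (.nd (.nd (.lf 0x0) (.lf 0x0)) (.nd (.lf 0x0) (.lf 0))) (.nd (.nd (.lf 0x0) (.lf 0x0)) (.nd (.lf 0x1a79) (.lf 0))))) (.nd (.nd (.nd (.nd (.lf 0x0) (.lf 0x3533)) (.nd (.lf 0x0) (.lf 0))) (.nd (.nd (.lf 0x0) (.lf 0x3781)) (.nd (.lf 0x0) (.lf 0)))) (.nd (.nd (.nd (.lf 0x0) (.lf 0xc79)) (.nd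 (.lf 0x0) (.lf 0))) (.nd (.nd (.lf 0x0) (.lf 0x659c)) (.nd (.lf 0x0) (.lf 0)))))) (.nd (.nd (.nd (.nd (.nd (.lf 0x0) (.lf 0x0)) (.nd (.lf 0x0) (.lf 0))) (.nd (.nd (.lf 0x0) (.lf 0x56a3)) (.nd (.lf 0x0) (.lf 0)))) (.nd (.nd (.nd (.lf 0x0) (.lf 0x0)) (.nd (.lf 0x0) (.lf 0))) (.nd (.nd (.lf 0x0) (.lf 0x5c58)) (.nd (.lf 0x0) (.lf 0))))) (.nd (.nd (.nd (.nd (.lf 0x0) (.lf 0x0)) (.nd (.lf 0x0) (.lf 0))) (.nd (.nd (.lf 0x0) (.lf 0x4b3a)) (.nd (.lf 0x605a) (.lf 0)))) (.nd (.nd (.nd (.lf 0x0) (.lf 0x0)) (.nd (.lf 0x0) (.lf 0))) (.nd (.nd (.lf 0x3d47) (.lf 0xc42)) (.nd (.lf 0x134) (.lf 0))))))))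
def witB_nbabaaa : Tr := (.nd (.nd (.nd (.nd (.nd (.nd (.nd (.lf 0x0) (.lf 0x0)) (.nd (.lf 0x0) (.lf 0x6356))) (.nd (.nd (.lf 0x0) (.lf 0x2269)) (.nd (.lf 0x0) (.lf 0)))) (.nd (.nd (.nd (.lf 0x64ae) (.lf 0x20b1)) (.nd (.lf 0x46ae) (.lf 0))) (.nd (.nd (.lf 0x0) (.lf 0x6655)) (.nd (.lf 0x7c0a) (.lf 0))))) (.nd (.nd (.nd (.nd (.lf 0x0) (.lf 0x0)) (.nd (.lf 0x0) (.lf 0))) (.nd (.nd (.lf 0x0) (.lf 0x2087)) (.nd (.lf 0x4947) (.lf 0)))) (.nd (.nd (.nd (.lf 0x0) (.lf 0x0)) (.nd (.lf 0x0) (.lf 0))) (.nd (.nd (.lf 0x0) (.lf 0x463)) (.nd (.lf 0x0) (.lf 0)))))) (.nd (.nd (.nd (.nd (.nd (.lf 0x0) (.lf 0x0)) (.nd (.lf 0x0) (.lf 0))) (.nd (.nd (.lf 0x0) (.lf 0x0)) (.nd (.lf 0x0) (.lf 0)))) (.nd (.nd (.nd (.lf 0x0) (.lf 0x0)) (.nd (.lf 0x0)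 (.lf 0))) (.nd (.nd (.lf 0x0) (.lf 0x6180)) (.nd (.lf 0x0) (.lf 0))))) (.nd (.nd (.nd (.nd (.lf 0x0) (.lf 0xd70)) (.nd (.lf 0x0) (.lf 0))) (.nd (.nd (.lf 0x0) (.lf 0x0)) (.nd (.lf 0x6010) (.lf 0)))) (.nd (.nd (.nd (.lf 0x0) (.lf 0x0)) (.nd (.lf 0x0) (.lf 0))) (.nd (.nd (.lf 0x0) (.lf 0x0)) (.nd (.lf 0x4a37) (.lf 0))))))) (.nd (.nd (.nd (.nd (.nd (.nd (.lf 0x0) (.lf 0x0)) (.nd (.lf 0x0) (.lf 0))) (.nd (.nd (.lf 0x0) (.lf 0x0)) (.nd (.lf 0x776f) (.lf 0)))) (.nd (.nd (.nd (.lf 0x0) (.lf 0x0)) (.nd (.lf 0x0) (.lf 0))) (.nd (.nd (.lf 0x2a64) (.lf 0x0)) (.nd (.lf 0x0) (.lf 0))))) (.nd (.nd (.nd (.nd (.lf 0x0) (.lf 0x0)) (.nd (.lf 0x0) (.lf 0))) (.nd (.nd (.lf 0x0) (.lf 0x0)) (.nd (.lf 0x0) (.lf 0)))) (.nd (.nd (.nd (.lf 0x0) (.lf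 0x0)) (.nd (.lf 0x0) (.lf 0))) (.nd (.nd (.lf 0x0) (.lf 0x0)) (.nd (.lf 0x0) (.lf 0)))))) (.nd (.nd (.nd (.nd (.nd (.lf 0x0) (.lf 0x0)) (.nd (.lf 0x0) (.lf 0))) (.nd (.nd (.lf 0x0) (.lf 0x1e31)) (.nd (.lf 0x0) (.lf 0)))) (.nd (.nd (.nd (.lf 0x0) (.lf 0x42a6)) (.nd (.lf 0x0) (.lf 0))) (.nd (.nd (.lf 0x0) (.lf 0x54a0)) (.nd (.lf 0x0) (.lf 0))))) (.nd (.nd (.nd (.nd (.lf 0x0) (.lf 0x0)) (.nd (.lf 0x0) (.lf 0))) (.nd (.nd (.lf 0x0) (.lf 0x0)) (.nd (.lf 0x0) (.lf 0)))) (.nd (.nd (.nd (.lf 0x0) (.lf 0x6510)) (.nd (.lf 0x0) (.lf 0))) (.nd (.nd (.lf 0x0) (.lf 0x7946)) (.nd (.lf 0x3331) (.lf 0))))))))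
def witB_nbabaab : Tr := (.nd (.nd (.nd (.nd (.nd (.nd (.nd (.lf 0x0) (.lf 0x0)) (.nd (.lf 0x0) (.lf 0))) (.nd (.nd (.lf 0x0) (.lf 0x731d)) (.nd (.lf 0x0) (.lf 0)))) (.nd (.nd (.nd (.lf 0x0) (.lf 0x0)) (.nd (.lf 0x0) (.lf 0))) (.nd (.nd (.lf 0x0) (.lf 0x0)) (.nd (.lf 0x0) (.lf 0))))) (.nd (.nd (.nd (.nd (.lf 0x0) (.lf 0x0)) (.nd (.lf 0x0) (.lf 0))) (.nd (.nd (.lf 0x0) (.lf 0x2e76)) (.nd (.lf 0x3090) (.lf 0)))) (.nd (.nd (.nd (.lf 0x0) (.lf 0x0)) (.nd (.lf 0x0) (.lf 0))) (.nd (.nd (.lf 0x0) (.lf 0x38a8)) (.nd (.lf 0x0) (.lf 0)))))) (.nd (.nd (.nd (.nd (.nd (.lf 0x0) (.lf 0x0)) (.nd (.lf 0x0) (.lf 0))) (.nd (.nd (.lf 0x0) (.lf 0x0)) (.nd (.lf 0x0) (.lf 0)))) (.nd (.nd (.nd (.lf 0x0) (.lf 0x8045)) (.nd (.lf 0x574b) (.lf 0)))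 (.nd (.nd (.lf 0x0) (.lf 0x0)) (.nd (.lf 0x7266) (.lf 0))))) (.nd (.nd (.nd (.nd (.lf 0x0) (.lf 0x0)) (.nd (.lf 0x0) (.lf 0))) (.nd (.nd (.lf 0x0) (.lf 0x0)) (.nd (.lf 0x0) (.lf 0)))) (.nd (.nd (.nd (.lf 0x0) (.lf 0x0)) (.nd (.lf 0x0) (.lf 0))) (.nd (.nd (.lf 0x0) (.lf 0x0)) (.nd (.lf 0x4b97) (.lf 0))))))) (.nd (.nd (.nd (.nd (.nd (.nd (.lf 0x0) (.lf 0x0)) (.nd (.lf 0x0) (.lf 0))) (.nd (.nd (.lf 0x0) (.lf 0x0)) (.nd (.lf 0x0) (.lf 0)))) (.nd (.nd (.nd (.lf 0x0) (.lf 0x749a)) (.nd (.lf 0x0) (.lf 0))) (.nd (.nd (.lf 0x0) (.lf 0x4186)) (.nd (.lf 0x4d70) (.lf 0))))) (.nd (.nd (.nd (.nd (.lf 0x0) (.lf 0x597b)) (.nd (.lf 0x0) (.lf 0))) (.nd (.nd (.lf 0xf19) (.lf 0x0)) (.nd (.lf 0x4caf) (.lf 0)))) (.nd (.nd (.nd (.lf 0x0) (.lf 0x0))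 (.nd (.lf 0x0) (.lf 0))) (.nd (.nd (.lf 0x0) (.lf 0x0)) (.nd (.lf 0x0) (.lf 0)))))) (.nd (.nd (.nd (.nd (.nd (.lf 0x0) (.lf 0x0)) (.nd (.lf 0x0) (.lf 0))) (.nd (.nd (.lf 0x5b76) (.lf 0x1d4b)) (.nd (.lf 0x3933) (.lf 0)))) (.nd (.nd (.nd (.lf 0x0) (.lf 0x0)) (.nd (.lf 0x0) (.lf 0))) (.nd (.nd (.lf 0x0) (.lf 0x0)) (.nd (.lf 0x0) (.lf 0))))) (.nd (.nd (.nd (.nd (.lf 0x0) (.lf 0x0)) (.nd (.lf 0x0) (.lf 0))) (.nd (.nd (.lf 0x7351) (.lf 0x0)) (.nd (.lf 0x0) (.lf 0)))) (.nd (.nd (.nd (.lf 0x0) (.lf 0x8555)) (.nd (.lf 0x0) (.lf 0))) (.nd (.nd (.lf 0x0) (.lf 0x0)) (.nd (.lf 0x0) (.lf 0))))))))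
def witB_nbababa : Tr := (.nd (.nd (.nd (.nd (.nd (.nd (.nd (.lf 0x0) (.lf 0x0)) (.nd (.lf 0x0) (.lf 0))) (.nd (.nd (.lf 0x0) (.lf 0x0)) (.nd (.lf 0x0) (.lf 0)))) (.nd (.nd (.nd (.lf 0x0) (.lf 0x0)) (.nd (.lf 0x0) (.lf 0))) (.nd (.nd (.lf 0x2759) (.lf 0xe17)) (.nd (.lf 0x0) (.lf 0))))) (.nd (.nd (.nd (.nd (.lf 0x0) (.lf 0x255f)) (.nd (.lf 0x0) (.lf 0))) (.nd (.nd (.lf 0x0) (.lf 0x0)) (.nd (.lf 0x6b8c) (.lf 0)))) (.nd (.nd (.nd (.lf 0x0) (.lf 0x1c6b)) (.nd (.lf 0x0) (.lf 0))) (.nd (.nd (.lf 0x8784) (.lf 0x6755)) (.nd (.lf 0x0) (.lf 0)))))) (.nd (.nd (.nd (.nd (.nd (.lf 0x0) (.lf 0x0)) (.nd (.lf 0x1b0e) (.lf 0))) (.nd (.nd (.lf 0x0) (.lf 0x2655)) (.nd (.lf 0x66b0) (.lf 0)))) (.nd (.nd (.nd (.lf 0x0) (.lf 0x0)) (.nd (.lf 0x145a)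 (.lf 0))) (.nd (.nd (.lf 0x0) (.lf 0x0)) (.nd (.lf 0x0) (.lf 0))))) (.nd (.nd (.nd (.nd (.lf 0x0) (.lf 0x0)) (.nd (.lf 0x5aa0) (.lf 0))) (.nd (.nd (.lf 0x5e92) (.lf 0x0)) (.nd (.lf 0x0) (.lf 0)))) (.nd (.nd (.nd (.lf 0x0) (.lf 0x0)) (.nd (.lf 0x0) (.lf 0))) (.nd (.nd (.lf 0x7185) (.lf 0x0)) (.nd (.lf 0x0) (.lf 0))))))) (.nd (.nd (.nd (.nd (.nd (.nd (.lf 0x0) (.lf 0x0)) (.nd (.lf 0x0) (.lf 0))) (.nd (.nd (.lf 0x0) (.lf 0x1052)) (.nd (.lf 0x6640) (.lf 0)))) (.nd (.nd (.nd (.lf 0x0) (.lf 0x3b7c)) (.nd (.lf 0x15) (.lf 0))) (.nd (.nd (.lf 0x0) (.lf 0x0)) (.nd (.lf 0x0) (.lf 0))))) (.nd (.nd (.nd (.nd (.lf 0x0) (.lf 0x3c7e)) (.nd (.lf 0x0) (.lf 0))) (.nd (.nd (.lf 0x0) (.lf 0x6c45)) (.nd (.lf 0x0) (.lf 0)))) (.nd (.nd (.nd (.lf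 0x0) (.lf 0x0)) (.nd (.lf 0xba5) (.lf 0))) (.nd (.nd (.lf 0x0) (.lf 0x0)) (.nd (.lf 0x0) (.lf 0)))))) (.nd (.nd (.nd (.nd (.nd (.lf 0x0) (.lf 0x0)) (.nd (.lf 0x5d) (.lf 0))) (.nd (.nd (.lf 0x0) (.lf 0x0)) (.nd (.lf 0x0) (.lf 0)))) (.nd (.nd (.nd (.lf 0x0) (.lf 0x0)) (.nd (.lf 0x0) (.lf 0))) (.nd (.nd (.lf 0x0) (.lf 0x0)) (.nd (.lf 0x0) (.lf 0))))) (.nd (.nd (.nd (.nd (.lf 0x0) (.lf 0x794e)) (.nd (.lf 0x6ead) (.lf 0))) (.nd (.nd (.lf 0x0) (.lf 0x6f9d)) (.nd (.lf 0x7811) (.lf 0)))) (.nd (.nd (.nd (.lf 0x0) (.lf 0x0)) (.nd (.lf 0x0) (.lf 0))) (.nd (.nd (.lf 0x0) (.lf 0x4368)) (.nd (.lf 0x828d) (.lf 0))))))))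
def witB_nbababb : Tr := (.nd (.nd (.nd (.nd (.nd (.nd (.nd (.lf 0x0) (.lf 0x7187)) (.nd (.lf 0x0) (.lf 0))) (.nd (.nd (.lf 0x0) (.lf 0x0)) (.nd (.lf 0x0) (.lf 0)))) (.nd (.nd (.nd (.lf 0x0) (.lf 0x0)) (.nd (.lf 0x0) (.lf 0))) (.nd (.nd (.lf 0x0) (.lf 0x4a68)) (.nd (.lf 0x0) (.lf 0))))) (.nd (.nd (.nd (.nd (.lf 0x0) (.lf 0x0)) (.nd (.lf 0x0) (.lf 0))) (.nd (.nd (.lf 0x0) (.lf 0x0)) (.nd (.lf 0x0) (.lf 0)))) (.nd (.nd (.nd (.lf 0x0) (.lf 0x626f)) (.nd (.lf 0x0) (.lf 0))) (.nd (.nd (.lf 0x0) (.lf 0x0)) (.nd (.lf 0x0) (.lf 0)))))) (.nd (.nd (.nd (.nd (.nd (.lf 0x0) (.lf 0x409e)) (.nd (.lf 0x0) (.lf 0))) (.nd (.nd (.lf 0x0) (.lf 0x0)) (.nd (.lf 0x6c96) (.lf 0)))) (.nd (.nd (.nd (.lf 0x0) (.lf 0x0)) (.nd (.lf 0x0) (.lf 0))) (.nd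 (.nd (.lf 0x0) (.lf 0x0)) (.nd (.lf 0x0) (.lf 0))))) (.nd (.nd (.nd (.nd (.lf 0x0) (.lf 0x0)) (.nd (.lf 0x5744) (.lf 0))) (.nd (.nd (.lf 0x0) (.lf 0x2777)) (.nd (.lf 0x0) (.lf 0)))) (.nd (.nd (.nd (.lf 0x0) (.lf 0x0)) (.nd (.lf 0x0) (.lf 0))) (.nd (.nd (.lf 0x0) (.lf 0x838b)) (.nd (.lf 0x2aa4) (.lf 0))))))) (.nd (.nd (.nd (.nd (.nd (.nd (.lf 0x0) (.lf 0x7895)) (.nd (.lf 0x0) (.lf 0))) (.nd (.nd (.lf 0x0) (.lf 0x7042)) (.nd (.lf 0x0) (.lf 0)))) (.nd (.nd (.nd (.lf 0x0) (.lf 0x0)) (.nd (.lf 0x0) (.lf 0))) (.nd (.nd (.lf 0x0) (.lf 0x0)) (.nd (.lf 0x6281) (.lf 0))))) (.nd (.nd (.nd (.nd (.lf 0x0) (.lf 0x4537)) (.nd (.lf 0x0) (.lf 0))) (.nd (.nd (.lf 0x0) (.lf 0x0)) (.nd (.lf 0x0) (.lf 0)))) (.nd (.nd (.nd (.lf 0x0) (.lf 0x0))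 (.nd (.lf 0x0) (.lf 0))) (.nd (.nd (.lf 0x33b1) (.lf 0x5eb1)) (.nd (.lf 0x4b5b) (.lf 0)))))) (.nd (.nd (.nd (.nd (.nd (.lf 0x0) (.lf 0x0)) (.nd (.lf 0x0) (.lf 0))) (.nd (.nd (.lf 0x0) (.lf 0x0)) (.nd (.lf 0x5c86) (.lf 0)))) (.nd (.nd (.nd (.lf 0x0) (.lf 0x0)) (.nd (.lf 0x0) (.lf 0))) (.nd (.nd (.lf 0x0) (.lf 0x0)) (.nd (.lf 0x480f) (.lf 0))))) (.nd (.nd (.nd (.nd (.lf 0x0) (.lf 0x0)) (.nd (.lf 0x0) (.lf 0))) (.nd (.nd (.lf 0x0) (.lf 0x7163)) (.nd (.lf 0x0) (.lf 0)))) (.nd (.nd (.nd (.lf 0x0) (.lf 0x0)) (.nd (.lf 0x0) (.lf 0))) (.nd (.nd (.lf 0xab3) (.lf 0x310c)) (.nd (.lf 0x0) (.lf 0))))))))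
def witB_nbabbaa : Tr := (.nd (.nd (.nd (.nd (.nd (.nd (.nd (.lf 0x0) (.lf 0x0)) (.nd (.lf 0x0) (.lf 0))) (.nd (.nd (.lf 0x6f89) (.lf 0x0)) (.nd (.lf 0x0) (.lf 0)))) (.nd (.nd (.nd (.lf 0x0) (.lf 0x562)) (.nd (.lf 0x0) (.lf 0))) (.nd (.nd (.lf 0x0) (.lf 0x0)) (.nd (.lf 0x0) (.lf 0))))) (.nd (.nd (.nd (.nd (.lf 0x0) (.lf 0x0)) (.nd (.lf 0x0) (.lf 0))) (.nd (.nd (.lf 0x0) (.lf 0x0)) (.nd (.lf 0x699c) (.lf 0)))) (.nd (.nd (.nd (.lf 0x0) (.lf 0x0)) (.nd (.lf 0x0) (.lf 0))) (.nd (.nd (.lf 0x0) (.lf 0x5244)) (.nd (.lf 0x0) (.lf 0)))))) (.nd (.nd (.nd (.nd (.nd (.lf 0x0) (.lf 0x7753)) (.nd (.lf 0x0) (.lf 0))) (.nd (.nd (.lf 0x0) (.lf 0x5d6d)) (.nd (.lf 0x4621) (.lf 0)))) (.nd (.nd (.nd (.lf 0x0) (.lf 0x0)) (.nd (.lf 0x0) (.lf 0)))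 (.nd (.nd (.lf 0x0) (.lf 0x0)) (.nd (.lf 0x0) (.lf 0))))) (.nd (.nd (.nd (.nd (.lf 0x0) (.lf 0x0)) (.nd (.lf 0x218e) (.lf 0))) (.nd (.nd (.lf 0x5267) (.lf 0x0)) (.nd (.lf 0x0) (.lf 0)))) (.nd (.nd (.nd (.lf 0x0) (.lf 0x79ac)) (.nd (.lf 0x0) (.lf 0))) (.nd (.nd (.lf 0x0) (.lf 0x0)) (.nd (.lf 0xc46) (.lf 0))))))) (.nd (.nd (.nd (.nd (.nd (.nd (.lf 0x0) (.lf 0x0)) (.nd (.lf 0x0) (.lf 0))) (.nd (.nd (.lf 0x0) (.lf 0x0)) (.nd (.lf 0x3734) (.lf 0)))) (.nd (.nd (.nd (.lf 0x0) (.lf 0x66c)) (.nd (.lf 0x0) (.lf 0))) (.nd (.nd (.lf 0x822a) (.lf 0x7a2a)) (.nd (.lf 0x0) (.lf 0))))) (.nd (.nd (.nd (.nd (.lf 0x0) (.lf 0x0)) (.nd (.lf 0x0) (.lf 0))) (.nd (.nd (.lf 0x0) (.lf 0x2017)) (.nd (.lf 0x7b71) (.lf 0)))) (.nd (.nd (.nd (.lf 0x0) (.lf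 0x8772)) (.nd (.lf 0x0) (.lf 0))) (.nd (.nd (.lf 0x0) (.lf 0x461c)) (.nd (.lf 0x0) (.lf 0)))))) (.nd (.nd (.nd (.nd (.nd (.lf 0x0) (.lf 0x1804)) (.nd (.lf 0x0) (.lf 0))) (.nd (.nd (.lf 0x0) (.lf 0x7f91)) (.nd (.lf 0x52ae) (.lf 0)))) (.nd (.nd (.nd (.lf 0x0) (.lf 0x4ca0)) (.nd (.lf 0x4252) (.lf 0))) (.nd (.nd (.lf 0x0) (.lf 0x1ab3)) (.nd (.lf 0x0) (.lf 0))))) (.nd (.nd (.nd (.nd (.lf 0x0) (.lf 0x2e81)) (.nd (.lf 0x0) (.lf 0))) (.nd (.nd (.lf 0x0) (.lf 0x3465)) (.nd (.lf 0x0) (.lf 0)))) (.nd (.nd (.nd (.lf 0x0) (.lf 0x0)) (.nd (.lf 0x0) (.lf 0))) (.nd (.nd (.lf 0x6b7a) (.lf 0x1d96)) (.nd (.lf 0x5287) (.lf 0))))))))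
def witB_nbabbab : Tr := (.nd (.nd (.nd (.nd (.nd (.nd (.nd (.lf 0x0) (.lf 0x196)) (.nd (.lf 0x0) (.lf 0))) (.nd (.nd (.lf 0x0) (.lf 0x3d4a)) (.nd (.lf 0x0) (.lf 0)))) (.nd (.nd (.nd (.lf 0x0) (.lf 0x449e)) (.nd (.lf 0x0) (.lf 0))) (.nd (.nd (.lf 0x0) (.lf 0x0)) (.nd (.lf 0x0) (.lf 0))))) (.nd (.nd (.nd (.nd (.lf 0x0) (.lf 0x0)) (.nd (.lf 0x691d) (.lf 0))) (.nd (.nd (.lf 0x0) (.lf 0x0)) (.nd (.lf 0x0) (.lf 0)))) (.nd (.nd (.nd (.lf 0x0) (.lf 0x5720)) (.nd (.lf 0x0) (.lf 0))) (.nd (.nd (.lf 0x0) (.lf 0x448b)) (.nd (.lf 0x0) (.lf 0)))))) (.nd (.nd (.nd (.nd (.nd (.lf 0x0) (.lf 0x0)) (.nd (.lf 0x0) (.lf 0))) (.nd (.nd (.lf 0x0) (.lf 0x0)) (.nd (.lf 0x0) (.lf 0)))) (.nd (.nd (.nd (.lf 0x0) (.lf 0x0)) (.nd (.lf 0x0) (.lf 0))) (.nd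 (.nd (.lf 0x6f2d) (.lf 0x1c)) (.nd (.lf 0x0) (.lf 0))))) (.nd (.nd (.nd (.nd (.lf 0x0) (.lf 0x0)) (.nd (.lf 0x0) (.lf 0))) (.nd (.nd (.lf 0x0) (.lf 0x0)) (.nd (.lf 0x6254) (.lf 0)))) (.nd (.nd (.nd (.lf 0x0) (.lf 0x0)) (.nd (.lf 0x0) (.lf 0))) (.nd (.nd (.lf 0x0) (.lf 0x0)) (.nd (.lf 0x8752) (.lf 0))))))) (.nd (.nd (.nd (.nd (.nd (.nd (.lf 0x0) (.lf 0x7069)) (.nd (.lf 0x0) (.lf 0))) (.nd (.nd (.lf 0x3c12) (.lf 0x0)) (.nd (.lf 0x448) (.lf 0)))) (.nd (.nd (.nd (.lf 0x0) (.lf 0x3588)) (.nd (.lf 0x0) (.lf 0))) (.nd (.nd (.lf 0x0) (.lf 0x139b)) (.nd (.lf 0x769b) (.lf 0))))) (.nd (.nd (.nd (.nd (.lf 0x0) (.lf 0x0)) (.nd (.lf 0x0) (.lf 0))) (.nd (.nd (.lf 0x0) (.lf 0x0)) (.nd (.lf 0x0) (.lf 0)))) (.nd (.nd (.nd (.lf 0x0) (.lf 0x3f14))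 (.nd (.lf 0x0) (.lf 0))) (.nd (.nd (.lf 0x4b0d) (.lf 0x0)) (.nd (.lf 0x4321) (.lf 0)))))) (.nd (.nd (.nd (.nd (.nd (.lf 0x0) (.lf 0x0)) (.nd (.lf 0x0) (.lf 0))) (.nd (.nd (.lf 0x0) (.lf 0x0)) (.nd (.lf 0x0) (.lf 0)))) (.nd (.nd (.nd (.lf 0x0) (.lf 0x4351)) (.nd (.lf 0x4063) (.lf 0))) (.nd (.nd (.lf 0x0) (.lf 0x416)) (.nd (.lf 0x0) (.lf 0))))) (.nd (.nd (.nd (.nd (.lf 0x0) (.lf 0x1297)) (.nd (.lf 0x0) (.lf 0))) (.nd (.nd (.lf 0x0) (.lf 0xc84)) (.nd (.lf 0x0) (.lf 0)))) (.nd (.nd (.nd (.lf 0x0) (.lf 0x0)) (.nd (.lf 0x0) (.lf 0))) (.nd (.nd (.lf 0x0) (.lf 0x2015)) (.nd (.lf 0x0) (.lf 0))))))))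
def witB_nbabbba : Tr := (.nd (.nd (.nd (.nd (.nd (.nd (.nd (.lf 0x0) (.lf 0x0)) (.nd (.lf 0x0) (.lf 0))) (.nd (.nd (.lf 0x382f) (.lf 0x0)) (.nd (.lf 0x0) (.lf 0)))) (.nd (.nd (.nd (.lf 0x0) (.lf 0x0)) (.nd (.lf 0x0) (.lf 0))) (.nd (.nd (.lf 0x0) (.lf 0x4c80)) (.nd (.lf 0x0) (.lf 0))))) (.nd (.nd (.nd (.nd (.lf 0x0) (.lf 0x9d)) (.nd (.lf 0x0) (.lf 0))) (.nd (.nd (.lf 0x0) (.lf 0x0)) (.nd (.lf 0x0) (.lf 0)))) (.nd (.nd (.nd (.lf 0x0) (.lf 0x0)) (.nd (.lf 0x0) (.lf 0))) (.nd (.nd (.lf 0x0) (.lf 0x6494)) (.nd (.lf 0x0) (.lf 0)))))) (.nd (.nd (.nd (.nd (.nd (.lf 0x0) (.lf 0x2349)) (.nd (.lf 0x6a89) (.lf 0))) (.nd (.nd (.lf 0x0) (.lf 0x0)) (.nd (.lf 0x0) (.lf 0)))) (.nd (.nd (.nd (.lf 0x0) (.lf 0x0)) (.nd (.lf 0x0) (.lf 0))) (.nd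 (.nd (.lf 0x51ab) (.lf 0x0)) (.nd (.lf 0x0) (.lf 0))))) (.nd (.nd (.nd (.nd (.lf 0x0) (.lf 0x0)) (.nd (.lf 0x0) (.lf 0))) (.nd (.nd (.lf 0x0) (.lf 0x2693)) (.nd (.lf 0x106a) (.lf 0)))) (.nd (.nd (.nd (.lf 0x0) (.lf 0x0)) (.nd (.lf 0x0) (.lf 0))) (.nd (.nd (.lf 0x0) (.lf 0x0)) (.nd (.lf 0x341) (.lf 0))))))) (.nd (.nd (.nd (.nd (.nd (.nd (.lf 0x0) (.lf 0x3f41)) (.nd (.lf 0x0) (.lf 0))) (.nd (.nd (.lf 0x0) (.lf 0x0)) (.nd (.lf 0x0) (.lf 0)))) (.nd (.nd (.nd (.lf 0x0) (.lf 0x1471)) (.nd (.lf 0x0) (.lf 0))) (.nd (.nd (.lf 0x0) (.lf 0x0)) (.nd (.lf 0x0) (.lf 0))))) (.nd (.nd (.nd (.nd (.lf 0x0) (.lf 0x0)) (.nd (.lf 0x0) (.lf 0))) (.nd (.nd (.lf 0x0) (.lf 0x2ba0)) (.nd (.lf 0x0) (.lf 0)))) (.nd (.nd (.nd (.lf 0x0) (.lf 0x52f)) (.nd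 (.lf 0x0) (.lf 0))) (.nd (.nd (.lf 0x0) (.lf 0x0)) (.nd (.lf 0x3522) (.lf 0)))))) (.nd (.nd (.nd (.nd (.nd (.lf 0x0) (.lf 0x0)) (.nd (.lf 0x6d30) (.lf 0))) (.nd (.nd (.lf 0x0) (.lf 0x74a1)) (.nd (.lf 0x0) (.lf 0)))) (.nd (.nd (.nd (.lf 0x0) (.lf 0x0)) (.nd (.lf 0x813) (.lf 0))) (.nd (.nd (.lf 0x0) (.lf 0x796e)) (.nd (.lf 0x0) (.lf 0))))) (.nd (.nd (.nd (.nd (.lf 0x0) (.lf 0x0)) (.nd (.lf 0x173c) (.lf 0))) (.nd (.nd (.lf 0x0) (.lf 0x0)) (.nd (.lf 0x0) (.lf 0)))) (.nd (.nd (.nd (.lf 0x0) (.lf 0x0)) (.nd (.lf 0x0) (.lf 0))) (.nd (.nd (.lf 0x5b1d) (.lf 0x473e)) (.nd (.lf 0x0) (.lf 0))))))))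
def witB_nbabbbb : Tr := (.nd (.nd (.nd (.nd (.nd (.nd (.nd (.lf 0x0) (.lf 0x0)) (.nd (.lf 0x0) (.lf 0))) (.nd (.nd (.lf 0x0) (.lf 0x0)) (.nd (.lf 0x0) (.lf 0)))) (.nd (.nd (.nd (.lf 0x0) (.lf 0x0)) (.nd (.lf 0x0) (.lf 0))) (.nd (.nd (.lf 0x0) (.lf 0x0)) (.nd (.lf 0x0) (.lf 0))))) (.nd (.nd (.nd (.nd (.lf 0x0) (.lf 0x0)) (.nd (.lf 0x0) (.lf 0))) (.nd (.nd (.lf 0x0) (.lf 0x0)) (.nd (.lf 0x0) (.lf 0)))) (.nd (.nd (.nd (.lf 0x0) (.lf 0x5463)) (.nd (.lf 0x0) (.lf 0))) (.nd (.nd (.lf 0x0) (.lf 0x1519)) (.nd (.lf 0x543b) (.lf 0)))))) (.nd (.nd (.nd (.nd (.nd (.lf 0x0) (.lf 0x0)) (.nd (.lf 0x0) (.lf 0))) (.nd (.nd (.lf 0x1711) (.lf 0x0)) (.nd (.lf 0x0) (.lf 0)))) (.nd (.nd (.nd (.lf 0x0) (.lf 0x0)) (.nd (.lf 0x0) (.lf 0))) (.nd (.nd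 (.lf 0x0) (.lf 0x7536)) (.nd (.lf 0x0) (.lf 0))))) (.nd (.nd (.nd (.nd (.lf 0x0) (.lf 0x0)) (.nd (.lf 0x2975) (.lf 0))) (.nd (.nd (.lf 0xc6a) (.lf 0x645)) (.nd (.lf 0x0) (.lf 0)))) (.nd (.nd (.nd (.lf 0x0) (.lf 0x0)) (.nd (.lf 0x3f6f) (.lf 0))) (.nd (.nd (.lf 0x0) (.lf 0x5b29)) (.nd (.lf 0x0) (.lf 0))))))) (.nd (.nd (.nd (.nd (.nd (.nd (.lf 0x0) (.lf 0x0)) (.nd (.lf 0x5709) (.lf 0))) (.nd (.nd (.lf 0x0) (.lf 0x0)) (.nd (.lf 0x0) (.lf 0)))) (.nd (.nd (.nd (.lf 0x0) (.lf 0x0)) (.nd (.lf 0x3179) (.lf 0))) (.nd (.nd (.lf 0x0) (.lf 0x696d)) (.nd (.lf 0x674c) (.lf 0))))) (.nd (.nd (.nd (.nd (.lf 0x0) (.lf 0x0)) (.nd (.lf 0x0) (.lf 0))) (.nd (.nd (.lf 0x0) (.lf 0x0)) (.nd (.lf 0x0) (.lf 0)))) (.nd (.nd (.nd (.lf 0x0) (.lf 0x0)) (.nd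 (.lf 0x0) (.lf 0))) (.nd (.nd (.lf 0x0) (.lf 0x3226)) (.nd (.lf 0x0) (.lf 0)))))) (.nd (.nd (.nd (.nd (.nd (.lf 0x0) (.lf 0x6716)) (.nd (.lf 0x3c26) (.lf 0))) (.nd (.nd (.lf 0x0) (.lf 0x0)) (.nd (.lf 0x6e1b) (.lf 0)))) (.nd (.nd (.nd (.lf 0x0) (.lf 0x0)) (.nd (.lf 0x0) (.lf 0))) (.nd (.nd (.lf 0x0) (.lf 0xc4c)) (.nd (.lf 0x0) (.lf 0))))) (.nd (.nd (.nd (.nd (.lf 0x0) (.lf 0x0)) (.nd (.lf 0xe28) (.lf 0))) (.nd (.nd (.lf 0x0) (.lf 0x0)) (.nd (.lf 0x0) (.lf 0)))) (.nd (.nd (.nd (.lf 0x0) (.lf 0xb50)) (.nd (.lf 0x0) (.lf 0))) (.nd (.nd (.lf 0x0) (.lf 0x485f)) (.nd (.lf 0x0) (.lf 0))))))))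
def witB_nbbaaaa : Tr := (.nd (.nd (.nd (.nd (.nd (.nd (.nd (.lf 0x0) (.lf 0x201e)) (.nd (.lf 0x0) (.lf 0x0))) (.nd (.nd (.lf 0x0) (.lf 0x0)) (.nd (.lf 0x0) (.lf 0)))) (.nd (.nd (.nd (.lf 0x0) (.lf 0x0)) (.nd (.lf 0x0) (.lf 0))) (.nd (.nd (.lf 0x0) (.lf 0x0)) (.nd (.lf 0x0) (.lf 0))))) (.nd (.nd (.nd (.nd (.lf 0x0) (.lf 0x0)) (.nd (.lf 0x0) (.lf 0))) (.nd (.nd (.lf 0x0) (.lf 0x0)) (.nd (.lf 0x0) (.lf 0)))) (.nd (.nd (.nd (.lf 0x0) (.lf 0x0)) (.nd (.lf 0x0) (.lf 0))) (.nd (.nd (.lf 0x0) (.lf 0x3b72)) (.nd (.lf 0x0) (.lf 0)))))) (.nd (.nd (.nd (.nd (.nd (.lf 0x0) (.lf 0x0)) (.nd (.lf 0x0) (.lf 0))) (.nd (.nd (.lf 0x0) (.lf 0x0)) (.nd (.lf 0x0) (.lf 0)))) (.nd (.nd (.nd (.lf 0x0) (.lf 0x0)) (.nd (.lf 0x0) (.lf 0))) (.nd (.nd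 (.lf 0x0) (.lf 0x0)) (.nd (.lf 0x0) (.lf 0))))) (.nd (.nd (.nd (.nd (.lf 0x0) (.lf 0x0)) (.nd (.lf 0x38a1) (.lf 0))) (.nd (.nd (.lf 0x0) (.lf 0xba4)) (.nd (.lf 0x0) (.lf 0)))) (.nd (.nd (.nd (.lf 0x1827) (.lf 0x3d83)) (.nd (.lf 0x0) (.lf 0))) (.nd (.nd (.lf 0x0) (.lf 0x7079)) (.nd (.lf 0x0) (.lf 0))))))) (.nd (.nd (.nd (.nd (.nd (.nd (.lf 0x0) (.lf 0x0)) (.nd (.lf 0x0) (.lf 0))) (.nd (.nd (.lf 0x0) (.lf 0x0)) (.nd (.lf 0x0) (.lf 0)))) (.nd (.nd (.nd (.lf 0x0) (.lf 0x0)) (.nd (.lf 0x0) (.lf 0))) (.nd (.nd (.lf 0x0) (.lf 0x0)) (.nd (.lf 0x0) (.lf 0))))) (.nd (.nd (.nd (.nd (.lf 0x0) (.lf 0x0)) (.nd (.lf 0x0) (.lf 0))) (.nd (.nd (.lf 0x0) (.lf 0x7326)) (.nd (.lf 0x0) (.lf 0)))) (.nd (.nd (.nd (.lf 0x0) (.lf 0x0)) (.nd (.lf 0x6ea4)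 (.lf 0))) (.nd (.nd (.lf 0x2a7) (.lf 0x0)) (.nd (.lf 0x0) (.lf 0)))))) (.nd (.nd (.nd (.nd (.nd (.lf 0x0) (.lf 0x1744)) (.nd (.lf 0x139b) (.lf 0))) (.nd (.nd (.lf 0x0) (.lf 0x0)) (.nd (.lf 0x0) (.lf 0)))) (.nd (.nd (.nd (.lf 0x0) (.lf 0x5e44)) (.nd (.lf 0x0) (.lf 0))) (.nd (.nd (.lf 0x282f) (.lf 0x0)) (.nd (.lf 0x0) (.lf 0))))) (.nd (.nd (.nd (.nd (.lf 0x0) (.lf 0x0)) (.nd (.lf 0x0) (.lf 0))) (.nd (.nd (.lf 0x0) (.lf 0x0)) (.nd (.lf 0x0) (.lf 0)))) (.nd (.nd (.nd (.lf 0x496e) (.lf 0x0)) (.nd (.lf 0x0) (.lf 0))) (.nd (.nd (.lf 0x0) (.lf 0x0)) (.nd (.lf 0x0) (.lf 0))))))))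
def witB_nbbaaab : Tr := (.nd (.nd (.nd (.nd (.nd (.nd (.nd (.lf 0x0) (.lf 0x0)) (.nd (.lf 0x0) (.lf 0))) (.nd (.nd (.lf 0x0) (.lf 0x0)) (.nd (.lf 0x0) (.lf 0)))) (.nd (.nd (.nd (.lf 0x0) (.lf 0x14a6)) (.nd (.lf 0x0) (.lf 0))) (.nd (.nd (.lf 0x355) (.lf 0x0)) (.nd (.lf 0x0) (.lf 0))))) (.nd (.nd (.nd (.nd (.lf 0x0) (.lf 0x0)) (.nd (.lf 0x340a) (.lf 0))) (.nd (.nd (.lf 0x595a) (.lf 0x0)) (.nd (.lf 0x1459) (.lf 0)))) (.nd (.nd (.nd (.lf 0x0) (.lf 0x6e34)) (.nd (.lf 0x0) (.lf 0))) (.nd (.nd (.lf 0x5aa4) (.lf 0x7677)) (.nd (.lf 0x0) (.lf 0)))))) (.nd (.nd (.nd (.nd (.nd (.lf 0x0) (.lf 0x0)) (.nd (.lf 0x3308) (.lf 0))) (.nd (.nd (.lf 0x0) (.lf 0x865a)) (.nd (.lf 0x0) (.lf 0)))) (.nd (.nd (.nd (.lf 0x0) (.lf 0x0)) (.nd (.lf 0x0)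 (.lf 0))) (.nd (.nd (.lf 0x0) (.lf 0x7011)) (.nd (.lf 0x0) (.lf 0))))) (.nd (.nd (.nd (.nd (.lf 0x0) (.lf 0x0)) (.nd (.lf 0x0) (.lf 0))) (.nd (.nd (.lf 0x1372) (.lf 0x0)) (.nd (.lf 0x0) (.lf 0)))) (.nd (.nd (.nd (.lf 0x0) (.lf 0x0)) (.nd (.lf 0x0) (.lf 0))) (.nd (.nd (.lf 0x7262) (.lf 0x4f88)) (.nd (.lf 0x0) (.lf 0))))))) (.nd (.nd (.nd (.nd (.nd (.nd (.lf 0x0) (.lf 0x0)) (.nd (.lf 0x0) (.lf 0))) (.nd (.nd (.lf 0x0) (.lf 0x61d)) (.nd (.lf 0x0) (.lf 0)))) (.nd (.nd (.nd (.lf 0x0) (.lf 0x5b61)) (.nd (.lf 0x0) (.lf 0))) (.nd (.nd (.lf 0x0) (.lf 0x722a)) (.nd (.lf 0x1581) (.lf 0))))) (.nd (.nd (.nd (.nd (.lf 0x0) (.lf 0x0)) (.nd (.lf 0x0) (.lf 0))) (.nd (.nd (.lf 0x0) (.lf 0x124e)) (.nd (.lf 0x0) (.lf 0)))) (.nd (.nd (.nd (.lf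 0x0) (.lf 0x485)) (.nd (.lf 0x0) (.lf 0))) (.nd (.nd (.lf 0x0) (.lf 0x0)) (.nd (.lf 0x0) (.lf 0)))))) (.nd (.nd (.nd (.nd (.nd (.lf 0x0) (.lf 0x0)) (.nd (.lf 0x5216) (.lf 0))) (.nd (.nd (.lf 0x0) (.lf 0x23)) (.nd (.lf 0x0) (.lf 0)))) (.nd (.nd (.nd (.lf 0x0) (.lf 0x0)) (.nd (.lf 0x0) (.lf 0))) (.nd (.nd (.lf 0x0) (.lf 0x0)) (.nd (.lf 0x0) (.lf 0))))) (.nd (.nd (.nd (.nd (.lf 0x0) (.lf 0x0)) (.nd (.lf 0x0) (.lf 0))) (.nd (.nd (.lf 0x0) (.lf 0x0)) (.nd (.lf 0x0) (.lf 0)))) (.nd (.nd (.nd (.lf 0x0) (.lf 0x377)) (.nd (.lf 0x0) (.lf 0))) (.nd (.nd (.lf 0x0) (.lf 0x4400)) (.nd (.lf 0x0) (.lf 0))))))))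
def witB_nbbaaba : Tr := (.nd (.nd (.nd (.nd (.nd (.nd (.nd (.lf 0x0) (.lf 0x0)) (.nd (.lf 0x0) (.lf 0))) (.nd (.nd (.lf 0x0) (.lf 0x0)) (.nd (.lf 0x0) (.lf 0)))) (.nd (.nd (.nd (.lf 0x0) (.lf 0x0)) (.nd (.lf 0x0) (.lf 0))) (.nd (.nd (.lf 0x0) (.lf 0x1907)) (.nd (.lf 0x0) (.lf 0))))) (.nd (.nd (.nd (.nd (.lf 0x0) (.lf 0x0)) (.nd (.lf 0x0) (.lf 0))) (.nd (.nd (.lf 0x0) (.lf 0x5c37)) (.nd (.lf 0x0) (.lf 0)))) (.nd (.nd (.nd (.lf 0x0) (.lf 0x33ab)) (.nd (.lf 0x3739) (.lf 0))) (.nd (.nd (.lf 0x0) (.lf 0x0)) (.nd (.lf 0x0) (.lf 0)))))) (.nd (.nd (.nd (.nd (.nd (.lf 0x0) (.lf 0x2814)) (.nd (.lf 0x0) (.lf 0))) (.nd (.nd (.lf 0x0) (.lf 0x0)) (.nd (.lf 0x0) (.lf 0)))) (.nd (.nd (.nd (.lf 0x0) (.lf 0x0)) (.nd (.lf 0x139b) (.lf 0)))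 (.nd (.nd (.lf 0x0) (.lf 0x1626)) (.nd (.lf 0x0) (.lf 0))))) (.nd (.nd (.nd (.nd (.lf 0x0) (.lf 0x0)) (.nd (.lf 0x0) (.lf 0))) (.nd (.nd (.lf 0x0) (.lf 0x0)) (.nd (.lf 0x0) (.lf 0)))) (.nd (.nd (.nd (.lf 0x0) (.lf 0x0)) (.nd (.lf 0x0) (.lf 0))) (.nd (.nd (.lf 0x3387) (.lf 0x4208)) (.nd (.lf 0x3c62) (.lf 0))))))) (.nd (.nd (.nd (.nd (.nd (.nd (.lf 0x0) (.lf 0x5439)) (.nd (.lf 0x0) (.lf 0))) (.nd (.nd (.lf 0x0) (.lf 0x1c20)) (.nd (.lf 0x2322) (.lf 0)))) (.nd (.nd (.nd (.lf 0x0) (.lf 0x8210)) (.nd (.lf 0x7982) (.lf 0))) (.nd (.nd (.lf 0x0) (.lf 0x0)) (.nd (.lf 0x0) (.lf 0))))) (.nd (.nd (.nd (.nd (.lf 0x0) (.lf 0x0)) (.nd (.lf 0x0) (.lf 0))) (.nd (.nd (.lf 0x0) (.lf 0x3664)) (.nd (.lf 0x0) (.lf 0)))) (.nd (.nd (.nd (.lf 0x0)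 (.lf 0x0)) (.nd (.lf 0x0) (.lf 0))) (.nd (.nd (.lf 0x0) (.lf 0x884)) (.nd (.lf 0x7276) (.lf 0)))))) (.nd (.nd (.nd (.nd (.nd (.lf 0x0) (.lf 0x0)) (.nd (.lf 0x0) (.lf 0))) (.nd (.nd (.lf 0x0) (.lf 0x2a5f)) (.nd (.lf 0x0) (.lf 0)))) (.nd (.nd (.nd (.lf 0x0) (.lf 0x7638)) (.nd (.lf 0x0) (.lf 0))) (.nd (.nd (.lf 0x0) (.lf 0x0)) (.nd (.lf 0x0) (.lf 0))))) (.nd (.nd (.nd (.nd (.lf 0x0) (.lf 0x0)) (.nd (.lf 0x530f) (.lf 0))) (.nd (.nd (.lf 0x2535) (.lf 0x4324)) (.nd (.lf 0x0) (.lf 0)))) (.nd (.nd (.nd (.lf 0x0) (.lf 0x0)) (.nd (.lf 0x0) (.lf 0))) (.nd (.nd (.lf 0x0) (.lf 0x334)) (.nd (.lf 0x0) (.lf 0))))))))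
def witB_nbbaabb : Tr := (.nd (.nd (.nd (.nd (.nd (.nd (.nd (.lf 0x0) (.lf 0x0)) (.nd (.lf 0x0) (.lf 0))) (.nd (.nd (.lf 0x0) (.lf 0x1e88)) (.nd (.lf 0x0) (.lf 0)))) (.nd (.nd (.nd (.lf 0x0) (.lf 0x0)) (.nd (.lf 0x0) (.lf 0))) (.nd (.nd (.lf 0x0) (.lf 0x0)) (.nd (.lf 0x0) (.lf 0))))) (.nd (.nd (.nd (.nd (.lf 0x0) (.lf 0x0)) (.nd (.lf 0x0) (.lf 0))) (.nd (.nd (.lf 0x0) (.lf 0x0)) (.nd (.lf 0xf61) (.lf 0)))) (.nd (.nd (.nd (.lf 0x0) (.lf 0x6c5d)) (.nd (.lf 0x1983) (.lf 0))) (.nd (.nd (.lf 0x0) (.lf 0x2f4b)) (.nd (.lf 0x0) (.lf 0)))))) (.nd (.nd (.nd (.nd (.nd (.lf 0x0) (.lf 0x0)) (.nd (.lf 0x0) (.lf 0))) (.nd (.nd (.lf 0x0) (.lf 0x2476)) (.nd (.lf 0x0) (.lf 0)))) (.nd (.nd (.nd (.lf 0x0) (.lf 0x0)) (.nd (.lf 0x0) (.lf 0))) (.nd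 (.nd (.lf 0x824a) (.lf 0x0)) (.nd (.lf 0x0) (.lf 0))))) (.nd (.nd (.nd (.nd (.lf 0x0) (.lf 0x0)) (.nd (.lf 0x2521) (.lf 0))) (.nd (.nd (.lf 0x0) (.lf 0x0)) (.nd (.lf 0x6747) (.lf 0)))) (.nd (.nd (.nd (.lf 0x0) (.lf 0x0)) (.nd (.lf 0x0) (.lf 0))) (.nd (.nd (.lf 0x0) (.lf 0x0)) (.nd (.lf 0x0) (.lf 0))))))) (.nd (.nd (.nd (.nd (.nd (.nd (.lf 0x0) (.lf 0x0)) (.nd (.lf 0x0) (.lf 0))) (.nd (.nd (.lf 0x5f24) (.lf 0x0)) (.nd (.lf 0x0) (.lf 0)))) (.nd (.nd (.nd (.lf 0x0) (.lf 0x0)) (.nd (.lf 0x0) (.lf 0))) (.nd (.nd (.lf 0x0) (.lf 0x305)) (.nd (.lf 0x6c1e) (.lf 0))))) (.nd (.nd (.nd (.nd (.lf 0x0) (.lf 0x0)) (.nd (.lf 0x0) (.lf 0))) (.nd (.nd (.lf 0x2e41) (.lf 0x2057)) (.nd (.lf 0x0) (.lf 0)))) (.nd (.nd (.nd (.lf 0x0) (.lf 0x0)) (.nd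 (.lf 0x0) (.lf 0))) (.nd (.nd (.lf 0x0) (.lf 0x0)) (.nd (.lf 0x5ad) (.lf 0)))))) (.nd (.nd (.nd (.nd (.nd (.lf 0x0) (.lf 0x0)) (.nd (.lf 0x0) (.lf 0))) (.nd (.nd (.lf 0x0) (.lf 0x0)) (.nd (.lf 0x0) (.lf 0)))) (.nd (.nd (.nd (.lf 0x0) (.lf 0x30ad)) (.nd (.lf 0x525) (.lf 0))) (.nd (.nd (.lf 0x0) (.lf 0x3a6a)) (.nd (.lf 0x0) (.lf 0))))) (.nd (.nd (.nd (.nd (.lf 0x0) (.lf 0x0)) (.nd (.lf 0x0) (.lf 0))) (.nd (.nd (.lf 0x0) (.lf 0x7e4e)) (.nd (.lf 0x0) (.lf 0)))) (.nd (.nd (.nd (.lf 0x0) (.lf 0x0)) (.nd (.lf 0x0) (.lf 0))) (.nd (.nd (.lf 0x376d) (.lf 0x0)) (.nd (.lf 0x0) (.lf 0))))))))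
def witB_nbbabaa : Tr := (.nd (.nd (.nd (.nd (.nd (.nd (.nd (.lf 0x0) (.lf 0x0)) (.nd (.lf 0x0) (.lf 0x2a36))) (.nd (.nd (.lf 0x0) (.lf 0x0)) (.nd (.lf 0x0) (.lf 0)))) (.nd (.nd (.nd (.lf 0x0) (.lf 0x105e)) (.nd (.lf 0x0) (.lf 0))) (.nd (.nd (.lf 0x6f75) (.lf 0x0)) (.nd (.lf 0x0) (.lf 0))))) (.nd (.nd (.nd (.nd (.lf 0x0) (.lf 0x0)) (.nd (.lf 0x0) (.lf 0))) (.nd (.nd (.lf 0x0) (.lf 0x0)) (.nd (.lf 0x0) (.lf 0)))) (.nd (.nd (.nd (.lf 0x0) (.lf 0x0)) (.nd (.lf 0x0) (.lf 0))) (.nd (.nd (.lf 0x0) (.lf 0x2e0f)) (.nd (.lf 0x0) (.lf 0)))))) (.nd (.nd (.nd (.nd (.nd (.lf 0x0) (.lf 0x1f15)) (.nd (.lf 0x0) (.lf 0))) (.nd (.nd (.lf 0x0) (.lf 0x5e57)) (.nd (.lf 0x0) (.lf 0)))) (.nd (.nd (.nd (.lf 0x0) (.lf 0x493e)) (.nd (.lf 0x0) (.lf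 0))) (.nd (.nd (.lf 0xad) (.lf 0x3614)) (.nd (.lf 0x0) (.lf 0))))) (.nd (.nd (.nd (.nd (.lf 0x0) (.lf 0x0)) (.nd (.lf 0x0) (.lf 0))) (.nd (.nd (.lf 0x0) (.lf 0x0)) (.nd (.lf 0x0) (.lf 0)))) (.nd (.nd (.nd (.lf 0x0) (.lf 0x0)) (.nd (.lf 0x6c7f) (.lf 0))) (.nd (.nd (.lf 0x0) (.lf 0x663)) (.nd (.lf 0x226) (.lf 0))))))) (.nd (.nd (.nd (.nd (.nd (.nd (.lf 0x0) (.lf 0x6b42)) (.nd (.lf 0x0) (.lf 0))) (.nd (.nd (.lf 0x0) (.lf 0x478b)) (.nd (.lf 0x0) (.lf 0)))) (.nd (.nd (.nd (.lf 0x0) (.lf 0x0)) (.nd (.lf 0x0) (.lf 0))) (.nd (.nd (.lf 0x0) (.lf 0x0)) (.nd (.lf 0x0) (.lf 0))))) (.nd (.nd (.nd (.nd (.lf 0x0) (.lf 0x0)) (.nd (.lf 0x0) (.lf 0))) (.nd (.nd (.lf 0x0) (.lf 0x1626)) (.nd (.lf 0x1488) (.lf 0)))) (.nd (.nd (.nd (.lf 0x0) (.lf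 0x2c53)) (.nd (.lf 0x0) (.lf 0))) (.nd (.nd (.lf 0x0) (.lf 0x8079)) (.nd (.lf 0x0) (.lf 0)))))) (.nd (.nd (.nd (.nd (.nd (.lf 0x0) (.lf 0x0)) (.nd (.lf 0x613d) (.lf 0))) (.nd (.nd (.lf 0x0) (.lf 0x1331)) (.nd (.lf 0x0) (.lf 0)))) (.nd (.nd (.nd (.lf 0x0) (.lf 0x0)) (.nd (.lf 0x0) (.lf 0))) (.nd (.nd (.lf 0x0) (.lf 0x0)) (.nd (.lf 0x0) (.lf 0))))) (.nd (.nd (.nd (.nd (.lf 0x0) (.lf 0x0)) (.nd (.lf 0x1c61) (.lf 0))) (.nd (.nd (.lf 0x0) (.lf 0x0)) (.nd (.lf 0x0) (.lf 0)))) (.nd (.nd (.nd (.lf 0x0) (.lf 0x0)) (.nd (.lf 0x0) (.lf 0))) (.nd (.nd (.lf 0x3b66) (.lf 0x1b87)) (.nd (.lf 0x0) (.lf 0))))))))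
def witB_nbbabab : Tr := (.nd (.nd (.nd (.nd (.nd (.nd (.nd (.lf 0x0) (.lf 0x0)) (.nd (.lf 0x0) (.lf 0))) (.nd (.nd (.lf 0x0) (.lf 0x0)) (.nd (.lf 0x36a7) (.lf 0)))) (.nd (.nd (.nd (.lf 0x0) (.lf 0x4830)) (.nd (.lf 0x0) (.lf 0))) (.nd (.nd (.lf 0x0) (.lf 0x706b)) (.nd (.lf 0x0) (.lf 0))))) (.nd (.nd (.nd (.nd (.lf 0x0) (.lf 0x0)) (.nd (.lf 0x0) (.lf 0))) (.nd (.nd (.lf 0x0) (.lf 0x1985)) (.nd (.lf 0x0) (.lf 0)))) (.nd (.nd (.nd (.lf 0x0) (.lf 0x68a0)) (.nd (.lf 0x0) (.lf 0))) (.nd (.nd (.lf 0x0) (.lf 0x3c29)) (.nd (.lf 0x0) (.lf 0)))))) (.nd (.nd (.nd (.nd (.nd (.lf 0x0) (.lf 0x5368)) (.nd (.lf 0x0) (.lf 0))) (.nd (.nd (.lf 0x0) (.lf 0x0)) (.nd (.lf 0x0) (.lf 0)))) (.nd (.nd (.nd (.lf 0x0) (.lf 0x0)) (.nd (.lf 0x0) (.lf 0)))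 (.nd (.nd (.lf 0x0) (.lf 0x0)) (.nd (.lf 0x3361) (.lf 0))))) (.nd (.nd (.nd (.nd (.lf 0x0) (.lf 0x7941)) (.nd (.lf 0x0) (.lf 0))) (.nd (.nd (.lf 0x0) (.lf 0x0)) (.nd (.lf 0x0) (.lf 0)))) (.nd (.nd (.nd (.lf 0x0) (.lf 0x0)) (.nd (.lf 0x0) (.lf 0))) (.nd (.nd (.lf 0x0) (.lf 0x7f83)) (.nd (.lf 0x0) (.lf 0))))))) (.nd (.nd (.nd (.nd (.nd (.nd (.lf 0x0) (.lf 0x6c6c)) (.nd (.lf 0x0) (.lf 0))) (.nd (.nd (.lf 0x0) (.lf 0x1c65)) (.nd (.lf 0x0) (.lf 0)))) (.nd (.nd (.nd (.lf 0x0) (.lf 0x860d)) (.nd (.lf 0x0) (.lf 0))) (.nd (.nd (.lf 0x0) (.lf 0x493f)) (.nd (.lf 0x0) (.lf 0))))) (.nd (.nd (.nd (.nd (.lf 0x0) (.lf 0x0)) (.nd (.lf 0x0) (.lf 0))) (.nd (.nd (.lf 0x0) (.lf 0x549f)) (.nd (.lf 0x0) (.lf 0)))) (.nd (.nd (.nd (.lf 0x0) (.lf 0x0))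 (.nd (.lf 0x0) (.lf 0))) (.nd (.nd (.lf 0x0) (.lf 0x0)) (.nd (.lf 0x0) (.lf 0)))))) (.nd (.nd (.nd (.nd (.nd (.lf 0x0) (.lf 0x0)) (.nd (.lf 0x0) (.lf 0))) (.nd (.nd (.lf 0x0) (.lf 0x0)) (.nd (.lf 0x0) (.lf 0)))) (.nd (.nd (.nd (.lf 0x0) (.lf 0x0)) (.nd (.lf 0x0) (.lf 0))) (.nd (.nd (.lf 0x0) (.lf 0x0)) (.nd (.lf 0x107d) (.lf 0))))) (.nd (.nd (.nd (.nd (.lf 0x0) (.lf 0x0)) (.nd (.lf 0x0) (.lf 0))) (.nd (.nd (.lf 0x0) (.lf 0x0)) (.nd (.lf 0x0) (.lf 0)))) (.nd (.nd (.nd (.lf 0x0) (.lf 0x0)) (.nd (.lf 0x8350) (.lf 0))) (.nd (.nd (.lf 0x0) (.lf 0x644)) (.nd (.lf 0x0) (.lf 0))))))))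
def witB_nbbabba : Tr := (.nd (.nd (.nd (.nd (.nd (.nd (.nd (.lf 0x0) (.lf 0x0)) (.nd (.lf 0x0) (.lf 0))) (.nd (.nd (.lf 0x0) (.lf 0x0)) (.nd (.lf 0x0) (.lf 0)))) (.nd (.nd (.nd (.lf 0x0) (.lf 0x0)) (.nd (.lf 0x0) (.lf 0))) (.nd (.nd (.lf 0x0) (.lf 0x6e70)) (.nd (.lf 0x0) (.lf 0))))) (.nd (.nd (.nd (.nd (.lf 0x0) (.lf 0x0)) (.nd (.lf 0x653c) (.lf 0))) (.nd (.nd (.lf 0x0) (.lf 0x0)) (.nd (.lf 0x0) (.lf 0)))) (.nd (.nd (.nd (.lf 0x0) (.lf 0x7ca3)) (.nd (.lf 0x0) (.lf 0))) (.nd (.nd (.lf 0x0) (.lf 0x0)) (.nd (.lf 0x7e84) (.lf 0)))))) (.nd (.nd (.nd (.nd (.nd (.lf 0x0) (.lf 0x4375)) (.nd (.lf 0x0) (.lf 0))) (.nd (.nd (.lf 0x0) (.lf 0x3929)) (.nd (.lf 0x0) (.lf 0)))) (.nd (.nd (.nd (.lf 0x0) (.lf 0x5369)) (.nd (.lf 0x0) (.lf 0)))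 (.nd (.nd (.lf 0x0) (.lf 0x0)) (.nd (.lf 0x3610) (.lf 0))))) (.nd (.nd (.nd (.nd (.lf 0x0) (.lf 0x217d)) (.nd (.lf 0x0) (.lf 0))) (.nd (.nd (.lf 0x0) (.lf 0x1a5)) (.nd (.lf 0x0) (.lf 0)))) (.nd (.nd (.nd (.lf 0x0) (.lf 0x0)) (.nd (.lf 0x0) (.lf 0))) (.nd (.nd (.lf 0x0) (.lf 0x184a)) (.nd (.lf 0x0) (.lf 0))))))) (.nd (.nd (.nd (.nd (.nd (.nd (.lf 0x0) (.lf 0x0)) (.nd (.lf 0x0) (.lf 0))) (.nd (.nd (.lf 0x0) (.lf 0x0)) (.nd (.lf 0x0) (.lf 0)))) (.nd (.nd (.nd (.lf 0x0) (.lf 0x0)) (.nd (.lf 0x0) (.lf 0))) (.nd (.nd (.lf 0x0) (.lf 0x7c0f)) (.nd (.lf 0x0) (.lf 0))))) (.nd (.nd (.nd (.nd (.lf 0x0) (.lf 0x0)) (.nd (.lf 0x0) (.lf 0))) (.nd (.nd (.lf 0x0) (.lf 0xd9e)) (.nd (.lf 0x0) (.lf 0)))) (.nd (.nd (.nd (.lf 0x0) (.lf 0x0)) (.nd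 (.lf 0x4d3f) (.lf 0))) (.nd (.nd (.lf 0x0) (.lf 0x0)) (.nd (.lf 0x0) (.lf 0)))))) (.nd (.nd (.nd (.nd (.nd (.lf 0x0) (.lf 0x0)) (.nd (.lf 0x0) (.lf 0))) (.nd (.nd (.lf 0x0) (.lf 0x0)) (.nd (.lf 0x0) (.lf 0)))) (.nd (.nd (.nd (.lf 0x0) (.lf 0x7736)) (.nd (.lf 0x0) (.lf 0))) (.nd (.nd (.lf 0x0) (.lf 0x2124)) (.nd (.lf 0x0) (.lf 0))))) (.nd (.nd (.nd (.nd (.lf 0x4a6d) (.lf 0x0)) (.nd (.lf 0x0) (.lf 0))) (.nd (.nd (.lf 0x0) (.lf 0x0)) (.nd (.lf 0x0) (.lf 0)))) (.nd (.nd (.nd (.lf 0x0) (.lf 0x296a)) (.nd (.lf 0x8737) (.lf 0))) (.nd (.nd (.lf 0x0) (.lf 0x2fac)) (.nd (.lf 0x0) (.lf 0))))))))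
def witB_nbbabbb : Tr := (.nd (.nd (.nd (.nd (.nd (.nd (.nd (.lf 0x0) (.lf 0x0)) (.nd (.lf 0x0) (.lf 0))) (.nd (.nd (.lf 0x0) (.lf 0x6c42)) (.nd (.lf 0x0) (.lf 0)))) (.nd (.nd (.nd (.lf 0x0) (.lf 0x0)) (.nd (.lf 0x0) (.lf 0))) (.nd (.nd (.lf 0x0) (.lf 0x0)) (.nd (.lf 0x0) (.lf 0))))) (.nd (.nd (.nd (.nd (.lf 0x0) (.lf 0x0)) (.nd (.lf 0x0) (.lf 0))) (.nd (.nd (.lf 0x0) (.lf 0x807)) (.nd (.lf 0x4520) (.lf 0)))) (.nd (.nd (.nd (.lf 0x0) (.lf 0x0)) (.nd (.lf 0x4fb1) (.lf 0))) (.nd (.nd (.lf 0x0) (.lf 0x7732)) (.nd (.lf 0x3359) (.lf 0)))))) (.nd (.nd (.nd (.nd (.nd (.lf 0x0) (.lf 0x0)) (.nd (.lf 0x3a94) (.lf 0))) (.nd (.nd (.lf 0x0) (.lf 0x8533)) (.nd (.lf 0x0) (.lf 0)))) (.nd (.nd (.nd (.lf 0x0) (.lf 0x0)) (.nd (.lf 0x35b) (.lf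 0))) (.nd (.nd (.lf 0x0) (.lf 0x0)) (.nd (.lf 0x0) (.lf 0))))) (.nd (.nd (.nd (.nd (.lf 0x0) (.lf 0x6349)) (.nd (.lf 0x0) (.lf 0))) (.nd (.nd (.lf 0x0) (.lf 0x6679)) (.nd (.lf 0x0) (.lf 0)))) (.nd (.nd (.nd (.lf 0x0) (.lf 0x0)) (.nd (.lf 0x0) (.lf 0))) (.nd (.nd (.lf 0x0) (.lf 0x334a)) (.nd (.lf 0x0) (.lf 0))))))) (.nd (.nd (.nd (.nd (.nd (.nd (.lf 0x0) (.lf 0x0)) (.nd (.lf 0x0) (.lf 0))) (.nd (.nd (.lf 0x1c98) (.lf 0x239)) (.nd (.lf 0x0) (.lf 0)))) (.nd (.nd (.nd (.lf 0x0) (.lf 0x790b)) (.nd (.lf 0x0) (.lf 0))) (.nd (.nd (.lf 0x0) (.lf 0x0)) (.nd (.lf 0x0) (.lf 0))))) (.nd (.nd (.nd (.nd (.lf 0x0) (.lf 0x4372)) (.nd (.lf 0x441c) (.lf 0))) (.nd (.nd (.lf 0x0) (.lf 0x0)) (.nd (.lf 0x0) (.lf 0)))) (.nd (.nd (.nd (.lf 0x0) (.lf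 0x0)) (.nd (.lf 0x0) (.lf 0))) (.nd (.nd (.lf 0x0) (.lf 0x0)) (.nd (.lf 0x2345) (.lf 0)))))) (.nd (.nd (.nd (.nd (.nd (.lf 0x0) (.lf 0x0)) (.nd (.lf 0xb24) (.lf 0))) (.nd (.nd (.lf 0x0) (.lf 0x31aa)) (.nd (.lf 0x0) (.lf 0)))) (.nd (.nd (.nd (.lf 0x0) (.lf 0x0)) (.nd (.lf 0x0) (.lf 0))) (.nd (.nd (.lf 0x0) (.lf 0x67b0)) (.nd (.lf 0x2077) (.lf 0))))) (.nd (.nd (.nd (.nd (.lf 0x0) (.lf 0x0)) (.nd (.lf 0x0) (.lf 0))) (.nd (.nd (.lf 0x0) (.lf 0x5054)) (.nd (.lf 0x0) (.lf 0)))) (.nd (.nd (.nd (.lf 0x0) (.lf 0x0)) (.nd (.lf 0x0) (.lf 0))) (.nd (.nd (.lf 0x0) (.lf 0x0)) (.nd (.lf 0x0) (.lf 0))))))))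
def witB_nbbbaaa : Tr := (.nd (.nd (.nd (.nd (.nd (.nd (.nd (.lf 0x0) (.lf 0x0)) (.nd (.lf 0x6514) (.lf 0x95))) (.nd (.nd (.lf 0x0) (.lf 0x7906)) (.nd (.lf 0x0) (.lf 0)))) (.nd (.nd (.nd (.lf 0x0) (.lf 0x112e)) (.nd (.lf 0x7258) (.lf 0))) (.nd (.nd (.lf 0x0) (.lf 0x0)) (.nd (.lf 0x6961) (.lf 0))))) (.nd (.nd (.nd (.nd (.lf 0x0) (.lf 0x393c)) (.nd (.lf 0x0) (.lf 0))) (.nd (.nd (.lf 0x0) (.lf 0x0)) (.nd (.lf 0x80a2) (.lf 0)))) (.nd (.nd (.nd (.lf 0x0) (.lf 0x0)) (.nd (.lf 0x0) (.lf 0))) (.nd (.nd (.lf 0x0) (.lf 0x0)) (.nd (.lf 0x0) (.lf 0)))))) (.nd (.nd (.nd (.nd (.nd (.lf 0x0) (.lf 0x0)) (.nd (.lf 0x0) (.lf 0))) (.nd (.nd (.lf 0x0) (.lf 0x0)) (.nd (.lf 0x0) (.lf 0)))) (.nd (.nd (.nd (.lf 0x0) (.lf 0x0)) (.nd (.lf 0x183e) (.lf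 0))) (.nd (.nd (.lf 0x0) (.lf 0x3b7d)) (.nd (.lf 0x0) (.lf 0))))) (.nd (.nd (.nd (.nd (.lf 0x0) (.lf 0x0)) (.nd (.lf 0xa99) (.lf 0))) (.nd (.nd (.lf 0x0) (.lf 0x0)) (.nd (.lf 0x0) (.lf 0)))) (.nd (.nd (.nd (.lf 0x0) (.lf 0x2652)) (.nd (.lf 0x0) (.lf 0))) (.nd (.nd (.lf 0x0) (.lf 0x38a4)) (.nd (.lf 0x0) (.lf 0))))))) (.nd (.nd (.nd (.nd (.nd (.nd (.lf 0x0) (.lf 0x3645)) (.nd (.lf 0x0) (.lf 0))) (.nd (.nd (.lf 0x0) (.lf 0x0)) (.nd (.lf 0x0) (.lf 0)))) (.nd (.nd (.nd (.lf 0x0) (.lf 0x4150)) (.nd (.lf 0x0) (.lf 0))) (.nd (.nd (.lf 0x0) (.lf 0x0)) (.nd (.lf 0x8084) (.lf 0))))) (.nd (.nd (.nd (.nd (.lf 0x0) (.lf 0x6c40)) (.nd (.lf 0x0) (.lf 0))) (.nd (.nd (.lf 0x0) (.lf 0x2e55)) (.nd (.lf 0x0) (.lf 0)))) (.nd (.nd (.nd (.lf 0x0)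 (.lf 0x0)) (.nd (.lf 0x6890) (.lf 0))) (.nd (.nd (.lf 0x0) (.lf 0x0)) (.nd (.lf 0x0) (.lf 0)))))) (.nd (.nd (.nd (.nd (.nd (.lf 0x0) (.lf 0x0)) (.nd (.lf 0x0) (.lf 0))) (.nd (.nd (.lf 0x0) (.lf 0x0)) (.nd (.lf 0x0) (.lf 0)))) (.nd (.nd (.nd (.lf 0x0) (.lf 0x530b)) (.nd (.lf 0x0) (.lf 0))) (.nd (.nd (.lf 0x0) (.lf 0x0)) (.nd (.lf 0x0) (.lf 0))))) (.nd (.nd (.nd (.nd (.lf 0x0) (.lf 0x0)) (.nd (.lf 0x0) (.lf 0))) (.nd (.nd (.lf 0x6031) (.lf 0x0)) (.nd (.lf 0x0) (.lf 0)))) (.nd (.nd (.nd (.lf 0x0) (.lf 0x4709)) (.nd (.lf 0x0) (.lf 0))) (.nd (.nd (.lf 0x0) (.lf 0x38b2)) (.nd (.lf 0x273a) (.lf 0))))))))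
def witB_nbbbaab : Tr := (.nd (.nd (.nd (.nd (.nd (.nd (.nd (.lf 0x0) (.lf 0x838e)) (.nd (.lf 0x776d) (.lf 0))) (.nd (.nd (.lf 0x0) (.lf 0x0)) (.nd (.lf 0x1749) (.lf 0)))) (.nd (.nd (.nd (.lf 0x0) (.lf 0x775)) (.nd (.lf 0x0) (.lf 0))) (.nd (.nd (.lf 0x0) (.lf 0x0)) (.nd (.lf 0x0) (.lf 0))))) (.nd (.nd (.nd (.nd (.lf 0x0) (.lf 0x0)) (.nd (.lf 0x0) (.lf 0))) (.nd (.nd (.lf 0x0) (.lf 0x0)) (.nd (.lf 0x0) (.lf 0)))) (.nd (.nd (.nd (.lf 0x0) (.lf 0x0)) (.nd (.lf 0x0) (.lf 0))) (.nd (.nd (.lf 0x0) (.lf 0x0)) (.nd (.lf 0x0) (.lf 0)))))) (.nd (.nd (.nd (.nd (.nd (.lf 0x0) (.lf 0x0)) (.nd (.lf 0x0) (.lf 0))) (.nd (.nd (.lf 0x6b23) (.lf 0x0)) (.nd (.lf 0x0) (.lf 0)))) (.nd (.nd (.nd (.lf 0x0) (.lf 0x1370)) (.nd (.lf 0x0) (.lf 0))) (.nd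 (.nd (.lf 0x0) (.lf 0x0)) (.nd (.lf 0x0) (.lf 0))))) (.nd (.nd (.nd (.nd (.lf 0x0) (.lf 0x0)) (.nd (.lf 0x0) (.lf 0))) (.nd (.nd (.lf 0x0) (.lf 0x76a6)) (.nd (.lf 0x0) (.lf 0)))) (.nd (.nd (.nd (.lf 0x0) (.lf 0x0)) (.nd (.lf 0x0) (.lf 0))) (.nd (.nd (.lf 0x6e00) (.lf 0x0)) (.nd (.lf 0x7018) (.lf 0))))))) (.nd (.nd (.nd (.nd (.nd (.nd (.lf 0x0) (.lf 0x0)) (.nd (.lf 0xc50) (.lf 0))) (.nd (.nd (.lf 0x0) (.lf 0x0)) (.nd (.lf 0x0) (.lf 0)))) (.nd (.nd (.nd (.lf 0x0) (.lf 0x0)) (.nd (.lf 0x0) (.lf 0))) (.nd (.nd (.lf 0x0) (.lf 0x293)) (.nd (.lf 0x0) (.lf 0))))) (.nd (.nd (.nd (.nd (.lf 0x0) (.lf 0x0)) (.nd (.lf 0x0) (.lf 0))) (.nd (.nd (.lf 0x0) (.lf 0x5071)) (.nd (.lf 0x0) (.lf 0)))) (.nd (.nd (.nd (.lf 0x0) (.lf 0x0)) (.nd (.lf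 0x0) (.lf 0))) (.nd (.nd (.lf 0x0) (.lf 0x528e)) (.nd (.lf 0x24ac) (.lf 0)))))) (.nd (.nd (.nd (.nd (.nd (.lf 0x0) (.lf 0x0)) (.nd (.lf 0x0) (.lf 0))) (.nd (.nd (.lf 0x0) (.lf 0xa22)) (.nd (.lf 0x0) (.lf 0)))) (.nd (.nd (.nd (.lf 0x0) (.lf 0x0)) (.nd (.lf 0x0) (.lf 0))) (.nd (.nd (.lf 0x0) (.lf 0x1d2a)) (.nd (.lf 0x681d) (.lf 0))))) (.nd (.nd (.nd (.nd (.lf 0x0) (.lf 0x123c)) (.nd (.lf 0x0) (.lf 0))) (.nd (.nd (.lf 0x0) (.lf 0x5667)) (.nd (.lf 0x0) (.lf 0)))) (.nd (.nd (.nd (.lf 0x0) (.lf 0x1536)) (.nd (.lf 0x0) (.lf 0))) (.nd (.nd (.lf 0x0) (.lf 0x0)) (.nd (.lf 0x0) (.lf 0))))))))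
def witB_nbbbaba : Tr := (.nd (.nd (.nd (.nd (.nd (.nd (.nd (.lf 0x0) (.lf 0x0)) (.nd (.lf 0x0) (.lf 0))) (.nd (.nd (.lf 0x0) (.lf 0x0)) (.nd (.lf 0x0) (.lf 0)))) (.nd (.nd (.nd (.lf 0x0) (.lf 0x0)) (.nd (.lf 0xa8d) (.lf 0))) (.nd (.nd (.lf 0x0) (.lf 0x0)) (.nd (.lf 0x0) (.lf 0))))) (.nd (.nd (.nd (.nd (.lf 0x0) (.lf 0x299d)) (.nd (.lf 0x6353) (.lf 0))) (.nd (.nd (.lf 0x0) (.lf 0x246)) (.nd (.lf 0x0) (.lf 0)))) (.nd (.nd (.nd (.lf 0x0) (.lf 0x0)) (.nd (.lf 0x0) (.lf 0))) (.nd (.nd (.lf 0x0) (.lf 0x0)) (.nd (.lf 0x0) (.lf 0)))))) (.nd (.nd (.nd (.nd (.nd (.lf 0x0) (.lf 0x0)) (.nd (.lf 0x0) (.lf 0))) (.nd (.nd (.lf 0x0) (.lf 0x7013)) (.nd (.lf 0x31b0) (.lf 0)))) (.nd (.nd (.nd (.lf 0x0) (.lf 0x0)) (.nd (.lf 0x0) (.lf 0))) (.nd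 (.nd (.lf 0x0) (.lf 0x0)) (.nd (.lf 0x4d5d) (.lf 0))))) (.nd (.nd (.nd (.nd (.lf 0x0) (.lf 0x0)) (.nd (.lf 0x8080) (.lf 0))) (.nd (.nd (.lf 0x0) (.lf 0x0)) (.nd (.lf 0x0) (.lf 0)))) (.nd (.nd (.nd (.lf 0x0) (.lf 0x519d)) (.nd (.lf 0x0) (.lf 0))) (.nd (.nd (.lf 0x0) (.lf 0x8744)) (.nd (.lf 0x1e8e) (.lf 0))))))) (.nd (.nd (.nd (.nd (.nd (.nd (.lf 0x0) (.lf 0x0)) (.nd (.lf 0x0) (.lf 0))) (.nd (.nd (.lf 0x0) (.lf 0x546d)) (.nd (.lf 0x0) (.lf 0)))) (.nd (.nd (.nd (.lf 0x0) (.lf 0x0)) (.nd (.lf 0x0) (.lf 0))) (.nd (.nd (.lf 0x0) (.lf 0x2eab)) (.nd (.lf 0x0) (.lf 0))))) (.nd (.nd (.nd (.nd (.lf 0x0) (.lf 0x0)) (.nd (.lf 0x0) (.lf 0))) (.nd (.nd (.lf 0x3715) (.lf 0x7464)) (.nd (.lf 0x144a) (.lf 0)))) (.nd (.nd (.nd (.lf 0x0) (.lf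 0x117e)) (.nd (.lf 0x0) (.lf 0))) (.nd (.nd (.lf 0x0) (.lf 0x172e)) (.nd (.lf 0x0) (.lf 0)))))) (.nd (.nd (.nd (.nd (.nd (.lf 0x0) (.lf 0x0)) (.nd (.lf 0x0) (.lf 0))) (.nd (.nd (.lf 0x0) (.lf 0x0)) (.nd (.lf 0x0) (.lf 0)))) (.nd (.nd (.nd (.lf 0x0) (.lf 0x2315)) (.nd (.lf 0x0) (.lf 0))) (.nd (.nd (.lf 0x0) (.lf 0x0)) (.nd (.lf 0x0) (.lf 0))))) (.nd (.nd (.nd (.nd (.lf 0x0) (.lf 0x0)) (.nd (.lf 0x0) (.lf 0))) (.nd (.nd (.lf 0x0) (.lf 0x0)) (.nd (.lf 0x0) (.lf 0)))) (.nd (.nd (.nd (.lf 0x0) (.lf 0x0)) (.nd (.lf 0x0) (.lf 0))) (.nd (.nd (.lf 0x0) (.lf 0x64f)) (.nd (.lf 0x72af) (.lf 0))))))))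
def witB_nbbbabb : Tr := (.nd (.nd (.nd (.nd (.nd (.nd (.nd (.lf 0x0) (.lf 0x796)) (.nd (.lf 0x7b4c) (.lf 0))) (.nd (.nd (.lf 0x0) (.lf 0x167c)) (.nd (.lf 0x0) (.lf 0)))) (.nd (.nd (.nd (.lf 0x0) (.lf 0xf00)) (.nd (.lf 0x0) (.lf 0))) (.nd (.nd (.lf 0x0) (.lf 0x0)) (.nd (.lf 0x0) (.lf 0))))) (.nd (.nd (.nd (.nd (.lf 0x0) (.lf 0x0)) (.nd (.lf 0x837d) (.lf 0))) (.nd (.nd (.lf 0x0) (.lf 0x0)) (.nd (.lf 0x0) (.lf 0)))) (.nd (.nd (.nd (.lf 0x0) (.lf 0x0)) (.nd (.lf 0x0) (.lf 0))) (.nd (.nd (.lf 0x0) (.lf 0x0)) (.nd (.lf 0x0) (.lf 0)))))) (.nd (.nd (.nd (.nd (.nd (.lf 0x0) (.lf 0x2d21)) (.nd (.lf 0x0) (.lf 0))) (.nd (.nd (.lf 0x0) (.lf 0x3520)) (.nd (.lf 0x0) (.lf 0)))) (.nd (.nd (.nd (.lf 0x0) (.lf 0x0)) (.nd (.lf 0x7916) (.lf 0)))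 (.nd (.nd (.lf 0x0) (.lf 0x0)) (.nd (.lf 0x68) (.lf 0))))) (.nd (.nd (.nd (.nd (.lf 0x66a3) (.lf 0x0)) (.nd (.lf 0x0) (.lf 0))) (.nd (.nd (.lf 0x0) (.lf 0x18aa)) (.nd (.lf 0x0) (.lf 0)))) (.nd (.nd (.nd (.lf 0x0) (.lf 0x8479)) (.nd (.lf 0x0) (.lf 0))) (.nd (.nd (.lf 0x7f22) (.lf 0x0)) (.nd (.lf 0x0) (.lf 0))))))) (.nd (.nd (.nd (.nd (.nd (.nd (.lf 0x0) (.lf 0x0)) (.nd (.lf 0x0) (.lf 0))) (.nd (.nd (.lf 0x0) (.lf 0x0)) (.nd (.lf 0x0) (.lf 0)))) (.nd (.nd (.nd (.lf 0x0) (.lf 0x0)) (.nd (.lf 0x0) (.lf 0))) (.nd (.nd (.lf 0x722e) (.lf 0x0)) (.nd (.lf 0x7816) (.lf 0))))) (.nd (.nd (.nd (.nd (.lf 0x0) (.lf 0x2b2e)) (.nd (.lf 0x0) (.lf 0))) (.nd (.nd (.lf 0x0) (.lf 0x4516)) (.nd (.lf 0x0) (.lf 0)))) (.nd (.nd (.nd (.lf 0x0) (.lf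 0x5f19)) (.nd (.lf 0x0) (.lf 0))) (.nd (.nd (.lf 0x0) (.lf 0x4e97)) (.nd (.lf 0x0) (.lf 0)))))) (.nd (.nd (.nd (.nd (.nd (.lf 0x0) (.lf 0x0)) (.nd (.lf 0x4e6c) (.lf 0))) (.nd (.nd (.lf 0x0) (.lf 0x6898)) (.nd (.lf 0x0) (.lf 0)))) (.nd (.nd (.nd (.lf 0x0) (.lf 0x0)) (.nd (.lf 0x0) (.lf 0))) (.nd (.nd (.lf 0x0) (.lf 0x0)) (.nd (.lf 0x0) (.lf 0))))) (.nd (.nd (.nd (.nd (.lf 0x0) (.lf 0xdab)) (.nd (.lf 0x0) (.lf 0))) (.nd (.nd (.lf 0x0) (.lf 0x0)) (.nd (.lf 0x0) (.lf 0)))) (.nd (.nd (.nd (.lf 0x0) (.lf 0x3e98)) (.nd (.lf 0x0) (.lf 0))) (.nd (.nd (.lf 0x0) (.lf 0x0)) (.nd (.lf 0x0) (.lf 0))))))))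
def witB_nbbbbaa : Tr := (.nd (.nd (.nd (.nd (.nd (.nd (.nd (.lf 0x0) (.lf 0x0)) (.nd (.lf 0x6440) (.lf 0))) (.nd (.nd (.lf 0x0) (.lf 0x0)) (.nd (.lf 0x0) (.lf 0)))) (.nd (.nd (.nd (.lf 0x0) (.lf 0x7243)) (.nd (.lf 0x0) (.lf 0))) (.nd (.nd (.lf 0x0) (.lf 0x0)) (.nd (.lf 0x0) (.lf 0))))) (.nd (.nd (.nd (.nd (.lf 0x0) (.lf 0x0)) (.nd (.lf 0x0) (.lf 0))) (.nd (.nd (.lf 0x0) (.lf 0x0)) (.nd (.lf 0x0) (.lf 0)))) (.nd (.nd (.nd (.lf 0x0) (.lf 0x0)) (.nd (.lf 0x0) (.lf 0))) (.nd (.nd (.lf 0x0) (.lf 0x6837)) (.nd (.lf 0x0) (.lf 0)))))) (.nd (.nd (.nd (.nd (.nd (.lf 0x0) (.lf 0x0)) (.nd (.lf 0x0) (.lf 0))) (.nd (.nd (.lf 0x0) (.lf 0x0)) (.nd (.lf 0x0) (.lf 0)))) (.nd (.nd (.nd (.lf 0x0) (.lf 0x0)) (.nd (.lf 0x0) (.lf 0))) (.nd (.nd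 (.lf 0x0) (.lf 0x0)) (.nd (.lf 0x26c) (.lf 0))))) (.nd (.nd (.nd (.nd (.lf 0x0) (.lf 0x0)) (.nd (.lf 0x1a5) (.lf 0))) (.nd (.nd (.lf 0x0) (.lf 0x0)) (.nd (.lf 0x0) (.lf 0)))) (.nd (.nd (.nd (.lf 0x0) (.lf 0x0)) (.nd (.lf 0x0) (.lf 0))) (.nd (.nd (.lf 0x0) (.lf 0x495)) (.nd (.lf 0x6f4c) (.lf 0))))))) (.nd (.nd (.nd (.nd (.nd (.nd (.lf 0x0) (.lf 0x0)) (.nd (.lf 0x0) (.lf 0))) (.nd (.nd (.lf 0x0) (.lf 0x492f)) (.nd (.lf 0x0) (.lf 0)))) (.nd (.nd (.nd (.lf 0x0) (.lf 0x6f4b)) (.nd (.lf 0x0) (.lf 0))) (.nd (.nd (.lf 0x0) (.lf 0x0)) (.nd (.lf 0x2282) (.lf 0))))) (.nd (.nd (.nd (.nd (.lf 0x0) (.lf 0x5a14)) (.nd (.lf 0x0) (.lf 0))) (.nd (.nd (.lf 0x0) (.lf 0x5680)) (.nd (.lf 0x612) (.lf 0)))) (.nd (.nd (.nd (.lf 0x0) (.lf 0x0)) (.nd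 (.lf 0x3719) (.lf 0))) (.nd (.nd (.lf 0x0) (.lf 0x2d31)) (.nd (.lf 0x8256) (.lf 0)))))) (.nd (.nd (.nd (.nd (.nd (.lf 0x0) (.lf 0x0)) (.nd (.lf 0x386d) (.lf 0))) (.nd (.nd (.lf 0x0) (.lf 0x0)) (.nd (.lf 0x0) (.lf 0)))) (.nd (.nd (.nd (.lf 0x0) (.lf 0x0)) (.nd (.lf 0x1996) (.lf 0))) (.nd (.nd (.lf 0x0) (.lf 0x3081)) (.nd (.lf 0x0) (.lf 0))))) (.nd (.nd (.nd (.nd (.lf 0x0) (.lf 0x6859)) (.nd (.lf 0x5519) (.lf 0))) (.nd (.nd (.lf 0x0) (.lf 0x0)) (.nd (.lf 0x0) (.lf 0)))) (.nd (.nd (.nd (.lf 0x0) (.lf 0x3f23)) (.nd (.lf 0x0) (.lf 0))) (.nd (.nd (.lf 0x0) (.lf 0x4a89)) (.nd (.lf 0x0) (.lf 0))))))))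
def witB_nbbbbab : Tr := (.nd (.nd (.nd (.nd (.nd (.nd (.nd (.lf 0x0) (.lf 0x0)) (.nd (.lf 0x0) (.lf 0))) (.nd (.nd (.lf 0x0) (.lf 0x4713)) (.nd (.lf 0x0) (.lf 0)))) (.nd (.nd (.nd (.lf 0x0) (.lf 0x0)) (.nd (.lf 0x0) (.lf 0))) (.nd (.nd (.lf 0x0) (.lf 0x202a)) (.nd (.lf 0x0) (.lf 0))))) (.nd (.nd (.nd (.nd (.lf 0x0) (.lf 0x0)) (.nd (.lf 0x0) (.lf 0))) (.nd (.nd (.lf 0x7a41) (.lf 0x3f06)) (.nd (.lf 0x0) (.lf 0)))) (.nd (.nd (.nd (.lf 0x2546) (.lf 0x0)) (.nd (.lf 0x0) (.lf 0))) (.nd (.nd (.lf 0x0) (.lf 0x4658)) (.nd (.lf 0x0) (.lf 0)))))) (.nd (.nd (.nd (.nd (.nd (.lf 0x0) (.lf 0x0)) (.nd (.lf 0x0) (.lf 0))) (.nd (.nd (.lf 0x0) (.lf 0x549d)) (.nd (.lf 0x0) (.lf 0)))) (.nd (.nd (.nd (.lf 0x0) (.lf 0x3322)) (.nd (.lf 0x0) (.lf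 0))) (.nd (.nd (.lf 0x0) (.lf 0x0)) (.nd (.lf 0x0) (.lf 0))))) (.nd (.nd (.nd (.nd (.lf 0x0) (.lf 0x0)) (.nd (.lf 0x4c5f) (.lf 0))) (.nd (.nd (.lf 0x0) (.lf 0x7d1b)) (.nd (.lf 0x159) (.lf 0)))) (.nd (.nd (.nd (.lf 0x0) (.lf 0x0)) (.nd (.lf 0x0) (.lf 0))) (.nd (.nd (.lf 0x0) (.lf 0x63a1)) (.nd (.lf 0x0) (.lf 0))))))) (.nd (.nd (.nd (.nd (.nd (.nd (.lf 0x0) (.lf 0x0)) (.nd (.lf 0x0) (.lf 0))) (.nd (.nd (.lf 0x0) (.lf 0x4510)) (.nd (.lf 0x214d) (.lf 0)))) (.nd (.nd (.nd (.lf 0x0) (.lf 0x0)) (.nd (.lf 0x0) (.lf 0))) (.nd (.nd (.lf 0x0) (.lf 0x0)) (.nd (.lf 0x0) (.lf 0))))) (.nd (.nd (.nd (.nd (.lf 0x0) (.lf 0x0)) (.nd (.lf 0x0) (.lf 0))) (.nd (.nd (.lf 0x0) (.lf 0x4418)) (.nd (.lf 0x0) (.lf 0)))) (.nd (.nd (.nd (.lf 0x0) (.lf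 0x3f0a)) (.nd (.lf 0x0) (.lf 0))) (.nd (.nd (.lf 0x0) (.lf 0x0)) (.nd (.lf 0x0) (.lf 0)))))) (.nd (.nd (.nd (.nd (.nd (.lf 0x0) (.lf 0x0)) (.nd (.lf 0x5e21) (.lf 0))) (.nd (.nd (.lf 0x0) (.lf 0x0)) (.nd (.lf 0x0) (.lf 0)))) (.nd (.nd (.nd (.lf 0x0) (.lf 0x0)) (.nd (.lf 0x0) (.lf 0))) (.nd (.nd (.lf 0x0) (.lf 0x1e39)) (.nd (.lf 0x662f) (.lf 0))))) (.nd (.nd (.nd (.nd (.lf 0x0) (.lf 0x0)) (.nd (.lf 0x53a6) (.lf 0))) (.nd (.nd (.lf 0x0) (.lf 0x380d)) (.nd (.lf 0x237a) (.lf 0)))) (.nd (.nd (.nd (.lf 0x0) (.lf 0x0)) (.nd (.lf 0x0) (.lf 0))) (.nd (.nd (.lf 0x0) (.lf 0x80a4)) (.nd (.lf 0x2908) (.lf 0))))))))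
def witB_nbbbbba : Tr := (.nd (.nd (.nd (.nd (.nd (.nd (.nd (.lf 0x0) (.lf 0x0)) (.nd (.lf 0x0) (.lf 0))) (.nd (.nd (.lf 0x94d) (.lf 0x0)) (.nd (.lf 0x0) (.lf 0)))) (.nd (.nd (.nd (.lf 0x0) (.lf 0x0)) (.nd (.lf 0x0) (.lf 0))) (.nd (.nd (.lf 0x0) (.lf 0x0)) (.nd (.lf 0x0) (.lf 0))))) (.nd (.nd (.nd (.nd (.lf 0x0) (.lf 0x0)) (.nd (.lf 0x0) (.lf 0))) (.nd (.nd (.lf 0x5003) (.lf 0x3096)) (.nd (.lf 0x3161) (.lf 0)))) (.nd (.nd (.nd (.lf 0x0) (.lf 0x0)) (.nd (.lf 0x0) (.lf 0))) (.nd (.nd (.lf 0x0) (.lf 0x0)) (.nd (.lf 0x0) (.lf 0)))))) (.nd (.nd (.nd (.nd (.nd (.lf 0x0) (.lf 0x45a7)) (.nd (.lf 0x0) (.lf 0))) (.nd (.nd (.lf 0x0) (.lf 0x0)) (.nd (.lf 0x0) (.lf 0)))) (.nd (.nd (.nd (.lf 0x0) (.lf 0x0)) (.nd (.lf 0x0) (.lf 0))) (.nd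 (.nd (.lf 0x0) (.lf 0x0)) (.nd (.lf 0x0) (.lf 0))))) (.nd (.nd (.nd (.nd (.lf 0x0) (.lf 0x0)) (.nd (.lf 0x0) (.lf 0))) (.nd (.nd (.lf 0x0) (.lf 0x0)) (.nd (.lf 0x0) (.lf 0)))) (.nd (.nd (.nd (.lf 0x0) (.lf 0x0)) (.nd (.lf 0x0) (.lf 0))) (.nd (.nd (.lf 0x0) (.lf 0x1c4a)) (.nd (.lf 0x5a6e) (.lf 0))))))) (.nd (.nd (.nd (.nd (.nd (.nd (.lf 0x0) (.lf 0x0)) (.nd (.lf 0x0) (.lf 0))) (.nd (.nd (.lf 0x0) (.lf 0x0)) (.nd (.lf 0x0) (.lf 0)))) (.nd (.nd (.nd (.lf 0x0) (.lf 0x0)) (.nd (.lf 0x4b94) (.lf 0))) (.nd (.nd (.lf 0x0) (.lf 0x4411)) (.nd (.lf 0x0) (.lf 0))))) (.nd (.nd (.nd (.nd (.lf 0x0) (.lf 0x0)) (.nd (.lf 0x0) (.lf 0))) (.nd (.nd (.lf 0x0) (.lf 0x0)) (.nd (.lf 0x720b) (.lf 0)))) (.nd (.nd (.nd (.lf 0x0) (.lf 0x0)) (.nd (.lf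 0x0) (.lf 0))) (.nd (.nd (.lf 0x0) (.lf 0x3fb1)) (.nd (.lf 0x0) (.lf 0)))))) (.nd (.nd (.nd (.nd (.nd (.lf 0x0) (.lf 0x0)) (.nd (.lf 0x0) (.lf 0))) (.nd (.nd (.lf 0x0) (.lf 0x3824)) (.nd (.lf 0x0) (.lf 0)))) (.nd (.nd (.nd (.lf 0x0) (.lf 0x0)) (.nd (.lf 0x0) (.lf 0))) (.nd (.nd (.lf 0x0) (.lf 0xf2e)) (.nd (.lf 0x1789) (.lf 0))))) (.nd (.nd (.nd (.nd (.lf 0x0) (.lf 0x0)) (.nd (.lf 0x0) (.lf 0))) (.nd (.nd (.lf 0x0) (.lf 0xc6c)) (.nd (.lf 0x0) (.lf 0)))) (.nd (.nd (.nd (.lf 0x0) (.lf 0x0)) (.nd (.lf 0x365c) (.lf 0))) (.nd (.nd (.lf 0x0) (.lf 0x5942)) (.nd (.lf 0x0) (.lf 0))))))))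
def witB_nbbbbbb : Tr := (.nd (.nd (.nd (.nd (.nd (.nd (.nd (.lf 0x0) (.lf 0x0)) (.nd (.lf 0x0) (.lf 0))) (.nd (.nd (.lf 0x0) (.lf 0x0)) (.nd (.lf 0x0) (.lf 0)))) (.nd (.nd (.nd (.lf 0x0) (.lf 0xe4b)) (.nd (.lf 0x0) (.lf 0))) (.nd (.nd (.lf 0x247c) (.lf 0x0)) (.nd (.lf 0x0) (.lf 0))))) (.nd (.nd (.nd (.nd (.lf 0x4d57) (.lf 0x0)) (.nd (.lf 0x0) (.lf 0))) (.nd (.nd (.lf 0x0) (.lf 0x0)) (.nd (.lf 0x0) (.lf 0)))) (.nd (.nd (.nd (.lf 0x0) (.lf 0x29b0)) (.nd (.lf 0x0) (.lf 0))) (.nd (.nd (.lf 0x0) (.lf 0x1b82)) (.nd (.lf 0x0) (.lf 0)))))) (.nd (.nd (.nd (.nd (.nd (.lf 0x0) (.lf 0x0)) (.nd (.lf 0x0) (.lf 0))) (.nd (.nd (.lf 0x0) (.lf 0x6151)) (.nd (.lf 0x0) (.lf 0)))) (.nd (.nd (.nd (.lf 0x0) (.lf 0x84a6)) (.nd (.lf 0x0) (.lf 0)))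 (.nd (.nd (.lf 0x0) (.lf 0x0)) (.nd (.lf 0x0) (.lf 0))))) (.nd (.nd (.nd (.nd (.lf 0x0) (.lf 0x0)) (.nd (.lf 0x7b88) (.lf 0))) (.nd (.nd (.lf 0x0) (.lf 0x0)) (.nd (.lf 0x0) (.lf 0)))) (.nd (.nd (.nd (.lf 0x0) (.lf 0x617b)) (.nd (.lf 0x0) (.lf 0))) (.nd (.nd (.lf 0x0) (.lf 0x0)) (.nd (.lf 0x0) (.lf 0))))))) (.nd (.nd (.nd (.nd (.nd (.nd (.lf 0x0) (.lf 0x0)) (.nd (.lf 0x0) (.lf 0))) (.nd (.nd (.lf 0x0) (.lf 0x0)) (.nd (.lf 0x0) (.lf 0)))) (.nd (.nd (.nd (.lf 0x0) (.lf 0x6582)) (.nd (.lf 0x3f74) (.lf 0))) (.nd (.nd (.lf 0x0) (.lf 0x0)) (.nd (.lf 0x0) (.lf 0))))) (.nd (.nd (.nd (.nd (.lf 0x0) (.lf 0x4c3e)) (.nd (.lf 0x0) (.lf 0))) (.nd (.nd (.lf 0x0) (.lf 0x3c40)) (.nd (.lf 0x6405) (.lf 0)))) (.nd (.nd (.nd (.lf 0x0) (.lf 0x0))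 (.nd (.lf 0x0) (.lf 0))) (.nd (.nd (.lf 0x0) (.lf 0xb03)) (.nd (.lf 0x0) (.lf 0)))))) (.nd (.nd (.nd (.nd (.nd (.lf 0x0) (.lf 0x0)) (.nd (.lf 0x0) (.lf 0))) (.nd (.nd (.lf 0x0) (.lf 0x4b52)) (.nd (.lf 0x5225) (.lf 0)))) (.nd (.nd (.nd (.lf 0x18ab) (.lf 0x6679)) (.nd (.lf 0x0) (.lf 0))) (.nd (.nd (.lf 0xa69) (.lf 0x0)) (.nd (.lf 0x0) (.lf 0))))) (.nd (.nd (.nd (.nd (.lf 0x0) (.lf 0x0)) (.nd (.lf 0x2d70) (.lf 0))) (.nd (.nd (.lf 0x0) (.lf 0x0)) (.nd (.lf 0x714) (.lf 0)))) (.nd (.nd (.nd (.lf 0x0) (.lf 0x460c)) (.nd (.lf 0x0) (.lf 0))) (.nd (.nd (.lf 0x0) (.lf 0x0)) (.nd (.lf 0x4407) (.lf 0))))))))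
def witB : Tr := (.nd (.nd (.nd (.nd (.nd (.nd witB_naaaaaa witB_naaaaab) (.nd witB_naaaaba witB_naaaabb)) (.nd (.nd witB_naaabaa witB_naaabab) (.nd witB_naaabba witB_naaabbb))) (.nd (.nd (.nd witB_naabaaa witB_naabaab) (.nd witB_naababa witB_naababb)) (.nd (.nd witB_naabbaa witB_naabbab) (.nd witB_naabbba witB_naabbbb)))) (.nd (.nd (.nd (.nd witB_nabaaaa witB_nabaaab) (.nd witB_nabaaba witB_nabaabb)) (.nd (.nd witB_nababaa witB_nababab) (.nd witB_nababba witB_nababbb))) (.nd (.nd (.nd witB_nabbaaa witB_nabbaab) (.nd witB_nabbaba witB_nabbabb)) (.nd (.nd witB_nabbbaa witB_nabbbab) (.nd witB_nabbbba witB_nabbbbb))))) (.nd (.nd (.nd (.nd (.nd witB_nbaaaaa witB_nbaaaab) (.nd witB_nbaaaba witB_nbaaabb)) (.nd (.nd witB_nbaabaa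 witB_nbaabab) (.nd witB_nbaabba witB_nbaabbb))) (.nd (.nd (.nd witB_nbabaaa witB_nbabaab) (.nd witB_nbababa witB_nbababb)) (.nd (.nd witB_nbabbaa witB_nbabbab) (.nd witB_nbabbba witB_nbabbbb)))) (.nd (.nd (.nd (.nd witB_nbbaaaa witB_nbbaaab) (.nd witB_nbbaaba witB_nbbaabb)) (.nd (.nd witB_nbbabaa witB_nbbabab) (.nd witB_nbbabba witB_nbbabbb))) (.nd (.nd (.nd witB_nbbbaaa witB_nbbbaab) (.nd witB_nbbbaba witB_nbbbabb)) (.nd (.nd witB_nbbbbaa witB_nbbbbab) (.nd witB_nbbbbba witB_nbbbbbb))))))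

end H94.J3.D
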