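import Cfsg.Agent.H94.J3.Bridge
import Cfsg.Agent.H94.J3.UData
import Cfsg.Agent.H94.J3.PData
import Cfsg.Agent.H94.J3.TabData
import Cfsg.Agent.H94.J3.SmallData

/-! Boolean checks over the certificate data. -/

namespace H94.J3

open D

def U (i : ℕ) : ℕ := uT.get i
def P (i : ℕ) : ℕ := pT.get i
def V (a : ℕ) : ℕ := vT.get a
def Q (a : ℕ) : ℕ := qT.get a
def K (m : ℕ) : ℕ := kT.get m

def tabS : ℕ → ℕ → ℕ
  | 0, i => tabA.get i
  | _, i => tabB.get i

def witS : ℕ → ℕ → ℕ
  | 0, i => witA.get i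
  | _, i => witB.get i

def tabH : ℕ → ℕ → ℕ
  | 0, i => tab2A.get i
  | _, i => tab2B.get i

def witH : ℕ → ℕ → ℕ
  | 0, i => wit2A.get i
  | _, i => wit2B.get i

def tabK : ℕ → ℕ → ℕ
  | 0, i => tab3_0.get i
  | 1, i => tab3_1.get i
  | _, i => tab3_2.get i

def memChk (x i a m : ℕ) : Bool :=
  decide (i < 6156) && decide (a < 136) && decide (m < 180) &&
    (x == mul (U i) (mul (V a) (K m)))

def schS (k i : ℕ) : Bool :=
  decide (witS k i / 256 < 136) && decide (witS k i % 256 < 180) &&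
    (mul (sgen k) (U i) == mul (U (tabS k i)) (mul (V (witS k i / 256)) (K (witS k i % 256))))

def topTree (i : ℕ) : Bool := treeChk 2 sgen U parT.get tabS i
def topFam (i : ℕ) : Bool := famChk 4 6156 P rkT.get srtT.get i
def topMaps (i : ℕ) : Bool :=
  mapsChk 6156 (sgen 0) P (tabS 0) i && mapsChk 6156 (sgen 1) P (tabS 1) i
def topSch (i : ℕ) : Bool := schS 0 i && schS 1 i

def topChk (i : ℕ) : Bool := topTree i && topFam i && topMaps i && topSch i

def schH (k a : ℕ) : Bool :=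
  decide (witH k a < 180) && (mul (hgen k) (V a) == mul (V (tabH k a)) (K (witH k a)))

def midChk (a : ℕ) : Bool :=
  treeChk 2 hgen V par2T.get tabH a && famChk 1 136 Q rk2T.get srt2T.get a &&
    mapsChk 136 (hgen 0) Q (tabH 0) a && mapsChk 136 (hgen 1) Q (tabH 1) a && schH 0 a && schH 1 a

def schK (k m : ℕ) : Bool :=
  decide (tabK k m < 180) && (mul (kgen k) (K m) == K (tabK k m))

def lowChk (m : ℕ) : Bool :=
  treeChk 3 kgen K par3T.get tabK m && decide (K m < 2 ^ 162) && decide (rk3T.get m < 180) &&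
    (srt3T.get (rk3T.get m) == m) &&
    (m + 1 == 180 || decide (K (srt3T.get m) < K (srt3T.get (m + 1)))) &&
    schK 0 m && schK 1 m && schK 2 m

def hChk (k : ℕ) : Bool :=
  decide ((hsrc k).1 < 2) && decide ((hsrc k).2 < 6156) &&
    (mul (U (tabS (hsrc k).1 (hsrc k).2)) (hgen k) == mul (sgen (hsrc k).1) (U (hsrc k).2)) &&
    (mul (P 0) (mul (hgen k) (P 0)) == mul (hgen k) (P 0))

def kChk (k : ℕ) : Bool :=
  decide ((ksrc k).1 < 2) && decide ((ksrc k).2 < 136) &&
    (mul (V (tabH (ksrc k).1 (ksrc k).2)) (kgen k) == mul (hgen (ksrc k).1) (V (ksrc k).2)) &&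
    (mul (Q 0) (mul (kgen k) (Q 0)) == mul (kgen k) (Q 0))

def genChk (t : ℕ) : Bool :=
  memChk (genT.get t) (genW.get t / 65536) (genW.get t % 65536 / 256) (genW.get t % 256)

def smallChk : Bool :=
  (mul (sgen 0) (sinv 0) == eye) && (mul (sinv 0) (sgen 0) == eye) &&
    (mul (sgen 1) (sinv 1) == eye) && (mul (sinv 1) (sgen 1) == eye) &&
    hChk 0 && hChk 1 && kChk 0 && kChk 1 && kChk 2 && allIn 0 45 genChk &&
    memChk wScal (wScalW / 65536) (wScalW % 65536 / 256) (wScalW % 256)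

end H94.J3
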