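import Mathlib

/-! A field with four elements containing a primitive cube root of unity. -/

namespace H94.J3

theorem exists_f4 : ∃ (F : Type) (_ : Field F) (_ : Fintype F) (ω : F),
    Fintype.card F = 4 ∧ ω ^ 2 + ω + 1 = 0 := by
  classical
  haveI : Fact (Nat.Prime 2) := ⟨Nat.prime_two⟩
  let F := GaloisField 2 2
  letI : Fintype F := Fintype.ofFinite F
  have hF : Fintype.card F = 4 := by
    rw [← Nat.card_eq_fintype_card, GaloisField.card 2 2 two_ne_zero]
    norm_num
  obtain ⟨c, -, hc⟩ : ∃ c ∈ (Finset.univ : Finset F), c ∉ ({0, 1} : Finset F) := by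
    refine Finset.exists_mem_notMem_of_card_lt_card ?_
    rw [Finset.card_univ, hF, Finset.card_insert_of_notMem (by simp), Finset.card_singleton]
    norm_num
  simp only [Finset.mem_insert, Finset.mem_singleton, not_or] at hc
  have h := FiniteField.pow_card c
  rw [hF] at h
  have h' : c * (c - 1) * (c ^ 2 + c + 1) = 0 := by linear_combination h
  refine ⟨F, inferInstance, inferInstance, c, hF, ?_⟩
  rcases mul_eq_zero.1 h' with h1 | h1
  · rcases mul_eq_zero.1 h1 with h2 | h2
    · exact absurd h2 hc.1
    · exact absurd (sub_eq_zero.1 h2) hc.2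
  · exact h1

end H94.J3
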